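import Cfsg.Agent.Base
import Cfsg.Agent.Solv.Pi

/-!
# Vocabulary for local analysis (Bender-Glauberman), everything inside one ambient group

All notions are about subgroups of one ambient group `G`.  Use `open Cfsg CL.BG` to get the
notations `𝐂(A)`, `𝐍(A)`, `𝐂₁(x)`, `𝐙(H)`, `N ⊴ H`.
-/

namespace CL.BG

open Cfsg

/-- centraliser of a subgroup -/
scoped notation:max "𝐂(" A ")" => Subgroup.centralizer (SetLike.coe A)
/-- normaliser of a subgroup -/
scoped notation:max "𝐍(" A ")" => Subgroup.normalizer (SetLike.coe A)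
/-- centraliser of an element -/
scoped notation:max "𝐂₁(" x ")" => Subgroup.centralizer ({x} : Set _)
/-- centre of a subgroup, as a subgroup of the ambient group -/
scoped notation:max "𝐙(" H ")" => H ⊓ Subgroup.centralizer (SetLike.coe H)

variable {G : Type*} [Group G]

/-! ### conjugation, normality -/

/-- The conjugate subgroup `g H g⁻¹`. -/
def cj (g : G) (H : Subgroup G) : Subgroup G := H.map (MulAut.conj g).toMonoidHom

/-- `N` is a normal subgroup of the subgroup `H`. -/
structure NormalIn (N H : Subgroup G) : Prop where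
  le : N ≤ H
  norm : H ≤ 𝐍(N)

@[inherit_doc] scoped infix:50 " ⊴ " => NormalIn

/-- `N` is a characteristic subgroup of the subgroup `H`. -/
structure CharIn (N H : Subgroup G) : Prop where
  le : N ≤ H
  char : (N.subgroupOf H).Characteristic

/-- `A` is a minimal nontrivial subgroup normalised by `B` (`A ≤ B` is not required). -/
structure MinNormal (A B : Subgroup G) : Prop where
  ne_bot : A ≠ ⊥
  norm : B ≤ 𝐍(A)
  min : ∀ W : Subgroup G, W ≤ A → W ≠ ⊥ → B ≤ 𝐍(W) → W = A

/-- `U / V` is a chief factor of `H`. -/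
structure ChiefFactor (H V U : Subgroup G) : Prop where
  lt : V < U
  normalU : U ⊴ H
  normV : H ≤ 𝐍(V)
  max : ∀ W : Subgroup G, V ≤ W → W ≤ U → H ≤ 𝐍(W) → W = V ∨ W = U

/-! ### `π`-numbers, `π`-groups, Hall and Sylow subgroups -/

/-- all prime divisors of `n` lie in `π`: `∀ p, p.Prime → p ∣ n → p ∈ π`
(the `CL.IsPiNum` API is available through dot notation) -/
def PiNat (π : Set ℕ) (n : ℕ) : Prop := CL.IsPiNum π n

/-- `H` is a `π`-group -/
def PiGrp (π : Set ℕ) (H : Subgroup G) : Prop := PiNat π (Nat.card H)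

/-- `x` is a `π`-element -/
def PiElt (π : Set ℕ) (x : G) : Prop := PiNat π (orderOf x)

/-- `π(n)`, the set of prime divisors of `n` -/
def primesOfNat (n : ℕ) : Set ℕ := {p | p.Prime ∧ p ∣ n}

/-- `π(H)`, the set of prime divisors of the order of `H` -/
def primesOf (H : Subgroup G) : Set ℕ := primesOfNat (Nat.card H)

/-- `X` is a Hall `π`-subgroup of `H` (definitionally `Cfsg.IsPiHallOf`). -/
def Hall (π : Set ℕ) (X H : Subgroup G) : Prop := IsPiHallOf π X H

/-- `P` is a Sylow `p`-subgroup of `H` (definitionally `Hall {p}`). -/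
def SylowOf (p : ℕ) (P H : Subgroup G) : Prop := Hall {p} P H

/-- `X` is a Hall subgroup of `H` for some set of primes. -/
structure IsHall (X H : Subgroup G) : Prop where
  le : X ≤ H
  coprime : (Nat.card X).Coprime (X.relIndex H)

/-- `O_{p',p}(H)` as a subgroup of the ambient group.  (`O_π(H)` is `Cfsg.piCoreOf π H`,
`O_p(H)` is `piCoreOf {p} H`, `O_{p'}(H)` is `piCoreOf {p}ᶜ H`.) -/
def pPrimePCoreOf (p : ℕ) (H : Subgroup G) : Subgroup G := (pPrimePCore p H).map H.subtype

/-- `Φ(H)` as a subgroup of the ambient group. -/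
def frattiniOf (H : Subgroup G) : Subgroup G := (frattini H).map H.subtype

/-- The `π`-part of an element (junk for elements of infinite order). -/
noncomputable def piPart (π : Set ℕ) (x : G) : G :=
  open Classical in
  if h : ∃ y : G, y ∈ Subgroup.zpowers x ∧ PiElt π y ∧ PiElt πᶜ (y⁻¹ * x) then h.choose else 1

/-! ### products -/

/-- `L = K ⋊ H` (internal semidirect product with normal factor `K`). -/
structure SDP (K H L : Subgroup G) : Prop where
  sup : K ⊔ H = L
  norm : H ≤ 𝐍(K)
  disj : K ⊓ H = ⊥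

/-- `L = K ∘ H` (internal central product). -/
structure CP (K H L : Subgroup G) : Prop where
  sup : K ⊔ H = L
  cent : H ≤ 𝐂(K)

/-- `L = K × H` (internal direct product). -/
structure DP (K H L : Subgroup G) : Prop where
  sup : K ⊔ H = L
  cent : H ≤ 𝐂(K)
  disj : K ⊓ H = ⊥

/-- `H` acts regularly on `K`: no nonidentity element of `H` centralises a nonidentity
element of `K`. -/
def Semiregular (K H : Subgroup G) : Prop := ∀ x ∈ H, x ≠ 1 → K ⊓ 𝐂₁(x) = ⊥

/-- `H` acts in a prime manner on `K`. -/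
def Semiprime (K H : Subgroup G) : Prop := ∀ x ∈ H, x ≠ 1 → K ⊓ 𝐂₁(x) = K ⊓ 𝐂(H)

/-- `L = K ⋊ H` is a Frobenius group with kernel `K` and complement `H`. -/
structure Frob (K H L : Subgroup G) : Prop where
  sdp : SDP K H L
  ker_ne : K ≠ ⊥
  compl_ne : H ≠ ⊥
  reg : Semiregular K H

/-- `A` is a nonempty TI-subset of the ambient group with normaliser `L`. -/
structure NormedTI (A : Set G) (L : Subgroup G) : Prop where
  nonempty : A.Nonempty
  mem_iff : ∀ a ∈ A, ∀ g : G, g * a * g⁻¹ ∈ A ↔ g ∈ L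

/-! ### elementary abelian subgroups and ranks -/

/-- `A ∈ ℰ_p^n(H)`: an elementary abelian subgroup of `H` of order `p ^ n`. -/
structure ElemN (p n : ℕ) (H A : Subgroup G) : Prop where
  le : A ≤ H
  elem : IsElementaryAbelian p A
  card : Nat.card A = p ^ n

/-- `A ∈ ℰ_p^*(H)`: a maximal elementary abelian `p`-subgroup of `H`. -/
structure MaxElem (p : ℕ) (H A : Subgroup G) : Prop where
  le : A ≤ H
  elem : IsElementaryAbelian p A
  max : ∀ B : Subgroup G, B ≤ H → IsElementaryAbelian p B → A ≤ B → B = A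

/-- `r_p(H)`, the `p`-rank of `H` (meaningful for `p` prime and `H` finite). -/
noncomputable def pRank (p : ℕ) (H : Subgroup G) : ℕ := sSup {n | ∃ A, ElemN p n H A}

/-- `r(H)`, the rank of `H` (for abelian `H` this is also `m(H)`). -/
noncomputable def rank (H : Subgroup G) : ℕ := sSup {n | ∃ p, p.Prime ∧ ∃ A, ElemN p n H A}

/-- `A ∈ SCN_n(P)` -/
structure SCNn (n : ℕ) (P A : Subgroup G) : Prop where
  scn : IsSCN P A
  le_rank : n ≤ rank A

/-- `A ∈ SCN_n(p)`: `A ∈ SCN_n(P)` for a Sylow `p`-subgroup `P` of the ambient group. -/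
def SCNp (n p : ℕ) (A : Subgroup G) : Prop := ∃ P : Subgroup G, SylowOf p P ⊤ ∧ SCNn n P A

/-- `P` is a narrow `p`-group, in the form of BG 5.3: rank at most 2 or some member of
`ℰ_p^2(P)` is maximal elementary abelian.  (Equivalent to `Cfsg.IsNarrow p P` for odd `p`.) -/
def Narrow (p : ℕ) (P : Subgroup G) : Prop :=
  2 < pRank p P → ∃ A : Subgroup G, ElemN p 2 P A ∧ MaxElem p P A

/-- `℧^n(H)` is `Cfsg.powerClosure p n H`, `Ω₁(H)` is `Cfsg.omegaOne p H`; this is `Ω_n(H)`. -/
def omegaN (p n : ℕ) (H : Subgroup G) : Subgroup G :=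
  Subgroup.closure {x : G | x ∈ H ∧ x ^ (p ^ n) = 1}

/-! ### maximal subgroups -/

/-- `ℳ(X) = {M}`: `M` is the unique maximal subgroup containing `X`. -/
structure UniqMax (X M : Subgroup G) : Prop where
  coatom : IsCoatom M
  le : X ≤ M
  uniq : ∀ L : Subgroup G, IsCoatom L → X ≤ L → L = M

/-- `M_β` -/
def betaCore (M : Subgroup G) : Subgroup G := piCoreOf (beta M) M

/-- `E` is a complement to `M_σ` in `M`, `E₁, E₂, E₃` are Hall `τ₁, τ₂, τ₃`-subgroups of `E`
and `E₂ E₁` is a group. -/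
structure SigmaCompl (M E E₁ E₂ E₃ : Subgroup G) : Prop where
  hallE : Hall (sigma M)ᶜ E M
  hall1 : Hall (tau1 M) E₁ E
  hall2 : Hall (tau2 M) E₂ E
  hall3 : Hall (tau3 M) E₃ E
  grp : ∀ x ∈ E₂ ⊔ E₁, ∃ a ∈ E₂, ∃ b ∈ E₁, x = a * b

end CL.BG
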