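import Cfsg.Agent.BG.Defs

/-!
# Vocabulary of BG section 14: types of maximal subgroups, `κ`-complements, `K*`, `Ẑ`, `M̃`
-/

namespace CL.BG

open Cfsg

variable {G : Type*} [Group G]

/-- `M ∈ ℳ_ℱ`: maximal with `κ(M)` empty. -/
structure TypeF (M : Subgroup G) : Prop where
  coatom : IsCoatom M
  kappa_eq : kappa M = ∅

/-- `M ∈ ℳ_𝒫`: maximal with `κ(M)` nonempty. -/
structure TypeP (M : Subgroup G) : Prop where
  coatom : IsCoatom M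
  nonempty : (kappa M).Nonempty

/-- `M ∈ ℳ_{𝒫₁}`: type `𝒫` with `π(M) ⊆ σ(M) ∪ κ(M)`. -/
structure TypeP1 (M : Subgroup G) : Prop where
  typeP : TypeP M
  piGrp : PiGrp (sigma M ∪ kappa M) M

/-- `M ∈ ℳ_{𝒫₂}`: type `𝒫` but not type `𝒫₁`. -/
structure TypeP2 (M : Subgroup G) : Prop where
  typeP : TypeP M
  not_piGrp : ¬ PiGrp (sigma M ∪ kappa M) M

/-- `K` is a Hall `κ(M)`-subgroup of `M` and `U` is a `K`-invariant Hall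
`(σ(M) ∪ κ(M))'`-subgroup of `M`. -/
structure KappaCompl (M U K : Subgroup G) : Prop where
  hallU : Hall (sigma M ∪ kappa M)ᶜ U M
  hallK : Hall (kappa M) K M
  norm : K ≤ 𝐍(U)

/-- `K* = C_{M_σ}(K)`. -/
abbrev kstar (M K : Subgroup G) : Subgroup G := sigmaCore M ⊓ 𝐂(K)

/-- `Ẑ = K K* - (K ∪ K*)`. -/
abbrev zhat (K Ks : Subgroup G) : Set G :=
  (↑(K ⊔ Ks) : Set G) \ ((K : Set G) ∪ (Ks : Set G))

/-- `𝒞_G(A)`, the union of the conjugacy classes of the elements of `A`. -/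
def classSupport (A : Set G) : Set G := {a : G | ∃ g : G, ∃ z ∈ A, a = g * z * g⁻¹}

/-- `M̃`, the union of the cosets `x R(x)` for `x ∈ M_σ^#`. -/
def sigmaCover (M : Subgroup G) : Set G :=
  {g : G | ∃ x ∈ sigmaCore M, x ≠ 1 ∧ ∃ r ∈ supportR M x, g = x * r}

/-- `𝒞_G(M̃)` in the form used by the listed statements. -/
abbrev sigmaTilde (M : Subgroup G) : Set G := tildeOf M ((sigmaCore M : Set G) \ {1})

/-- The conclusions of BG Theorem 14.4 for `x ∈ M_σ^#` with `C_G(x) ⊄ M`; here `N = N(x)` and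
`R(x) = C_{N_σ}(x)`. -/
structure SignalizerCtx (M : Subgroup G) (x : G) (N : Subgroup G) : Prop where
  uniq : UniqMax 𝐂₁(x) N
  /-- (a) -/
  R_ne : sigmaCore N ⊓ 𝐂₁(x) ≠ ⊥
  R_eq : supportR M x = sigmaCore N ⊓ 𝐂₁(x)
  R_hall : Hall (sigma N) (sigmaCore N ⊓ 𝐂₁(x)) 𝐂₁(x)
  /-- `R(x)` is sharply transitive on `ℳ_σ(x)` -/
  trans : ∀ L : Subgroup G, IsCoatom L → x ∈ sigmaCore L →
    ∃! r : G, r ∈ sigmaCore N ⊓ 𝐂₁(x) ∧ L = cj r M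
  /-- (b) -/
  sdp : SDP (sigmaCore N ⊓ 𝐂₁(x)) (M ⊓ 𝐂₁(x)) 𝐂₁(x)
  /-- (c) -/
  tau2_elt : PiElt (tau2 N) x
  tau2_sub : tau2 N ⊆ sigma M
  /-- (d) -/
  beta_sub : ∀ q ∈ sigma N, q ∣ Nat.card M → q ∈ beta N
  /-- (e) -/
  hall : Hall (sigma N)ᶜ (M ⊓ N) N
  /-- (f): `N ∈ ℳ_ℱ ∪ ℳ_{𝒫₂}` -/
  not_P1 : ¬ TypeP1 N
  nil : Group.IsNilpotent (sigmaCore N)
  fcore : fittingHallOf N = sigmaCore N
  not_conj : ∀ g : G, N ≠ cj g M

/-- The conclusions of BG Theorem 14.7: `Ms = M*` is the partner of `M ∈ ℳ_𝒫` with respect to the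
Hall `κ(M)`-subgroup `K`. -/
structure PtypePair (M K Ms : Subgroup G) : Prop where
  typeP : TypeP M
  hallK : Hall (kappa M) K M
  typePs : TypeP Ms
  not_conj : ∀ g : G, Ms ≠ cj g M
  /-- (a) -/
  uniq : ∀ X : Subgroup G, X ≤ K → (Nat.card X).Prime → UniqMax 𝐂(X) Ms
  /-- (b) -/
  hallKs : Hall (kappa Ms) (kstar M K) Ms
  hallKs_sigma : Hall (sigma M) (kstar M K) Ms
  /-- (c) -/
  kstar_kstar : kstar Ms (kstar M K) = K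
  kappa_eq : kappa M = tau1 M
  /-- (d) -/
  cyclic : IsCyclic ↥(K ⊔ kstar M K)
  dp : DP K (kstar M K) (K ⊔ kstar M K)
  coprime : (Nat.card K).Coprime (Nat.card (kstar M K))
  inf_eq : M ⊓ Ms = K ⊔ kstar M K
  cent_K : ∀ x ∈ K, x ≠ 1 → M ⊓ 𝐂₁(x) = K ⊔ kstar M K
  cent_Ks : ∀ y ∈ kstar M K, y ≠ 1 → Ms ⊓ 𝐂₁(y) = K ⊔ kstar M K
  cent_mul : ∀ x ∈ K, x ≠ 1 → ∀ y ∈ kstar M K, y ≠ 1 → 𝐂₁(x * y) = K ⊔ kstar M K
  /-- (e) -/
  ti : NormedTI (zhat K (kstar M K)) (K ⊔ kstar M K)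
  disj : ∀ g : G, g ∉ M → ∀ z ∈ zhat K (kstar M K), z ∉ cj g M
  card_eq : Nat.card K * Nat.card (kstar M K) * (classSupport (zhat K (kstar M K))).ncard =
    (Nat.card K - 1) * (Nat.card (kstar M K) - 1) * Nat.card G
  card_gt : Nat.card G < 2 * (classSupport (zhat K (kstar M K))).ncard
  /-- (f) -/
  typeP2 : (TypeP2 M ∧ (Nat.card K).Prime) ∨ (TypeP2 Ms ∧ (Nat.card (kstar M K)).Prime)
  /-- (g) -/
  conj : ∀ H : Subgroup G, TypeP H → ∃ g : G, H = cj g M ∨ H = cj g Ms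
  /-- (h) -/
  sdp : SDP ⁅M, M⁆ K M

end CL.BG
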