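import Cfsg.Agent.BG.Core

/-!
# Semidirect, central and direct products of subgroups (`SDP`, `CP`, `DP`)
-/

namespace CL.BG

open Cfsg Subgroup
open scoped commutatorElement

variable {G G' : Type*} [Group G] [Group G'] {H K L M N A B X Y P Q R : Subgroup G} {g x y : G}
  {π ρ : Set ℕ} {p q m n : ℕ}

/-! ### semidirect products -/

namespace SDP

theorem left_le (h : SDP K H L) : K ≤ L := h.sup ▸ le_sup_left

theorem right_le (h : SDP K H L) : H ≤ L := h.sup ▸ le_sup_right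

theorem normalIn (h : SDP K H L) : K ⊴ L := h.sup ▸ NormalIn.sup_left h.norm

theorem le_norm (h : SDP K H L) : L ≤ 𝐍(K) := h.normalIn.norm

theorem disj' (h : SDP K H L) : H ⊓ K = ⊥ := inf_comm K H ▸ h.disj

theorem sup' (h : SDP K H L) : H ⊔ K = L := sup_comm K H ▸ h.sup

theorem exists_mul (h : SDP K H L) (hx : x ∈ L) : ∃ k ∈ K, ∃ y ∈ H, k * y = x :=
  (mem_sup_iff_of_norm h.norm).1 (h.sup ▸ hx)

theorem exists_mul' (h : SDP K H L) (hx : x ∈ L) : ∃ y ∈ H, ∃ k ∈ K, y * k = x :=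
  (mem_sup_iff_of_norm' h.norm).1 (h.sup' ▸ hx)

theorem card (h : SDP K H L) : Nat.card K * Nat.card H = Nat.card L :=
  h.sup ▸ (card_sup_of_disj h.norm h.disj).symm

theorem relIndex_left (h : SDP K H L) : K.relIndex L = Nat.card H := by
  rw [← h.sup, relIndex_sup_of_norm h.norm, ← inf_relIndex_right, h.disj, relIndex_bot_left]

theorem relIndex_right [Finite G] (h : SDP K H L) : H.relIndex L = Nat.card K := by
  rw [← h.sup, relIndex_sup_of_norm_right (Or.inl h.norm), ← inf_relIndex_right, h.disj',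
    relIndex_bot_left]

theorem isComplIn (h : SDP K H L) : IsComplIn K H L :=
  ⟨h.left_le, h.right_le, h.disj, fun _ hm =>
    let ⟨k, hk, y, hy, e⟩ := h.exists_mul hm; ⟨k, hk, y, hy, e.symm⟩⟩

theorem isComplIn' (h : SDP K H L) : IsComplIn H K L :=
  ⟨h.right_le, h.left_le, h.disj', fun _ hm =>
    let ⟨k, hk, y, hy, e⟩ := h.exists_mul' hm; ⟨k, hk, y, hy, e.symm⟩⟩

theorem of_normalIn (hK : K ⊴ L) (hH : H ≤ L) (hs : L ≤ K ⊔ H) (hd : K ⊓ H = ⊥) : SDP K H L :=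
  ⟨le_antisymm (sup_le hK.le hH) hs, hH.trans hK.norm, hd⟩

theorem mk_sup (hn : H ≤ 𝐍(K)) (hd : K ⊓ H = ⊥) : SDP K H (K ⊔ H) := ⟨rfl, hn, hd⟩

theorem of_coprime (hn : H ≤ 𝐍(K)) (hc : (Nat.card K).Coprime (Nat.card H)) : SDP K H (K ⊔ H) :=
  ⟨rfl, hn, disj_of_coprime hc⟩

theorem bot_right (K : Subgroup G) : SDP K ⊥ K := ⟨sup_bot_eq K, bot_le, inf_bot_eq K⟩

theorem bot_left (H : Subgroup G) : SDP ⊥ H H :=
  ⟨bot_sup_eq H, by rw [norm_bot]; exact le_top, bot_inf_eq H⟩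

theorem left_eq_of_bot (h : SDP K ⊥ L) : K = L := by simpa using h.sup

theorem right_eq_of_bot (h : SDP ⊥ H L) : H = L := by simpa using h.sup

theorem map {f : G →* G'} (h : SDP K H L) (hf : Function.Injective f) :
    SDP (K.map f) (H.map f) (L.map f) :=
  ⟨by rw [← Subgroup.map_sup, h.sup], map_le_norm_map h.norm f,
    by rw [← Subgroup.map_inf _ _ _ hf, h.disj, Subgroup.map_bot]⟩

theorem cj (h : SDP K H L) (g : G) : SDP (cj g K) (cj g H) (cj g L) := h.map (conj_injective g)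

theorem cj_right (h : SDP K H L) (hg : g ∈ L) : SDP K (BG.cj g H) L := by
  have := h.cj g
  rwa [h.normalIn.cj_eq hg, cj_eq_of_mem hg] at this

/-- a subgroup containing the normal factor -/
theorem modl (h : SDP K H L) (hK : K ≤ M) : SDP K (H ⊓ M) (L ⊓ M) :=
  ⟨by rw [← h.sup, sup_inf_modular (Or.inl h.norm) hK], inf_le_left.trans h.norm,
    by rw [← inf_assoc, h.disj, bot_inf_eq]⟩

theorem modl' (h : SDP K H L) (hK : K ≤ M) (hM : M ≤ L) : SDP K (H ⊓ M) M := by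
  simpa only [inf_eq_right.2 hM] using h.modl hK

/-- a subgroup containing the complement -/
theorem modr (h : SDP K H L) (hH : H ≤ M) : SDP (K ⊓ M) H (L ⊓ M) :=
  ⟨by rw [← h.sup, sup_inf_modular' (Or.inl h.norm) hH], norms_inf h.norm (le_norm_of_le hH),
    by rw [inf_right_comm, h.disj, bot_inf_eq]⟩

theorem modr' (h : SDP K H L) (hH : H ≤ M) (hM : M ≤ L) : SDP (K ⊓ M) H M := by
  simpa only [inf_eq_right.2 hM] using h.modr hH

/-- restriction to a subgroup of the complement -/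
theorem restrict_right (h : SDP K H L) (hA : A ≤ H) : SDP K A (K ⊔ A) :=
  ⟨rfl, hA.trans h.norm, le_bot_iff.1 ((inf_le_inf_left K hA).trans h.disj.le)⟩

/-- restriction to an `H`-invariant subgroup of the normal factor -/
theorem restrict_left (h : SDP K H L) (hA : A ≤ K) (hn : H ≤ 𝐍(A)) : SDP A H (A ⊔ H) :=
  ⟨rfl, hn, le_bot_iff.1 ((inf_le_inf_right H hA).trans h.disj.le)⟩

/-- complements contained in one another are equal -/
theorem right_eq_of_le (h : SDP K H L) (hA : H ≤ A) (hAL : A ≤ L) (hd : K ⊓ A = ⊥) : A = H := by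
  have := (h.modr' hA hAL).sup
  rw [hd, bot_sup_eq] at this
  exact this.symm

theorem hall_left_iff (h : SDP K H L) : Hall π K L ↔ PiGrp π K ∧ PiGrp πᶜ H := by
  rw [hall_iff, h.relIndex_left]
  exact ⟨fun h' => h'.2, fun h' => ⟨h.left_le, h'⟩⟩

theorem hall_right_iff [Finite G] (h : SDP K H L) : Hall π H L ↔ PiGrp π H ∧ PiGrp πᶜ K := by
  rw [hall_iff, h.relIndex_right]
  exact ⟨fun h' => h'.2, fun h' => ⟨h.right_le, h'⟩⟩

theorem hall_left (h : SDP K H L) (hK : PiGrp π K) (hH : PiGrp πᶜ H) : Hall π K L :=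
  h.hall_left_iff.2 ⟨hK, hH⟩

theorem hall_right [Finite G] (h : SDP K H L) (hH : PiGrp π H) (hK : PiGrp πᶜ K) : Hall π H L :=
  h.hall_right_iff.2 ⟨hH, hK⟩

theorem hall_compl_iff [Finite G] (h : SDP K H L) : Hall πᶜ H L ↔ Hall π K L := by
  rw [h.hall_left_iff, h.hall_right_iff, compl_compl, and_comm]

theorem hall_right_of_left [Finite G] (h : SDP K H L) (hK : Hall π K L) : Hall πᶜ H L :=
  h.hall_compl_iff.2 hK

theorem hall_left_of_right [Finite G] (h : SDP K H L) (hH : Hall π H L) : Hall πᶜ K L :=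
  h.hall_compl_iff.1 (by rwa [compl_compl])

theorem coprime_of_isHall_left (h : SDP K H L) (hK : IsHall K L) :
    (Nat.card K).Coprime (Nat.card H) := h.relIndex_left ▸ hK.coprime

theorem isHall_left (h : SDP K H L) (hc : (Nat.card K).Coprime (Nat.card H)) : IsHall K L :=
  ⟨h.left_le, h.relIndex_left ▸ hc⟩

theorem isHall_right [Finite G] (h : SDP K H L) (hc : (Nat.card K).Coprime (Nat.card H)) :
    IsHall H L := ⟨h.right_le, h.relIndex_right ▸ hc.symm⟩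

theorem piGrp (h : SDP K H L) (hK : PiGrp π K) (hH : PiGrp π H) : PiGrp π L :=
  h.sup ▸ hK.sup hH (Or.inl h.norm)

theorem primesOf_eq (h : SDP K H L) : primesOf L = primesOf K ∪ primesOf H :=
  h.sup ▸ primesOf_sup (Or.inl h.norm)

/-- a Hall subgroup of the complement is Hall in the product if the normal factor is a `π'`-group -/
theorem hall_of_right [Finite G] (h : SDP K H L) (hX : Hall π X H) (hK : PiGrp πᶜ K) :
    Hall π X L := h.sup ▸ hX.compl_sup hK h.norm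

theorem hall_of_left (h : SDP K H L) (hX : Hall π X K) (hH : PiGrp πᶜ H) : Hall π X L :=
  h.sup ▸ hX.sup_of_compl hH h.norm

theorem isComplement' (h : SDP K H L) : (K.subgroupOf L).IsComplement' (H.subgroupOf L) :=
  Pi.isComplement'_subgroupOf h.left_le (disjoint_iff.2 h.disj) h.isComplIn.2.2.2

/-- `(K ⋊ H) ⋊ A = K ⋊ (H ⋊ A)` when `A` normalises `K` and `H` -/
theorem assoc (h₁ : SDP K H L) (h₂ : SDP L A M) (hK : A ≤ 𝐍(K)) (hH : A ≤ 𝐍(H)) :
    SDP H A (H ⊔ A) ∧ SDP K (H ⊔ A) M := by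
  refine ⟨h₂.restrict_left h₁.right_le hH, by rw [← sup_assoc, h₁.sup, h₂.sup],
    sup_le h₁.norm hK, ?_⟩
  have : (H ⊔ A) ⊓ L = H := by
    rw [sup_inf_modular (Or.inl hH) h₁.right_le, h₂.disj', sup_bot_eq]
  rw [← inf_eq_left.2 h₁.left_le, inf_assoc, inf_comm L, this, h₁.disj]

/-- `K ⋊ (H ⋊ A) = (K ⋊ H) ⋊ A` -/
theorem assoc' (h₁ : SDP H A L) (h₂ : SDP K L M) : SDP K H (K ⊔ H) ∧ SDP (K ⊔ H) A M := by
  refine ⟨h₂.restrict_right h₁.left_le, by rw [sup_assoc, h₁.sup, h₂.sup],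
    norms_sup (h₁.right_le.trans h₂.norm) h₁.norm, ?_⟩
  have : (K ⊔ H) ⊓ L = H := by
    rw [sup_inf_modular' (Or.inl (h₁.left_le.trans h₂.norm)) h₁.left_le, h₂.disj, bot_sup_eq]
  rw [← inf_eq_right.2 h₁.right_le, ← inf_assoc, this, h₁.disj]

/-- the derived group of `K ⋊ H` lies in `K H'` -/
theorem der_le (h : SDP K H L) : ⁅L, L⁆ ≤ K ⊔ ⁅H, H⁆ := by
  have hn : L ≤ 𝐍(K ⊔ ⁅H, H⁆) := by
    rw [← h.sup]
    exact sup_le (le_norm_of_le le_sup_left) (norms_sup h.norm (NormalIn.der H).norm)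
  rw [commutator_le]
  intro a ha b hb
  obtain ⟨k, hk, y, hy, rfl⟩ := h.exists_mul ha
  obtain ⟨k', hk', y', hy', rfl⟩ := h.exists_mul hb
  have e : ⁅k * y, k' * y'⁆ = (k * (y * k' * y⁻¹) * ((y * y' * y⁻¹) * k⁻¹ * (y * y' * y⁻¹)⁻¹) *
      (⁅y, y'⁆ * k'⁻¹ * ⁅y, y'⁆⁻¹)) * ⁅y, y'⁆ := by
    simp only [commutatorElement_def]; group
  rw [e]
  have hc : ⁅y, y'⁆ ∈ ⁅H, H⁆ := commutator_mem_commutator hy hy'
  refine mul_mem (mem_sup_left (mul_mem (mul_mem (mul_mem hk ?_) ?_) ?_)) (mem_sup_right hc)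
  · exact conj_mem_of_mem_norm (h.norm hy) hk'
  · exact conj_mem_of_mem_norm (h.norm (mul_mem (mul_mem hy hy') (inv_mem hy))) (inv_mem hk)
  · exact conj_mem_of_mem_norm (h.norm (commutator_le_self H hc)) (inv_mem hk')

theorem der_le_left (h : SDP K H L) (hH : IsMulCommutative H) : ⁅L, L⁆ ≤ K := by
  simpa [commutator_self_eq_bot_iff.2 hH] using h.der_le

/-- `L' ∩ H = H'` for `L = K ⋊ H` -/
theorem der_inf_right (h : SDP K H L) : ⁅L, L⁆ ⊓ H = ⁅H, H⁆ := by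
  apply le_antisymm _ (le_inf (commutator_mono h.right_le h.right_le) (commutator_le_self H))
  calc ⁅L, L⁆ ⊓ H ≤ (K ⊔ ⁅H, H⁆) ⊓ H := inf_le_inf_right H h.der_le
    _ = ⁅H, H⁆ := by
      rw [sup_inf_modular' (Or.inl ((commutator_le_self H).trans h.norm)) (commutator_le_self H),
        h.disj, bot_sup_eq]

/-- the complement is isomorphic to any other complement -/
theorem nonempty_equiv (h : SDP K H L) (h' : SDP K A L) : Nonempty (H ≃* A) := by
  have := h.normalIn.normal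
  exact ⟨(subgroupOfEquivOfLe h.right_le).symm.trans
    (h.isComplement'.symm.QuotientMulEquiv.symm.trans
      (h'.isComplement'.symm.QuotientMulEquiv.trans (subgroupOfEquivOfLe h'.right_le)))⟩

end SDP

theorem sup_eq_of_isComplIn (h : IsComplIn A B M) : A ⊔ B = M := by
  apply le_antisymm (sup_le h.1 h.2.1)
  intro x hx
  obtain ⟨a, ha, b, hb, rfl⟩ := h.2.2.2 x hx
  exact mul_mem (mem_sup_left ha) (mem_sup_right hb)

theorem isComplIn_symm (h : IsComplIn A B M) : IsComplIn B A M := by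
  refine ⟨h.2.1, h.1, inf_comm A B ▸ h.2.2.1, fun m hm => ?_⟩
  obtain ⟨a, ha, b, hb, e⟩ := h.2.2.2 m⁻¹ (inv_mem hm)
  exact ⟨b⁻¹, inv_mem hb, a⁻¹, inv_mem ha, by rw [← mul_inv_rev, ← e, inv_inv]⟩

theorem sdp_of_isComplIn (h : IsComplIn K H L) (hn : H ≤ 𝐍(K)) : SDP K H L :=
  ⟨sup_eq_of_isComplIn h, hn, h.2.2.1⟩

theorem sdp_of_isComplIn' (h : IsComplIn H K L) (hn : H ≤ 𝐍(K)) : SDP K H L :=
  sdp_of_isComplIn (isComplIn_symm h) hn

theorem sdp_map_iff {f : G →* G'} (hf : Function.Injective f) :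
    SDP (K.map f) (H.map f) (L.map f) ↔ SDP K H L :=
  ⟨fun h => ⟨map_injective hf (by rw [Subgroup.map_sup, h.sup]),
    (map_le_norm_map_iff hf).1 h.norm,
    (map_eq_bot_iff_of_injective _ hf).1 (by rw [Subgroup.map_inf _ _ _ hf, h.disj])⟩,
    fun h => h.map hf⟩

theorem sdp_map_subtype {K H : Subgroup L} [K.Normal] (h : K.IsComplement' H) :
    SDP (K.map L.subtype) (H.map L.subtype) L := by
  have : SDP K H ⊤ := ⟨h.sup_eq_top, le_normalizer_of_normal, h.disjoint.eq_bot⟩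
  have h2 := this.map L.subtype_injective
  rwa [← MonoidHom.range_eq_map, range_subtype] at h2

theorem sdp_top_iff : SDP K H ⊤ ↔ K.Normal ∧ K.IsComplement' H := by
  constructor
  · intro h
    have := h.normalIn.normal_of_top
    exact ⟨this, isComplement'_of_disjoint_and_mul_eq_univ (disjoint_iff.2 h.disj)
      (by rw [← normal_mul, h.sup, coe_top])⟩
  · rintro ⟨_, h⟩
    exact ⟨h.sup_eq_top, le_normalizer_of_normal, h.disjoint.eq_bot⟩

/-- a normal Hall `π`-subgroup and a Hall `π'`-subgroup -/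
theorem Hall.sdp [Finite G] (hK : Hall π K L) (hn : L ≤ 𝐍(K)) (hH : Hall πᶜ H L) : SDP K H L :=
  ⟨hK.sup_eq hH, hH.le.trans hn, hK.inf_eq_bot hH⟩

theorem Hall.sdp' [Finite G] (hK : Hall πᶜ K L) (hn : L ≤ 𝐍(K)) (hH : Hall π H L) : SDP K H L :=
  hK.sdp hn (by rwa [compl_compl])

/-- Schur-Zassenhaus, existence -/
theorem exists_sdp_of_isHall [Finite G] (hK : IsHall K L) (hn : L ≤ 𝐍(K)) : ∃ H, SDP K H L := by
  have := (NormalIn.mk hK.le hn).normal
  obtain ⟨H, hH⟩ := exists_right_complement'_of_coprime (N := K.subgroupOf L)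
    (by rw [Pi.card_subgroupOf_of_le hK.le]; exact hK.coprime)
  have h2 := sdp_map_subtype hH
  rw [map_subgroupOf_eq_of_le hK.le] at h2
  exact ⟨_, h2⟩

theorem Hall.exists_sdp [Finite G] (hK : Hall π K L) (hn : L ≤ 𝐍(K)) : ∃ H, SDP K H L :=
  exists_sdp_of_isHall hK.isHall hn

/-- a normal `p`-complement and a Sylow `p`-subgroup -/
theorem sdp_piCoreOf_sylow [Finite G] (h : Hall {p}ᶜ (piCoreOf {p}ᶜ H) H) (hP : SylowOf p P H) :
    SDP (piCoreOf {p}ᶜ H) P H := h.sdp' (le_norm_piCoreOf _ H) hP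

/-! ### central and direct products -/

namespace CP

theorem symm (h : CP K H L) : CP H K L := ⟨sup_comm K H ▸ h.sup, cent_symm h.cent⟩

theorem left_le (h : CP K H L) : K ≤ L := h.sup ▸ le_sup_left

theorem right_le (h : CP K H L) : H ≤ L := h.sup ▸ le_sup_right

theorem norm (h : CP K H L) : H ≤ 𝐍(K) := le_norm_of_le_cent h.cent

theorem left_normalIn (h : CP K H L) : K ⊴ L := h.sup ▸ NormalIn.sup_left h.norm

theorem right_normalIn (h : CP K H L) : H ⊴ L := h.symm.left_normalIn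

theorem exists_mul (h : CP K H L) (hx : x ∈ L) : ∃ k ∈ K, ∃ y ∈ H, k * y = x :=
  (mem_sup_iff_of_norm h.norm).1 (h.sup ▸ hx)

theorem commute (h : CP K H L) (hx : x ∈ K) (hy : y ∈ H) : Commute x y := h.cent hy x hx

theorem map (h : CP K H L) (f : G →* G') : CP (K.map f) (H.map f) (L.map f) :=
  ⟨by rw [← Subgroup.map_sup, h.sup], map_le_cent_map h.cent f⟩

theorem cj (h : CP K H L) (g : G) : CP (cj g K) (cj g H) (cj g L) := h.map _

theorem modl (h : CP K H L) (hK : K ≤ M) : CP K (H ⊓ M) (L ⊓ M) :=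
  ⟨by rw [← h.sup, sup_inf_modular (Or.inl h.norm) hK], inf_le_left.trans h.cent⟩

theorem modr (h : CP K H L) (hH : H ≤ M) : CP (K ⊓ M) H (L ⊓ M) := (h.symm.modl hH).symm

/-- a subgroup normal in a factor is normal in the product -/
theorem normalIn_of_left (h : CP K H L) (hN : N ⊴ K) : N ⊴ L :=
  ⟨hN.le.trans h.left_le,
    h.sup ▸ sup_le hN.norm (le_norm_of_le_cent (h.cent.trans (cent_anti hN.le)))⟩

theorem normalIn_of_right (h : CP K H L) (hN : N ⊴ H) : N ⊴ L := h.symm.normalIn_of_left hN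

theorem comm (h : CP K H L) (hK : IsMulCommutative K) (hH : IsMulCommutative H) :
    IsMulCommutative L := h.sup ▸ comm_sup hK hH h.cent

theorem inf_le_center (h : CP K H L) : K ⊓ H ≤ 𝐙(L) :=
  le_inf (inf_le_left.trans h.left_le) (by
    rw [← h.sup, cent_sup]
    exact le_inf (inf_le_right.trans h.cent) (inf_le_left.trans h.symm.cent))

/-- `C_L(A) = C_K(A) H` for `A ≤ K` -/
theorem inf_cent_of_le_left (h : CP K H L) (hA : A ≤ K) : CP (K ⊓ 𝐂(A)) H (L ⊓ 𝐂(A)) :=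
  h.modr (h.cent.trans (cent_anti hA))

theorem center (h : CP K H L) : CP 𝐙(K) 𝐙(H) 𝐙(L) := by
  have h1 := (h.modr h.cent).modl (M := 𝐂(H)) (inf_le_left.trans h.symm.cent)
  rwa [inf_assoc, ← cent_sup, h.sup] at h1

theorem der (h : CP K H L) : CP ⁅K, K⁆ ⁅H, H⁆ ⁅L, L⁆ := by
  refine ⟨le_antisymm (sup_le (commutator_mono h.left_le h.left_le)
    (commutator_mono h.right_le h.right_le)) ?_,
    (commutator_le_self H).trans (h.cent.trans (cent_anti (commutator_le_self K)))⟩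
  rw [commutator_le]
  intro a ha b hb
  obtain ⟨k, hk, y, hy, rfl⟩ := h.exists_mul ha
  obtain ⟨k', hk', y', hy', rfl⟩ := h.exists_mul hb
  have e : ⁅k * y, k' * y'⁆ = ⁅k, k'⁆ * ⁅y, y'⁆ := by
    have c1 := (h.commute hk' hy).eq
    have c2 := (h.commute (inv_mem hk) (mul_mem (mul_mem hy hy') (inv_mem hy))).eq
    have c3 := (h.commute (inv_mem hk') (commutator_le_self H
      (commutator_mem_commutator hy hy'))).eq
    simp only [commutatorElement_def] at *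
    calc k * y * (k' * y') * (k * y)⁻¹ * (k' * y')⁻¹
        = k * (y * k') * (y' * y⁻¹ * k⁻¹) * y'⁻¹ * k'⁻¹ := by group
      _ = k * k' * (y * y' * y⁻¹ * k⁻¹) * y'⁻¹ * k'⁻¹ := by rw [← c1]; group
      _ = k * k' * k⁻¹ * (y * y' * y⁻¹ * y'⁻¹ * k'⁻¹) := by rw [← c2]; group
      _ = _ := by rw [← c3]; group
  rw [e]
  exact mul_mem (mem_sup_left (commutator_mem_commutator hk hk'))
    (mem_sup_right (commutator_mem_commutator hy hy'))

end CP

namespace DP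

theorem cp (h : DP K H L) : CP K H L := ⟨h.sup, h.cent⟩

theorem symm (h : DP K H L) : DP H K L :=
  ⟨sup_comm K H ▸ h.sup, cent_symm h.cent, inf_comm K H ▸ h.disj⟩

theorem sdp (h : DP K H L) : SDP K H L := ⟨h.sup, le_norm_of_le_cent h.cent, h.disj⟩

theorem left_le (h : DP K H L) : K ≤ L := h.sdp.left_le

theorem right_le (h : DP K H L) : H ≤ L := h.sdp.right_le

theorem left_normalIn (h : DP K H L) : K ⊴ L := h.sdp.normalIn

theorem right_normalIn (h : DP K H L) : H ⊴ L := h.symm.sdp.normalIn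

theorem card (h : DP K H L) : Nat.card K * Nat.card H = Nat.card L := h.sdp.card

theorem exists_mul (h : DP K H L) (hx : x ∈ L) : ∃ k ∈ K, ∃ y ∈ H, k * y = x := h.sdp.exists_mul hx

theorem mk_sup (hc : H ≤ 𝐂(K)) (hd : K ⊓ H = ⊥) : DP K H (K ⊔ H) := ⟨rfl, hc, hd⟩

theorem of_normalIn (hK : K ⊴ L) (hH : H ⊴ L) (hs : L ≤ K ⊔ H) (hd : K ⊓ H = ⊥) : DP K H L :=
  ⟨le_antisymm (sup_le hK.le hH.le) hs,
    cent_symm (le_cent_of_norm_of_disj (hK.le.trans hH.norm) (hH.le.trans hK.norm) hd), hd⟩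

theorem map {f : G →* G'} (h : DP K H L) (hf : Function.Injective f) :
    DP (K.map f) (H.map f) (L.map f) :=
  ⟨(h.sdp.map hf).sup, map_le_cent_map h.cent f, (h.sdp.map hf).disj⟩

theorem cj (h : DP K H L) (g : G) : DP (cj g K) (cj g H) (cj g L) := h.map (conj_injective g)

theorem modl (h : DP K H L) (hK : K ≤ M) : DP K (H ⊓ M) (L ⊓ M) :=
  ⟨(h.sdp.modl hK).sup, inf_le_left.trans h.cent, (h.sdp.modl hK).disj⟩

theorem modr (h : DP K H L) (hH : H ≤ M) : DP (K ⊓ M) H (L ⊓ M) := (h.symm.modl hH).symm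

theorem modl' (h : DP K H L) (hK : K ≤ M) (hM : M ≤ L) : DP K (H ⊓ M) M := by
  simpa only [inf_eq_right.2 hM] using h.modl hK

theorem modr' (h : DP K H L) (hH : H ≤ M) (hM : M ≤ L) : DP (K ⊓ M) H M := (h.symm.modl' hH hM).symm

theorem center (h : DP K H L) : DP 𝐙(K) 𝐙(H) 𝐙(L) :=
  ⟨h.cp.center.sup, h.cp.center.cent,
    le_bot_iff.1 ((inf_le_inf inf_le_left inf_le_left).trans h.disj.le)⟩

theorem der (h : DP K H L) : DP ⁅K, K⁆ ⁅H, H⁆ ⁅L, L⁆ :=
  ⟨h.cp.der.sup, h.cp.der.cent,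
    le_bot_iff.1 ((inf_le_inf (commutator_le_self K) (commutator_le_self H)).trans h.disj.le)⟩

theorem comm (h : DP K H L) (hK : IsMulCommutative K) (hH : IsMulCommutative H) :
    IsMulCommutative L := h.cp.comm hK hH

/-- a direct product of cyclic groups of coprime orders is cyclic -/
theorem isCyclic (h : DP K H L) (hK : IsCyclic K) (hH : IsCyclic H)
    (hc : (Nat.card K).Coprime (Nat.card H)) [Finite G] : IsCyclic L := by
  obtain ⟨x, hx, rfl⟩ := exists_zpowers_of_isCyclic hK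
  obtain ⟨y, hy, rfl⟩ := exists_zpowers_of_isCyclic hH
  have hxy : Commute x y := h.cp.commute hx hy
  have hcard := h.card
  rw [Nat.card_zpowers, Nat.card_zpowers] at hc hcard
  have hm : x * y ∈ L := mul_mem (h.left_le hx) (h.right_le hy)
  have : zpowers (x * y) = L := eq_of_le_of_card_ge (zpowers_le.2 hm)
    (by rw [Nat.card_zpowers, hxy.orderOf_mul_eq_mul_orderOf_of_coprime hc, hcard])
  rw [← this]; infer_instance

/-- in a direct product of a `π`-group and a `π'`-group, elements decompose into their parts -/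
theorem piPart_mem [Finite G] (h : DP K H L) (hK : PiGrp π K) (hH : PiGrp πᶜ H) (hx : x ∈ L) :
    piPart π x ∈ K :=
  (h.sdp.hall_left hK hH).mem_of_normal h.left_normalIn.norm (BG.piPart_mem π hx)
    (piElt_piPart π x)

/-- every subgroup of the direct product of a `π`-group and a `π'`-group splits -/
theorem inf_of_coprime [Finite G] (h : DP K H L) (hc : (Nat.card K).Coprime (Nat.card H))
    (hA : A ≤ L) : DP (K ⊓ A) (H ⊓ A) A := by
  have hK := piGrp_primesOf K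
  have hH : PiGrp (primesOf K)ᶜ H := piGrp_compl_primesOf_iff.2 hc.symm
  refine ⟨le_antisymm (sup_le inf_le_right inf_le_right) fun x hx => ?_,
    inf_le_left.trans (h.cent.trans (cent_anti inf_le_left)),
    le_bot_iff.1 ((inf_le_inf inf_le_left inf_le_left).trans h.disj.le)⟩
  rw [← piPart_mul_piPart_compl (primesOf K) x]
  exact mul_mem (mem_sup_left ⟨h.piPart_mem hK hH (hA hx), BG.piPart_mem _ hx⟩)
    (mem_sup_right ⟨h.symm.piPart_mem hH (by rwa [compl_compl]) (hA hx), BG.piPart_mem _ hx⟩)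

end DP

theorem SDP.dp (h : SDP K H L) (hc : H ≤ 𝐂(K)) : DP K H L := ⟨h.sup, hc, h.disj⟩

theorem SDP.dp_of_norm (h : SDP K H L) (hn : K ≤ 𝐍(H)) : DP K H L :=
  h.dp (le_cent_of_norm_of_disj h.norm hn h.disj')

theorem CP.dp (h : CP K H L) (hd : K ⊓ H = ⊥) : DP K H L := ⟨h.sup, h.cent, hd⟩

/-- `C_{KH}(x) = C_K(x) C_H(x)`-type statement: for `x` normalising `K`, `H` with `K ⊓ H = 1` and
`H` normalising `K`. -/
theorem SDP.inf_cent1 (h : SDP K H L) (hK : x ∈ 𝐍(K)) (hH : x ∈ 𝐍(H)) :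
    SDP (K ⊓ 𝐂₁(x)) (H ⊓ 𝐂₁(x)) (L ⊓ 𝐂₁(x)) := by
  refine ⟨le_antisymm (sup_le (inf_le_inf_right _ h.left_le) (inf_le_inf_right _ h.right_le)) ?_,
    norms_inf (inf_le_left.trans h.norm) (le_norm_of_le inf_le_right),
    le_bot_iff.1 ((inf_le_inf inf_le_left inf_le_left).trans h.disj.le)⟩
  rintro z ⟨hz, hc⟩
  obtain ⟨k, hk, y, hy, rfl⟩ := h.exists_mul hz
  have e : k⁻¹ * (x * k * x⁻¹) = y * (x * y * x⁻¹)⁻¹ := by
    have := mem_cent1.1 hc
    calc k⁻¹ * (x * k * x⁻¹) = k⁻¹ * (x * (k * y)) * y⁻¹ * x⁻¹ := by group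
      _ = _ := by rw [← this]; group
  have h1 : k⁻¹ * (x * k * x⁻¹) ∈ K ⊓ H :=
    mem_inf.2 ⟨K.mul_mem (K.inv_mem hk) (conj_mem_of_mem_norm hK hk),
      e ▸ H.mul_mem hy (H.inv_mem (conj_mem_of_mem_norm hH hy))⟩
  rw [h.disj, mem_bot] at h1
  have h2 := e ▸ h1
  refine mul_mem (mem_sup_left ⟨hk, mem_cent1.2 ?_⟩) (mem_sup_right ⟨hy, mem_cent1.2 ?_⟩)
  · rw [inv_mul_eq_one] at h1
    conv_lhs => rw [h1]
    group
  · rw [mul_inv_eq_one] at h2
    conv_lhs => rw [h2]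
    group

theorem cent_eq_iInf (A : Subgroup G) : 𝐂(A) = ⨅ a ∈ A, 𝐂₁(a) := centralizer_eq_iInf _

/-- `C_{KH}(A) = C_K(A) C_H(A)` when `A` normalises both factors of a semidirect product -/
theorem SDP.inf_cent (h : SDP K H L) (hK : A ≤ 𝐍(K)) (hH : A ≤ 𝐍(H)) :
    SDP (K ⊓ 𝐂(A)) (H ⊓ 𝐂(A)) (L ⊓ 𝐂(A)) := by
  refine ⟨le_antisymm (sup_le (inf_le_inf_right _ h.left_le) (inf_le_inf_right _ h.right_le)) ?_,
    norms_inf (inf_le_left.trans h.norm) (le_norm_of_le inf_le_right),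
    le_bot_iff.1 ((inf_le_inf inf_le_left inf_le_left).trans h.disj.le)⟩
  rintro z ⟨hz, hc⟩
  obtain ⟨k, hk, y, hy, rfl⟩ := h.exists_mul hz
  have key : ∀ a ∈ A, a * k = k * a ∧ a * y = y * a := by
    intro a ha
    obtain ⟨k', ⟨hk', hk'c⟩, y', ⟨hy', hy'c⟩, e⟩ :=
      (h.inf_cent1 (hK ha) (hH ha)).exists_mul (x := k * y) ⟨hz, cent_le_cent1 ha hc⟩
    have e2 : k⁻¹ * k' = y * y'⁻¹ := by
      calc k⁻¹ * k' = k⁻¹ * (k' * y') * y'⁻¹ := by group
        _ = _ := by rw [e]; group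
    have h1 : k⁻¹ * k' ∈ K ⊓ H :=
      mem_inf.2 ⟨K.mul_mem (K.inv_mem hk) hk', e2 ▸ H.mul_mem hy (H.inv_mem hy')⟩
    rw [h.disj, mem_bot] at h1
    have h2 := e2 ▸ h1
    rw [inv_mul_eq_one] at h1
    rw [mul_inv_eq_one] at h2
    rw [h1, h2]
    exact ⟨(mem_cent1.1 hk'c).symm, (mem_cent1.1 hy'c).symm⟩
  exact mul_mem (mem_sup_left ⟨hk, fun a ha => (key a ha).1⟩)
    (mem_sup_right ⟨hy, fun a ha => (key a ha).2⟩)

theorem DP.inf_cent (h : DP K H L) (hK : A ≤ 𝐍(K)) (hH : A ≤ 𝐍(H)) :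
    DP (K ⊓ 𝐂(A)) (H ⊓ 𝐂(A)) (L ⊓ 𝐂(A)) :=
  (h.sdp.inf_cent hK hH).dp (inf_le_left.trans (h.cent.trans (cent_anti inf_le_left)))

end CL.BG
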