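import Cfsg.Agent.BG.Mim

/-!
# Quotients `H / V` of ambient subgroups

For any `V : Subgroup G`, `Qt V` is the group `N_G(V) / V`; `quot V H` is the image of
`H ⊓ N_G(V)` in it and `coquot V Hb` the full preimage in `G`.
-/

set_option autoImplicit false

namespace CL.BG

open Subgroup
open scoped commutatorElement

variable {G : Type*} [Group G]

/-- The group `N_G(V) / V`. -/
def Qt (V : Subgroup G) : Type _ :=
  normalizer (V : Set G) ⧸ V.subgroupOf (normalizer (V : Set G))

instance instGroupQt (V : Subgroup G) : Group (Qt V) :=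
  inferInstanceAs (Group (normalizer (V : Set G) ⧸ V.subgroupOf (normalizer (V : Set G))))

instance instFiniteQt [Finite G] (V : Subgroup G) : Finite (Qt V) :=
  inferInstanceAs (Finite (normalizer (V : Set G) ⧸ V.subgroupOf (normalizer (V : Set G))))

/-- The projection `N_G(V) → N_G(V) / V`. -/
def cosetHom (V : Subgroup G) : normalizer (V : Set G) →* Qt V :=
  QuotientGroup.mk' (V.subgroupOf (normalizer (V : Set G)))

/-- `H / V`: the image of `H ⊓ N_G(V)` in `N_G(V) / V`. -/
def quot (V H : Subgroup G) : Subgroup (Qt V) := mim (cosetHom V) H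

/-- The preimage in `G` of a subgroup of `N_G(V) / V`. -/
def coquot (V : Subgroup G) (Hb : Subgroup (Qt V)) : Subgroup G := mpre (cosetHom V) Hb

open Classical in
/-- The coset of `x` as a total function (junk value `1` outside `N_G(V)`). -/
noncomputable def coset (V : Subgroup G) (x : G) : Qt V :=
  if h : x ∈ normalizer (V : Set G) then cosetHom V ⟨x, h⟩ else 1

variable (V : Subgroup G)

theorem quot_def (H : Subgroup G) : quot V H = mim (cosetHom V) H := rfl

theorem coquot_def (Hb : Subgroup (Qt V)) : coquot V Hb = mpre (cosetHom V) Hb := rfl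

theorem cosetHom_surjective : Function.Surjective (cosetHom V) := QuotientGroup.mk'_surjective _

theorem range_cosetHom : (cosetHom V).range = ⊤ :=
  (cosetHom V).range_eq_top_of_surjective (cosetHom_surjective V)

theorem le_range_cosetHom (Hb : Subgroup (Qt V)) : Hb ≤ (cosetHom V).range :=
  range_cosetHom V ▸ le_top

theorem ker_cosetHom : (cosetHom V).ker = V.subgroupOf (normalizer (V : Set G)) :=
  QuotientGroup.ker_mk' _

theorem cosetHom_eq_one_iff (x : normalizer (V : Set G)) : cosetHom V x = 1 ↔ (x : G) ∈ V := by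
  rw [← MonoidHom.mem_ker, ker_cosetHom, mem_subgroupOf]

theorem mpre_cosetHom_bot : mpre (cosetHom V) ⊥ = V := by
  rw [mpre, MonoidHom.comap_bot, ker_cosetHom, map_subgroupOf_eq_of_le le_normalizer]

theorem coquot_bot : coquot V ⊥ = V := mpre_cosetHom_bot V

theorem coquot_top : coquot V ⊤ = normalizer (V : Set G) := mpre_top _

/-! ### The total coset function -/

variable {V}

theorem coset_of_mem {x : G} (hx : x ∈ normalizer (V : Set G)) :
    coset V x = cosetHom V ⟨x, hx⟩ := dif_pos hx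

theorem coset_coe (x : normalizer (V : Set G)) : coset V x = cosetHom V x := coset_of_mem x.2

theorem coset_one : coset V 1 = 1 := by
  rw [coset_of_mem (one_mem _)]
  exact map_one (cosetHom V)

theorem coset_mul {x y : G} (hx : x ∈ normalizer (V : Set G)) (hy : y ∈ normalizer (V : Set G)) :
    coset V (x * y) = coset V x * coset V y := by
  rw [coset_of_mem hx, coset_of_mem hy, coset_of_mem (mul_mem hx hy), ← map_mul]
  rfl

theorem coset_inv (x : G) : coset V x⁻¹ = (coset V x)⁻¹ := by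
  by_cases hx : x ∈ normalizer (V : Set G)
  · rw [coset_of_mem hx, coset_of_mem (inv_mem hx), ← map_inv]
    rfl
  · have hx' : x⁻¹ ∉ normalizer (V : Set G) := fun h => hx (by simpa using inv_mem h)
    simp [coset, hx, hx']

theorem coset_pow {x : G} (hx : x ∈ normalizer (V : Set G)) (n : ℕ) :
    coset V (x ^ n) = coset V x ^ n := by
  rw [coset_of_mem hx, coset_of_mem (pow_mem hx n), ← map_pow]
  rfl

theorem coset_zpow {x : G} (hx : x ∈ normalizer (V : Set G)) (n : ℤ) :
    coset V (x ^ n) = coset V x ^ n := by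
  rw [coset_of_mem hx, coset_of_mem (zpow_mem hx n), ← map_zpow]
  rfl

theorem coset_conj {x y : G} (hx : x ∈ normalizer (V : Set G)) (hy : y ∈ normalizer (V : Set G)) :
    coset V (x * y * x⁻¹) = coset V x * coset V y * (coset V x)⁻¹ := by
  rw [coset_mul (mul_mem hx hy) (inv_mem hx), coset_mul hx hy, coset_inv]

theorem coset_commutatorElement {x y : G} (hx : x ∈ normalizer (V : Set G))
    (hy : y ∈ normalizer (V : Set G)) : coset V ⁅x, y⁆ = ⁅coset V x, coset V y⁆ := by
  rw [commutatorElement_def, commutatorElement_def,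
    coset_mul (mul_mem (mul_mem hx hy) (inv_mem hx)) (inv_mem hy), coset_conj hx hy, coset_inv]

theorem coset_eq_one_iff {x : G} (hx : x ∈ normalizer (V : Set G)) : coset V x = 1 ↔ x ∈ V := by
  rw [coset_of_mem hx, cosetHom_eq_one_iff]

theorem coset_eq_one {x : G} (hx : x ∈ V) : coset V x = 1 :=
  (coset_eq_one_iff (le_normalizer hx)).2 hx

theorem coset_eq_iff {x y : G} (hx : x ∈ normalizer (V : Set G)) (hy : y ∈ normalizer (V : Set G)) :
    coset V x = coset V y ↔ x⁻¹ * y ∈ V := by
  rw [← coset_eq_one_iff (mul_mem (inv_mem hx) hy), coset_mul (inv_mem hx) hy, coset_inv,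
    inv_mul_eq_one]

theorem coset_eq_iff' {x y : G} (hx : x ∈ normalizer (V : Set G))
    (hy : y ∈ normalizer (V : Set G)) : coset V x = coset V y ↔ x * y⁻¹ ∈ V := by
  rw [← coset_eq_one_iff (mul_mem hx (inv_mem hy)), coset_mul hx (inv_mem hy), coset_inv,
    mul_inv_eq_one]

theorem coset_surj (y : Qt V) : ∃ x ∈ normalizer (V : Set G), coset V x = y := by
  obtain ⟨x, rfl⟩ := cosetHom_surjective V y
  exact ⟨x, x.2, coset_coe x⟩

theorem orderOf_coset_dvd {x : G} (hx : x ∈ normalizer (V : Set G)) :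
    orderOf (coset V x) ∣ orderOf x := by
  rw [orderOf_dvd_iff_pow_eq_one, ← coset_pow hx, pow_orderOf_eq_one, coset_one]

theorem mem_quot {H : Subgroup G} {y : Qt V} :
    y ∈ quot V H ↔ ∃ x ∈ H, x ∈ normalizer (V : Set G) ∧ coset V x = y := by
  rw [quot, mem_mim]
  constructor
  · rintro ⟨x, hx, h1, rfl⟩
    exact ⟨x, h1, hx, coset_of_mem hx⟩
  · rintro ⟨x, h1, hx, rfl⟩
    exact ⟨x, hx, h1, (coset_of_mem hx).symm⟩

theorem coset_mem_quot {H : Subgroup G} {x : G} (hx : x ∈ H) : coset V x ∈ quot V H := by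
  by_cases h : x ∈ normalizer (V : Set G)
  · exact mem_quot.2 ⟨x, hx, h, rfl⟩
  · simp [coset, h]

theorem mem_coquot {Hb : Subgroup (Qt V)} {x : G} :
    x ∈ coquot V Hb ↔ x ∈ normalizer (V : Set G) ∧ coset V x ∈ Hb := by
  rw [coquot, mem_mpre]
  constructor
  · rintro ⟨hx, h⟩
    exact ⟨hx, coset_of_mem hx ▸ h⟩
  · rintro ⟨hx, h⟩
    exact ⟨hx, coset_of_mem hx ▸ h⟩

theorem coset_mem_quot_iff {H : Subgroup G} (hV : V ≤ H) {x : G}
    (hx : x ∈ normalizer (V : Set G)) : coset V x ∈ quot V H ↔ x ∈ H := by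
  refine ⟨fun h => ?_, coset_mem_quot⟩
  obtain ⟨y, hy, hyN, e⟩ := mem_quot.1 h
  have := H.mul_mem hy (hV ((coset_eq_iff hyN hx).1 e))
  simpa using this

/-! ### Order structure -/

variable (V)

theorem quot_mono {H₁ H₂ : Subgroup G} (h : H₁ ≤ H₂) : quot V H₁ ≤ quot V H₂ := mim_mono _ h

theorem coquot_mono {H₁ H₂ : Subgroup (Qt V)} (h : H₁ ≤ H₂) : coquot V H₁ ≤ coquot V H₂ :=
  mpre_mono _ h

theorem coquot_le_normalizer (Hb : Subgroup (Qt V)) : coquot V Hb ≤ normalizer (V : Set G) :=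
  mpre_le _ _

theorem le_coquot (Hb : Subgroup (Qt V)) : V ≤ coquot V Hb :=
  (coquot_bot V).ge.trans (coquot_mono V bot_le)

theorem quot_coquot (Hb : Subgroup (Qt V)) : quot V (coquot V Hb) = Hb :=
  mim_mpre_of_surjective _ (cosetHom_surjective V) Hb

theorem quot_bot : quot V ⊥ = ⊥ := mim_bot _

theorem quot_top : quot V ⊤ = ⊤ := (mim_top _).trans (range_cosetHom V)

theorem quot_normalizer_self : quot V (normalizer (V : Set G)) = ⊤ :=
  (mim_dom _).trans (range_cosetHom V)

theorem quot_inf_normalizer (H : Subgroup G) :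
    quot V (H ⊓ normalizer (V : Set G)) = quot V H := mim_inf_dom _ _

theorem coquot_injective : Function.Injective (coquot V) := fun A B h => by
  rw [← quot_coquot V A, h, quot_coquot]

theorem coquot_le_coquot_iff {A B : Subgroup (Qt V)} : coquot V A ≤ coquot V B ↔ A ≤ B :=
  mpre_le_mpre_iff _ (le_range_cosetHom V A)

theorem coquot_lt_coquot_iff {A B : Subgroup (Qt V)} : coquot V A < coquot V B ↔ A < B := by
  rw [lt_iff_le_not_ge, lt_iff_le_not_ge, coquot_le_coquot_iff, coquot_le_coquot_iff]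

theorem coquot_inf (A B : Subgroup (Qt V)) : coquot V (A ⊓ B) = coquot V A ⊓ coquot V B :=
  mpre_inf _ _ _

theorem coquot_sup (A B : Subgroup (Qt V)) : coquot V (A ⊔ B) = coquot V A ⊔ coquot V B :=
  mpre_sup _ (le_range_cosetHom V A) (le_range_cosetHom V B)

theorem quot_inf_le (H₁ H₂ : Subgroup G) : quot V (H₁ ⊓ H₂) ≤ quot V H₁ ⊓ quot V H₂ :=
  mim_inf_le _ _ _

theorem quot_inf_coquot (H : Subgroup G) (Hb : Subgroup (Qt V)) :
    quot V (H ⊓ coquot V Hb) = quot V H ⊓ Hb := mim_inf_mpre _ _ _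

variable {V}

theorem quot_le_iff {H : Subgroup G} (hH : H ≤ normalizer (V : Set G)) {Hb : Subgroup (Qt V)} :
    quot V H ≤ Hb ↔ H ≤ coquot V Hb := mim_le_iff _ hH

theorem coquot_quot {H : Subgroup G} (hH : H ≤ normalizer (V : Set G)) :
    coquot V (quot V H) = H ⊔ V := by
  rw [coquot, quot, mpre_mim _ hH, mpre_cosetHom_bot]

theorem coquot_quot_of_le {H : Subgroup G} (hH : H ≤ normalizer (V : Set G)) (hV : V ≤ H) :
    coquot V (quot V H) = H := by
  rw [coquot_quot hH, sup_eq_left.2 hV]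

theorem le_coquot_quot {H : Subgroup G} (hH : H ≤ normalizer (V : Set G)) :
    H ≤ coquot V (quot V H) := le_mpre_mim _ hH

theorem coquot_le_of_le_quot {H : Subgroup G} (hV : V ≤ H) {Hb : Subgroup (Qt V)}
    (h : Hb ≤ quot V H) : coquot V Hb ≤ H := fun _ hx =>
  (coset_mem_quot_iff hV (mem_coquot.1 hx).1).1 (h (mem_coquot.1 hx).2)

theorem quot_eq_bot_iff {H : Subgroup G} (hH : H ≤ normalizer (V : Set G)) :
    quot V H = ⊥ ↔ H ≤ V := by
  rw [quot, mim_eq_bot_iff _ hH, mpre_cosetHom_bot]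

theorem quot_eq_bot {H : Subgroup G} (hH : H ≤ V) : quot V H = ⊥ :=
  (quot_eq_bot_iff (hH.trans le_normalizer)).2 hH

theorem quot_self : quot V V = ⊥ := quot_eq_bot le_rfl

theorem quot_le_quot_iff {H₁ H₂ : Subgroup G} (h₁ : H₁ ≤ normalizer (V : Set G))
    (h₂ : H₂ ≤ normalizer (V : Set G)) : quot V H₁ ≤ quot V H₂ ↔ H₁ ≤ H₂ ⊔ V := by
  rw [quot_le_iff h₁, coquot_quot h₂]

theorem quot_le_quot_iff_of_le {H₁ H₂ : Subgroup G} (h₁ : H₁ ≤ normalizer (V : Set G))
    (hV : V ≤ H₂) : quot V H₁ ≤ quot V H₂ ↔ H₁ ≤ H₂ :=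
  mim_le_mim_iff_of_ker_le _ h₁ ((mpre_cosetHom_bot V).le.trans hV)

theorem quot_inj {H₁ H₂ : Subgroup G} (h₁ : H₁ ≤ normalizer (V : Set G))
    (h₂ : H₂ ≤ normalizer (V : Set G)) (k₁ : V ≤ H₁) (k₂ : V ≤ H₂) (h : quot V H₁ = quot V H₂) :
    H₁ = H₂ :=
  le_antisymm ((quot_le_quot_iff_of_le h₁ k₂).1 h.le) ((quot_le_quot_iff_of_le h₂ k₁).1 h.ge)

theorem quot_lt_quot {H₁ H₂ : Subgroup G} (h₂ : H₂ ≤ normalizer (V : Set G)) (k₁ : V ≤ H₁)
    (h : H₁ < H₂) : quot V H₁ < quot V H₂ :=
  lt_of_le_not_ge (quot_mono V h.le) fun h' => h.not_ge ((quot_le_quot_iff_of_le h₂ k₁).1 h')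

/-- Every subgroup of `H / V` is `X / V` for some `V ≤ X ≤ H ⊓ N(V)`. -/
theorem exists_eq_quot {H : Subgroup G} (hV : V ≤ H) {Xb : Subgroup (Qt V)} (h : Xb ≤ quot V H) :
    ∃ X : Subgroup G, V ≤ X ∧ X ≤ H ∧ X ≤ normalizer (V : Set G) ∧ quot V X = Xb :=
  ⟨coquot V Xb, le_coquot V Xb, coquot_le_of_le_quot hV h, coquot_le_normalizer V Xb,
    quot_coquot V Xb⟩

theorem quot_sup {H₁ H₂ : Subgroup G} (h₁ : H₁ ≤ normalizer (V : Set G))
    (h₂ : H₂ ≤ normalizer (V : Set G)) : quot V (H₁ ⊔ H₂) = quot V H₁ ⊔ quot V H₂ :=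
  mim_sup _ h₁ h₂

theorem quot_sup_self {H : Subgroup G} (h : H ≤ normalizer (V : Set G)) :
    quot V (H ⊔ V) = quot V H := by
  rw [quot_sup h le_normalizer, quot_self, sup_bot_eq]

theorem quot_self_sup {H : Subgroup G} (h : H ≤ normalizer (V : Set G)) :
    quot V (V ⊔ H) = quot V H := by
  rw [sup_comm, quot_sup_self h]

theorem quot_iSup {ι : Sort*} {H : ι → Subgroup G} (h : ∀ i, H i ≤ normalizer (V : Set G)) :
    quot V (⨆ i, H i) = ⨆ i, quot V (H i) := mim_iSup _ h

theorem quot_inf_of_le_right (H₁ : Subgroup G) {H₂ : Subgroup G} (hV : V ≤ H₂) :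
    quot V (H₁ ⊓ H₂) = quot V H₁ ⊓ quot V H₂ :=
  mim_inf_of_ker_le _ _ ((mpre_cosetHom_bot V).le.trans hV)

theorem quot_inf_of_le_left {H₁ : Subgroup G} (H₂ : Subgroup G) (hV : V ≤ H₁) :
    quot V (H₁ ⊓ H₂) = quot V H₁ ⊓ quot V H₂ := by
  rw [inf_comm, quot_inf_of_le_right _ hV, inf_comm]

theorem quot_commutator {H₁ H₂ : Subgroup G} (h₁ : H₁ ≤ normalizer (V : Set G))
    (h₂ : H₂ ≤ normalizer (V : Set G)) : quot V ⁅H₁, H₂⁆ = ⁅quot V H₁, quot V H₂⁆ :=
  mim_commutator _ h₁ h₂

theorem quot_zpowers {x : G} (hx : x ∈ normalizer (V : Set G)) :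
    quot V (zpowers x) = zpowers (coset V x) := by
  rw [coset_of_mem hx]
  exact mim_zpowers (cosetHom V) ⟨x, hx⟩

theorem quot_closure {s : Set G} (hs : s ⊆ normalizer (V : Set G)) :
    quot V (closure s) = closure (coset V '' s) := by
  rw [quot, mim_closure _ hs]
  congr 1
  ext y
  constructor
  · rintro ⟨x, hx, rfl⟩
    exact ⟨x, hx, coset_coe x⟩
  · rintro ⟨x, hx, rfl⟩
    exact ⟨⟨x, hs hx⟩, hx, (coset_of_mem (hs hx)).symm⟩

/-! ### Normalizers and centralizers -/

variable (V)

theorem quot_normalizer {A H : Subgroup G} (h : A ≤ normalizer (H : Set G)) :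
    quot V A ≤ normalizer (quot V H : Set (Qt V)) := mim_normalizer _ h

theorem quot_centralizer {A H : Subgroup G} (h : A ≤ centralizer (H : Set G)) :
    quot V A ≤ centralizer (quot V H : Set (Qt V)) := mim_centralizer _ h

theorem quot_inf_centralizer_le (A H : Subgroup G) :
    quot V (A ⊓ centralizer (H : Set G)) ≤ quot V A ⊓ centralizer (quot V H : Set (Qt V)) :=
  mim_inf_centralizer_le _ _ _

theorem quot_inf_normalizer_le (A H : Subgroup G) :
    quot V (A ⊓ normalizer (H : Set G)) ≤ quot V A ⊓ normalizer (quot V H : Set (Qt V)) :=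
  mim_inf_normalizer_le _ _ _

theorem coquot_normalizer {A H : Subgroup (Qt V)} (h : A ≤ normalizer (H : Set (Qt V))) :
    coquot V A ≤ normalizer (coquot V H : Set G) := mpre_normalizer _ h

variable {V}

theorem quot_centralizer_singleton {A : Subgroup G} {x : G} (hx : x ∈ normalizer (V : Set G))
    (h : A ≤ centralizer {x}) : quot V A ≤ centralizer {coset V x} := by
  rw [coset_of_mem hx]
  exact mim_centralizer_singleton (cosetHom V) ⟨x, hx⟩ h

theorem le_normalizer_coquot {A : Subgroup G} (hA : A ≤ normalizer (V : Set G))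
    {H : Subgroup (Qt V)} (h : quot V A ≤ normalizer (H : Set (Qt V))) :
    A ≤ normalizer (coquot V H : Set G) := le_normalizer_mpre _ hA h

theorem quot_le_normalizer_iff {A H : Subgroup G} (hA : A ≤ normalizer (V : Set G))
    (hH : H ≤ normalizer (V : Set G)) (hV : V ≤ H) :
    quot V A ≤ normalizer (quot V H : Set (Qt V)) ↔ A ≤ normalizer (H : Set G) := by
  refine ⟨fun h => ?_, quot_normalizer V⟩
  have := le_normalizer_coquot hA h
  rwa [coquot_quot_of_le hH hV] at this

theorem quot_le_centralizer_iff {A H : Subgroup G} (hA : A ≤ normalizer (V : Set G))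
    (hH : H ≤ normalizer (V : Set G)) :
    quot V A ≤ centralizer (quot V H : Set (Qt V)) ↔ ⁅A, H⁆ ≤ V := by
  rw [quot, quot, mim_le_centralizer_iff _ hA hH, mpre_cosetHom_bot]

/-- `N(H) / V = N(H / V)` when `V ≤ H ≤ N(V)`. -/
theorem quot_normalizer_eq {H : Subgroup G} (hH : H ≤ normalizer (V : Set G)) (hV : V ≤ H) :
    quot V (normalizer (H : Set G)) = normalizer (quot V H : Set (Qt V)) := by
  refine le_antisymm (quot_normalizer V le_rfl) ?_
  rw [← quot_coquot V (normalizer (quot V H : Set (Qt V)))]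
  refine quot_mono V ((quot_le_normalizer_iff (coquot_le_normalizer V _) hH hV).1 ?_)
  rw [quot_coquot]

theorem quot_normal {H : Subgroup G} (h : normalizer (V : Set G) ≤ normalizer (H : Set G)) :
    (quot V H).Normal := mim_normal_of_surjective _ (cosetHom_surjective V) h

theorem normalizer_le_normalizer_coquot {Hb : Subgroup (Qt V)} (h : Hb.Normal) :
    normalizer (V : Set G) ≤ normalizer (coquot V Hb : Set G) :=
  le_normalizer_coquot le_rfl le_normalizer_of_normal

/-! ### Cardinalities -/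

theorem card_quot {H : Subgroup G} (h : H ≤ normalizer (V : Set G)) :
    Nat.card (quot V H) = V.relIndex H := by
  rw [quot, card_mim _ h, mpre_cosetHom_bot]

theorem card_mul_relIndex {A B : Subgroup G} (h : A ≤ B) :
    Nat.card A * A.relIndex B = Nat.card B := by
  rw [← relIndex_bot_left, ← relIndex_bot_left, relIndex_mul_relIndex _ _ _ bot_le h]

theorem card_inf_mul_relIndex (A B : Subgroup G) :
    Nat.card (A ⊓ B : Subgroup G) * A.relIndex B = Nat.card B := by
  rw [← inf_relIndex_right, card_mul_relIndex inf_le_right]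

theorem card_mul_card_quot {H : Subgroup G} (h : H ≤ normalizer (V : Set G)) (hV : V ≤ H) :
    Nat.card V * Nat.card (quot V H) = Nat.card H := by
  rw [card_quot h, card_mul_relIndex hV]

theorem card_inf_mul_card_quot {H : Subgroup G} (h : H ≤ normalizer (V : Set G)) :
    Nat.card (V ⊓ H : Subgroup G) * Nat.card (quot V H) = Nat.card H := by
  rw [card_quot h, card_inf_mul_relIndex]

theorem card_quot_of_disjoint {H : Subgroup G} (h : H ≤ normalizer (V : Set G)) (hd : V ⊓ H = ⊥) :
    Nat.card (quot V H) = Nat.card H := by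
  rw [← card_inf_mul_card_quot h, hd, card_bot, one_mul]

variable (V) in
theorem card_quot_dvd (H : Subgroup G) : Nat.card (quot V H) ∣ Nat.card H := card_mim_dvd _ _

variable (V) in
theorem card_coquot (Hb : Subgroup (Qt V)) : Nat.card (coquot V Hb) = Nat.card V * Nat.card Hb := by
  rw [coquot, card_mpre _ (le_range_cosetHom V Hb), mpre_cosetHom_bot]

theorem card_quot_lt [Finite G] {H : Subgroup G} (h : H ≤ normalizer (V : Set G))
    (hV : V ⊓ H ≠ ⊥) : Nat.card (quot V H) < Nat.card H := by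
  rw [← card_inf_mul_card_quot h]
  have h1 : 1 < Nat.card (V ⊓ H : Subgroup G) := (one_lt_card_iff_ne_bot _).2 hV
  have h2 : 0 < Nat.card (quot V H) := Nat.card_pos
  nlinarith

theorem relIndex_quot {A B : Subgroup G} (hB : B ≤ normalizer (V : Set G)) (hV : V ≤ A) :
    (quot V A).relIndex (quot V B) = A.relIndex B :=
  relIndex_mim_of_ker_le _ hB ((mpre_cosetHom_bot V).le.trans hV)

theorem relIndex_quot_dvd {A B : Subgroup G} (hAB : A ≤ B) (hB : B ≤ normalizer (V : Set G)) :
    (quot V A).relIndex (quot V B) ∣ A.relIndex B := relIndex_mim_dvd _ hAB hB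

variable (V) in
theorem relIndex_coquot (A B : Subgroup (Qt V)) :
    (coquot V A).relIndex (coquot V B) = A.relIndex B := relIndex_mpre _ (le_range_cosetHom V B)

/-! ### Isomorphisms -/

/-- The surjection `H → H / V`. -/
def quotHom {H : Subgroup G} (h : H ≤ normalizer (V : Set G)) : H →* quot V H := mimHom _ h

theorem coe_quotHom {H : Subgroup G} (h : H ≤ normalizer (V : Set G)) (x : H) :
    (quotHom h x : Qt V) = coset V x := (coset_of_mem (h x.2)).symm

theorem quotHom_surjective {H : Subgroup G} (h : H ≤ normalizer (V : Set G)) :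
    Function.Surjective (quotHom h) := mimHom_surjective _ h

theorem ker_quotHom {H : Subgroup G} (h : H ≤ normalizer (V : Set G)) :
    (quotHom h).ker = V.subgroupOf H := by
  have := ker_mimHom (cosetHom V) h
  rw [mpre_cosetHom_bot] at this
  exact this

/-- `H / V` is isomorphic to the Mathlib quotient `H ⧸ V.subgroupOf H`. -/
noncomputable def quotEquiv {H : Subgroup G} (h : H ≤ normalizer (V : Set G))
    [(V.subgroupOf H).Normal] : (H ⧸ V.subgroupOf H) ≃* quot V H :=
  (QuotientGroup.quotientMulEquivOfEq (ker_quotHom h).symm).trans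
    (QuotientGroup.quotientKerEquivOfSurjective _ (quotHom_surjective h))

theorem coe_quotEquiv_mk {H : Subgroup G} (h : H ≤ normalizer (V : Set G))
    [(V.subgroupOf H).Normal] (x : H) :
    ((quotEquiv h (QuotientGroup.mk x) : quot V H) : Qt V) = coset V x := coe_quotHom h x

/-- If `H` normalizes `V` and meets it trivially then `H ≃ H / V`. -/
noncomputable def quotEquivOfDisjoint {H : Subgroup G} (h : H ≤ normalizer (V : Set G))
    (hd : V ⊓ H = ⊥) : H ≃* quot V H :=
  MulEquiv.ofBijective (quotHom h) ⟨by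
    rw [← MonoidHom.ker_eq_bot_iff, ker_quotHom, subgroupOf_eq_bot, disjoint_iff, hd],
    quotHom_surjective h⟩

/-! ### Transfer of properties -/

variable (V)

theorem quot_isPGroup {p : ℕ} {H : Subgroup G} (h : IsPGroup p H) : IsPGroup p (quot V H) :=
  mim_isPGroup _ h

theorem quot_isMulCommutative {H : Subgroup G} (h : IsMulCommutative H) :
    IsMulCommutative (quot V H) := mim_isMulCommutative _ h

theorem quot_isCyclic {H : Subgroup G} (h : IsCyclic H) : IsCyclic (quot V H) := mim_isCyclic _ h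

theorem quot_isSolvable {H : Subgroup G} (h : Group.IsSolvable H) :
    Group.IsSolvable (quot V H) := mim_isSolvable _ h

theorem quot_isNilpotent {H : Subgroup G} (h : Group.IsNilpotent H) :
    Group.IsNilpotent (quot V H) := mim_isNilpotent _ h

theorem quot_isElementaryAbelian {p : ℕ} {H : Subgroup G} (h : Cfsg.IsElementaryAbelian p H) :
    Cfsg.IsElementaryAbelian p (quot V H) := mim_isElementaryAbelian _ h

theorem quot_odd {H : Subgroup G} (h : Odd (Nat.card H)) : Odd (Nat.card (quot V H)) :=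
  h.of_dvd_nat (card_quot_dvd V H)

theorem quot_coprime {A B : Subgroup G} (h : (Nat.card A).Coprime (Nat.card B)) :
    (Nat.card (quot V A)).Coprime (Nat.card (quot V B)) :=
  (h.coprime_dvd_left (card_quot_dvd V A)).coprime_dvd_right (card_quot_dvd V B)

theorem quot_coprime_left {A : Subgroup G} {n : ℕ} (h : (Nat.card A).Coprime n) :
    (Nat.card (quot V A)).Coprime n := h.coprime_dvd_left (card_quot_dvd V A)

variable {V}

theorem coquot_isPGroup {p : ℕ} {Hb : Subgroup (Qt V)} (h : IsPGroup p Hb) (hV : IsPGroup p V) :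
    IsPGroup p (coquot V Hb) := mpre_isPGroup _ h ((mpre_cosetHom_bot V).symm ▸ hV)

theorem coquot_isSolvable {Hb : Subgroup (Qt V)} (h : Group.IsSolvable Hb)
    (hV : Group.IsSolvable V) : Group.IsSolvable (coquot V Hb) :=
  mpre_isSolvable _ h ((mpre_cosetHom_bot V).symm ▸ hV)

theorem isPGroup_of_quot {p : ℕ} {H : Subgroup G} (hH : H ≤ normalizer (V : Set G))
    (h : IsPGroup p (quot V H)) (hV : IsPGroup p V) : IsPGroup p H :=
  (coquot_isPGroup h hV).to_le (le_coquot_quot hH)

theorem isSolvable_of_quot {H : Subgroup G} (hH : H ≤ normalizer (V : Set G))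
    (h : Group.IsSolvable (quot V H)) (hV : Group.IsSolvable V) : Group.IsSolvable H := by
  have := coquot_isSolvable h hV
  exact Group.isSolvable_of_isSolvable_injective (inclusion_injective (le_coquot_quot hH))

theorem quot_isMulCommutative_iff {H : Subgroup G} (hH : H ≤ normalizer (V : Set G)) :
    IsMulCommutative (quot V H) ↔ ⁅H, H⁆ ≤ V := by
  rw [quot, mim_isMulCommutative_iff _ hH, mpre_cosetHom_bot]

theorem quot_isElementaryAbelian_iff {p : ℕ} {H : Subgroup G} (hH : H ≤ normalizer (V : Set G)) :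
    Cfsg.IsElementaryAbelian p (quot V H) ↔ ⁅H, H⁆ ≤ V ∧ ∀ x ∈ H, x ^ p ∈ V := by
  rw [Cfsg.IsElementaryAbelian, quot_isMulCommutative_iff hH]
  refine and_congr_right fun _ => ⟨fun h x hx => ?_, fun h y hy => ?_⟩
  · rw [← coset_eq_one_iff (pow_mem (hH hx) p), coset_pow (hH hx)]
    exact h _ (coset_mem_quot hx)
  · obtain ⟨x, hx, hxN, rfl⟩ := mem_quot.1 hy
    rw [← coset_pow hxN]
    exact coset_eq_one (h x hx)

theorem quot_omegaOne_le (p : ℕ) {H : Subgroup G} (hH : H ≤ normalizer (V : Set G)) :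
    quot V (Cfsg.omegaOne p H) ≤ Cfsg.omegaOne p (quot V H) := mim_omegaOne_le _ p hH

/-- If `H / V` is cyclic then `H = V ⊔ ⟨x⟩` for some `x ∈ H`. -/
theorem exists_zpowers_sup_of_isCyclic_quot {H : Subgroup G} (hH : H ≤ normalizer (V : Set G))
    (h : IsCyclic (quot V H)) : ∃ x ∈ H, H ≤ zpowers x ⊔ V := by
  obtain ⟨y, hy⟩ := (Subgroup.isCyclic_iff_exists_zpowers_eq_top (quot V H)).1 h
  have hy' : y ∈ quot V H := hy ▸ mem_zpowers y
  obtain ⟨x, hx, hxN, rfl⟩ := mem_quot.1 hy'
  refine ⟨x, hx, ?_⟩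
  rw [← quot_le_quot_iff hH (zpowers_le_of_mem hxN), quot_zpowers hxN, hy]

/-- If `V ⊓ H` is central in `H` and `H / V` is cyclic then `H` is abelian. -/
theorem isMulCommutative_of_isCyclic_quot {H : Subgroup G} (hH : H ≤ normalizer (V : Set G))
    (hc : V ⊓ H ≤ centralizer (H : Set G)) (h : IsCyclic (quot V H)) : IsMulCommutative H := by
  refine MonoidHom.isMulCommutative_of_isCyclic_of_ker_le_center (quotHom hH) ?_
  rw [ker_quotHom]
  intro x hx
  rw [mem_center_iff]
  intro g
  exact Subtype.ext (hc ⟨hx, x.2⟩ g g.2)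

end CL.BG
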