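import Cfsg.Agent.BG.Defs
import Cfsg.Agent.BG.Quot
import Cfsg.Agent.Auto.ACL_BG_cj_c0cbb7

/-!
# Conjugate subgroups, normalisers, centralisers, `NormalIn`, transport along injective maps
-/

namespace CL.BG

open Cfsg Subgroup

variable {G G' : Type*} [Group G] [Group G'] {H K L N A B X Y : Subgroup G} {g h x y : G}

/-! ### centralisers and normalisers -/

theorem mem_cent1 : y ∈ 𝐂₁(x) ↔ y * x = x * y := mem_centralizer_singleton_iff

theorem mem_cent1_comm : y ∈ 𝐂₁(x) ↔ x ∈ 𝐂₁(y) := by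
  rw [mem_cent1, mem_cent1, eq_comm]

theorem mem_cent1_self (x : G) : x ∈ 𝐂₁(x) := mem_cent1.2 rfl

theorem mem_cent : x ∈ 𝐂(A) ↔ ∀ a ∈ A, a * x = x * a := mem_centralizer_iff

theorem le_cent_iff : H ≤ 𝐂(A) ↔ ∀ h ∈ H, ∀ a ∈ A, a * h = h * a := Iff.rfl

theorem cent_symm (h : H ≤ 𝐂(K)) : K ≤ 𝐂(H) := le_centralizer_iff.1 h

theorem cent_anti (h : A ≤ B) : 𝐂(B) ≤ 𝐂(A) := centralizer_le h

theorem cent_le_cent1 (hx : x ∈ A) : 𝐂(A) ≤ 𝐂₁(x) :=
  centralizer_le (Set.singleton_subset_iff.2 hx)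

theorem cent_zpowers (x : G) : 𝐂(zpowers x) = 𝐂₁(x) := by
  rw [zpowers_eq_closure, centralizer_closure]

theorem le_cent1_iff : H ≤ 𝐂₁(x) ↔ x ∈ 𝐂(H) := by
  rw [← cent_zpowers, le_centralizer_iff, zpowers_le]

theorem cent_bot : 𝐂((⊥ : Subgroup G)) = ⊤ := by
  rw [eq_top_iff]; intro x _; rw [mem_cent]; intro a ha; rw [mem_bot.1 ha]; simp

theorem cent1_one : 𝐂₁((1 : G)) = ⊤ := by
  rw [eq_top_iff]; intro x _; rw [mem_cent1]; simp

theorem cent_top : 𝐂((⊤ : Subgroup G)) = center G := centralizer_univ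

theorem cent_sup (A B : Subgroup G) : 𝐂(A ⊔ B) = 𝐂(A) ⊓ 𝐂(B) := by
  apply le_antisymm (le_inf (cent_anti le_sup_left) (cent_anti le_sup_right))
  exact cent_symm (sup_le (cent_symm inf_le_left) (cent_symm inf_le_right))

theorem cent_le_norm (A : Subgroup G) : 𝐂(A) ≤ 𝐍(A) := centralizer_le_normalizer _

theorem le_norm_self (A : Subgroup G) : A ≤ 𝐍(A) := le_normalizer

theorem le_norm_of_le (h : H ≤ A) : H ≤ 𝐍(A) := h.trans le_normalizer

theorem le_norm_of_le_cent (h : H ≤ 𝐂(A)) : H ≤ 𝐍(A) := h.trans (cent_le_norm A)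

theorem norm_bot : 𝐍((⊥ : Subgroup G)) = ⊤ := normalizer_eq_top _

theorem norm_top : 𝐍((⊤ : Subgroup G)) = ⊤ := normalizer_eq_top _

theorem conj_mem_of_mem_norm (hg : g ∈ 𝐍(A)) (hx : x ∈ A) : g * x * g⁻¹ ∈ A :=
  (mem_normalizer_iff.1 hg x).1 hx

theorem conj_mem_of_mem_norm' (hg : g ∈ 𝐍(A)) (hx : x ∈ A) : g⁻¹ * x * g ∈ A :=
  (mem_normalizer_iff''.1 hg x).1 hx

theorem comm_iff_le_cent : IsMulCommutative A ↔ A ≤ 𝐂(A) :=
  le_centralizer_iff_isMulCommutative.symm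

theorem le_cent_of_comm (h : IsMulCommutative A) : A ≤ 𝐂(A) := comm_iff_le_cent.1 h

theorem comm_of_le (h : IsMulCommutative A) (hB : B ≤ A) : IsMulCommutative B :=
  comm_iff_le_cent.2 (hB.trans ((le_cent_of_comm h).trans (cent_anti hB)))

/-- in an abelian subgroup any two subgroups centralise each other -/
theorem le_cent_of_comm_of_le (h : IsMulCommutative A) (hX : X ≤ A) (hY : Y ≤ A) : X ≤ 𝐂(Y) :=
  hX.trans ((le_cent_of_comm h).trans (cent_anti hY))

theorem comm_sup (hA : IsMulCommutative A) (hB : IsMulCommutative B) (h : B ≤ 𝐂(A)) :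
    IsMulCommutative ↥(A ⊔ B) := by
  rw [comm_iff_le_cent] at *
  rw [cent_sup]
  exact sup_le (le_inf hA (cent_symm h)) (le_inf h hB)

theorem comm_center (H : Subgroup G) : IsMulCommutative ↥𝐙(H) :=
  comm_iff_le_cent.2 (inf_le_right.trans (cent_anti inf_le_left))

theorem comm_of_isCyclic (h : IsCyclic A) : IsMulCommutative A :=
  ⟨⟨fun a b => by let := @IsCyclic.commGroup A _ h; exact mul_comm a b⟩⟩

theorem center_eq_self_of_comm (h : IsMulCommutative A) : 𝐙(A) = A :=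
  inf_eq_left.2 (le_cent_of_comm h)

theorem map_center_subtype (H : Subgroup G) : (center H).map H.subtype = 𝐙(H) := by
  ext x
  simp only [mem_map, mem_center_iff, mem_inf, mem_cent, coe_subtype]
  constructor
  · rintro ⟨y, hy, rfl⟩
    exact ⟨y.2, fun a ha => congrArg Subtype.val (hy ⟨a, ha⟩)⟩
  · rintro ⟨hx, h⟩
    exact ⟨⟨x, hx⟩, fun a => Subtype.ext (h a a.2), rfl⟩

theorem commutator_eq_bot_iff' : ⁅H, K⁆ = ⊥ ↔ H ≤ 𝐂(K) := commutator_eq_bot_iff_le_centralizer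

theorem commutator_eq_bot_iff'' : ⁅H, K⁆ = ⊥ ↔ K ≤ 𝐂(H) := by
  rw [commutator_comm, commutator_eq_bot_iff_le_centralizer]

theorem commutator_le_left_of_norm (h : A ≤ 𝐍(H)) : ⁅H, A⁆ ≤ H :=
  le_normalizer_iff_commutator_le_left.1 h

theorem commutator_le_right_of_norm (h : A ≤ 𝐍(H)) : ⁅A, H⁆ ≤ H :=
  le_normalizer_iff_commutator_le_right.1 h

/-- two subgroups normalising each other with trivial intersection centralise each other -/
theorem le_cent_of_norm_of_disj (hHK : H ≤ 𝐍(K)) (hKH : K ≤ 𝐍(H)) (h : H ⊓ K = ⊥) :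
    H ≤ 𝐂(K) := by
  rw [← commutator_eq_bot_iff', eq_bot_iff, ← h]
  exact le_inf (commutator_le_left_of_norm hKH) (commutator_le_right_of_norm hHK)

/-- an overgroup of `⁅H, A⁆` inside `H` is normalised by `A` -/
theorem le_norm_of_commutator_le (hX : X ≤ H) (h : ⁅H, A⁆ ≤ X) : A ≤ 𝐍(X) :=
  le_normalizer_iff_commutator_le_left.2 ((commutator_mono hX le_rfl).trans h)

theorem mem_sup_iff_of_norm (h : H ≤ 𝐍(K)) :
    x ∈ K ⊔ H ↔ ∃ k ∈ K, ∃ y ∈ H, k * y = x := by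
  rw [← SetLike.mem_coe, coe_mul_of_right_le_normalizer_left K H h, Set.mem_mul]; rfl

theorem mem_sup_iff_of_norm' (h : H ≤ 𝐍(K)) :
    x ∈ H ⊔ K ↔ ∃ y ∈ H, ∃ k ∈ K, y * k = x := by
  rw [← SetLike.mem_coe, coe_mul_of_left_le_normalizer_right H K h, Set.mem_mul]; rfl

/-- Dedekind's modular law when `H` normalises `K` or `K` normalises `H`. -/
theorem sup_inf_modular (hn : H ≤ 𝐍(K) ∨ K ≤ 𝐍(H)) (hKL : K ≤ L) :
    (K ⊔ H) ⊓ L = K ⊔ (H ⊓ L) := by
  apply le_antisymm _ (sup_le (le_inf le_sup_left hKL) (inf_le_inf_right _ le_sup_right))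
  rintro x ⟨hx, hxL⟩
  have : ∃ k ∈ K, ∃ y ∈ H, k * y = x := by
    rcases hn with hn | hn
    · exact (mem_sup_iff_of_norm hn).1 hx
    · exact (mem_sup_iff_of_norm' hn).1 hx
  obtain ⟨k, hk, y, hy, rfl⟩ := this
  exact mul_mem (mem_sup_left hk)
    (mem_sup_right ⟨hy, (L.mul_mem_cancel_left (hKL hk)).1 hxL⟩)

/-- Dedekind's modular law, other side. -/
theorem sup_inf_modular' (hn : H ≤ 𝐍(K) ∨ K ≤ 𝐍(H)) (hHL : H ≤ L) :
    (K ⊔ H) ⊓ L = (K ⊓ L) ⊔ H := by
  rw [sup_comm K H, sup_inf_modular hn.symm hHL, sup_comm]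

/-! ### conjugate subgroups -/

theorem cj_def (g : G) (H : Subgroup G) : cj g H = H.map (MulAut.conj g).toMonoidHom := rfl

open Pointwise in
theorem cj_eq_smul (g : G) (H : Subgroup G) : cj g H = MulAut.conj g • H := rfl

theorem conj_injective (g : G) : Function.Injective (MulAut.conj g).toMonoidHom :=
  (MulAut.conj g).injective

theorem conj_bijective (g : G) : Function.Bijective (MulAut.conj g).toMonoidHom :=
  (MulAut.conj g).bijective

theorem mem_cj : x ∈ cj g H ↔ g⁻¹ * x * g ∈ H := by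
  constructor
  · rintro ⟨y, hy, rfl⟩
    simpa [mul_assoc] using hy
  · intro h
    exact ⟨_, h, by simp [mul_assoc]⟩

theorem mem_cj' : x ∈ cj g H ↔ ∃ y ∈ H, g * y * g⁻¹ = x := Iff.rfl

theorem conj_mem_cj : g * x * g⁻¹ ∈ cj g H ↔ x ∈ H := by
  rw [mem_cj]; simp [mul_assoc]

theorem cj_le_iff : cj g H ≤ K ↔ ∀ x ∈ H, g * x * g⁻¹ ∈ K := map_le_iff_le_comap

theorem cj_one (H : Subgroup G) : cj 1 H = H := by ext x; simp [mem_cj]

theorem cj_mul (g h : G) (H : Subgroup G) : cj (g * h) H = cj g (cj h H) := by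
  ext x; simp [mem_cj, mul_assoc]

theorem cj_cj (g h : G) (H : Subgroup G) : cj g (cj h H) = cj (g * h) H := (cj_mul g h H).symm

theorem cj_inv_cj (g : G) (H : Subgroup G) : cj g⁻¹ (cj g H) = H := by
  rw [cj_cj, inv_mul_cancel, cj_one]

theorem cj_cj_inv (g : G) (H : Subgroup G) : cj g (cj g⁻¹ H) = H := by
  rw [cj_cj, mul_inv_cancel, cj_one]

theorem cj_mono (g : G) (h : H ≤ K) : cj g H ≤ cj g K := map_mono h

theorem cj_le_cj_iff : cj g H ≤ cj g K ↔ H ≤ K := map_le_map_iff_of_injective (conj_injective g)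

theorem cj_injective (g : G) : Function.Injective (cj g) := map_injective (conj_injective g)

theorem cj_inj : cj g H = cj g K ↔ H = K := (cj_injective g).eq_iff

theorem cj_lt_cj_iff : cj g H < cj g K ↔ H < K := by
  rw [lt_iff_le_and_ne, lt_iff_le_and_ne, cj_le_cj_iff, Ne, cj_inj]

theorem cj_le_iff_le_cj_inv : cj g H ≤ K ↔ H ≤ cj g⁻¹ K := by
  rw [← cj_le_cj_iff (g := g⁻¹), cj_inv_cj]

theorem le_cj_iff_cj_inv_le : H ≤ cj g K ↔ cj g⁻¹ H ≤ K := by
  rw [← cj_le_cj_iff (g := g⁻¹), cj_inv_cj]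

theorem cj_eq_iff_eq_cj_inv : cj g H = K ↔ H = cj g⁻¹ K := by
  rw [← cj_inj (g := g⁻¹), cj_inv_cj]

theorem cj_bot (g : G) : cj g (⊥ : Subgroup G) = ⊥ := map_bot _

theorem cj_top (g : G) : cj g (⊤ : Subgroup G) = ⊤ :=
  map_top_of_surjective _ (MulAut.conj g).surjective

theorem cj_eq_bot_iff : cj g H = ⊥ ↔ H = ⊥ := map_eq_bot_iff_of_injective _ (conj_injective g)

theorem cj_eq_top_iff : cj g H = ⊤ ↔ H = ⊤ := by
  conv_lhs => rw [← cj_top g]
  exact cj_inj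

theorem cj_inf (g : G) (H K : Subgroup G) : cj g (H ⊓ K) = cj g H ⊓ cj g K :=
  map_inf _ _ _ (conj_injective g)

theorem cj_sup (g : G) (H K : Subgroup G) : cj g (H ⊔ K) = cj g H ⊔ cj g K := map_sup _ _ _

theorem cj_commutator (g : G) (H K : Subgroup G) : cj g ⁅H, K⁆ = ⁅cj g H, cj g K⁆ :=
  map_commutator _ _ _

theorem cj_zpowers (g x : G) : cj g (zpowers x) = zpowers (g * x * g⁻¹) :=
  MonoidHom.map_zpowers _ _

theorem cj_closure (g : G) (s : Set G) :
    cj g (closure s) = closure ((fun x => g * x * g⁻¹) '' s) := MonoidHom.map_closure _ _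

theorem card_cj (g : G) (H : Subgroup G) : Nat.card (cj g H) = Nat.card H :=
  card_map_of_injective (conj_injective g)

theorem relIndex_cj (g : G) (H K : Subgroup G) : (cj g H).relIndex (cj g K) = H.relIndex K :=
  relIndex_map_map_of_injective H K (conj_injective g)

theorem index_cj (g : G) (H : Subgroup G) : (cj g H).index = H.index :=
  index_map_of_bijective (conj_bijective g) H

theorem cj_eq_iff_mem_norm : cj g H = H ↔ g ∈ 𝐍(H) := mem_normalizer_iff_map_conj_eq.symm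

theorem cj_eq_of_mem_norm (h : g ∈ 𝐍(H)) : cj g H = H := cj_eq_iff_mem_norm.2 h

theorem cj_eq_of_mem (h : g ∈ H) : cj g H = H := cj_eq_of_mem_norm (le_normalizer h)

theorem cj_eq_of_mem_cent (h : g ∈ 𝐂(H)) : cj g H = H := cj_eq_of_mem_norm (cent_le_norm H h)

theorem mem_norm_of_cj_le [Finite G] (h : cj g H ≤ H) : g ∈ 𝐍(H) :=
  cj_eq_iff_mem_norm.1 (eq_of_le_of_card_ge h (card_cj g H).ge)

theorem cj_le_of_mem (hg : g ∈ K) (h : H ≤ K) : cj g H ≤ K :=
  (cj_mono g h).trans (cj_eq_of_mem hg).le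

theorem cj_le_of_mem_norm (hg : g ∈ 𝐍(K)) (h : H ≤ K) : cj g H ≤ K :=
  (cj_mono g h).trans (cj_eq_of_mem_norm hg).le

theorem cj_norm (g : G) (H : Subgroup G) : cj g 𝐍(H) = 𝐍(cj g H) :=
  map_normalizer_eq_of_bijective H (conj_bijective g)

theorem cj_cent (g : G) (H : Subgroup G) : cj g 𝐂(H) = 𝐂(cj g H) := by
  ext x
  simp only [mem_cj, mem_cent]
  constructor
  · intro h a ha
    have := h _ ha
    have h2 : g * (g⁻¹ * a * g * (g⁻¹ * x * g)) * g⁻¹ = g * (g⁻¹ * x * g * (g⁻¹ * a * g)) * g⁻¹ := by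
      rw [this]
    simpa [mul_assoc] using h2
  · intro h a ha
    have := h (g * a * g⁻¹) (by simpa [mul_assoc] using ha)
    have h2 : g⁻¹ * (g * a * g⁻¹ * x) * g = g⁻¹ * (x * (g * a * g⁻¹)) * g := by rw [this]
    simpa [mul_assoc] using h2

theorem cj_cent1 (g x : G) : cj g 𝐂₁(x) = 𝐂₁(g * x * g⁻¹) := by
  rw [← cent_zpowers, ← cent_zpowers, cj_cent, cj_zpowers]

theorem cj_center (g : G) (H : Subgroup G) : cj g 𝐙(H) = 𝐙(cj g H) := by
  rw [cj_inf, cj_cent]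

/-- the isomorphism `H ≃* g H g⁻¹` -/
noncomputable def cjEquiv (g : G) (H : Subgroup G) : H ≃* cj g H :=
  H.equivMapOfInjective _ (conj_injective g)

/-- A construction commuting with conjugation is normalised by the normaliser of its argument. -/
theorem norm_le_norm_of_cj {F : Subgroup G → Subgroup G} (hF : ∀ g H, cj g (F H) = F (cj g H))
    (H : Subgroup G) : 𝐍(H) ≤ 𝐍(F H) := fun g hg =>
  cj_eq_iff_mem_norm.1 (by rw [hF, cj_eq_of_mem_norm hg])

theorem norm_le_norm_cent (H : Subgroup G) : 𝐍(H) ≤ 𝐍(𝐂(H)) :=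
  norm_le_norm_of_cj (F := fun H => 𝐂(H)) cj_cent H

theorem norm_le_norm_norm (H : Subgroup G) : 𝐍(H) ≤ 𝐍(𝐍(H)) := le_normalizer

theorem norm_le_norm_center (H : Subgroup G) : 𝐍(H) ≤ 𝐍(𝐙(H)) :=
  norm_le_norm_of_cj (F := fun H => 𝐙(H)) cj_center H

theorem norm_le_norm_der (H : Subgroup G) : 𝐍(H) ≤ 𝐍(⁅H, H⁆) :=
  norm_le_norm_of_cj (F := fun H => ⁅H, H⁆) (fun g H => cj_commutator g H H) H

theorem norms_inf (hH : A ≤ 𝐍(H)) (hK : A ≤ 𝐍(K)) : A ≤ 𝐍(H ⊓ K) :=
  (le_inf hH hK).trans inf_normalizer_le_normalizer_inf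

theorem norms_sup (hH : A ≤ 𝐍(H)) (hK : A ≤ 𝐍(K)) : A ≤ 𝐍(H ⊔ K) :=
  (le_inf hH hK).trans (normalizer_inf_normalizer_le_normalizer_sup H K)

theorem norms_commutator (hH : A ≤ 𝐍(H)) (hK : A ≤ 𝐍(K)) : A ≤ 𝐍(⁅H, K⁆) := fun g hg =>
  cj_eq_iff_mem_norm.1 (by
    rw [cj_commutator, cj_eq_of_mem_norm (hH hg), cj_eq_of_mem_norm (hK hg)])

theorem norms_cent (hH : A ≤ 𝐍(H)) : A ≤ 𝐍(𝐂(H)) := hH.trans (norm_le_norm_cent H)

theorem norms_norm (hH : A ≤ 𝐍(H)) : A ≤ 𝐍(𝐍(H)) := hH.trans le_normalizer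

theorem norms_center (hH : A ≤ 𝐍(H)) : A ≤ 𝐍(𝐙(H)) := hH.trans (norm_le_norm_center H)

theorem norms_der (hH : A ≤ 𝐍(H)) : A ≤ 𝐍(⁅H, H⁆) := hH.trans (norm_le_norm_der H)

theorem norms_cent1 (hx : A ≤ 𝐂₁(x)) : A ≤ 𝐍(𝐂₁(x)) := le_norm_of_le hx

/-- `A` normalises `C_H(K)` when it normalises `H` and `K` -/
theorem norms_inf_cent (hH : A ≤ 𝐍(H)) (hK : A ≤ 𝐍(K)) : A ≤ 𝐍(H ⊓ 𝐂(K)) :=
  norms_inf hH (norms_cent hK)

/-- `A` normalises `N_H(K)` when it normalises `H` and `K` -/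
theorem norms_inf_norm (hH : A ≤ 𝐍(H)) (hK : A ≤ 𝐍(K)) : A ≤ 𝐍(H ⊓ 𝐍(K)) :=
  norms_inf hH (norms_norm hK)

theorem norms_iInf {ι : Sort*} {F : ι → Subgroup G} (h : ∀ i, A ≤ 𝐍(F i)) : A ≤ 𝐍(⨅ i, F i) :=
  (le_iInf h).trans (iInf_normalizer_le_normalizer_iInf F)

theorem norms_iSup {ι : Sort*} {F : ι → Subgroup G} (h : ∀ i, A ≤ 𝐍(F i)) : A ≤ 𝐍(⨆ i, F i) :=
  (le_iInf h).trans (iInf_normalizer_le_normalizer_iSup F)

theorem cj_sSup (g : G) (S : Set (Subgroup G)) : cj g (sSup S) = sSup (cj g '' S) := by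
  rw [sSup_image, sSup_eq_iSup]
  simp only [cj, Subgroup.map_iSup]

/-- the join of a family of subgroups permuted by `A` is normalised by `A` -/
theorem norms_sSup {S : Set (Subgroup G)} (h : ∀ a ∈ A, ∀ X ∈ S, cj a X ∈ S) :
    A ≤ 𝐍(sSup S) := by
  rw [le_normalizer_iff]
  intro a ha
  rw [← cj_le_iff, cj_sSup]
  exact sSup_le_sSup (by rintro _ ⟨X, hX, rfl⟩; exact h a ha X hX)

theorem isCoatom_cj (g : G) (h : IsCoatom H) : IsCoatom (cj g H) := by
  refine ⟨fun e => h.1 (cj_eq_top_iff.1 e), fun K hK => ?_⟩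
  rw [← cj_cj_inv g K, cj_lt_cj_iff] at hK
  rw [← cj_eq_top_iff (g := g⁻¹)]
  exact h.2 _ hK

theorem isCoatom_cj_iff : IsCoatom (cj g H) ↔ IsCoatom H :=
  ⟨fun h => by simpa only [cj_inv_cj] using isCoatom_cj g⁻¹ h, isCoatom_cj g⟩

/-! ### properties of abstract groups under conjugation and injective maps -/

section props
variable {f : G →* G'}

theorem isCyclic_map_iff (hf : Function.Injective f) : IsCyclic (H.map f) ↔ IsCyclic H :=
  (H.equivMapOfInjective f hf).isCyclic.symm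

theorem comm_map (h : IsMulCommutative H) (f : G →* G') : IsMulCommutative (H.map f) := by
  rw [← commutator_self_eq_bot_iff] at *
  rw [← map_commutator, h, Subgroup.map_bot]

theorem comm_map_iff (hf : Function.Injective f) :
    IsMulCommutative (H.map f) ↔ IsMulCommutative H := by
  rw [← commutator_self_eq_bot_iff, ← commutator_self_eq_bot_iff, ← map_commutator,
    map_eq_bot_iff_of_injective _ hf]

theorem isCyclic_map (h : IsCyclic H) (f : G →* G') : IsCyclic (H.map f) :=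
  isCyclic_of_surjective _ (f.subgroupMap_surjective H)

theorem nilpotent_map (h : Group.IsNilpotent H) (f : G →* G') : Group.IsNilpotent (H.map f) :=
  Group.nilpotent_of_surjective _ (f.subgroupMap_surjective H)

theorem nilpotent_map_iff (hf : Function.Injective f) :
    Group.IsNilpotent (H.map f) ↔ Group.IsNilpotent H :=
  ⟨fun _ => Group.nilpotent_of_mulEquiv (H.equivMapOfInjective f hf).symm,
    fun h => nilpotent_map h f⟩

theorem solvable_map (h : Group.IsSolvable H) (f : G →* G') : Group.IsSolvable (H.map f) :=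
  Group.isSolvable_of_surjective (f.subgroupMap_surjective H)

theorem solvable_map_iff (hf : Function.Injective f) :
    Group.IsSolvable (H.map f) ↔ Group.IsSolvable H :=
  ⟨fun _ => Group.isSolvable_of_surjective (f := (H.equivMapOfInjective f hf).symm.toMonoidHom)
      (H.equivMapOfInjective f hf).symm.surjective,
    fun h => solvable_map h f⟩

theorem isPGroup_map_iff {p : ℕ} (hf : Function.Injective f) :
    IsPGroup p (H.map f) ↔ IsPGroup p H :=
  ⟨fun h => h.of_equiv (H.equivMapOfInjective f hf).symm, fun h => h.map f⟩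

theorem isZGroup_map_iff [Finite G] (hf : Function.Injective f) :
    IsZGroup (H.map f) ↔ IsZGroup H := by
  have e := H.equivMapOfInjective f hf
  have : Finite (H.map f) := Finite.of_equiv _ e.toEquiv
  exact ⟨fun _ => IsZGroup.of_injective (f := e.toMonoidHom) e.injective,
    fun _ => IsZGroup.of_injective (f := e.symm.toMonoidHom) e.symm.injective⟩

theorem exponent_map (hf : Function.Injective f) :
    Monoid.exponent (H.map f) = Monoid.exponent H :=
  Monoid.exponent_eq_of_mulEquiv (H.equivMapOfInjective f hf).symm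

theorem isCyclic_of_le (h : IsCyclic H) (hK : K ≤ H) : IsCyclic K :=
  Subgroup.isCyclic_of_le hK

theorem nilpotent_of_le (h : Group.IsNilpotent H) (hK : K ≤ H) : Group.IsNilpotent K :=
  Group.nilpotent_of_mulEquiv (subgroupOfEquivOfLe hK)

theorem solvable_of_le (h : Group.IsSolvable H) (hK : K ≤ H) : Group.IsSolvable K :=
  Group.isSolvable_of_isSolvable_injective (inclusion_injective hK)

theorem isZGroup_of_le [Finite G] (h : IsZGroup H) (hK : K ≤ H) : IsZGroup K :=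
  IsZGroup.of_injective (inclusion_injective hK)

theorem odd_card_of_le (h : Odd (Nat.card H)) (hK : K ≤ H) : Odd (Nat.card K) :=
  h.of_dvd_nat (card_dvd_of_le hK)

theorem isCyclic_cj : IsCyclic (cj g H) ↔ IsCyclic H := isCyclic_map_iff (conj_injective g)

theorem comm_cj : IsMulCommutative (cj g H) ↔ IsMulCommutative H :=
  comm_map_iff (conj_injective g)

theorem nilpotent_cj : Group.IsNilpotent (cj g H) ↔ Group.IsNilpotent H :=
  nilpotent_map_iff (conj_injective g)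

theorem solvable_cj : Group.IsSolvable (cj g H) ↔ Group.IsSolvable H :=
  solvable_map_iff (conj_injective g)

theorem isPGroup_cj {p : ℕ} : IsPGroup p (cj g H) ↔ IsPGroup p H :=
  isPGroup_map_iff (conj_injective g)

theorem isZGroup_cj [Finite G] : IsZGroup (cj g H) ↔ IsZGroup H :=
  isZGroup_map_iff (conj_injective g)

/-- relative centralisers under an injective homomorphism -/
theorem map_inf_cent (hf : Function.Injective f) (H A : Subgroup G) :
    (H ⊓ 𝐂(A)).map f = H.map f ⊓ 𝐂(A.map f) := by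
  ext x
  simp only [mem_map, mem_inf, mem_cent]
  constructor
  · rintro ⟨y, ⟨hy, hc⟩, rfl⟩
    refine ⟨⟨y, hy, rfl⟩, ?_⟩
    rintro _ ⟨a, ha, rfl⟩
    rw [← map_mul, ← map_mul, hc a ha]
  · rintro ⟨⟨y, hy, rfl⟩, hc⟩
    refine ⟨y, ⟨hy, fun a ha => hf ?_⟩, rfl⟩
    rw [map_mul, map_mul, hc _ ⟨a, ha, rfl⟩]

theorem map_inf_cent1 (hf : Function.Injective f) (H : Subgroup G) (x : G) :
    (H ⊓ 𝐂₁(x)).map f = H.map f ⊓ 𝐂₁(f x) := by
  rw [← cent_zpowers, ← cent_zpowers, map_inf_cent hf, MonoidHom.map_zpowers]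

theorem map_le_cent_map (h : H ≤ 𝐂(A)) (f : G →* G') : H.map f ≤ 𝐂(A.map f) := by
  rw [← commutator_eq_bot_iff'] at *
  rw [← map_commutator, h, Subgroup.map_bot]

theorem map_le_cent_map_iff (hf : Function.Injective f) :
    H.map f ≤ 𝐂(A.map f) ↔ H ≤ 𝐂(A) := by
  rw [← commutator_eq_bot_iff', ← commutator_eq_bot_iff', ← map_commutator,
    map_eq_bot_iff_of_injective _ hf]

theorem map_le_norm_map (h : H ≤ 𝐍(A)) (f : G →* G') : H.map f ≤ 𝐍(A.map f) :=
  (map_mono h).trans (le_normalizer_map f)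

theorem map_le_norm_map_iff (hf : Function.Injective f) :
    H.map f ≤ 𝐍(A.map f) ↔ H ≤ 𝐍(A) := by
  rw [le_normalizer_iff_commutator_le_right, le_normalizer_iff_commutator_le_right,
    ← map_commutator, map_le_map_iff_of_injective hf]

/-- relative normalisers under an injective homomorphism -/
theorem map_inf_norm (hf : Function.Injective f) (H A : Subgroup G) :
    (H ⊓ 𝐍(A)).map f = H.map f ⊓ 𝐍(A.map f) := by
  apply le_antisymm (le_inf (map_mono inf_le_left) (map_le_norm_map inf_le_right f))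
  rintro _ ⟨⟨y, hy, rfl⟩, hc⟩
  refine ⟨y, ⟨hy, ?_⟩, rfl⟩
  have : (zpowers y).map f ≤ 𝐍(A.map f) := by
    rw [MonoidHom.map_zpowers, zpowers_le]; exact hc
  exact zpowers_le.1 ((map_le_norm_map_iff hf).1 this)

/-- Transport of a subgroup-valued invariant `F` of abstract groups along an injective map. -/
theorem map_map_subtype_of_equiv (hf : Function.Injective f) (H : Subgroup G) (A : Subgroup H)
    (B : Subgroup (H.map f)) (h : A.map (H.equivMapOfInjective f hf).toMonoidHom = B) :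
    (A.map H.subtype).map f = B.map (H.map f).subtype := by
  rw [← h, map_map, map_map]; rfl

end props

/-! ### `NormalIn` -/

namespace NormalIn

theorem refl (H : Subgroup G) : H ⊴ H := ⟨le_rfl, le_normalizer⟩

theorem bot (H : Subgroup G) : (⊥ : Subgroup G) ⊴ H := ⟨bot_le, by rw [norm_bot]; exact le_top⟩

theorem normal (h : N ⊴ H) : (N.subgroupOf H).Normal :=
  (normal_subgroupOf_iff_le_normalizer h.le).2 h.norm

theorem of_normal_subgroupOf (hle : N ≤ H) (h : (N.subgroupOf H).Normal) : N ⊴ H :=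
  ⟨hle, (normal_subgroupOf_iff_le_normalizer hle).1 h⟩

theorem of_normal (N : Subgroup G) [N.Normal] : N ⊴ ⊤ := ⟨le_top, le_normalizer_of_normal⟩

theorem normal_of_top (h : N ⊴ ⊤) : N.Normal := normalizer_eq_top_iff.1 (top_le_iff.1 h.norm)

theorem map_subtype (N : Subgroup H) [hN : N.Normal] : N.map H.subtype ⊴ H :=
  of_normal_subgroupOf (map_subtype_le N) (by
    rwa [subgroupOf, comap_map_eq_self_of_injective H.subtype_injective])

theorem of_le (h : N ⊴ H) (hNK : N ≤ K) (hKH : K ≤ H) : N ⊴ K := ⟨hNK, hKH.trans h.norm⟩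

theorem conj_mem (h : N ⊴ H) (hg : g ∈ H) (hx : x ∈ N) : g * x * g⁻¹ ∈ N :=
  conj_mem_of_mem_norm (h.norm hg) hx

theorem cj_eq (h : N ⊴ H) (hg : g ∈ H) : cj g N = N := cj_eq_of_mem_norm (h.norm hg)

theorem inf (h₁ : A ⊴ H) (h₂ : B ⊴ H) : A ⊓ B ⊴ H :=
  ⟨inf_le_left.trans h₁.le, norms_inf h₁.norm h₂.norm⟩

theorem sup (h₁ : A ⊴ H) (h₂ : B ⊴ H) : A ⊔ B ⊴ H :=
  ⟨sup_le h₁.le h₂.le, norms_sup h₁.norm h₂.norm⟩

theorem commutator (h₁ : A ⊴ H) (h₂ : B ⊴ H) : ⁅A, B⁆ ⊴ H :=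
  ⟨(commutator_le_sup _ _).trans (sup_le h₁.le h₂.le), norms_commutator h₁.norm h₂.norm⟩

/-- `N ⊓ K ⊴ K` whenever `K` normalises `N` -/
theorem inf_of_norm (h : K ≤ 𝐍(N)) : N ⊓ K ⊴ K := ⟨inf_le_right, norms_inf h le_normalizer⟩

theorem inf_of_norm' (h : K ≤ 𝐍(N)) : K ⊓ N ⊴ K := ⟨inf_le_left, norms_inf le_normalizer h⟩

theorem inf_right (h : N ⊴ H) (hK : K ≤ H) : N ⊓ K ⊴ K := inf_of_norm (hK.trans h.norm)

theorem inf_left (h : N ⊴ H) (hK : K ≤ H) : K ⊓ N ⊴ K := inf_of_norm' (hK.trans h.norm)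

theorem inf_inf (h : N ⊴ H) (K : Subgroup G) : N ⊓ K ⊴ H ⊓ K :=
  ⟨inf_le_inf_right _ h.le, norms_inf (inf_le_left.trans h.norm) (le_norm_of_le inf_le_right)⟩

theorem sup_left (h : H ≤ 𝐍(K)) : K ⊴ K ⊔ H := ⟨le_sup_left, sup_le le_normalizer h⟩

theorem sup_right (h : H ≤ 𝐍(K)) : K ⊴ H ⊔ K := ⟨le_sup_right, sup_le h le_normalizer⟩

theorem norm_self (N : Subgroup G) : N ⊴ 𝐍(N) := ⟨le_normalizer, le_rfl⟩

theorem cent_norm (N : Subgroup G) : 𝐂(N) ⊴ 𝐍(N) := ⟨cent_le_norm N, norm_le_norm_cent N⟩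

/-- `C_H(A) ⊴ H` when `H` normalises `A` -/
theorem inf_cent (h : H ≤ 𝐍(A)) : H ⊓ 𝐂(A) ⊴ H := inf_of_norm' (norms_cent h)

theorem center (H : Subgroup G) : 𝐙(H) ⊴ H := inf_cent le_normalizer

theorem der (H : Subgroup G) : ⁅H, H⁆ ⊴ H := (refl H).commutator (refl H)

theorem of_le_center (h : N ≤ 𝐙(H)) : N ⊴ H :=
  ⟨h.trans inf_le_left, le_norm_of_le_cent (cent_symm (h.trans inf_le_right))⟩

theorem of_comm (hH : IsMulCommutative H) (h : N ≤ H) : N ⊴ H :=
  ⟨h, le_norm_of_le_cent (le_cent_of_comm_of_le hH le_rfl h)⟩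

theorem of_der_le (h : ⁅H, H⁆ ≤ N) (hN : N ≤ H) : N ⊴ H := ⟨hN, le_norm_of_commutator_le hN h⟩

/-- if `N_G(N)` normalises `X ≤ N` (e.g. `X` characteristic in `N`) and `N ⊴ H` then `X ⊴ H` -/
theorem trans_of_norm_le (h : N ⊴ H) (hX : X ≤ N) (hn : 𝐍(N) ≤ 𝐍(X)) : X ⊴ H :=
  ⟨hX.trans h.le, h.norm.trans hn⟩

theorem center_trans (h : N ⊴ H) : 𝐙(N) ⊴ H :=
  h.trans_of_norm_le inf_le_left (norm_le_norm_center N)

theorem der_trans (h : N ⊴ H) : ⁅N, N⁆ ⊴ H := h.commutator h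

theorem map (h : N ⊴ H) (f : G →* G') : N.map f ⊴ H.map f :=
  ⟨map_mono h.le, map_le_norm_map h.norm f⟩

theorem comap {N H : Subgroup G'} (h : N ⊴ H) (f : G →* G') : N.comap f ⊴ H.comap f :=
  ⟨comap_mono h.le, (comap_mono h.norm).trans (le_normalizer_comap f)⟩

theorem subgroupOf (h : N ⊴ H) (K : Subgroup G) : N.subgroupOf K ⊴ H.subgroupOf K := h.comap _

theorem cj (h : N ⊴ H) (g : G) : cj g N ⊴ cj g H := h.map _

theorem commutator_le (h : N ⊴ H) : ⁅N, H⁆ ≤ N := commutator_le_left_of_norm h.norm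

theorem commutator_le' (h : N ⊴ H) : ⁅H, N⁆ ≤ N := commutator_le_right_of_norm h.norm

end NormalIn

theorem normalIn_map_iff {f : G →* G'} (hf : Function.Injective f) :
    N.map f ⊴ H.map f ↔ N ⊴ H :=
  ⟨fun h => ⟨(map_le_map_iff_of_injective hf).1 h.le, (map_le_norm_map_iff hf).1 h.norm⟩,
    fun h => h.map f⟩

theorem normalIn_cj : cj g N ⊴ cj g H ↔ N ⊴ H := normalIn_map_iff (conj_injective g)

theorem normalIn_top_iff : N ⊴ ⊤ ↔ N.Normal :=
  ⟨NormalIn.normal_of_top, fun _ => NormalIn.of_normal N⟩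

theorem normalIn_iff : N ⊴ H ↔ N ≤ H ∧ H ≤ 𝐍(N) := ⟨fun h => ⟨h.le, h.norm⟩, fun h => ⟨h.1, h.2⟩⟩

/-! ### `CharIn` -/

namespace CharIn

theorem map_subtype (N : Subgroup H) [hN : N.Characteristic] : CharIn (N.map H.subtype) H :=
  ⟨map_subtype_le N, by
    rwa [Subgroup.subgroupOf, comap_map_eq_self_of_injective H.subtype_injective]⟩

theorem norm_le (h : CharIn N H) : 𝐍(H) ≤ 𝐍(N) := by
  intro g hg
  rw [← cj_eq_iff_mem_norm]
  have key : ∀ g ∈ 𝐍(H), cj g N ≤ N := by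
    intro g hg
    rw [cj_le_iff]
    intro x hx
    have h1 := characteristic_iff_le_comap.1 h.char (H.normalizerMonoidHom ⟨g, hg⟩)
    have h2 : (⟨x, h.le hx⟩ : H) ∈ N.subgroupOf H := hx
    exact h1 h2
  apply le_antisymm (key g hg)
  rw [le_cj_iff_cj_inv_le]
  exact key _ (inv_mem hg)

theorem normalIn (h : CharIn N H) : N ⊴ H := ⟨h.le, le_normalizer.trans h.norm_le⟩

theorem trans_normalIn (h : CharIn N H) (h' : H ⊴ K) : N ⊴ K := h'.trans_of_norm_le h.le h.norm_le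

theorem norms (h : CharIn N H) (h' : A ≤ 𝐍(H)) : A ≤ 𝐍(N) := h'.trans h.norm_le

end CharIn

/-! ### orders -/

theorem relIndex_sup_of_norm (h : H ≤ 𝐍(K)) : K.relIndex (K ⊔ H) = K.relIndex H := by
  have hn := (NormalIn.sup_left h).normal
  have h1 := relIndex_sup_left (K := K.subgroupOf (K ⊔ H)) (H := H.subgroupOf (K ⊔ H))
  rw [← subgroupOf_sup le_sup_left le_sup_right, relIndex_subgroupOf le_rfl,
    relIndex_subgroupOf le_sup_right] at h1
  exact h1

theorem relIndex_sup_of_norm' (h : H ≤ 𝐍(K)) : K.relIndex (H ⊔ K) = K.relIndex H := by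
  rw [sup_comm, relIndex_sup_of_norm h]

/-- `|K H| |K ∩ H| = |K| |H|` when `H` normalises `K` -/
theorem card_sup_mul_card_inf (h : H ≤ 𝐍(K)) :
    Nat.card ↥(K ⊔ H) * Nat.card ↥(K ⊓ H) = Nat.card K * Nat.card H := by
  rw [← card_mul_relIndex (le_sup_left : K ≤ K ⊔ H), relIndex_sup_of_norm h,
    ← card_inf_mul_relIndex K H]
  ring

theorem card_sup_dvd (h : H ≤ 𝐍(K)) : Nat.card ↥(K ⊔ H) ∣ Nat.card K * Nat.card H :=
  Dvd.intro _ (card_sup_mul_card_inf h)

theorem card_sup_of_disj (h : H ≤ 𝐍(K)) (hd : K ⊓ H = ⊥) :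
    Nat.card ↥(K ⊔ H) = Nat.card K * Nat.card H := by
  rw [← card_sup_mul_card_inf h, hd, card_bot, mul_one]

/-- the index of `H` in `K H` is the index of `H ∩ K` in `K` -/
theorem relIndex_sup_of_norm_right [Finite G] (h : H ≤ 𝐍(K) ∨ K ≤ 𝐍(H)) :
    H.relIndex (K ⊔ H) = H.relIndex K := by
  rcases h with h | h
  · have h1 := card_sup_mul_card_inf h
    rw [← card_mul_relIndex (le_sup_right : H ≤ K ⊔ H), ← card_inf_mul_relIndex H K,
      inf_comm H K] at h1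
    have h2 : 0 < Nat.card H := Nat.card_pos
    have h3 : 0 < Nat.card ↥(K ⊓ H) := Nat.card_pos
    have : Nat.card H * Nat.card ↥(K ⊓ H) * H.relIndex (K ⊔ H) =
        Nat.card H * Nat.card ↥(K ⊓ H) * H.relIndex K := by linarith
    exact Nat.eq_of_mul_eq_mul_left (by positivity) this
  · exact relIndex_sup_of_norm' h

theorem relIndex_dvd_of_normalIn (h : N ⊴ H) (hK : K ≤ H) : N.relIndex K ∣ N.relIndex H := by
  have := h.normal
  have h1 := relIndex_dvd_index_of_normal (H := N.subgroupOf H) (K := K.subgroupOf H)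
  rwa [relIndex_subgroupOf hK] at h1

theorem card_pos' [Finite G] (H : Subgroup G) : 0 < Nat.card H := Nat.card_pos

theorem relIndex_pos [Finite G] (H K : Subgroup G) : 0 < H.relIndex K :=
  Nat.pos_of_ne_zero index_ne_zero_of_finite

theorem one_lt_card_of_ne_bot [Finite G] (h : H ≠ ⊥) : 1 < Nat.card H :=
  (one_lt_card_iff_ne_bot H).2 h

theorem card_lt_of_lt [Finite G] (h : H < K) : Nat.card H < Nat.card K := by
  by_contra hc
  exact h.ne (eq_of_le_of_card_ge h.le (not_lt.1 hc))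

theorem exists_ne_one_of_ne_bot (h : H ≠ ⊥) : ∃ x ∈ H, x ≠ 1 := by
  by_contra hc
  push Not at hc
  exact h ((eq_bot_iff_forall H).2 hc)

theorem ne_bot_of_mem (hx : x ∈ H) (h1 : x ≠ 1) : H ≠ ⊥ := fun h => h1 (mem_bot.1 (h ▸ hx))

theorem ne_bot_of_le (h : H ≠ ⊥) (hle : H ≤ K) : K ≠ ⊥ := ne_bot_of_le_ne_bot h hle

theorem exists_prime_dvd_card [Finite G] (h : H ≠ ⊥) : ∃ p : ℕ, p.Prime ∧ p ∣ Nat.card H :=
  Nat.exists_prime_and_dvd (one_lt_card_of_ne_bot h).ne'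

/-- Cauchy's theorem inside a subgroup -/
theorem exists_orderOf_eq_of_dvd_card [Finite G] {p : ℕ} (hp : p.Prime) (h : p ∣ Nat.card H) :
    ∃ x ∈ H, orderOf x = p := by
  have := Fact.mk hp
  obtain ⟨x, hx⟩ := exists_prime_orderOf_dvd_card' (G := H) p h
  exact ⟨x, x.2, by rw [← hx, Subgroup.orderOf_coe]⟩

theorem exists_card_eq_of_dvd_card [Finite G] {p : ℕ} (hp : p.Prime) (h : p ∣ Nat.card H) :
    ∃ X : Subgroup G, X ≤ H ∧ Nat.card X = p := by
  obtain ⟨x, hx, ho⟩ := exists_orderOf_eq_of_dvd_card hp h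
  exact ⟨zpowers x, zpowers_le.2 hx, by rw [Nat.card_zpowers, ho]⟩

theorem orderOf_dvd_card' (hx : x ∈ H) : orderOf x ∣ Nat.card H := orderOf_dvd_natCard H hx

/-- a subgroup of prime order either lies in `K` or meets it trivially -/
theorem le_or_inf_eq_bot_of_prime (hX : (Nat.card X).Prime) (K : Subgroup G) :
    X ≤ K ∨ X ⊓ K = ⊥ := by
  have : Finite X := Nat.finite_of_card_ne_zero hX.ne_zero
  rcases (Nat.dvd_prime hX).1 (card_dvd_of_le (inf_le_left : X ⊓ K ≤ X)) with h | h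
  · exact Or.inr (card_eq_one.1 h)
  · exact Or.inl (inf_eq_left.1 (eq_of_le_of_card_ge inf_le_left h.ge))

theorem eq_of_le_of_prime (hX : (Nat.card X).Prime) (hle : Y ≤ X) (hY : Y ≠ ⊥) : Y = X := by
  rcases le_or_inf_eq_bot_of_prime hX Y with h | h
  · exact le_antisymm hle h
  · exact absurd (inf_eq_right.2 hle ▸ h) hY

theorem ne_bot_of_card_prime (hX : (Nat.card X).Prime) : X ≠ ⊥ := fun h => by
  rw [h, card_bot] at hX; exact Nat.not_prime_one hX

theorem isCyclic_of_card_prime (hX : (Nat.card X).Prime) : IsCyclic X :=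
  haveI := Fact.mk hX
  isCyclic_of_prime_card (p := Nat.card X) rfl

theorem eq_zpowers_of_card_prime (hX : (Nat.card X).Prime) (hx : x ∈ X) (h1 : x ≠ 1) :
    X = zpowers x :=
  (eq_of_le_of_prime hX (zpowers_le.2 hx) (by simpa using h1)).symm

theorem cent_eq_cent1_of_card_prime (hX : (Nat.card X).Prime) (hx : x ∈ X) (h1 : x ≠ 1) :
    𝐂(X) = 𝐂₁(x) := by
  rw [← cent_zpowers, ← eq_zpowers_of_card_prime hX hx h1]

theorem exists_zpowers_of_isCyclic (h : IsCyclic H) : ∃ x ∈ H, H = zpowers x := by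
  obtain ⟨x, hx⟩ := (Subgroup.isCyclic_iff_exists_zpowers_eq_top H).1 h
  exact ⟨x, hx ▸ mem_zpowers x, hx.symm⟩

/-- strong induction on the order of a subgroup -/
theorem subgroup_induction [Finite G] {P : Subgroup G → Prop}
    (ih : ∀ H, (∀ K, K < H → P K) → P H) (H : Subgroup G) : P H :=
  (wellFounded_lt (α := Subgroup G)).induction H ih

/-- downward induction on subgroups -/
theorem subgroup_induction_gt [Finite G] {P : Subgroup G → Prop}
    (ih : ∀ H, (∀ K, H < K → P K) → P H) (H : Subgroup G) : P H :=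
  (wellFounded_gt (α := Subgroup G)).induction H ih

/-- a subgroup with property `P` lies in a maximal one with property `P` -/
theorem exists_maximal_ge [Finite G] {P : Subgroup G → Prop} (h : P H) :
    ∃ M, H ≤ M ∧ P M ∧ ∀ L, P L → M ≤ L → L = M := by
  obtain ⟨M, hM, hmax⟩ := Finite.exists_le_maximal h
  exact ⟨M, hM, hmax.1, fun L hL hle => le_antisymm (hmax.2 hL hle) hle⟩

/-- a subgroup with property `P` contains a minimal one with property `P` -/
theorem exists_minimal_le [Finite G] {P : Subgroup G → Prop} (h : P H) :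
    ∃ M, M ≤ H ∧ P M ∧ ∀ L, P L → L ≤ M → L = M := by
  obtain ⟨M, hM, hmin⟩ := Finite.exists_le_minimal h
  exact ⟨M, hM, hmin.1, fun L hL hle => le_antisymm hle (hmin.2 hL hle)⟩

end CL.BG
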