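import Cfsg.Agent.BG.Quot
import Cfsg.Agent.BG.Conj
import Cfsg.Agent.Solv.PiHall
import Cfsg.Agent.Solv.Coprime
import Cfsg.Agent.Auto.ACL_BG_PiGrp_646bf9
import Cfsg.Agent.Auto.ACL_BG_pPrimePCoreOf_c7c80b

/-!
# Transfer of normality, Hall subgroups, cores and products to and from `H / V`
-/

set_option autoImplicit false

namespace CL.BG

open Cfsg Subgroup

variable {G : Type*} [Group G] {V H K L N X A U : Subgroup G} {π : Set ℕ}

/-! ### normality and conjugation -/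

theorem NormalIn.quot (h : N ⊴ H) (V : Subgroup G) : quot V N ⊴ quot V H :=
  ⟨quot_mono V h.le, quot_normalizer V h.norm⟩

theorem NormalIn.coquot {Nb Hb : Subgroup (Qt V)} (h : Nb ⊴ Hb) : coquot V Nb ⊴ coquot V Hb :=
  ⟨coquot_mono V h.le, coquot_normalizer V h.norm⟩

theorem normalIn_coquot_self (Hb : Subgroup (Qt V)) : V ⊴ coquot V Hb :=
  ⟨le_coquot V Hb, coquot_le_normalizer V Hb⟩

theorem NormalIn.coquot_quot (hV : V ⊴ H) : BG.coquot V (BG.quot V H) = H :=
  coquot_quot_of_le hV.norm hV.le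

theorem NormalIn.coquot_le (hV : V ⊴ H) {Xb : Subgroup (Qt V)} (h : Xb ≤ BG.quot V H) :
    BG.coquot V Xb ≤ H := coquot_le_of_le_quot hV.le h

theorem coquot_normalIn (hV : V ⊴ H) {Nb : Subgroup (Qt V)} (h : Nb ⊴ quot V H) :
    coquot V Nb ⊴ H := by
  have := h.coquot
  rwa [hV.coquot_quot] at this

theorem normalIn_of_quot (hV : V ⊴ H) (hVN : V ≤ N) (hN : N ≤ 𝐍(V)) (h : quot V N ⊴ quot V H) :
    N ⊴ H := by
  have := coquot_normalIn hV h
  rwa [coquot_quot_of_le hN hVN] at this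

theorem quot_cj {g : G} (hg : g ∈ 𝐍(V)) (H : Subgroup G) :
    quot V (cj g H) = cj (coset V g) (quot V H) := by
  ext y
  rw [mem_cj', mem_quot]
  constructor
  · rintro ⟨x, hx, hxN, rfl⟩
    refine ⟨coset V (g⁻¹ * x * g), coset_mem_quot (mem_cj.1 hx), ?_⟩
    have h1 : g⁻¹ * x * g ∈ 𝐍(V) := mul_mem (mul_mem (inv_mem hg) hxN) hg
    rw [← coset_conj hg h1]
    congr 1
    group
  · rintro ⟨z, hz, rfl⟩
    obtain ⟨x, hx, hxN, rfl⟩ := mem_quot.1 hz
    exact ⟨g * x * g⁻¹, conj_mem_cj.2 hx, mul_mem (mul_mem hg hxN) (inv_mem hg), coset_conj hg hxN⟩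

theorem coquot_cj {g : G} (hg : g ∈ 𝐍(V)) (Hb : Subgroup (Qt V)) :
    coquot V (cj (coset V g) Hb) = cj g (coquot V Hb) := by
  have h1 : cj g (coquot V Hb) ≤ 𝐍(V) := cj_le_of_mem hg (coquot_le_normalizer V Hb)
  have h2 : V ≤ cj g (coquot V Hb) :=
    (cj_eq_of_mem_norm hg).ge.trans (cj_mono g (le_coquot V Hb))
  rw [← coquot_quot_of_le h1 h2, quot_cj hg, quot_coquot]

theorem quot_center_le (V H : Subgroup G) : quot V 𝐙(H) ≤ 𝐙(quot V H) :=
  quot_inf_centralizer_le V H H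

theorem quot_le_cent1 {x : G} (hx : x ∈ 𝐍(V)) (H : Subgroup G) :
    quot V (H ⊓ 𝐂₁(x)) ≤ quot V H ⊓ 𝐂₁(coset V x) :=
  le_inf (quot_mono V inf_le_left) (quot_centralizer_singleton hx inf_le_right)

/-! ### `π`-groups and Hall subgroups -/

theorem PiGrp.quot (h : PiGrp π H) (V : Subgroup G) : PiGrp π (quot V H) :=
  IsPiNum.of_dvd h (card_quot_dvd V H)

theorem piGrp_quot_iff (hH : H ≤ 𝐍(V)) : PiGrp π (quot V H) ↔ PiNat π (V.relIndex H) := by
  rw [PiGrp, card_quot hH]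

theorem piGrp_coquot (hV : PiGrp π V) {Hb : Subgroup (Qt V)} (h : PiGrp π Hb) :
    PiGrp π (coquot V Hb) := by
  rw [PiGrp, card_coquot]
  exact IsPiNum.mul hV h

theorem piGrp_of_quot (hH : H ≤ 𝐍(V)) (hV : PiGrp π V) (h : PiGrp π (quot V H)) : PiGrp π H :=
  IsPiNum.of_dvd (piGrp_coquot hV h) (card_dvd_of_le (le_coquot_quot hH))

theorem piGrp_of_quot' (hH : H ≤ 𝐍(V)) (hV : PiGrp π (V ⊓ H)) (h : PiGrp π (quot V H)) :
    PiGrp π H := by
  rw [PiGrp, ← card_inf_mul_card_quot hH]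
  exact IsPiNum.mul hV h

theorem PiElt.coset {x : G} (h : PiElt π x) (hx : x ∈ 𝐍(V)) : PiElt π (coset V x) :=
  IsPiNum.of_dvd h (orderOf_coset_dvd hx)

theorem isPGroup_quot_iff [Finite G] {p : ℕ} [hp : Fact p.Prime] (hH : H ≤ 𝐍(V)) :
    IsPGroup p (quot V H) ↔ PiNat {p} (V.relIndex H) := by
  rw [Pi.isPGroup_iff_isPiNum hp.out, card_quot hH]
  rfl

theorem Hall.quot (h : Hall π X H) (hH : H ≤ 𝐍(V)) : Hall π (quot V X) (quot V H) :=
  PiHall.mkOf (quot_mono V h.1) (PiGrp.quot (PiHall.of_card_pi h) V)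
    ((PiHall.of_relIndex_pi h).of_dvd (relIndex_quot_dvd h.1 hH))

theorem Hall.coquot (hV : PiGrp π V) {Xb Hb : Subgroup (Qt V)} (h : Hall π Xb Hb) :
    Hall π (coquot V Xb) (coquot V Hb) :=
  PiHall.mkOf (coquot_mono V h.1) (piGrp_coquot hV (PiHall.of_card_pi h))
    (by rw [relIndex_coquot]; exact PiHall.of_relIndex_pi h)

theorem hall_coquot (hVH : V ⊴ H) (hV : PiGrp π V) {Xb : Subgroup (Qt V)}
    (h : Hall π Xb (quot V H)) : Hall π (coquot V Xb) H := by
  have := Hall.coquot hV h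
  rwa [hVH.coquot_quot] at this

theorem hall_of_quot (hVH : V ⊴ H) (hV : PiGrp π V) (hVX : V ≤ X) (hXH : X ≤ H)
    (h : Hall π (quot V X) (quot V H)) : Hall π X H := by
  have := hall_coquot hVH hV h
  rwa [coquot_quot_of_le (hXH.trans hVH.norm) hVX] at this

theorem SylowOf.quot {p : ℕ} (h : SylowOf p X H) (hH : H ≤ 𝐍(V)) :
    SylowOf p (quot V X) (quot V H) := Hall.quot h hH

theorem IsHall.quot (h : IsHall X H) (hH : H ≤ 𝐍(V)) : IsHall (quot V X) (quot V H) :=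
  ⟨quot_mono V h.le, (h.coprime.coprime_dvd_left (card_quot_dvd V X)).coprime_dvd_right
    (relIndex_quot_dvd h.le hH)⟩

/-- A `π`-subgroup normalising a `π'`-group `V` maps isomorphically onto its image. -/
theorem card_quot_of_piGrp (hX : X ≤ 𝐍(V)) (hV : PiGrp πᶜ V) (h : PiGrp π X) :
    Nat.card (quot V X) = Nat.card X :=
  card_quot_of_disjoint hX (Pi.disjoint_of_isPiNum h hV).symm.eq_bot

/-! ### cores -/

section cores

variable [Finite G]

omit [Finite G] in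
private theorem qp_core_normalIn (π : Set ℕ) (H : Subgroup G) : piCoreOf π H ⊴ H :=
  NormalIn.map_subtype _

private theorem qp_core_piGrp (π : Set ℕ) (H : Subgroup G) : PiGrp π (piCoreOf π H) :=
  PiCore.isPiNum_card_map_subtype π H

omit [Finite G] in
private theorem qp_le_core (h : N ⊴ H) (hN : PiGrp π N) : N ≤ piCoreOf π H :=
  PiCore.le_map_subtype h.le h.norm hN

theorem quot_piCoreOf_le (π : Set ℕ) (V H : Subgroup G) :
    quot V (piCoreOf π H) ≤ piCoreOf π (quot V H) :=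
  qp_le_core ((qp_core_normalIn π H).quot V) ((qp_core_piGrp π H).quot V)

theorem coquot_piCoreOf (hVH : V ⊴ H) (hV : PiGrp π V) :
    coquot V (piCoreOf π (quot V H)) = piCoreOf π H := by
  apply le_antisymm
  · exact qp_le_core (coquot_normalIn hVH (qp_core_normalIn π _)) (piGrp_coquot hV (qp_core_piGrp π _))
  · rw [← quot_le_iff ((qp_core_normalIn π H).le.trans hVH.norm)]
    exact quot_piCoreOf_le π V H

theorem quot_piCoreOf (hVH : V ⊴ H) (hV : PiGrp π V) :
    quot V (piCoreOf π H) = piCoreOf π (quot V H) := by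
  rw [← coquot_piCoreOf hVH hV, quot_coquot]

theorem piCoreOf_quot_piCoreOf (π : Set ℕ) (H : Subgroup G) :
    piCoreOf π (quot (piCoreOf π H) H) = ⊥ := by
  rw [← quot_piCoreOf (qp_core_normalIn π H) (qp_core_piGrp π H), quot_self]

omit [Finite G] in
/-- The preimage of `O_π(H / V)` is normal in `H`. -/
theorem coquot_piCoreOf_normalIn (π : Set ℕ) (hVH : V ⊴ H) :
    coquot V (piCoreOf π (quot V H)) ⊴ H := coquot_normalIn hVH (qp_core_normalIn π _)

omit [Finite G] in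
/-- A normal subgroup `N` of `H` with `N V / V` a `π`-group lies in the preimage of
`O_π(H / V)`. -/
theorem le_coquot_piCoreOf (hH : H ≤ 𝐍(V)) (hN : N ⊴ H) (h : PiNat π (V.relIndex N)) :
    N ≤ coquot V (piCoreOf π (quot V H)) := by
  rw [← quot_le_iff (hN.le.trans hH)]
  exact qp_le_core (hN.quot V) ((piGrp_quot_iff (hN.le.trans hH)).2 h)

theorem piNat_relIndex_coquot_piCoreOf (π : Set ℕ) (V H : Subgroup G) :
    PiNat π (V.relIndex (coquot V (piCoreOf π (quot V H)))) := by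
  rw [← piGrp_quot_iff (coquot_le_normalizer V _), quot_coquot]
  exact qp_core_piGrp π _

theorem pPrimePCoreOf_eq_coquot {p : ℕ} [hp : Fact p.Prime] (H : Subgroup G) :
    pPrimePCoreOf p H =
      coquot (piCoreOf {p}ᶜ H) (piCoreOf {p} (quot (piCoreOf {p}ᶜ H) H)) := by
  have hO : (piCoreOf {p}ᶜ H).subgroupOf H = pPrimeCore p H := by
    rw [piCoreOf, ← comap_subtype, comap_map_eq_self_of_injective H.subtype_injective,
      PiCore.piCore_compl_singleton hp.out]
  have hn := qp_core_normalIn ({p}ᶜ : Set ℕ) H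
  have hidx : ∀ M : Subgroup H, (piCoreOf {p}ᶜ H).relIndex (M.map H.subtype) =
      Nat.card (M.map (QuotientGroup.mk' (pPrimeCore p H))) := fun M => by
    rw [← relIndex_ker, QuotientGroup.ker_mk', ← hO, ← comap_subtype, relIndex_comap]
  apply le_antisymm
  · refine le_coquot_piCoreOf hn.norm (NormalIn.map_subtype (hN := ?_) _) ?_
    · exact (inferInstance : (pCore p (H ⧸ pPrimeCore p H)).Normal).comap _
    · rw [pPrimePCoreOf, hidx, pPrimePCore,
        map_comap_eq_self_of_surjective (QuotientGroup.mk'_surjective _),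
        ← PiCore.piCore_singleton hp.out]
      exact PiCore.isPiNum_card _
  · set M := coquot (piCoreOf {p}ᶜ H) (piCoreOf {p} (quot (piCoreOf {p}ᶜ H) H)) with hM
    have hMn : M ⊴ H := coquot_piCoreOf_normalIn _ hn
    have h1 : PiNat {p} ((piCoreOf {p}ᶜ H).relIndex M) := piNat_relIndex_coquot_piCoreOf _ _ _
    rw [← map_subgroupOf_eq_of_le hMn.le, hidx] at h1
    rw [← map_subgroupOf_eq_of_le hMn.le, pPrimePCoreOf]
    apply map_mono
    rw [pPrimePCore, ← map_le_iff_le_comap, ← PiCore.piCore_singleton hp.out]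
    have := hMn.normal.map _ (QuotientGroup.mk'_surjective (pPrimeCore p H))
    exact PiCore.le_piCore h1

theorem quot_pPrimePCoreOf {p : ℕ} [Fact p.Prime] (H : Subgroup G) :
    quot (piCoreOf {p}ᶜ H) (pPrimePCoreOf p H) = piCoreOf {p} (quot (piCoreOf {p}ᶜ H) H) := by
  rw [pPrimePCoreOf_eq_coquot, quot_coquot]

theorem piNat_relIndex_pPrimePCoreOf {p : ℕ} [Fact p.Prime] (H : Subgroup G) :
    PiNat {p} ((piCoreOf {p}ᶜ H).relIndex (pPrimePCoreOf p H)) := by
  rw [pPrimePCoreOf_eq_coquot]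
  exact piNat_relIndex_coquot_piCoreOf _ _ _

/-- Maximality of `O_{p',p}(H)`. -/
theorem le_pPrimePCoreOf_of_relIndex {p : ℕ} [Fact p.Prime] (hN : N ⊴ H)
    (h : PiNat {p} ((piCoreOf {p}ᶜ H).relIndex N)) : N ≤ pPrimePCoreOf p H := by
  rw [pPrimePCoreOf_eq_coquot]
  exact le_coquot_piCoreOf (qp_core_normalIn _ H).norm hN h

end cores

/-! ### products -/

theorem CP.quot (h : CP K H L) (hL : L ≤ 𝐍(V)) : CP (quot V K) (quot V H) (quot V L) :=
  ⟨by rw [← quot_sup ((le_sup_left.trans h.sup.le).trans hL) ((le_sup_right.trans h.sup.le).trans hL),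
    h.sup], quot_centralizer V h.cent⟩

theorem SDP.quot_of_le (h : SDP K H L) (hL : L ≤ 𝐍(V)) (hV : V ≤ K) :
    SDP (quot V K) (quot V H) (quot V L) :=
  ⟨by rw [← quot_sup ((le_sup_left.trans h.sup.le).trans hL) ((le_sup_right.trans h.sup.le).trans hL),
    h.sup], quot_normalizer V h.norm, by rw [← quot_inf_of_le_left _ hV, h.disj, quot_bot]⟩

theorem SDP.quot_of_le_right (h : SDP K H L) (hL : L ≤ 𝐍(V)) (hV : V ≤ H) :
    SDP (quot V K) (quot V H) (quot V L) :=
  ⟨by rw [← quot_sup ((le_sup_left.trans h.sup.le).trans hL) ((le_sup_right.trans h.sup.le).trans hL),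
    h.sup], quot_normalizer V h.norm, by rw [← quot_inf_of_le_right _ hV, h.disj, quot_bot]⟩

theorem SDP.quot_of_coprime (h : SDP K H L) (hL : L ≤ 𝐍(V))
    (hcop : (Nat.card K).Coprime (Nat.card H)) : SDP (quot V K) (quot V H) (quot V L) :=
  ⟨by rw [← quot_sup ((le_sup_left.trans h.sup.le).trans hL) ((le_sup_right.trans h.sup.le).trans hL),
    h.sup], quot_normalizer V h.norm, inf_eq_bot_of_coprime_card (quot_coprime V hcop)⟩

theorem DP.quot_of_le (h : DP K H L) (hL : L ≤ 𝐍(V)) (hV : V ≤ K) :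
    DP (quot V K) (quot V H) (quot V L) :=
  ⟨by rw [← quot_sup ((le_sup_left.trans h.sup.le).trans hL) ((le_sup_right.trans h.sup.le).trans hL),
    h.sup], quot_centralizer V h.cent, by rw [← quot_inf_of_le_left _ hV, h.disj, quot_bot]⟩

theorem DP.quot_of_coprime (h : DP K H L) (hL : L ≤ 𝐍(V))
    (hcop : (Nat.card K).Coprime (Nat.card H)) : DP (quot V K) (quot V H) (quot V L) :=
  ⟨by rw [← quot_sup ((le_sup_left.trans h.sup.le).trans hL) ((le_sup_right.trans h.sup.le).trans hL),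
    h.sup], quot_centralizer V h.cent, inf_eq_bot_of_coprime_card (quot_coprime V hcop)⟩

/-- In `L = K ⋊ H` the quotient `L / K` is the image of `H`. -/
theorem SDP.quot_eq (h : SDP K H L) : quot K L = quot K H := by
  rw [← h.sup, quot_self_sup h.norm]

/-- In `L = K ⋊ H` the quotient `L / K` is isomorphic to `H`. -/
theorem SDP.nonempty_equiv_quot (h : SDP K H L) : Nonempty (H ≃* quot K L) := by
  rw [h.quot_eq]
  exact ⟨quotEquivOfDisjoint h.norm h.disj⟩

/-! ### coprime action -/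

/-- `C_{H/V}(A) = C_H(A) V / V` for a coprime action. -/
theorem quot_inf_cent_of_coprime [Finite G] (hH : H ≤ 𝐍(V)) (hA : A ≤ 𝐍(V)) (hAH : A ≤ 𝐍(H))
    (hcop : (Nat.card ↥(V ⊓ H)).Coprime (Nat.card A))
    (hsol : Group.IsSolvable ↥(V ⊓ H) ∨ Group.IsSolvable A) :
    quot V (H ⊓ 𝐂(A)) = quot V H ⊓ 𝐂(quot V A) := by
  refine le_antisymm (quot_inf_centralizer_le V H A) ?_
  rintro y ⟨hy, hyc⟩
  obtain ⟨x, hx, hxN, rfl⟩ := mem_quot.1 hy
  obtain ⟨n, hn, c, hc, rfl⟩ := coprime_fixed_mod (norms_inf hA hAH) hcop.symm hsol.symm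
    (inf_le_right : V ⊓ H ≤ H) hx (fun a ha => by
      refine ⟨?_, H.mul_mem (conj_mem_of_mem_norm (hAH ha) hx) (H.inv_mem hx)⟩
      have h1 := hyc _ (coset_mem_quot (V := V) ha)
      change _ ∈ V
      rw [← coset_eq_iff' (mul_mem (mul_mem (hA ha) hxN) (inv_mem (hA ha))) hxN,
        coset_conj (hA ha) hxN, h1, mul_inv_cancel_right])
  rw [coset_mul (le_normalizer hn.1) (hH hc.1), coset_eq_one hn.1, one_mul]
  exact coset_mem_quot hc

theorem quot_inf_cent_of_coprime' [Finite G] (hH : H ≤ 𝐍(V)) (hA : A ≤ 𝐍(V)) (hAH : A ≤ 𝐍(H))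
    (hcop : (Nat.card V).Coprime (Nat.card A)) (hsol : Group.IsSolvable V ∨ Group.IsSolvable A) :
    quot V (H ⊓ 𝐂(A)) = quot V H ⊓ 𝐂(quot V A) :=
  quot_inf_cent_of_coprime hH hA hAH (hcop.coprime_dvd_left (card_dvd_of_le inf_le_left))
    (hsol.imp_left fun h => solvable_of_le h inf_le_left)

theorem quot_inf_cent_of_coprime'' [Finite G] (hH : H ≤ 𝐍(V)) (hA : A ≤ 𝐍(V)) (hAH : A ≤ 𝐍(H))
    (hcop : (Nat.card H).Coprime (Nat.card A)) (hsol : Group.IsSolvable H ∨ Group.IsSolvable A) :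
    quot V (H ⊓ 𝐂(A)) = quot V H ⊓ 𝐂(quot V A) :=
  quot_inf_cent_of_coprime hH hA hAH (hcop.coprime_dvd_left (card_dvd_of_le inf_le_right))
    (hsol.imp_left fun h => solvable_of_le h inf_le_right)

/-- `C_{H/V}(x) = C_H(x) V / V` for a coprime action of an element. -/
theorem quot_inf_cent1_of_coprime [Finite G] (hH : H ≤ 𝐍(V)) {x : G} (hx : x ∈ 𝐍(V))
    (hxH : x ∈ 𝐍(H)) (hcop : (Nat.card ↥(V ⊓ H)).Coprime (orderOf x)) :
    quot V (H ⊓ 𝐂₁(x)) = quot V H ⊓ 𝐂₁(coset V x) := by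
  rw [← cent_zpowers, ← cent_zpowers, ← quot_zpowers hx]
  refine quot_inf_cent_of_coprime hH (zpowers_le_of_mem hx) (zpowers_le_of_mem hxH)
    (by rwa [Nat.card_zpowers]) (Or.inr ?_)
  exact Group.isSolvable_of_comm fun a b => (inferInstance : IsMulCommutative (zpowers x)).is_comm.comm a b

theorem Semiregular.quot [Finite G] (h : Semiregular K H) (hK : K ≤ 𝐍(V))
    (hHK : H ≤ 𝐍(K)) (hcop : (Nat.card ↥(V ⊓ K)).Coprime (Nat.card H)) :
    Semiregular (quot V K) (quot V H) := by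
  intro y hy hy1
  obtain ⟨x, hx, hxN, rfl⟩ := mem_quot.1 hy
  have hx1 : x ≠ 1 := fun e => hy1 (by rw [e, coset_one])
  rw [← quot_inf_cent1_of_coprime hK hxN (hHK hx) (hcop.coprime_dvd_right (orderOf_dvd_card' hx)),
    h x hx hx1, quot_bot]

theorem Semiprime.quot [Finite G] (h : Semiprime K H) (hK : K ≤ 𝐍(V))
    (hHK : H ≤ 𝐍(K)) (hcop : (Nat.card ↥(V ⊓ K)).Coprime (Nat.card H)) :
    Semiprime (quot V K) (quot V H) := by
  intro y hy hy1
  obtain ⟨x, hx, hxN, rfl⟩ := mem_quot.1 hy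
  have hx1 : x ≠ 1 := fun e => hy1 (by rw [e, coset_one])
  refine le_antisymm ?_ (inf_le_inf_left _ (cent_le_cent1 hy))
  rw [← quot_inf_cent1_of_coprime hK hxN (hHK hx) (hcop.coprime_dvd_right (orderOf_dvd_card' hx)),
    h x hx hx1]
  exact quot_inf_centralizer_le V K H

theorem Frob.quot [Finite G] (h : Frob K H L) (hL : L ≤ 𝐍(V)) (hV : V < K)
    (hcop : (Nat.card K).Coprime (Nat.card H)) : Frob (quot V K) (quot V H) (quot V L) := by
  have hK : K ≤ 𝐍(V) := (le_sup_left.trans h.sdp.sup.le).trans hL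
  have hH : H ≤ 𝐍(V) := (le_sup_right.trans h.sdp.sup.le).trans hL
  refine ⟨h.sdp.quot_of_le hL hV.le, fun e => hV.not_ge ((quot_eq_bot_iff hK).1 e), fun e => ?_,
    h.reg.quot hK h.sdp.norm (hcop.coprime_dvd_left (card_dvd_of_le inf_le_right))⟩
  refine h.compl_ne (le_bot_iff.1 (h.sdp.disj ▸ le_inf ?_ le_rfl))
  exact ((quot_eq_bot_iff hH).1 e).trans hV.le

/-! ### chief factors -/

theorem ChiefFactor.minNormal (h : ChiefFactor H V U) : MinNormal (quot V U) (quot V H) := by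
  have hU : U ≤ 𝐍(V) := h.normalU.le.trans h.normV
  refine ⟨fun e => h.lt.not_ge ((quot_eq_bot_iff hU).1 e), quot_normalizer V h.normalU.norm,
    fun W hW hW1 hn => ?_⟩
  rcases h.max (coquot V W) (le_coquot V W) (coquot_le_of_le_quot h.lt.le hW)
    (le_normalizer_coquot h.normV hn) with e | e
  · exact absurd (by rw [← quot_coquot V W, e, quot_self]) hW1
  · rw [← e, quot_coquot]

theorem chiefFactor_of_minNormal (hV : V ⊴ H) {Ub : Subgroup (Qt V)} (hU : Ub ≤ quot V H)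
    (h : MinNormal Ub (quot V H)) : ChiefFactor H V (coquot V Ub) := by
  refine ⟨lt_of_le_of_ne (le_coquot V Ub) fun e => h.ne_bot ?_,
    coquot_normalIn hV ⟨hU, h.norm⟩, hV.norm, fun W hVW hWU hn => ?_⟩
  · rw [← quot_coquot V Ub, ← e, quot_self]
  · have hWN : W ≤ 𝐍(V) := hWU.trans (coquot_le_normalizer V Ub)
    by_cases e : quot V W = ⊥
    · exact Or.inl (le_antisymm ((quot_eq_bot_iff hWN).1 e) hVW)
    · right
      rw [← h.min (quot V W) ((quot_le_iff hWN).2 hWU) e (quot_normalizer V hn),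
        coquot_quot_of_le hWN hVW]

end CL.BG
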