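import Cfsg.Agent.BG.Nil
import Cfsg.Agent.BG.Prod
import Cfsg.Agent.BG.QuotPi
import Cfsg.Agent.Solv.FrattiniP

/-!
# Fitting and Frattini subgroups of subgroups of an ambient finite group, minimal normal subgroups
-/

set_option autoImplicit false
open Cfsg Subgroup

namespace CL.BG
variable {G G' : Type*} [Group G] [Group G'] {H K L M N A B X P : Subgroup G} {π : Set ℕ}

/-! ### the Fitting subgroup -/

theorem fit_le (H : Subgroup G) : fittingOf H ≤ H := CL.fittingOf_le H

theorem fit_char (H : Subgroup G) : CharIn (fittingOf H) H :=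
  haveI := CL.fitting_characteristic H
  CharIn.map_subtype (fittingSubgroup H)

theorem fit_normal (H : Subgroup G) : fittingOf H ⊴ H := (fit_char H).normalIn

theorem norm_le_norm_fit (H : Subgroup G) : 𝐍(H) ≤ 𝐍(fittingOf H) := (fit_char H).norm_le

theorem norms_fit (h : A ≤ 𝐍(H)) : A ≤ 𝐍(fittingOf H) := h.trans (norm_le_norm_fit H)

theorem fit_normal_trans (h : K ⊴ H) : fittingOf K ⊴ H := (fit_char K).trans_normalIn h

theorem le_fit (hN : N ⊴ H) (h : Group.IsNilpotent N) : N ≤ fittingOf H :=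
  CL.le_fittingOf hN.le hN.norm h

theorem le_fit_of_comm (hN : N ⊴ H) (h : IsMulCommutative N) : N ≤ fittingOf H :=
  le_fit hN (nil_of_comm h)

theorem center_le_fit (H : Subgroup G) : 𝐙(H) ≤ fittingOf H :=
  le_fit_of_comm (NormalIn.center H) (comm_center H)

theorem fit_top : fittingOf (⊤ : Subgroup G) = fittingSubgroup G := CL.fittingOf_top

theorem fit_bot : fittingOf (⊥ : Subgroup G) = ⊥ := le_bot_iff.1 (fit_le ⊥)

theorem fit_eq_self (h : Group.IsNilpotent H) : fittingOf H = H :=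
  le_antisymm (fit_le H) (le_fit (NormalIn.refl H) h)

section finite
variable [Finite G]

theorem fit_nil (H : Subgroup G) : Group.IsNilpotent (fittingOf H) := CL.fittingOf_isNilpotent H

theorem nil_of_le_fit (h : X ≤ fittingOf H) : Group.IsNilpotent X := nilpotent_of_le (fit_nil H) h

theorem le_fit_iff (hN : N ⊴ H) : N ≤ fittingOf H ↔ Group.IsNilpotent N :=
  ⟨nil_of_le_fit, le_fit hN⟩

theorem fit_eq_self_iff : fittingOf H = H ↔ Group.IsNilpotent H := CL.fittingOf_eq_self_iff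

theorem le_fit_of_isPGroup {p : ℕ} [Fact p.Prime] (hN : N ⊴ H) (h : IsPGroup p N) :
    N ≤ fittingOf H := le_fit hN (nil_of_isPGroup h)

/-- `F(H) ∩ K ≤ F(K)` for `K ≤ H`. -/
theorem fit_inf_le (hK : K ≤ H) : fittingOf H ⊓ K ≤ fittingOf K := CL.fittingOf_inf_le_fittingOf hK

theorem fit_le_fit_of_le (h : fittingOf H ≤ K) (hK : K ≤ H) : fittingOf H ≤ fittingOf K :=
  (le_inf le_rfl h).trans (fit_inf_le hK)

theorem fit_le_of_normal (h : K ⊴ H) : fittingOf K ≤ fittingOf H :=
  le_fit (fit_normal_trans h) (fit_nil K)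

theorem fit_eq_inf_of_normal (h : K ⊴ H) : fittingOf K = fittingOf H ⊓ K :=
  le_antisymm (le_inf (fit_le_of_normal h) (fit_le K)) (fit_inf_le h.le)

theorem fit_eq_of_le_of_normal (h : K ⊴ H) (hF : fittingOf H ≤ K) : fittingOf K = fittingOf H := by
  rw [fit_eq_inf_of_normal h, inf_eq_left.2 hF]

theorem fit_map_le (f : G →* G') (H : Subgroup G) : (fittingOf H).map f ≤ fittingOf (H.map f) :=
  le_fit ((fit_normal H).map f) (nilpotent_map (fit_nil H) f)

theorem fit_map {f : G →* G'} (hf : Function.Injective f) (H : Subgroup G) :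
    (fittingOf H).map f = fittingOf (H.map f) :=
  map_map_subtype_of_equiv hf H _ _ (CL.map_equiv_fitting (H.equivMapOfInjective f hf))

theorem cj_fit (g : G) (H : Subgroup G) : cj g (fittingOf H) = fittingOf (cj g H) :=
  fit_map (conj_injective g) H

theorem fit_subgroupOf (hK : K ≤ H) :
    (fittingOf K).subgroupOf H = fittingOf (K.subgroupOf H) := by
  apply map_injective H.subtype_injective
  rw [fit_map H.subtype_injective, map_subgroupOf_eq_of_le hK,
    map_subgroupOf_eq_of_le ((fit_le K).trans hK)]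

theorem quot_fit_le (V : Subgroup G) (H : Subgroup G) :
    quot V (fittingOf H) ≤ fittingOf (quot V H) := by
  refine le_fit ⟨quot_mono V (fit_le H), quot_normalizer V (fit_normal H).norm⟩ ?_
  exact quot_isNilpotent V (fit_nil H)

/-- BG 1.3: `C_H(F(H)) ≤ F(H)` for solvable `H`. -/
theorem inf_cent_fit_le (hH : Group.IsSolvable H) : H ⊓ 𝐂(fittingOf H) ≤ fittingOf H :=
  CL.inf_centralizer_fittingOf_le H

theorem inf_cent_fit_eq (hH : Group.IsSolvable H) : H ⊓ 𝐂(fittingOf H) = 𝐙(fittingOf H) :=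
  le_antisymm (le_inf (inf_cent_fit_le hH) inf_le_right) (inf_le_inf_right _ (fit_le H))

theorem le_fit_of_le_cent (hH : Group.IsSolvable H) (hX : X ≤ H) (h : X ≤ 𝐂(fittingOf H)) :
    X ≤ fittingOf H := (le_inf hX h).trans (inf_cent_fit_le hH)

theorem fit_ne_bot (hH : Group.IsSolvable H) (hne : H ≠ ⊥) : fittingOf H ≠ ⊥ :=
  CL.fittingOf_ne_bot hne

theorem eq_bot_of_fit_eq_bot (hH : Group.IsSolvable H) (h : fittingOf H = ⊥) : H = ⊥ := by
  by_contra hne
  exact fit_ne_bot hH hne h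

theorem fit_inf_ne_bot (hN : N ⊴ H) (hsol : Group.IsSolvable N) (hne : N ≠ ⊥) :
    fittingOf H ⊓ N ≠ ⊥ := by
  rw [← fit_eq_inf_of_normal hN]
  exact fit_ne_bot hsol hne

/-! ### cores of the Fitting subgroup -/

theorem pcore_le_fit (p : ℕ) [hp : Fact p.Prime] (H : Subgroup G) :
    piCoreOf {p} H ≤ fittingOf H :=
  le_fit_of_isPGroup (piCoreOf_charIn _ H).normalIn ((piGrp_piCoreOf _ H).isPGroup hp.out)

theorem core_fit_le (π : Set ℕ) (H : Subgroup G) : piCoreOf π (fittingOf H) ≤ piCoreOf π H :=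
  le_piCoreOf ((piCoreOf_charIn π _).trans_normalIn (fit_normal H)) (piGrp_piCoreOf π _)

theorem core_fit_normal (π : Set ℕ) (H : Subgroup G) : piCoreOf π (fittingOf H) ⊴ H :=
  (piCoreOf_charIn π _).trans_normalIn (fit_normal H)

theorem core_fit_eq_inf (π : Set ℕ) (H : Subgroup G) :
    piCoreOf π (fittingOf H) = fittingOf H ⊓ piCoreOf π H :=
  le_antisymm (le_inf (piCoreOf_charIn π _).le (core_fit_le π H))
    (nil_le_core (fit_nil H) inf_le_left ((piGrp_piCoreOf π H).inf_right _))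

/-- `pcore_Fitting`/`Fitting_pcore`: `F(O_π(H)) = O_π(F(H))`. -/
theorem fit_core (π : Set ℕ) (H : Subgroup G) :
    fittingOf (piCoreOf π H) = piCoreOf π (fittingOf H) := by
  rw [core_fit_eq_inf, fit_eq_inf_of_normal (piCoreOf_charIn π H).normalIn]

/-- `p_core_Fitting` -/
theorem pcore_fit (p : ℕ) [Fact p.Prime] (H : Subgroup G) :
    piCoreOf {p} (fittingOf H) = piCoreOf {p} H := by
  rw [core_fit_eq_inf, inf_eq_right.2 (pcore_le_fit p H)]

theorem sylow_pcore_fit (p : ℕ) [Fact p.Prime] (H : Subgroup G) :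
    SylowOf p (piCoreOf {p} H) (fittingOf H) := by
  have := nil_sylow_core (fit_nil H) p
  rwa [pcore_fit] at this

theorem le_core_of_le_fit (hX : X ≤ fittingOf H) (hπ : PiGrp π X) : X ≤ piCoreOf π H :=
  (nil_le_core (fit_nil H) hX hπ).trans (core_fit_le π H)

theorem le_pcore_of_le_fit {p : ℕ} [hp : Fact p.Prime] (hX : X ≤ fittingOf H) (h : IsPGroup p X) :
    X ≤ piCoreOf {p} H := le_core_of_le_fit hX ((piGrp_singleton_iff hp.out).2 h)

theorem fit_le_of_forall_pcore_le (h : ∀ p : ℕ, p.Prime → piCoreOf {p} H ≤ L) :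
    fittingOf H ≤ L := by
  refine nil_le_of_forall_core_le (fit_nil H) fun p hp _ => ?_
  have := Fact.mk hp
  rw [pcore_fit]
  exact h p hp

theorem fit_le_core_sup (π : Set ℕ) (H : Subgroup G) :
    fittingOf H ≤ piCoreOf π H ⊔ piCoreOf πᶜ H := by
  conv_lhs => rw [← (nil_core_dp (fit_nil H) π).sup]
  exact sup_le_sup (core_fit_le π H) (core_fit_le πᶜ H)

theorem fit_le_core_of_core_compl_eq_bot (h : piCoreOf πᶜ H = ⊥) : fittingOf H ≤ piCoreOf π H := by
  simpa [h] using fit_le_core_sup π H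

theorem fit_pi_of_core_compl_eq_bot (h : piCoreOf πᶜ H = ⊥) : PiGrp π (fittingOf H) :=
  (piGrp_piCoreOf π H).of_le (fit_le_core_of_core_compl_eq_bot h)

/-- `Fitting_eq_pcore` -/
theorem fit_eq_pcore {p : ℕ} [Fact p.Prime] (h : piCoreOf {p}ᶜ H = ⊥) :
    fittingOf H = piCoreOf {p} H :=
  le_antisymm (fit_le_core_of_core_compl_eq_bot h) (pcore_le_fit p H)

theorem fit_eq_pcore_of_isPGroup {p : ℕ} [Fact p.Prime] (h : IsPGroup p (fittingOf H)) :
    fittingOf H = piCoreOf {p} H :=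
  le_antisymm (le_pcore_of_le_fit le_rfl h) (pcore_le_fit p H)

/-- `cent_pcore`-type result: `C_H(O_π(H)) ≤ O_π(H)` when `O_{π'}(H) = 1`. -/
theorem inf_cent_core_le (hH : Group.IsSolvable H) (h : piCoreOf πᶜ H = ⊥) :
    H ⊓ 𝐂(piCoreOf π H) ≤ piCoreOf π H :=
  ((inf_le_inf_left _ (cent_anti (fit_le_core_of_core_compl_eq_bot h))).trans
    (inf_cent_fit_le hH)).trans (fit_le_core_of_core_compl_eq_bot h)

theorem exists_pcore_ne_bot (hH : Group.IsSolvable H) (hne : H ≠ ⊥) :
    ∃ p : ℕ, p.Prime ∧ piCoreOf {p} H ≠ ⊥ := by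
  by_contra h
  push Not at h
  exact fit_ne_bot hH hne (le_bot_iff.1 (fit_le_of_forall_pcore_le fun p hp => (h p hp).le))

theorem core_ne_bot_of_core_compl_eq_bot (hH : Group.IsSolvable H) (hne : H ≠ ⊥)
    (h : piCoreOf πᶜ H = ⊥) : piCoreOf π H ≠ ⊥ :=
  ne_bot_of_le (fit_ne_bot hH hne) (fit_le_core_of_core_compl_eq_bot h)

theorem mem_primesOf_fit_iff {p : ℕ} [hp : Fact p.Prime] :
    p ∈ primesOf (fittingOf H) ↔ piCoreOf {p} H ≠ ⊥ := by
  rw [(sylow_pcore_fit p H).ne_bot_iff, mem_primesOf]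
  exact and_iff_right hp.out

end finite

/-! ### the Frattini subgroup -/

theorem phi_le (H : Subgroup G) : frattiniOf H ≤ H := map_subtype_le _

theorem phi_char (H : Subgroup G) : CharIn (frattiniOf H) H := CharIn.map_subtype (frattini H)

theorem phi_normal (H : Subgroup G) : frattiniOf H ⊴ H := (phi_char H).normalIn

theorem norm_le_norm_phi (H : Subgroup G) : 𝐍(H) ≤ 𝐍(frattiniOf H) := (phi_char H).norm_le

theorem norms_phi (h : A ≤ 𝐍(H)) : A ≤ 𝐍(frattiniOf H) := h.trans (norm_le_norm_phi H)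

theorem phi_normal_trans (h : K ⊴ H) : frattiniOf K ⊴ H := (phi_char K).trans_normalIn h

theorem phi_subgroupOf_self (H : Subgroup G) : (frattiniOf H).subgroupOf H = frattini H :=
  comap_map_eq_self_of_injective H.subtype_injective _

theorem phi_map {f : G →* G'} (hf : Function.Injective f) (H : Subgroup G) :
    (frattiniOf H).map f = frattiniOf (H.map f) :=
  map_map_subtype_of_equiv hf H _ _ (CL.map_equiv_frattini (H.equivMapOfInjective f hf))

theorem cj_phi (g : G) (H : Subgroup G) : cj g (frattiniOf H) = frattiniOf (cj g H) :=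
  phi_map (conj_injective g) H

theorem phi_top : frattiniOf (⊤ : Subgroup G) = frattini G :=
  CL.map_equiv_frattini (topEquiv (G := G))

theorem phi_map_le (f : G →* G') (H : Subgroup G) :
    (frattiniOf H).map f ≤ frattiniOf (H.map f) := by
  have h := CL.map_frattini_le (f.subgroupMap_surjective H)
  rintro _ ⟨_, ⟨x, hx, rfl⟩, rfl⟩
  exact ⟨f.subgroupMap H x, h ⟨x, hx, rfl⟩, rfl⟩

/-- `Φ(H)` lies in every maximal subgroup of `H`. -/
theorem phi_le_of_maximal (h : M < H) (hmax : ∀ L : Subgroup G, M < L → L ≤ H → L = H) :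
    frattiniOf H ≤ M := by
  have hc : IsCoatom (M.subgroupOf H) := by
    refine ⟨fun ht => h.2 (subgroupOf_eq_top.1 ht), fun L hL => ?_⟩
    have h1 : M < L.map H.subtype := by
      rw [← map_subgroupOf_eq_of_le h.le]
      exact (map_lt_map_iff_of_injective H.subtype_injective).2 hL
    have h2 := hmax _ h1 (map_subtype_le _)
    apply map_injective H.subtype_injective
    rw [h2, ← MonoidHom.range_eq_map, range_subtype]
  rw [← map_subgroupOf_eq_of_le h.le]
  exact map_mono (frattini_le_coatom hc)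

section finite
variable [Finite G]

theorem phi_lt (hne : H ≠ ⊥) : frattiniOf H < H := CL.map_subtype_frattini_lt hne

/-- `Phi_nongen` -/
theorem eq_of_phi_sup_eq (h : frattiniOf H ⊔ X = H) : X = H :=
  CL.eq_of_sup_map_frattini_eq (by rwa [sup_comm] at h)

theorem le_of_le_phi_sup (hX : X ≤ H) (h : H ≤ frattiniOf H ⊔ X) : H ≤ X :=
  (eq_of_phi_sup_eq (le_antisymm (sup_le (phi_le H) hX) h)).ge

theorem phi_nil (H : Subgroup G) : Group.IsNilpotent (frattiniOf H) :=
  nilpotent_map (CL.isNilpotent_of_le_fitting CL.frattini_le_fitting) _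

theorem phi_le_fit (H : Subgroup G) : frattiniOf H ≤ fittingOf H := le_fit (phi_normal H) (phi_nil H)

/-- a normal subgroup of `H` contained in `Φ(K)` for some `K ≤ H` lies in `Φ(H)`. -/
theorem le_phi_of_normal (hN : N ⊴ H) (hK : K ≤ H) (h : N ≤ frattiniOf K) : N ≤ frattiniOf H := by
  have := hN.normal
  have h1 : N.subgroupOf H ≤ frattiniOf (K.subgroupOf H) := by
    rw [← map_le_map_iff_of_injective H.subtype_injective, phi_map H.subtype_injective,
      map_subgroupOf_eq_of_le hK, map_subgroupOf_eq_of_le hN.le]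
    exact h
  rw [← map_subgroupOf_eq_of_le hN.le]
  exact map_mono (CL.le_frattini_of_normal_of_le_map_frattini h1)

theorem phi_le_of_normal (h : K ⊴ H) : frattiniOf K ≤ frattiniOf H :=
  le_phi_of_normal (phi_normal_trans h) h.le le_rfl

theorem der_le_phi (h : Group.IsNilpotent H) : ⁅H, H⁆ ≤ frattiniOf H :=
  CL.commutator_le_map_frattini H

theorem pow_mem_phi {p : ℕ} [Fact p.Prime] (hH : IsPGroup p H) {x : G} (hx : x ∈ H) :
    x ^ p ∈ frattiniOf H := CL.pow_mem_map_frattini hH hx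

theorem phi_min {p : ℕ} [Fact p.Prime] (h1 : ⁅H, H⁆ ≤ N) (h2 : ∀ x ∈ H, x ^ p ∈ N) :
    frattiniOf H ≤ N := CL.map_frattini_le_of_commutator_le_of_pow_mem h1 h2

theorem phi_eq_bot_iff {p : ℕ} [Fact p.Prime] (hH : IsPGroup p H) :
    frattiniOf H = ⊥ ↔ IsElementaryAbelian p H := CL.map_frattini_eq_bot_iff hH

theorem phi_eq_bot_of_elem {p : ℕ} [Fact p.Prime] (h : IsElementaryAbelian p H) :
    frattiniOf H = ⊥ := (phi_eq_bot_iff (CL.isPGroup_of_isElementaryAbelian h)).2 h

theorem phi_mono {p : ℕ} [Fact p.Prime] (hH : IsPGroup p H) (hK : K ≤ H) :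
    frattiniOf K ≤ frattiniOf H := CL.map_subtype_frattini_mono hH hK

theorem quot_phi_elem {p : ℕ} [Fact p.Prime] (hH : IsPGroup p H) :
    IsElementaryAbelian p (quot (frattiniOf H) H) :=
  (quot_isElementaryAbelian_iff (phi_normal H).norm).2
    ⟨der_le_phi (nil_of_isPGroup hH), fun _ hx => pow_mem_phi hH hx⟩

/-- a proper subgroup lies in a maximal subgroup of `H` -/
theorem exists_maximal_in (h : X < H) :
    ∃ M : Subgroup G, X ≤ M ∧ M < H ∧ ∀ L : Subgroup G, M < L → L ≤ H → L = H := by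
  obtain ⟨M, hXM, hM, hmax⟩ := exists_maximal_ge (P := fun M => M < H) h
  refine ⟨M, hXM, hM, fun L h1 h2 => ?_⟩
  by_contra hne
  exact h1.ne' (hmax L (lt_of_le_of_ne h2 hne) h1.le)

omit [Finite G] in
theorem le_phi_iff (hX : X ≤ H) :
    X ≤ frattiniOf H ↔
      ∀ M : Subgroup G, M < H → (∀ L : Subgroup G, M < L → L ≤ H → L = H) → X ≤ M := by
  refine ⟨fun h M h1 h2 => h.trans (phi_le_of_maximal h1 h2), fun h => ?_⟩
  rw [← map_subgroupOf_eq_of_le hX]
  refine map_mono (CL.le_frattini_iff.2 fun M hM => ?_)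
  have h1 : M.map H.subtype < H := by
    refine lt_of_le_of_ne (map_subtype_le _) fun he => hM.1 ?_
    apply map_injective H.subtype_injective
    rw [he, ← MonoidHom.range_eq_map, range_subtype]
  have h2 := h _ h1 fun L hL hLH => by
    have h3 : M < L.subgroupOf H := by
      rw [← map_lt_map_iff_of_injective H.subtype_injective, map_subgroupOf_eq_of_le hLH]
      exact hL
    exact le_antisymm hLH (subgroupOf_eq_top.1 (hM.2 _ h3))
  intro x hx
  obtain ⟨y, hy, hxy⟩ := h2 hx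
  rwa [show y = x from Subtype.ext hxy] at hy

theorem isCyclic_of_quot_phi (h : IsCyclic (quot (frattiniOf H) H)) : IsCyclic H := by
  obtain ⟨x, hx, hle⟩ := exists_zpowers_sup_of_isCyclic_quot (phi_normal H).norm h
  rw [sup_comm] at hle
  have h1 := le_of_le_phi_sup (zpowers_le_of_mem hx) hle
  exact isCyclic_of_le (isCyclic_zpowers x) h1

theorem isCyclic_of_quot_der (hH : Group.IsNilpotent H) (h : IsCyclic (quot ⁅H, H⁆ H)) :
    IsCyclic H := by
  obtain ⟨x, hx, hle⟩ := exists_zpowers_sup_of_isCyclic_quot (NormalIn.der H).norm h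
  have h1 := le_of_le_phi_sup (zpowers_le_of_mem hx)
    (hle.trans (sup_le le_sup_right ((der_le_phi hH).trans le_sup_left)))
  exact isCyclic_of_le (isCyclic_zpowers x) h1

/-- in a nilpotent group, a subgroup covering `H / H'` is everything -/
theorem nil_eq_of_der_sup (hH : Group.IsNilpotent H) (hX : X ≤ H) (h : H ≤ ⁅H, H⁆ ⊔ X) : X = H :=
  le_antisymm hX (le_of_le_phi_sup hX (h.trans (sup_le_sup_right (der_le_phi hH) _)))

/-- a normal subgroup that is nilpotent modulo `Φ(H)` is nilpotent -/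
theorem nil_of_quot_phi (hN : N ⊴ H) (h : Group.IsNilpotent (quot (frattiniOf H) N)) :
    Group.IsNilpotent N := by
  have := hN.normal
  have hH := (phi_normal H).norm
  have hker : (quotHom hH).ker ≤ frattini H := by rw [ker_quotHom, phi_subgroupOf_self]
  have h1 := CL.isNilpotent_of_map_of_ker_le_frattini (quotHom_surjective hH) hker
    (N.subgroupOf H) ?_
  · exact (CL.isNilpotent_subgroupOf_iff hN.le).1 h1
  · rw [← nilpotent_map_iff (subtype_injective _)]
    refine nilpotent_of_le h ?_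
    rintro _ ⟨_, ⟨x, hx, rfl⟩, rfl⟩
    have h2 := coset_mem_quot (V := frattiniOf H) (H := N) (x := x) hx
    rwa [← coe_quotHom hH x] at h2

theorem prime_dvd_relIndex_phi {p : ℕ} (hp : p.Prime) (h : p ∣ Nat.card H) :
    p ∣ (frattiniOf H).relIndex H := by
  have := CL.dvd_index_frattini (G := H) hp h
  rwa [← phi_subgroupOf_self] at this

end finite

/-! ### minimal normal subgroups -/

namespace MinNormal

theorem eq_of_le (h : MinNormal M H) (hN : N ≤ M) (hne : N ≠ ⊥) (hH : H ≤ 𝐍(N)) : N = M :=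
  h.min N hN hne hH

theorem eq_bot_or_eq (h : MinNormal M H) (hN : N ≤ M) (hH : H ≤ 𝐍(N)) : N = ⊥ ∨ N = M := by
  by_cases hne : N = ⊥
  · exact Or.inl hne
  · exact Or.inr (h.min N hN hne hH)

theorem eq_bot_of_lt (h : MinNormal M H) (hN : N < M) (hH : H ≤ 𝐍(N)) : N = ⊥ :=
  (h.eq_bot_or_eq hN.le hH).resolve_right hN.ne

theorem le_or_inf_eq_bot (h : MinNormal M H) (hH : H ≤ 𝐍(N)) : M ≤ N ∨ M ⊓ N = ⊥ := by
  rcases h.eq_bot_or_eq inf_le_left (norms_inf h.norm hH) with h1 | h1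
  · exact Or.inr h1
  · exact Or.inl (inf_eq_left.1 h1)

theorem le_of_inf_ne_bot (h : MinNormal M H) (hH : H ≤ 𝐍(N)) (hne : M ⊓ N ≠ ⊥) : M ≤ N :=
  (h.le_or_inf_eq_bot hH).resolve_right hne

theorem comm (h : MinNormal M H) (hsol : Group.IsSolvable M) : IsMulCommutative M :=
  commutator_self_eq_bot_iff.1
    (h.eq_bot_of_lt (der_lt_of_solvable hsol h.ne_bot) (norms_der h.norm))

theorem map {f : G →* G'} (hf : Function.Injective f) (h : MinNormal M H) :
    MinNormal (M.map f) (H.map f) := by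
  refine ⟨fun he => h.ne_bot ((map_eq_bot_iff_of_injective _ hf).1 he), map_le_norm_map h.norm f,
    fun W hW hne hH => ?_⟩
  have hW' : (W.comap f).map f = W := map_comap_eq_self (hW.trans (map_le_range _ _))
  rw [← hW'] at hW hne hH ⊢
  rw [h.min _ ((map_le_map_iff_of_injective hf).1 hW) (fun he => hne (by rw [he, Subgroup.map_bot]))
    ((map_le_norm_map_iff hf).1 hH)]

theorem cj (h : MinNormal M H) (g : G) : MinNormal (cj g M) (cj g H) := h.map (conj_injective g)

theorem of_card_prime (hM : (Nat.card M).Prime) (hH : H ≤ 𝐍(M)) : MinNormal M H :=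
  ⟨ne_bot_of_card_prime hM, hH, fun _ hW hne _ => eq_of_le_of_prime hM hW hne⟩

theorem mono (h : MinNormal M H) (hHK : H ≤ K) (hK : K ≤ 𝐍(M)) : MinNormal M K :=
  ⟨h.ne_bot, hK, fun W hW hne hn => h.min W hW hne (hHK.trans hn)⟩

theorem isMinNormal (h : MinNormal M ⊤) : CL.IsMinNormal M :=
  ⟨normalIn_top_iff.1 ⟨le_top, h.norm⟩, h.ne_bot,
    fun W hW hle => h.eq_bot_or_eq hle (haveI := hW; (NormalIn.of_normal W).norm)⟩

variable [Finite G]

/-- a nilpotent normal subgroup centralises every solvable minimal normal subgroup -/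
theorem le_cent_of_nil (h : MinNormal M H) (hMH : M ≤ H) (hsol : Group.IsSolvable M) (hN : N ⊴ H)
    (hnil : Group.IsNilpotent N) : N ≤ 𝐂(M) := by
  have h1 : Group.IsNilpotent ↥(M ⊔ N) :=
    nil_sup_of_normal (nil_of_comm (h.comm hsol)) hnil ⟨hMH, h.norm⟩ hN
  have h2 := nil_commutator_lt h1 le_sup_left le_sup_right (hN.le.trans h.norm) h.ne_bot
  exact commutator_eq_bot_iff''.1 (h.eq_bot_of_lt h2 (norms_commutator h.norm hN.norm))

theorem pow_eq_one (h : MinNormal M H) (hsol : Group.IsSolvable M) {p : ℕ} (hp : p.Prime)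
    (hd : p ∣ Nat.card M) : ∀ x ∈ M, x ^ p = 1 := by
  have := h.comm hsol
  have := CL.powKerSubgroup_characteristic M p
  have hc := CharIn.map_subtype (CL.powKerSubgroup M p)
  obtain ⟨y, hy, ho⟩ := exists_orderOf_eq_of_dvd_card hp hd
  have hne : (CL.powKerSubgroup M p).map M.subtype ≠ ⊥ := by
    refine ne_bot_of_mem (x := y) ⟨⟨y, hy⟩, CL.mem_powKerSubgroup.2 (Subtype.ext ?_), rfl⟩ ?_
    · simp [← ho]
    · rintro rfl
      rw [orderOf_one] at ho
      exact hp.one_lt.ne ho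
  have he := h.min _ hc.le hne (hc.norms h.norm)
  intro x hx
  rw [← he] at hx
  obtain ⟨z, hz, rfl⟩ := hx
  exact congrArg Subtype.val (CL.mem_powKerSubgroup.1 hz)

theorem elem_of_dvd (h : MinNormal M H) (hsol : Group.IsSolvable M) {p : ℕ} (hp : p.Prime)
    (hd : p ∣ Nat.card M) : IsElementaryAbelian p M :=
  ⟨h.comm hsol, h.pow_eq_one hsol hp hd⟩

theorem exists_elem (h : MinNormal M H) (hsol : Group.IsSolvable M) :
    ∃ p : ℕ, p.Prime ∧ IsElementaryAbelian p M := by
  obtain ⟨p, hp, hd⟩ := exists_prime_dvd_card h.ne_bot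
  exact ⟨p, hp, h.elem_of_dvd hsol hp hd⟩

theorem elem_of_isPGroup {p : ℕ} [hp : Fact p.Prime] (h : MinNormal M H) (hM : IsPGroup p M) :
    IsElementaryAbelian p M :=
  h.elem_of_dvd (solvable_of_isPGroup hM) hp.out (dvd_card_of_isPGroup hp.out hM h.ne_bot)

theorem le_center_fit (h : MinNormal M H) (hMH : M ≤ H) (hsol : Group.IsSolvable M) :
    M ≤ 𝐙(fittingOf H) :=
  le_inf (le_fit_of_comm ⟨hMH, h.norm⟩ (h.comm hsol))
    (cent_symm (h.le_cent_of_nil hMH hsol (fit_normal H) (fit_nil H)))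

theorem card_prime_of_le_cent (h : MinNormal M H) (hc : H ≤ 𝐂(M)) : (Nat.card M).Prime := by
  obtain ⟨p, hp, hd⟩ := exists_prime_dvd_card h.ne_bot
  obtain ⟨X, hX, hc'⟩ := exists_card_eq_of_dvd_card hp hd
  have hXp : (Nat.card X).Prime := hc' ▸ hp
  rw [← h.min X hX (ne_bot_of_card_prime hXp) (le_norm_of_le_cent (hc.trans (cent_anti hX)))]
  exact hXp

theorem card_prime_of_nil (h : MinNormal M H) (hMH : M ≤ H) (hH : Group.IsNilpotent H) :
    (Nat.card M).Prime :=
  h.card_prime_of_le_cent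
    (h.le_cent_of_nil hMH (solvable_of_le (solvable_of_nil hH) hMH) (NormalIn.refl H) hH)

end MinNormal

theorem exists_minNormal_le [Finite G] (hN : N ≠ ⊥) (hH : H ≤ 𝐍(N)) :
    ∃ M : Subgroup G, MinNormal M H ∧ M ≤ N := by
  obtain ⟨M, hMN, ⟨h1, h2⟩, hmin⟩ :=
    exists_minimal_le (P := fun M : Subgroup G => M ≠ ⊥ ∧ H ≤ 𝐍(M)) ⟨hN, hH⟩
  exact ⟨M, ⟨h1, h2, fun W hW hne hn => hmin W ⟨hne, hn⟩ hW⟩, hMN⟩

/-- a nontrivial solvable subgroup contains a nontrivial elementary abelian subgroup with the same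
normaliser (at least) -/
theorem exists_elem_minNormal_le [Finite G] (hsol : Group.IsSolvable N) (hN : N ≠ ⊥)
    (hH : H ≤ 𝐍(N)) :
    ∃ (p : ℕ) (M : Subgroup G), p.Prime ∧ MinNormal M H ∧ M ≤ N ∧ IsElementaryAbelian p M := by
  obtain ⟨M, hM, hle⟩ := exists_minNormal_le hN hH
  obtain ⟨p, hp, he⟩ := hM.exists_elem (solvable_of_le hsol hle)
  exact ⟨p, M, hp, hM, hle, he⟩

/-! ### chief factors -/

namespace ChiefFactor
variable {V U : Subgroup G}

theorem le (h : ChiefFactor H V U) : V ≤ U := h.lt.le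

theorem normalV (h : ChiefFactor H V U) : V ⊴ H := ⟨h.le.trans h.normalU.le, h.normV⟩

theorem norm_U_V (h : ChiefFactor H V U) : U ≤ 𝐍(V) := h.normalU.le.trans h.normV

theorem eq_of_lt {W : Subgroup G} (h : ChiefFactor H V U) (h1 : V ≤ W) (h2 : W < U)
    (hW : H ≤ 𝐍(W)) : W = V := (h.max W h1 h2.le hW).resolve_right h2.ne

theorem eq_of_gt {W : Subgroup G} (h : ChiefFactor H V U) (h1 : V < W) (h2 : W ≤ U)
    (hW : H ≤ 𝐍(W)) : W = U := (h.max W h1.le h2 hW).resolve_left h1.ne'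

theorem bot_iff : ChiefFactor H ⊥ U ↔ MinNormal U H ∧ U ≤ H := by
  constructor
  · intro h
    exact ⟨⟨h.lt.ne', h.normalU.norm, fun W hW hne hn =>
      (h.max W bot_le hW hn).resolve_left hne⟩, h.normalU.le⟩
  · rintro ⟨h, hle⟩
    exact ⟨bot_lt_iff_ne_bot.2 h.ne_bot, ⟨hle, h.norm⟩, by rw [norm_bot]; exact le_top,
      fun W _ hW hn => h.eq_bot_or_eq hW hn⟩

variable [Finite G]

theorem exists_elem (h : ChiefFactor H V U) (hsol : Group.IsSolvable U) :
    ∃ p : ℕ, p.Prime ∧ IsElementaryAbelian p (quot V U) :=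
  h.minNormal.exists_elem (quot_isSolvable V hsol)

theorem elem_of_dvd (h : ChiefFactor H V U) (hsol : Group.IsSolvable U) {p : ℕ} (hp : p.Prime)
    (hd : p ∣ V.relIndex U) : IsElementaryAbelian p (quot V U) :=
  h.minNormal.elem_of_dvd (quot_isSolvable V hsol) hp (by rwa [card_quot h.norm_U_V])

/-- a nilpotent normal subgroup centralises every solvable chief factor -/
theorem commutator_le_of_nil (h : ChiefFactor H V U) (hsol : Group.IsSolvable U) (hN : N ⊴ H)
    (hnil : Group.IsNilpotent N) : ⁅U, N⁆ ≤ V := by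
  have h1 := h.minNormal.le_cent_of_nil (quot_mono V h.normalU.le) (quot_isSolvable V hsol)
    (hN.quot V) (quot_isNilpotent V hnil)
  rw [commutator_comm]
  exact (quot_le_centralizer_iff (hN.le.trans h.normV) h.norm_U_V).1 h1

end ChiefFactor

theorem exists_chiefFactor_bot' [Finite G] {V U : Subgroup G} (hVU : V < U) (hU : U ⊴ H)
    (hV : H ≤ 𝐍(V)) : ∃ W : Subgroup G, ChiefFactor H V W ∧ W ≤ U := by
  obtain ⟨W, hWU, ⟨h1, h2⟩, hmin⟩ :=
    exists_minimal_le (P := fun W : Subgroup G => V < W ∧ H ≤ 𝐍(W)) ⟨hVU, hU.norm⟩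
  refine ⟨W, ⟨h1, ⟨hWU.trans hU.le, h2⟩, hV, fun X hVX hXW hX => ?_⟩, hWU⟩
  rcases hVX.eq_or_lt with he | hlt
  · exact Or.inl he.symm
  · exact Or.inr (hmin X ⟨hlt, hX⟩ hXW)

theorem exists_chiefFactor_top' [Finite G] {V U : Subgroup G} (hVU : V < U) (hU : U ⊴ H)
    (hV : H ≤ 𝐍(V)) : ∃ W : Subgroup G, ChiefFactor H W U ∧ V ≤ W := by
  obtain ⟨W, hVW, ⟨h1, h2⟩, hmax⟩ :=
    exists_maximal_ge (P := fun W : Subgroup G => W < U ∧ H ≤ 𝐍(W)) ⟨hVU, hV⟩
  refine ⟨W, ⟨h1, hU, h2, fun X hWX hXU hX => ?_⟩, hVW⟩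
  rcases hXU.eq_or_lt with he | hlt
  · exact Or.inr he
  · exact Or.inl (hmax X ⟨hlt, hX⟩ hWX)

/-- Downward induction along a chief series: a property of normal subgroups of `H` that holds for
`U` and passes from the top to the bottom of every chief factor between `V` and `U` holds for `V`. -/
theorem chief_induction_down [Finite G] {V U : Subgroup G} {Q : Subgroup G → Prop} (hVU : V ≤ U)
    (hU : U ⊴ H) (hV : H ≤ 𝐍(V)) (h0 : Q U)
    (hstep : ∀ W₁ W₂ : Subgroup G, V ≤ W₁ → W₂ ≤ U → ChiefFactor H W₁ W₂ → Q W₂ → Q W₁) : Q V := by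
  have key : ∀ W : Subgroup G, V ≤ W → W ≤ U → H ≤ 𝐍(W) → Q W := by
    intro W
    induction W using subgroup_induction_gt with
    | ih W ih =>
      intro h1 h2 h3
      rcases h2.eq_or_lt with rfl | hlt
      · exact h0
      · obtain ⟨W₂, hc, hle⟩ := exists_chiefFactor_bot' hlt hU h3
        exact hstep W W₂ h1 hle hc (ih W₂ hc.lt (h1.trans hc.le) hle hc.normalU.norm)
  exact key V le_rfl hVU hV

/-- Upward induction along a chief series. -/
theorem chief_induction_up [Finite G] {V U : Subgroup G} {Q : Subgroup G → Prop} (hVU : V ≤ U)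
    (hU : U ⊴ H) (hV : H ≤ 𝐍(V)) (h0 : Q V)
    (hstep : ∀ W₁ W₂ : Subgroup G, V ≤ W₁ → W₂ ≤ U → ChiefFactor H W₁ W₂ → Q W₁ → Q W₂) : Q U := by
  have key : ∀ W : Subgroup G, V ≤ W → W ≤ U → H ≤ 𝐍(W) → Q W := by
    intro W
    induction W using subgroup_induction with
    | ih W ih =>
      intro h1 h2 h3
      rcases h1.eq_or_lt with rfl | hlt
      · exact h0
      · obtain ⟨W₁, hc, hle⟩ := exists_chiefFactor_top' hlt ⟨h2.trans hU.le, h3⟩ hV
        exact hstep W₁ W hle h2 hc (ih W₁ hc.lt hle (hc.le.trans h2) hc.normV)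
  exact key U hVU le_rfl hU.norm

end CL.BG
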