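import Cfsg.Agent.BG.Defs

/-!
# The minimal simple group of odd order: proper and maximal subgroups, uniqueness subgroups

`mFT_*` : facts about `hG : IsMinSimpleOddOrder G`;  `mmax_*` : facts about maximal subgroups;
`UniqMax.*`, `inU_*` : the sets `ℳ(X)` and `𝒰`;  `maxInv_*` : the sets `И*(A; π)`.
-/

namespace CL.BG

open Cfsg

variable {G : Type*} [Group G]

/-! ### the minimal counterexample -/

theorem mFT_finite (hG : IsMinSimpleOddOrder G) : Finite G :=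
  Nat.finite_of_card_ne_zero (by
    intro h; have := hG.1; rw [h] at this; exact absurd this (by decide))

theorem mFT_simple (hG : IsMinSimpleOddOrder G) : IsSimpleGroup G := hG.2.1

theorem mFT_not_comm (hG : IsMinSimpleOddOrder G) : ¬ IsMulCommutative G := hG.2.2.1

theorem mFT_odd_card (hG : IsMinSimpleOddOrder G) : Odd (Nat.card G) := hG.1

theorem mFT_odd (hG : IsMinSimpleOddOrder G) (H : Subgroup G) : Odd (Nat.card H) :=
  Odd.of_dvd_nat hG.1 (Subgroup.card_subgroup_dvd_card H)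

theorem mFT_odd_index (hG : IsMinSimpleOddOrder G) (H : Subgroup G) : Odd H.index :=
  Odd.of_dvd_nat hG.1 (Subgroup.index_dvd_card H)

theorem mFT_odd_relIndex (hG : IsMinSimpleOddOrder G) (H K : Subgroup G) : Odd (H.relIndex K) :=
  Odd.of_dvd_nat (mFT_odd hG K) (Subgroup.relIndex_dvd_card H K)

theorem mFT_odd_orderOf (hG : IsMinSimpleOddOrder G) (x : G) : Odd (orderOf x) :=
  Odd.of_dvd_nat hG.1 (orderOf_dvd_natCard x)

theorem mFT_odd_of_dvd (hG : IsMinSimpleOddOrder G) {n : ℕ} {H : Subgroup G}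
    (h : n ∣ Nat.card H) : Odd n :=
  Odd.of_dvd_nat (mFT_odd hG H) h

theorem mFT_ne_two_of_dvd (hG : IsMinSimpleOddOrder G) {p : ℕ} {H : Subgroup G}
    (h : p ∣ Nat.card H) : p ≠ 2 := by
  rintro rfl
  exact absurd (mFT_odd_of_dvd hG h) (by decide)

theorem mFT_ne_two_of_dvd_card (hG : IsMinSimpleOddOrder G) {p : ℕ}
    (h : p ∣ Nat.card G) : p ≠ 2 := by
  rintro rfl
  exact absurd (Odd.of_dvd_nat hG.1 h) (by decide)

/-- a prime for which there is a nontrivial `p`-subgroup is odd -/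
theorem mFT_ne_two_of_pgroup (hG : IsMinSimpleOddOrder G) {p : ℕ} [Fact p.Prime] {P : Subgroup G}
    (hP : IsPGroup p P) (h1 : P ≠ ⊥) : p ≠ 2 := by
  have := mFT_finite hG
  rcases hP.card_eq_or_dvd with h | h
  · exact absurd (Subgroup.eq_bot_of_card_eq P h) h1
  · exact mFT_ne_two_of_dvd hG h

theorem mFT_sol (hG : IsMinSimpleOddOrder G) {H : Subgroup G} (hH : H ≠ ⊤) :
    Group.IsSolvable H := hG.2.2.2 H hH

theorem mFT_not_sol (hG : IsMinSimpleOddOrder G) : ¬ Group.IsSolvable G := by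
  intro h
  have := mFT_simple hG
  exact mFT_not_comm hG ⟨⟨IsSimpleGroup.comm_iff_isSolvable.2 h⟩⟩

theorem mFT_top_ne_bot (hG : IsMinSimpleOddOrder G) : (⊤ : Subgroup G) ≠ ⊥ := by
  have := mFT_simple hG
  exact top_ne_bot

theorem mFT_bot_ne_top (hG : IsMinSimpleOddOrder G) : (⊥ : Subgroup G) ≠ ⊤ :=
  (mFT_top_ne_bot hG).symm

theorem mFT_ne_top_of_sol (hG : IsMinSimpleOddOrder G) {H : Subgroup G}
    (hH : Group.IsSolvable H) : H ≠ ⊤ := by
  rintro rfl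
  exact mFT_not_sol hG (Group.isSolvable_of_surjective (f := (⊤ : Subgroup G).subtype)
    (fun x => ⟨⟨x, Subgroup.mem_top x⟩, rfl⟩))

theorem mFT_sol_iff (hG : IsMinSimpleOddOrder G) {H : Subgroup G} :
    Group.IsSolvable H ↔ H ≠ ⊤ := ⟨mFT_ne_top_of_sol hG, mFT_sol hG⟩

theorem mFT_ne_top_of_nilpotent (hG : IsMinSimpleOddOrder G) {H : Subgroup G}
    (hH : Group.IsNilpotent H) : H ≠ ⊤ :=
  mFT_ne_top_of_sol hG inferInstance

theorem mFT_ne_top_of_comm (hG : IsMinSimpleOddOrder G) {H : Subgroup G}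
    (hH : IsMulCommutative H) : H ≠ ⊤ :=
  mFT_ne_top_of_sol hG (Group.isSolvable_of_comm fun a b => hH.1.1 a b)

theorem mFT_pgroup_ne_top (hG : IsMinSimpleOddOrder G) {p : ℕ} [Fact p.Prime] {P : Subgroup G}
    (hP : IsPGroup p P) : P ≠ ⊤ := by
  have := mFT_finite hG
  exact mFT_ne_top_of_nilpotent hG hP.isNilpotent

theorem mFT_normal (hG : IsMinSimpleOddOrder G) {H : Subgroup G} (hH : H.Normal) :
    H = ⊥ ∨ H = ⊤ :=
  (mFT_simple hG).eq_bot_or_eq_top_of_normal H hH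

theorem mFT_norm_ne_top (hG : IsMinSimpleOddOrder G) {H : Subgroup G} (h1 : H ≠ ⊥) (hH : H ≠ ⊤) :
    𝐍(H) ≠ ⊤ := by
  intro h
  rcases mFT_normal hG (Subgroup.normalizer_eq_top_iff.1 h) with h | h
  · exact h1 h
  · exact hH h

theorem mFT_norm_pgroup_ne_top (hG : IsMinSimpleOddOrder G) {p : ℕ} [Fact p.Prime]
    {P : Subgroup G} (hP : IsPGroup p P) (h1 : P ≠ ⊥) : 𝐍(P) ≠ ⊤ :=
  mFT_norm_ne_top hG h1 (mFT_pgroup_ne_top hG hP)

theorem mFT_center (hG : IsMinSimpleOddOrder G) : Subgroup.center G = ⊥ := by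
  rcases mFT_normal hG (H := Subgroup.center G) inferInstance with h | h
  · exact h
  · exfalso
    refine mFT_not_comm hG ⟨⟨fun a b => ?_⟩⟩
    have hb : b ∈ Subgroup.center G := h ▸ Subgroup.mem_top b
    exact Subgroup.mem_center_iff.1 hb a

theorem mFT_commutator (hG : IsMinSimpleOddOrder G) : commutator G = ⊤ := by
  rcases mFT_normal hG (H := commutator G) inferInstance with h | h
  · exact absurd ((commutator_eq_bot_iff G).1 h) (mFT_not_comm hG)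
  · exact h

theorem mFT_cent1_ne_top (hG : IsMinSimpleOddOrder G) {x : G} (hx : x ≠ 1) : 𝐂₁(x) ≠ ⊤ := by
  intro h
  have := Subgroup.centralizer_eq_top_iff_subset.1 h (Set.mem_singleton x)
  rw [mFT_center hG] at this
  exact hx this

theorem mFT_cent_ne_top (hG : IsMinSimpleOddOrder G) {H : Subgroup G} (h1 : H ≠ ⊥) :
    𝐂(H) ≠ ⊤ := by
  intro h
  have := Subgroup.centralizer_eq_top_iff_subset.1 h
  rw [mFT_center hG] at this
  exact h1 (eq_bot_iff.2 fun x hx => this hx)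

/-- a subgroup normalising a nontrivial proper subgroup is proper -/
theorem mFT_ne_top_of_le_norm (hG : IsMinSimpleOddOrder G) {H X : Subgroup G} (h1 : H ≠ ⊥)
    (hH : H ≠ ⊤) (hX : X ≤ 𝐍(H)) : X ≠ ⊤ :=
  ne_top_of_le_ne_top (mFT_norm_ne_top hG h1 hH) hX

/-- a subgroup centralising a nontrivial subgroup is proper -/
theorem mFT_ne_top_of_le_cent (hG : IsMinSimpleOddOrder G) {H X : Subgroup G} (h1 : H ≠ ⊥)
    (hX : X ≤ 𝐂(H)) : X ≠ ⊤ :=
  ne_top_of_le_ne_top (mFT_cent_ne_top hG h1) hX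

theorem mFT_sol_of_le (hG : IsMinSimpleOddOrder G) {H X : Subgroup G} (hH : H ≠ ⊤) (hX : X ≤ H) :
    Group.IsSolvable X :=
  mFT_sol hG (ne_top_of_le_ne_top hH hX)

/-! ### maximal subgroups -/

theorem mmax_ne_top {M : Subgroup G} (hM : IsCoatom M) : M ≠ ⊤ := hM.1

theorem mmax_max {M H : Subgroup G} (hM : IsCoatom M) (hH : H ≠ ⊤) (h : M ≤ H) : H = M :=
  ((hM.le_iff.1 h).resolve_left hH)

theorem mmax_eq {M H : Subgroup G} (hM : IsCoatom M) (hH : IsCoatom H) (h : M ≤ H) : M = H :=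
  (mmax_max hM hH.1 h).symm

theorem mmax_sub_ne_top {M H : Subgroup G} (hM : IsCoatom M) (h : H ≤ M) : H ≠ ⊤ :=
  ne_top_of_le_ne_top hM.1 h

theorem mmax_exists [Finite G] {H : Subgroup G} (hH : H ≠ ⊤) : ∃ M, IsCoatom M ∧ H ≤ M :=
  (eq_top_or_exists_le_coatom H).resolve_left hH

theorem mmax_any (hG : IsMinSimpleOddOrder G) : ∃ M : Subgroup G, IsCoatom M := by
  have := mFT_finite hG
  obtain ⟨M, hM, -⟩ := mmax_exists (mFT_bot_ne_top hG)
  exact ⟨M, hM⟩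

theorem mmax_sol (hG : IsMinSimpleOddOrder G) {M : Subgroup G} (hM : IsCoatom M) :
    Group.IsSolvable M := mFT_sol hG hM.1

theorem mmax_sub_sol (hG : IsMinSimpleOddOrder G) {M H : Subgroup G} (hM : IsCoatom M)
    (h : H ≤ M) : Group.IsSolvable H := mFT_sol_of_le hG hM.1 h

theorem mmax_ne_bot (hG : IsMinSimpleOddOrder G) {M : Subgroup G} (hM : IsCoatom M) : M ≠ ⊥ := by
  rintro rfl
  have := mFT_simple hG
  obtain ⟨x, hx⟩ := exists_ne (1 : G)
  have h1 : Subgroup.zpowers x ≠ ⊤ := mFT_ne_top_of_comm hG inferInstance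
  have := mmax_max hM h1 bot_le
  exact hx (Subgroup.zpowers_eq_bot.1 this)

/-- `N(X) = M` as soon as the maximal subgroup `M` normalises the nontrivial proper `X`. -/
theorem mmax_norm (hG : IsMinSimpleOddOrder G) {M X : Subgroup G} (hM : IsCoatom M) (h1 : X ≠ ⊥)
    (hX : X ≠ ⊤) (h : M ≤ 𝐍(X)) : 𝐍(X) = M :=
  mmax_max hM (mFT_norm_ne_top hG h1 hX) h

theorem mmax_normal (hG : IsMinSimpleOddOrder G) {M X : Subgroup G} (hM : IsCoatom M)
    (h : X ⊴ M) (h1 : X ≠ ⊥) : 𝐍(X) = M :=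
  mmax_norm hG hM h1 (mmax_sub_ne_top hM h.le) h.norm

theorem mmax_normal_cent_le (hG : IsMinSimpleOddOrder G) {M X : Subgroup G} (hM : IsCoatom M)
    (h : X ⊴ M) (h1 : X ≠ ⊥) : 𝐂(X) ≤ M :=
  (Subgroup.centralizer_le_normalizer _).trans (mmax_normal hG hM h h1).le

/-- a nontrivial proper subgroup normalised by the maximal subgroup `M` lies in `M` -/
theorem mmax_le_of_norm (hG : IsMinSimpleOddOrder G) {M X : Subgroup G} (hM : IsCoatom M)
    (hX : X ≠ ⊤) (h : M ≤ 𝐍(X)) : X ≤ M := by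
  by_cases h1 : X = ⊥
  · rw [h1]; exact bot_le
  · exact Subgroup.le_normalizer.trans (mmax_norm hG hM h1 hX h).le

theorem norm_mmax (hG : IsMinSimpleOddOrder G) {M : Subgroup G} (hM : IsCoatom M) : 𝐍(M) = M :=
  mmax_norm hG hM (mmax_ne_bot hG hM) hM.1 Subgroup.le_normalizer

theorem cent_mmax_le (hG : IsMinSimpleOddOrder G) {M : Subgroup G} (hM : IsCoatom M) :
    𝐂(M) ≤ M :=
  (Subgroup.centralizer_le_normalizer _).trans (norm_mmax hG hM).le

/-- normaliser of a subset `A` of a maximal subgroup `M` that normalises it -/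
theorem mmax_normal_set (hG : IsMinSimpleOddOrder G) {M : Subgroup G} (hM : IsCoatom M)
    {A : Set G} (hA : A ⊆ M) (hn : M ≤ Subgroup.normalizer A) (h1 : ∃ a ∈ A, a ≠ 1) :
    Subgroup.normalizer A = M := by
  obtain ⟨a, ha, ha1⟩ := h1
  have hc : Subgroup.closure A ≠ ⊥ := fun h =>
    ha1 (Subgroup.mem_bot.1 (h ▸ Subgroup.subset_closure ha))
  have hle : Subgroup.closure A ≤ M := (Subgroup.closure_le _).2 hA
  exact mmax_max hM (ne_top_of_le_ne_top (mFT_norm_ne_top hG hc (mmax_sub_ne_top hM hle))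
    (Subgroup.normalizer_le_normalizer_closure A)) hn

theorem mmax_cj_iff (g : G) {M : Subgroup G} : IsCoatom (cj g M) ↔ IsCoatom M :=
  OrderIso.isCoatom_iff (MulAut.conj g).mapSubgroup M

theorem mmax_cj (g : G) {M : Subgroup G} (hM : IsCoatom M) : IsCoatom (cj g M) :=
  (mmax_cj_iff g).2 hM

theorem mmax_cj_eq_iff (hG : IsMinSimpleOddOrder G) {M : Subgroup G} (hM : IsCoatom M) {g : G} :
    cj g M = M ↔ g ∈ M := by
  conv_rhs => rw [← norm_mmax hG hM]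
  exact Subgroup.mem_normalizer_iff_map_conj_eq.symm

/-- A Sylow subgroup of `M` whose normaliser lies in `M` is a Sylow subgroup of `G`
(no hypothesis on `G` or `M` is needed). -/
theorem sylowOf_top_of_norm_le [Finite G] {p : ℕ} [Fact p.Prime] {M P : Subgroup G}
    (hP : SylowOf p P M) (hN : 𝐍(P) ≤ M) : SylowOf p P ⊤ := by
  have hp : p.Prime := Fact.out
  refine ⟨le_top, hP.2.1, fun r _ hr => ?_⟩
  obtain rfl : r = p := hr
  have hcard : ∃ n, Nat.card P = r ^ n :=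
    ⟨_, Nat.eq_prime_pow_of_unique_prime_dvd Nat.card_pos.ne' fun hd hdvd => hP.2.1 _ hd hdvd⟩
  obtain ⟨n, hn⟩ := hcard
  have h := Sylow.card_quotient_normalizer_modEq_card_quotient hn
  rw [Subgroup.relIndex_top_right]
  intro hd
  have h2 : r ∣ P.relIndex 𝐍(P) := (Nat.modEq_zero_iff_dvd.1 (h.trans (Nat.modEq_zero_iff_dvd.2 hd)))
  exact hP.2.2 r hp rfl (h2.trans (Dvd.intro _ (Subgroup.relIndex_mul_relIndex P 𝐍(P) M
    Subgroup.le_normalizer hN)))

/-! ### `ℳ(X) = {M}` and `𝒰` -/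

theorem inU_iff {X : Subgroup G} : InUniqueMaximal X ↔ ∃ M, UniqMax X M :=
  ⟨fun ⟨M, ⟨h1, h2⟩, h3⟩ => ⟨M, h1, h2, fun L hL hX => h3 L ⟨hL, hX⟩⟩,
   fun ⟨M, h⟩ => ⟨M, ⟨h.coatom, h.le⟩, fun L hL => h.uniq L hL.1 hL.2⟩⟩

theorem UniqMax.inU {X M : Subgroup G} (h : UniqMax X M) : InUniqueMaximal X := inU_iff.2 ⟨M, h⟩

theorem inU_uniqMax {X M : Subgroup G} (hX : InUniqueMaximal X) (hM : IsCoatom M) (h : X ≤ M) :
    UniqMax X M := by
  obtain ⟨L, hL⟩ := inU_iff.1 hX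
  obtain rfl := hL.uniq M hM h
  exact hL

theorem inU_of_forall {X M : Subgroup G} (hM : IsCoatom M) (h : X ≤ M)
    (hu : ∀ L, IsCoatom L → X ≤ L → L = M) : InUniqueMaximal X :=
  UniqMax.inU ⟨hM, h, hu⟩

theorem inU_eq {X L M : Subgroup G} (hX : InUniqueMaximal X) (hL : IsCoatom L) (hM : IsCoatom M)
    (h1 : X ≤ L) (h2 : X ≤ M) : L = M :=
  (inU_uniqMax hX hM h2).uniq L hL h1

theorem UniqMax.unique {X L M : Subgroup G} (h1 : UniqMax X L) (h2 : UniqMax X M) : L = M :=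
  h2.uniq L h1.coatom h1.le

theorem UniqMax.ne_top {X M : Subgroup G} (h : UniqMax X M) : X ≠ ⊤ :=
  mmax_sub_ne_top h.coatom h.le

theorem inU_ne_top {X : Subgroup G} (h : InUniqueMaximal X) : X ≠ ⊤ :=
  let ⟨_, hM⟩ := inU_iff.1 h; hM.ne_top

/-- every proper overgroup of `X` lies in `M` -/
theorem UniqMax.le_of_le [Finite G] {X M B : Subgroup G} (h : UniqMax X M) (hXB : X ≤ B)
    (hB : B ≠ ⊤) : B ≤ M := by
  obtain ⟨L, hL, hBL⟩ := mmax_exists hB
  rwa [h.uniq L hL (hXB.trans hBL)] at hBL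

theorem UniqMax.mono [Finite G] {X M B : Subgroup G} (h : UniqMax X M) (hXB : X ≤ B)
    (hB : B ≠ ⊤) : UniqMax B M :=
  ⟨h.coatom, h.le_of_le hXB hB, fun L hL hBL => h.uniq L hL (hXB.trans hBL)⟩

theorem UniqMax.mono_of_le {X M B : Subgroup G} (h : UniqMax X M) (hXB : X ≤ B)
    (hB : B ≤ M) : UniqMax B M :=
  ⟨h.coatom, hB, fun L hL hBL => h.uniq L hL (hXB.trans hBL)⟩

theorem inU_mono [Finite G] {X B : Subgroup G} (h : InUniqueMaximal X) (hXB : X ≤ B)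
    (hB : B ≠ ⊤) : InUniqueMaximal B :=
  let ⟨_, hM⟩ := inU_iff.1 h; (hM.mono hXB hB).inU

theorem mmax_uniqMax {M : Subgroup G} (hM : IsCoatom M) : UniqMax M M :=
  ⟨hM, le_rfl, fun _ hL h => (mmax_eq hM hL h).symm⟩

theorem mmax_inU {M : Subgroup G} (hM : IsCoatom M) : InUniqueMaximal M := (mmax_uniqMax hM).inU

theorem UniqMax.cj {X M : Subgroup G} (h : UniqMax X M) (g : G) : UniqMax (cj g X) (cj g M) := by
  refine ⟨mmax_cj g h.coatom, Subgroup.map_mono h.le, fun L hL hXL => ?_⟩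
  have h1 : X ≤ L.comap (MulAut.conj g).toMonoidHom := Subgroup.map_le_iff_le_comap.1 hXL
  have h2 : IsCoatom (L.comap (MulAut.conj g).toMonoidHom) :=
    (Subgroup.isCoatom_comap (MulAut.conj g)).2 hL
  rw [← h.uniq _ h2 h1]
  exact (Subgroup.map_comap_eq_self_of_surjective (MulAut.conj g).surjective L).symm

theorem inU_cj {X : Subgroup G} (h : InUniqueMaximal X) (g : G) : InUniqueMaximal (cj g X) :=
  let ⟨_, hM⟩ := inU_iff.1 h; (hM.cj g).inU

theorem inU_cj_iff {X : Subgroup G} (g : G) : InUniqueMaximal (cj g X) ↔ InUniqueMaximal X := by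
  refine ⟨fun h => ?_, fun h => inU_cj h g⟩
  have := inU_cj h g⁻¹
  have e : cj g⁻¹ (cj g X) = X := by
    unfold cj
    rw [Subgroup.map_map]
    convert Subgroup.map_id X
    ext x; simp [mul_assoc]
  rwa [e] at this

theorem UniqMax.norm_le (hG : IsMinSimpleOddOrder G) {X M : Subgroup G} (h : UniqMax X M) :
    𝐍(X) ≤ M := by
  intro g hg
  have h1 := h.cj g
  have e : BG.cj g X = X := Subgroup.mem_normalizer_iff_map_conj_eq.1 hg
  rw [e] at h1
  exact (mmax_cj_eq_iff hG h.coatom).1 (h1.unique h)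

theorem UniqMax.cent_le (hG : IsMinSimpleOddOrder G) {X M : Subgroup G} (h : UniqMax X M) :
    𝐂(X) ≤ M :=
  (Subgroup.centralizer_le_normalizer _).trans (h.norm_le hG)

theorem UniqMax.ne_bot (hG : IsMinSimpleOddOrder G) {X M : Subgroup G} (h : UniqMax X M) :
    X ≠ ⊥ := by
  rintro rfl
  have := h.norm_le hG
  rw [Subgroup.normalizer_eq_top] at this
  exact h.coatom.1 (top_le_iff.1 this)

theorem inU_ne_bot (hG : IsMinSimpleOddOrder G) {X : Subgroup G} (h : InUniqueMaximal X) :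
    X ≠ ⊥ :=
  let ⟨_, hM⟩ := inU_iff.1 h; hM.ne_bot hG

/-- `X ≤ M^g` forces `g ∈ M` when `ℳ(X) = {M}` -/
theorem UniqMax.mem_of_le_cj (hG : IsMinSimpleOddOrder G) {X M : Subgroup G} (h : UniqMax X M)
    {g : G} (hg : X ≤ BG.cj g M) : g ∈ M :=
  (mmax_cj_eq_iff hG h.coatom).1 (h.uniq _ (mmax_cj g h.coatom) hg)

/-- `X^g ≤ M` forces `g ∈ M` when `ℳ(X) = {M}` -/
theorem UniqMax.mem_of_cj_le (hG : IsMinSimpleOddOrder G) {X M : Subgroup G} (h : UniqMax X M)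
    {g : G} (hg : BG.cj g X ≤ M) : g ∈ M :=
  (mmax_cj_eq_iff hG h.coatom).1 ((h.cj g).uniq M h.coatom hg).symm

/-! ### the sets `И_H(A; π)` and `И*_H(A; π)` -/

theorem mem_invSubgroups {H A Y : Subgroup G} {π : Set ℕ} :
    Y ∈ invSubgroups H A π ↔ Y ≤ H ∧ PiGrp π Y ∧ A ≤ 𝐍(Y) := Iff.rfl

theorem mem_maxInvSubgroups {H A Q : Subgroup G} {π : Set ℕ} :
    Q ∈ maxInvSubgroups H A π ↔
      Q ∈ invSubgroups H A π ∧ ∀ R ∈ invSubgroups H A π, Q ≤ R → R = Q := Iff.rfl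

theorem bot_mem_invSubgroups (H A : Subgroup G) (π : Set ℕ) : ⊥ ∈ invSubgroups H A π := by
  refine ⟨bot_le, fun p hp h => ?_, ?_⟩
  · rw [Subgroup.card_bot] at h
    exact absurd (Nat.dvd_one.1 h) hp.ne_one
  · rw [Subgroup.normalizer_eq_top]; exact le_top

theorem invSubgroups_anti {H A B : Subgroup G} {π : Set ℕ} (h : A ≤ B) :
    invSubgroups H B π ⊆ invSubgroups H A π :=
  fun _ hY => ⟨hY.1, hY.2.1, h.trans hY.2.2⟩

theorem invSubgroups_mono {H K A : Subgroup G} {π : Set ℕ} (h : H ≤ K) :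
    invSubgroups H A π ⊆ invSubgroups K A π :=
  fun _ hY => ⟨hY.1.trans h, hY.2.1, hY.2.2⟩

theorem maxInv_exists [Finite G] {H A Y : Subgroup G} {π : Set ℕ} (hY : Y ∈ invSubgroups H A π) :
    ∃ Q ∈ maxInvSubgroups H A π, Y ≤ Q := by
  obtain ⟨Q, hYQ, hQ⟩ := Finite.exists_le_maximal (p := fun Z => Z ∈ invSubgroups H A π) hY
  exact ⟨Q, ⟨hQ.prop, fun R hR hQR => le_antisymm (hQ.le_of_ge hR hQR) hQR⟩, hYQ⟩

theorem maxInv_nonempty [Finite G] (H A : Subgroup G) (π : Set ℕ) :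
    ∃ Q, Q ∈ maxInvSubgroups H A π :=
  let ⟨Q, hQ, _⟩ := maxInv_exists (bot_mem_invSubgroups H A π); ⟨Q, hQ⟩

/-- if `1 ∈ И*(A; π)` then `1` is the only `A`-invariant `π`-subgroup -/
theorem maxInv_bot {H A Y : Subgroup G} {π : Set ℕ} (h : ⊥ ∈ maxInvSubgroups H A π)
    (hY : Y ∈ invSubgroups H A π) : Y = ⊥ :=
  h.2 Y hY bot_le

/-- a member of `И*(A; π)` normalised by an overgroup `B` of `A` lies in `И*(B; π)` -/
theorem maxInv_of_le_norm {H A B Q : Subgroup G} {π : Set ℕ} (hAB : A ≤ B)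
    (hQ : Q ∈ maxInvSubgroups H A π) (hB : B ≤ 𝐍(Q)) : Q ∈ maxInvSubgroups H B π :=
  ⟨⟨hQ.1.1, hQ.1.2.1, hB⟩, fun R hR => hQ.2 R (invSubgroups_anti hAB hR)⟩

theorem invSubgroups_top_cj {A Y : Subgroup G} {π : Set ℕ} (g : G)
    (hY : Y ∈ invSubgroups ⊤ A π) : cj g Y ∈ invSubgroups ⊤ (cj g A) π := by
  refine ⟨le_top, ?_, ?_⟩
  · have : Nat.card (cj g Y) = Nat.card Y :=
      Subgroup.card_map_of_injective (MulAut.conj g).injective
    rw [this]; exact hY.2.1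
  · exact (Subgroup.map_mono hY.2.2).trans (Subgroup.le_normalizer_map _)

theorem maxInv_top_cj {A Q : Subgroup G} {π : Set ℕ} (g : G)
    (hQ : Q ∈ maxInvSubgroups ⊤ A π) : cj g Q ∈ maxInvSubgroups ⊤ (cj g A) π := by
  have e : ∀ (a b : G) (X : Subgroup G), a * b = 1 → cj a (cj b X) = X := by
    intro a b X hab
    unfold cj
    rw [Subgroup.map_map]
    convert Subgroup.map_id X
    ext x
    have : b = a⁻¹ := (inv_eq_of_mul_eq_one_right hab).symm
    simp [mul_assoc, this]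
  refine ⟨invSubgroups_top_cj g hQ.1, fun R hR hle => ?_⟩
  have h1 := invSubgroups_top_cj g⁻¹ hR
  rw [e _ _ _ (inv_mul_cancel g)] at h1
  have h2 : Q ≤ cj g⁻¹ R := by
    rw [← e g⁻¹ g Q (inv_mul_cancel g)]
    exact Subgroup.map_mono hle
  rw [← hQ.2 _ h1 h2, e _ _ _ (mul_inv_cancel g)]

/-- `N(A)` acts on `И*(A; π)` -/
theorem maxInv_top_cj_of_mem_norm {A Q : Subgroup G} {π : Set ℕ} {g : G} (hg : g ∈ 𝐍(A))
    (hQ : Q ∈ maxInvSubgroups ⊤ A π) : cj g Q ∈ maxInvSubgroups ⊤ A π := by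
  have := maxInv_top_cj g hQ
  have e : cj g A = A := Subgroup.mem_normalizer_iff_map_conj_eq.1 hg
  rwa [e] at this

/-- if `И*(A; π) = {Q}` then `N(A) ≤ N(Q)` -/
theorem norm_le_norm_of_maxInv_unique {A Q : Subgroup G} {π : Set ℕ}
    (hQ : Q ∈ maxInvSubgroups ⊤ A π) (hu : ∀ R ∈ maxInvSubgroups ⊤ A π, R = Q) :
    𝐍(A) ≤ 𝐍(Q) := fun _ hg =>
  Subgroup.mem_normalizer_iff_map_conj_eq.2 (hu _ (maxInv_top_cj_of_mem_norm hg hQ))

end CL.BG
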