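import Cfsg.Agent.BG.Pi
import Cfsg.Agent.Transfer.PCompl

/-!
# Hall and Sylow subgroups of ambient subgroups, `π`-cores
-/

namespace CL.BG

open Cfsg Subgroup

variable {G G' : Type*} [Group G] [Group G'] {H K L M N A B X Y P Q R : Subgroup G} {g x y : G}
  {π ρ : Set ℕ} {p q m n : ℕ}

/-! ### Hall subgroups -/

theorem hall_iff_isPiHallOf : Hall π X H ↔ IsPiHallOf π X H := Iff.rfl

theorem hall_iff : Hall π X H ↔ X ≤ H ∧ PiGrp π X ∧ PiNat πᶜ (X.relIndex H) :=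
  PiHall.isPiHallOf_iff

theorem hall_top_iff : Hall π X ⊤ ↔ IsPiHall π X := PiHall.isPiHallOf_top

theorem hall_self_iff : Hall π H H ↔ PiGrp π H := PiHall.self_iff

theorem hall_bot_iff : Hall π ⊥ H ↔ PiGrp πᶜ H := by
  rw [hall_iff, relIndex_bot_left]
  exact ⟨fun h => h.2.2, fun h => ⟨bot_le, piGrp_bot π, h⟩⟩

theorem hall_map_subtype_iff {X : Subgroup H} : Hall π (X.map H.subtype) H ↔ IsPiHall π X :=
  PiHall.isPiHallOf_map_subtype

theorem hall_map_iff {f : G →* G'} (hf : Function.Injective f) :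
    Hall π (X.map f) (H.map f) ↔ Hall π X H := by
  rw [hall_iff, hall_iff, map_le_map_iff_of_injective hf, piGrp_map_iff hf,
    relIndex_map_map_of_injective _ _ hf]

theorem hall_cj : Hall π (cj g X) (cj g H) ↔ Hall π X H := hall_map_iff (conj_injective g)

namespace Hall

theorem mk' (hle : X ≤ H) (hπ : PiGrp π X) (hi : PiNat πᶜ (X.relIndex H)) : Hall π X H :=
  hall_iff.2 ⟨hle, hπ, hi⟩

theorem le (h : Hall π X H) : X ≤ H := h.1

theorem pi (h : Hall π X H) : PiGrp π X := h.2.1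

theorem idx (h : Hall π X H) : PiNat πᶜ (X.relIndex H) := (hall_iff.1 h).2.2

theorem coprime (h : Hall π X H) : (Nat.card X).Coprime (X.relIndex H) := PiHall.of_coprime h

theorem isHall (h : Hall π X H) : IsHall X H := ⟨h.le, h.coprime⟩

theorem self (h : PiGrp π H) : Hall π H H := hall_self_iff.2 h

theorem bot (h : PiGrp πᶜ H) : Hall π ⊥ H := hall_bot_iff.2 h

theorem subgroupOf_self (h : Hall π X H) : IsPiHall π (X.subgroupOf H) := PiHall.subgroupOf h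

theorem subgroupOf (h : Hall π X H) (hK : H ≤ K) : Hall π (X.subgroupOf K) (H.subgroupOf K) :=
  mk' (comap_mono h.le) (h.pi.subgroupOf K) (by rw [relIndex_subgroupOf hK]; exact h.idx)

theorem card_eq (h₁ : Hall π X H) (h₂ : Hall π Y H) : Nat.card X = Nat.card Y :=
  PiHall.of_card_eq h₁ h₂

theorem card_dvd (h : Hall π X H) (hK : K ≤ H) (hπ : PiGrp π K) : Nat.card K ∣ Nat.card X :=
  PiHall.of_card_dvd h hK hπ

theorem dvd_card (h : Hall π X H) (hn : PiNat π n) (hd : n ∣ Nat.card H) : n ∣ Nat.card X :=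
  IsPiNum.dvd_of_dvd_mul_right hn h.idx (by rwa [card_mul_relIndex h.le])

/-- a Hall `π`-subgroup is a maximal `π`-subgroup -/
theorem eq_of_le [Finite G] (h : Hall π X H) (hK : K ≤ H) (hπ : PiGrp π K) (hle : X ≤ K) :
    K = X := (PiHall.of_eq_of_le h hK hπ hle).symm

theorem of_card_eq [Finite G] (h : Hall π X H) (hY : Y ≤ H) (hc : Nat.card Y = Nat.card X) :
    Hall π Y H := by
  refine mk' hY (by unfold PiGrp; rw [hc]; exact h.pi) ?_
  have h1 := card_mul_relIndex hY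
  rw [← card_mul_relIndex h.le, hc] at h1
  rw [Nat.eq_of_mul_eq_mul_left (card_pos' X) h1]
  exact h.idx

theorem of_card_le [Finite G] (h : Hall π X H) (hY : Y ≤ H) (hπ : PiGrp π Y)
    (hc : Nat.card X ≤ Nat.card Y) : Hall π Y H :=
  h.of_card_eq hY (le_antisymm (Nat.le_of_dvd (card_pos' X) (h.card_dvd hY hπ)) hc)

/-- a `π`-subgroup containing a Hall `π`-subgroup is Hall -/
theorem of_ge [Finite G] (h : Hall π X H) (hY : Y ≤ H) (hπ : PiGrp π Y) (hle : X ≤ Y) :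
    Hall π Y H := (h.eq_of_le hY hπ hle).symm ▸ h

theorem restrict (h : Hall π X H) (hXK : X ≤ K) (hK : K ≤ H) : Hall π X K :=
  PiHall.of_restrict h hXK hK

theorem trans_idx (h : Hall π X K) (hK : K ≤ H) (hi : PiNat πᶜ (K.relIndex H)) : Hall π X H :=
  PiHall.of_trans_relIndex h hK hi

theorem trans_inter (h₁ : Hall ρ X K) (h₂ : Hall π K H) : Hall (π ∩ ρ) X H := by
  refine mk' (h₁.le.trans h₂.le) ((h₂.pi.of_le h₁.le).inter h₁.pi) ?_
  rw [← relIndex_mul_relIndex X K H h₁.le h₂.le]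
  exact IsPiNum.mul (IsPiNum.mono h₁.idx fun p hp h => hp h.2)
    (IsPiNum.mono h₂.idx fun p hp h => hp h.1)

/-- a Hall `ρ`-subgroup of a Hall `π`-subgroup, `ρ ⊆ π` -/
theorem trans (h₁ : Hall ρ X K) (h₂ : Hall π K H) (hρ : ρ ⊆ π) : Hall ρ X H :=
  h₁.trans_idx h₂.le (IsPiNum.mono h₂.idx (Set.compl_subset_compl.2 hρ))

theorem congr (h : Hall π X H) (hπ : ∀ p : ℕ, p.Prime → p ∣ Nat.card H → (p ∈ π ↔ p ∈ ρ)) :
    Hall ρ X H :=
  mk' h.le (h.pi.mono' fun p hp hd => (hπ p hp (hd.trans (card_dvd_of_le h.le))).1)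
    (PiNat.mono' h.idx fun p hp hd h1 h2 =>
      h1 ((hπ p hp (hd.trans (relIndex_dvd_card X H))).2 h2))

theorem map (h : Hall π X H) (f : G →* G') : Hall π (X.map f) (H.map f) := PiHall.of_map f h

theorem cj (h : Hall π X H) (g : G) : Hall π (cj g X) (cj g H) := h.map _

theorem cj_of_mem_norm (h : Hall π X H) (hg : g ∈ 𝐍(H)) : Hall π (BG.cj g X) H :=
  cj_eq_of_mem_norm hg ▸ h.cj g

theorem cj_of_mem (h : Hall π X H) (hg : g ∈ H) : Hall π (BG.cj g X) H :=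
  h.cj_of_mem_norm (le_normalizer hg)

/-- intersection of a Hall subgroup with a normal subgroup -/
theorem inf_normal [Finite G] (h : Hall π X H) (hN : N ⊴ H) : Hall π (X ⊓ N) N :=
  PiHall.of_inf_normal h hN.le hN.norm

theorem normal_inf [Finite G] (h : Hall π X H) (hN : N ⊴ H) : Hall π (N ⊓ X) N :=
  inf_comm X N ▸ h.inf_normal hN

/-- intersection of a normal Hall subgroup with any subgroup -/
theorem inf_of_normal (h : Hall π X H) (hX : H ≤ 𝐍(X)) (hK : K ≤ H) : Hall π (X ⊓ K) K :=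
  mk' inf_le_right (h.pi.inf_left K) (by
    rw [inf_relIndex_right]
    exact IsPiNum.of_dvd h.idx (relIndex_dvd_of_normalIn ⟨h.le, hX⟩ hK))

theorem inf_of_normal' (h : Hall π X H) (hX : H ≤ 𝐍(X)) (hK : K ≤ H) : Hall π (K ⊓ X) K :=
  inf_comm X K ▸ h.inf_of_normal hX hK

/-- a normal Hall `π`-subgroup contains every `π`-subgroup -/
theorem le_of_normal (h : Hall π X H) (hX : H ≤ 𝐍(X)) (hK : K ≤ H) (hπ : PiGrp π K) : K ≤ X :=
  PiHall.of_le_of_normal h hX hK hπ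

theorem mem_of_normal (h : Hall π X H) (hX : H ≤ 𝐍(X)) (hx : x ∈ H) (hπ : PiElt π x) : x ∈ X :=
  zpowers_le.1 (h.le_of_normal hX (zpowers_le.2 hx) (piGrp_zpowers.2 hπ))

theorem mem_iff_of_normal (h : Hall π X H) (hX : H ≤ 𝐍(X)) (hx : x ∈ H) : x ∈ X ↔ PiElt π x :=
  ⟨h.pi.piElt, h.mem_of_normal hX hx⟩

theorem le_iff_of_normal (h : Hall π X H) (hX : H ≤ 𝐍(X)) (hK : K ≤ H) : K ≤ X ↔ PiGrp π K :=
  ⟨h.pi.of_le, h.le_of_normal hX hK⟩

/-- a `π`-subgroup normalised by a Hall `π`-subgroup lies in it -/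
theorem le_of_norm [Finite G] (h : Hall π X H) (hN : N ≤ H) (hπ : PiGrp π N) (hn : X ≤ 𝐍(N)) :
    N ≤ X := PiHall.of_le_of_le_normalizer h hN hπ hn

/-- a `π`-subgroup normalising a Hall `π`-subgroup lies in it -/
theorem le_of_le_norm (h : Hall π X H) (hN : N ≤ H) (hπ : PiGrp π N) (hn : N ≤ 𝐍(X)) :
    N ≤ X :=
  (h.restrict (le_inf h.le le_normalizer) inf_le_left).le_of_normal inf_le_right
    (le_inf hN hn) hπ

/-- a normal `π`-subgroup lies in every Hall `π`-subgroup -/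
theorem normal_le [Finite G] (h : Hall π X H) (hN : N ⊴ H) (hπ : PiGrp π N) : N ≤ X :=
  h.le_of_norm hN.le hπ (h.le.trans hN.norm)

theorem eq_of_normal [Finite G] (h : Hall π X H) (hX : H ≤ 𝐍(X)) (hY : Hall π Y H) : Y = X :=
  (hY.eq_of_le h.le h.pi (h.le_of_normal hX hY.le hY.pi)).symm

theorem mem_primesOf_iff (h : Hall π X H) : p ∈ primesOf X ↔ p ∈ π ∧ p ∈ primesOf H :=
  ⟨fun hp => ⟨h.pi.mem hp, primesOf_mono h.le hp⟩, fun hp =>
    ⟨hp.2.1, h.dvd_card ((piNat_prime_iff hp.2.1).2 hp.1) hp.2.2⟩⟩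

theorem dvd_card_iff (h : Hall π X H) (hp : p.Prime) (hπ : p ∈ π) :
    p ∣ Nat.card X ↔ p ∣ Nat.card H :=
  ⟨fun hd => hd.trans (card_dvd_of_le h.le), h.dvd_card ((piNat_prime_iff hp).2 hπ)⟩

theorem eq_bot_iff (h : Hall π X H) : X = ⊥ ↔ PiGrp πᶜ H :=
  ⟨fun e => hall_bot_iff.1 (e ▸ h), fun h' => h.pi.eq_bot (h'.of_le h.le)⟩

theorem eq_self_iff [Finite G] (h : Hall π X H) : X = H ↔ PiGrp π H :=
  ⟨fun e => e ▸ h.pi, fun h' => (h.eq_of_le le_rfl h' h.le).symm⟩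

theorem ne_bot (h : Hall π X H) (hp : p ∈ primesOf H) (hπ : p ∈ π) : X ≠ ⊥ :=
  fun e => (h.eq_bot_iff.1 e).mem hp hπ

theorem card_mul_card [Finite G] (h₁ : Hall π X H) (h₂ : Hall πᶜ Y H) :
    Nat.card X * Nat.card Y = Nat.card H := by
  have := (PiHall.isComplement' h₁.subgroupOf_self h₂.subgroupOf_self).card_mul_card
  rwa [Pi.card_subgroupOf_of_le h₁.le, Pi.card_subgroupOf_of_le h₂.le] at this

theorem relIndex_eq_card [Finite G] (h₁ : Hall π X H) (h₂ : Hall πᶜ Y H) :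
    X.relIndex H = Nat.card Y :=
  Nat.eq_of_mul_eq_mul_left (card_pos' X) (by rw [card_mul_relIndex h₁.le, h₁.card_mul_card h₂])

/-- `H = X Y` for a Hall `π`-subgroup `X` and a Hall `π'`-subgroup `Y` -/
theorem exists_mul [Finite G] (h₁ : Hall π X H) (h₂ : Hall πᶜ Y H) (hx : x ∈ H) :
    ∃ a ∈ X, ∃ b ∈ Y, a * b = x := by
  obtain ⟨⟨a, b⟩, hab⟩ :=
    (PiHall.isComplement' h₁.subgroupOf_self h₂.subgroupOf_self).2 ⟨x, hx⟩
  exact ⟨a, a.2, b, b.2, congrArg Subtype.val hab⟩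

theorem sup_eq [Finite G] (h₁ : Hall π X H) (h₂ : Hall πᶜ Y H) : X ⊔ Y = H := by
  apply le_antisymm (sup_le h₁.le h₂.le)
  intro x hx
  obtain ⟨a, ha, b, hb, rfl⟩ := h₁.exists_mul h₂ hx
  exact mul_mem (mem_sup_left ha) (mem_sup_right hb)

theorem inf_eq_bot (h₁ : Hall π X H) (h₂ : Hall πᶜ Y K) : X ⊓ Y = ⊥ := h₁.pi.inf_eq_bot h₂.pi

/-- a Hall `π`-subgroup supplements every subgroup of `π`-index -/
theorem sup_eq_of_idx [Finite G] (h : Hall π X H) (hK : K ≤ H) (hi : PiNat π (K.relIndex H)) :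
    X ⊔ K = H := by
  have hle : X ⊔ K ≤ H := sup_le h.le hK
  refine le_antisymm hle (relIndex_eq_one.1 (IsPiNum.eq_one (π := π) ?_ ?_))
  · exact IsPiNum.of_dvd hi (relIndex_dvd_of_le_left H le_sup_right)
  · exact IsPiNum.of_dvd h.idx (relIndex_dvd_of_le_left H le_sup_left)

/-- a Hall subgroup of `K` is Hall in `K H` if `H` is a `π'`-group normalising `K` -/
theorem sup_of_compl (h : Hall π X K) (hH : PiGrp πᶜ H) (hn : H ≤ 𝐍(K)) : Hall π X (K ⊔ H) :=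
  h.trans_idx le_sup_left (by rw [relIndex_sup_of_norm hn]; exact hH.relIndex K)

/-- a Hall subgroup of `H` is Hall in `K H` if `K` is a `π'`-group normalised by `H` -/
theorem compl_sup [Finite G] (h : Hall π X H) (hK : PiGrp πᶜ K) (hn : H ≤ 𝐍(K)) :
    Hall π X (K ⊔ H) :=
  h.trans_idx le_sup_right (by rw [relIndex_sup_of_norm_right (Or.inl hn)]; exact hK.relIndex H)

/-- `N X` is Hall in `H` for the union of the sets of primes, `N` normal -/
theorem sup_union [Finite G] (h₁ : Hall π X H) (h₂ : Hall ρ Y H) (hn : Y ≤ 𝐍(X) ∨ X ≤ 𝐍(Y)) :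
    Hall (π ∪ ρ) (X ⊔ Y) H :=
  mk' (sup_le h₁.le h₂.le)
    ((h₁.pi.mono Set.subset_union_left).sup (h₂.pi.mono Set.subset_union_right) hn)
    (fun p hp hd h => h.elim
      (h₁.idx p hp (hd.trans (relIndex_dvd_of_le_left H le_sup_left)))
      (h₂.idx p hp (hd.trans (relIndex_dvd_of_le_left H le_sup_right))))

end Hall

theorem IsHall.hall (h : IsHall X H) : Hall (primesOf X) X H :=
  Hall.mk' h.le (piGrp_primesOf X) (piNat_compl_primesOfNat_iff.2 h.coprime.symm)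

theorem IsHall.restrict (h : IsHall X H) (hXK : X ≤ K) (hK : K ≤ H) : IsHall X K :=
  (h.hall.restrict hXK hK).isHall

theorem IsHall.trans (h₁ : IsHall X K) (h₂ : IsHall K H) : IsHall X H :=
  (h₁.hall.trans_inter h₂.hall).isHall

theorem isHall_top_iff : IsHall X ⊤ ↔ (Nat.card X).Coprime X.index :=
  ⟨fun h => by simpa using h.coprime, fun h => ⟨le_top, by simpa using h⟩⟩

theorem Hall.primesOf (h : Hall π X H) : Hall (primesOf X) X H := h.isHall.hall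

/-! ### Hall's theorems -/

section solvable
variable [Finite G]

theorem hall_exists (π : Set ℕ) (hH : Group.IsSolvable H) : ∃ X, Hall π X H :=
  CL.Hall.exists_isPiHallOf π H

theorem hall_superset (hH : Group.IsSolvable H) (hK : K ≤ H) (hπ : PiGrp π K) :
    ∃ X, Hall π X H ∧ K ≤ X := CL.Hall.exists_isPiHallOf_ge hK hπ

theorem hall_conj (hH : Group.IsSolvable H) (hX : Hall π X H) (hY : Hall π Y H) :
    ∃ g ∈ H, cj g X = Y := CL.Hall.of_exists_conj_eq hX hY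

theorem hall_conj_le (hH : Group.IsSolvable H) (hX : Hall π X H) (hK : K ≤ H) (hπ : PiGrp π K) :
    ∃ g ∈ H, cj g K ≤ X := CL.Hall.of_exists_conj_le hX hK hπ

theorem hall_le_conj (hH : Group.IsSolvable H) (hX : Hall π X H) (hK : K ≤ H) (hπ : PiGrp π K) :
    ∃ g ∈ H, K ≤ cj g X := by
  obtain ⟨g, hg, h⟩ := hall_conj_le hH hX hK hπ
  exact ⟨g⁻¹, inv_mem hg, cj_le_iff_le_cj_inv.1 h⟩

/-- Frattini argument for Hall subgroups, element form -/
theorem hall_frattini_mul (hN : Group.IsSolvable N) (hX : Hall π X N) (hx : x ∈ 𝐍(N)) :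
    ∃ l ∈ N, ∃ n ∈ 𝐍(X), x = l * n := CL.Hall.frattini_mul hX hx

/-- Frattini argument for Hall subgroups -/
theorem hall_frattini (hN : Group.IsSolvable N) (hNH : N ⊴ H) (hX : Hall π X N) :
    N ⊔ (H ⊓ 𝐍(X)) = H := by
  apply le_antisymm (sup_le hNH.le inf_le_left)
  intro x hx
  obtain ⟨l, hl, n, hn, rfl⟩ := hall_frattini_mul hN hX (hNH.norm hx)
  exact mul_mem (mem_sup_left hl)
    (mem_sup_right ⟨(H.mul_mem_cancel_left (hNH.le hl)).1 hx, hn⟩)

end solvable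

/-! ### Sylow subgroups -/

section sylow
variable [Finite G] [hp : Fact p.Prime]

open CL.Transfer

theorem sylowOf_iff : SylowOf p P H ↔ P ≤ H ∧ IsPGroup p P ∧ ¬ p ∣ P.relIndex H := by
  unfold SylowOf
  rw [hall_iff, piGrp_singleton_iff hp.out, piNat_compl_singleton_iff hp.out]

theorem sylowOf_iff_isSylowIn : SylowOf p P H ↔ IsSylowIn p P H :=
  sylowOf_iff.trans ⟨fun h => ⟨h.1, h.2.1, h.2.2⟩, fun h => ⟨h.le, h.isPGroup, h.not_dvd⟩⟩

theorem sylowOf_iff_exists : SylowOf p P H ↔ ∃ S : Sylow p H, (S : Subgroup H).map H.subtype = P :=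
  sylowOf_iff_isSylowIn.trans isSylowIn_iff

theorem sylowOf_map_subtype (S : Sylow p H) : SylowOf p ((S : Subgroup H).map H.subtype) H :=
  sylowOf_iff_exists.2 ⟨S, rfl⟩

theorem sylowOf_top (S : Sylow p G) : SylowOf p (S : Subgroup G) ⊤ :=
  sylowOf_iff_isSylowIn.2 (isSylowIn_top S)

theorem sylowOf_top_iff : SylowOf p P ⊤ ↔ ∃ S : Sylow p G, (S : Subgroup G) = P :=
  ⟨fun h => (sylowOf_iff_isSylowIn.1 h).exists_sylow_of_top, fun ⟨S, h⟩ => h ▸ sylowOf_top S⟩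

theorem sylow_exists (p : ℕ) [Fact p.Prime] (H : Subgroup G) : ∃ P, SylowOf p P H :=
  (exists_isSylowIn H).imp fun _ h => sylowOf_iff_isSylowIn.2 h

theorem sylow_superset (hQ : IsPGroup p Q) (hle : Q ≤ H) : ∃ P, SylowOf p P H ∧ Q ≤ P :=
  (exists_isSylowIn_ge hQ hle).imp fun _ h => ⟨sylowOf_iff_isSylowIn.2 h.1, h.2⟩

theorem sylow_conj (hP : SylowOf p P H) (hQ : SylowOf p Q H) : ∃ g ∈ H, cj g P = Q :=
  (sylowOf_iff_isSylowIn.1 hP).exists_conj (sylowOf_iff_isSylowIn.1 hQ)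

theorem sylow_conj_le (hP : SylowOf p P H) (hQ : IsPGroup p Q) (hle : Q ≤ H) :
    ∃ g ∈ H, cj g Q ≤ P := (sylowOf_iff_isSylowIn.1 hP).exists_conj_le hQ hle

theorem sylow_le_conj (hP : SylowOf p P H) (hQ : IsPGroup p Q) (hle : Q ≤ H) :
    ∃ g ∈ H, Q ≤ cj g P := by
  obtain ⟨g, hg, h⟩ := sylow_conj_le hP hQ hle
  exact ⟨g⁻¹, inv_mem hg, cj_le_iff_le_cj_inv.1 h⟩

theorem sylowOf_of_maximal (hP : IsPGroup p P) (hle : P ≤ H)
    (hmax : ∀ R : Subgroup G, IsPGroup p R → P ≤ R → R ≤ H → R ≤ P) : SylowOf p P H :=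
  sylowOf_iff_isSylowIn.2 (isSylowIn_of_maximal hP hle hmax)

theorem sylowOf_self (hP : IsPGroup p P) : SylowOf p P P :=
  Hall.self ((piGrp_singleton_iff hp.out).2 hP)

/-- normalisers grow in `p`-groups -/
theorem lt_inf_norm_of_isPGroup (hP : IsPGroup p P) (h : Q < P) : Q < P ⊓ 𝐍(Q) :=
  lt_inf_normalizer hP h

namespace SylowOf

theorem mk' (hle : P ≤ H) (hP : IsPGroup p P) (hi : ¬ p ∣ P.relIndex H) : SylowOf p P H :=
  sylowOf_iff.2 ⟨hle, hP, hi⟩

omit [Finite G] hp in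
theorem hall (h : SylowOf p P H) : Hall {p} P H := h

theorem isPGroup (h : SylowOf p P H) : IsPGroup p P := (sylowOf_iff.1 h).2.1

theorem not_dvd (h : SylowOf p P H) : ¬ p ∣ P.relIndex H := (sylowOf_iff.1 h).2.2

/-- a Sylow subgroup is a maximal `p`-subgroup -/
theorem eq_of_le' (h : SylowOf p P H) (hQ : IsPGroup p Q) (hle : P ≤ Q) (hQH : Q ≤ H) : Q = P :=
  Hall.eq_of_le h hQH ((piGrp_singleton_iff hp.out).2 hQ) hle

theorem card_le (h : SylowOf p P H) (hQ : IsPGroup p Q) (hQH : Q ≤ H) :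
    Nat.card Q ≤ Nat.card P := (sylowOf_iff_isSylowIn.1 h).card_le hQ hQH

theorem of_card_le' (h : SylowOf p P H) (hQ : IsPGroup p Q) (hQH : Q ≤ H)
    (hc : Nat.card P ≤ Nat.card Q) : SylowOf p Q H :=
  Hall.of_card_le h hQH ((piGrp_singleton_iff hp.out).2 hQ) hc

theorem of_ge' (h : SylowOf p P H) (hQ : IsPGroup p Q) (hle : P ≤ Q) (hQH : Q ≤ H) :
    SylowOf p Q H := Hall.of_ge h hQH ((piGrp_singleton_iff hp.out).2 hQ) hle

omit [Finite G] in
theorem ne_bot_iff (h : SylowOf p P H) : P ≠ ⊥ ↔ p ∣ Nat.card H := by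
  rw [Ne, Hall.eq_bot_iff h, piGrp_compl_singleton_iff hp.out, not_not]

theorem card_eq_pow (h : SylowOf p P H) : Nat.card P = p ^ (Nat.card H).factorization p := by
  obtain ⟨S, rfl⟩ := sylowOf_iff_exists.1 h
  rw [Pi.card_map_subtype, S.card_eq_multiplicity]

/-- a `p`-subgroup of `H` normalising the Sylow subgroup `P` lies in `P` -/
theorem le_of_le_norm' (h : SylowOf p P H) (hQ : IsPGroup p Q) (hQH : Q ≤ H) (hn : Q ≤ 𝐍(P)) :
    Q ≤ P := Hall.le_of_le_norm h hQH ((piGrp_singleton_iff hp.out).2 hQ) hn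

/-- a `p`-subgroup of `H` normalised by the Sylow subgroup `P` lies in `P` -/
theorem le_of_norm' (h : SylowOf p P H) (hQ : IsPGroup p Q) (hQH : Q ≤ H) (hn : P ≤ 𝐍(Q)) :
    Q ≤ P := Hall.le_of_norm h hQH ((piGrp_singleton_iff hp.out).2 hQ) hn

theorem normal_le' (h : SylowOf p P H) (hQ : IsPGroup p Q) (hN : Q ⊴ H) : Q ≤ P :=
  h.le_of_norm' hQ hN.le (h.le.trans hN.norm)

omit [Finite G] hp in
/-- a Sylow subgroup of a Hall `π`-subgroup, `p ∈ π` -/
theorem trans_hall (h : SylowOf p P K) (hK : Hall π K H) (hπ : p ∈ π) : SylowOf p P H :=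
  Hall.trans h hK (Set.singleton_subset_iff.2 hπ)

omit [Finite G] in
theorem trans_not_dvd (h : SylowOf p P K) (hK : K ≤ H) (hi : ¬ p ∣ K.relIndex H) :
    SylowOf p P H := Hall.trans_idx h hK ((piNat_compl_singleton_iff hp.out).2 hi)

/-- Frattini argument, element form -/
theorem frattini_mul (h : SylowOf p P N) (hg : g ∈ 𝐍(N)) : ∃ l ∈ N, ∃ n ∈ 𝐍(P), g = l * n := by
  obtain ⟨n, hn, h'⟩ := (sylowOf_iff_isSylowIn.1 h).frattini_argument hg
  exact ⟨n⁻¹, inv_mem hn, n * g, h', by group⟩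

/-- Frattini argument -/
theorem frattini (h : SylowOf p P N) (hNH : N ⊴ H) : N ⊔ (H ⊓ 𝐍(P)) = H := by
  apply le_antisymm (sup_le hNH.le inf_le_left)
  intro x hx
  obtain ⟨l, hl, n, hn, rfl⟩ := h.frattini_mul (hNH.norm hx)
  exact mul_mem (mem_sup_left hl)
    (mem_sup_right ⟨(H.mul_mem_cancel_left (hNH.le hl)).1 hx, hn⟩)

/-- a Sylow subgroup of `H ≤ K` whose normaliser in `K` lies in `H` is Sylow in `K` -/
theorem of_norm_le (h : SylowOf p P H) (hK : H ≤ K) (hn : K ⊓ 𝐍(P) ≤ H) : SylowOf p P K := by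
  obtain ⟨S, hS, hPS⟩ := sylow_superset h.isPGroup (h.le.trans hK)
  rcases hPS.eq_or_lt with e | hlt
  · exact e ▸ hS
  · have h1 := lt_inf_norm_of_isPGroup hS.isPGroup hlt
    exact absurd (h.eq_of_le' hS.isPGroup.to_inf_left h1.le
      ((inf_le_inf_right _ hS.le).trans hn)) h1.ne'

theorem top_of_norm_le (h : SylowOf p P H) (hn : 𝐍(P) ≤ H) : SylowOf p P ⊤ :=
  h.of_norm_le le_top (inf_le_right.trans hn)

/-- a Sylow subgroup of `H ≤ K` is the intersection with `H` of a Sylow subgroup of `K` -/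
theorem exists_inf_eq (h : SylowOf p P H) (hK : H ≤ K) : ∃ S, SylowOf p S K ∧ S ⊓ H = P := by
  obtain ⟨S, hS, hPS⟩ := sylow_superset h.isPGroup (h.le.trans hK)
  exact ⟨S, hS, h.eq_of_le' hS.isPGroup.to_inf_left (le_inf hPS h.le) inf_le_right⟩

omit [Finite G] hp in
/-- a Sylow subgroup of `H` is Sylow in its normaliser -/
theorem inf_norm (h : SylowOf p P H) : SylowOf p P (H ⊓ 𝐍(P)) :=
  Hall.restrict h (le_inf h.le le_normalizer) inf_le_left

end SylowOf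

/-- a Sylow subgroup of `H` inside a Hall `π`-subgroup -/
theorem Hall.exists_sylow (h : Hall π X H) (hπ : p ∈ π) : ∃ P, SylowOf p P H ∧ P ≤ X :=
  let ⟨P, hP⟩ := sylow_exists p X
  ⟨P, hP.trans_hall h hπ, hP.le⟩

end sylow

end CL.BG
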