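import Cfsg.Agent.Base
import Cfsg.Agent.BG.HallSyl
import Cfsg.Agent.PLocal.ElemAb
import Cfsg.Agent.Solv.UniqueSubgroupP

/-!
# Elementary abelian subgroups `ℰ_p^n(H)`, `ℰ_p^*(H)` and `Ω₁`
-/

namespace CL.BG

open Cfsg Subgroup

variable {G G' : Type*} [Group G] [Group G'] {H K L A B X Y P : Subgroup G} {g x y : G}
  {p n m : ℕ}

/-! ### elementary abelian groups -/

theorem elemAb_cj : IsElementaryAbelian p (cj g A) ↔ IsElementaryAbelian p A :=
  EA.map_iff_of_injective (conj_injective g)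

theorem elemAb_of_card_eq (hp : p.Prime) (h : Nat.card X = p) : IsElementaryAbelian p X := by
  refine ⟨comm_of_isCyclic (isCyclic_of_card_prime (h ▸ hp)), fun a ha => ?_⟩
  rw [← h]
  exact orderOf_dvd_iff_pow_eq_one.1 (orderOf_dvd_card' ha)

/-- a cyclic elementary abelian group has order dividing `p` -/
theorem card_dvd_of_elemAb_of_isCyclic (hA : IsElementaryAbelian p A) (hc : IsCyclic A) :
    Nat.card A ∣ p := by
  obtain ⟨x, hx, rfl⟩ := exists_zpowers_of_isCyclic hc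
  rw [Nat.card_zpowers]
  exact orderOf_dvd_of_pow_eq_one (hA.2 x hx)

theorem elemAb_sup (hA : IsElementaryAbelian p A) (hB : IsElementaryAbelian p B) (h : B ≤ 𝐂(A)) :
    IsElementaryAbelian p (A ⊔ B) := EA.sup hA hB (cent_symm h)

/-- every subgroup of an elementary abelian group has a complement -/
theorem elemAb_exists_compl [Finite G] (hp : p.Prime) (hA : IsElementaryAbelian p A)
    (hB : B ≤ A) : ∃ C : Subgroup G, DP B C A := by
  have := Fact.mk hp
  obtain ⟨C, -, ⟨hCA, hCB⟩, hmax⟩ :=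
    exists_maximal_ge (H := (⊥ : Subgroup G)) (P := fun C => C ≤ A ∧ B ⊓ C = ⊥) ⟨bot_le, by simp⟩
  refine ⟨C, le_antisymm (sup_le hB hCA) ?_, EA.le_centralizer_of_le hA hCA hB, hCB⟩
  by_contra hlt
  obtain ⟨x, hxA, hx⟩ := SetLike.not_le_iff_exists.1 hlt
  have hx1 : x ≠ 1 := fun h => hx (h ▸ one_mem _)
  have hcard : (Nat.card (zpowers x)).Prime := by rw [EA.card_zpowers hA hxA hx1]; exact hp
  have hdis : zpowers x ⊓ (B ⊔ C) = ⊥ :=
    (le_or_inf_eq_bot_of_prime hcard _).resolve_left fun h => hx (h (mem_zpowers x))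
  have hn : zpowers x ≤ 𝐍(C) :=
    le_norm_of_le_cent (EA.le_centralizer_of_le hA (zpowers_le.2 hxA) hCA)
  have := hmax (C ⊔ zpowers x) ⟨sup_le hCA (zpowers_le.2 hxA), ?_⟩ le_sup_left
  · exact hx (mem_sup_right (this ▸ mem_sup_right (mem_zpowers x)))
  · rw [eq_bot_iff]
    rintro b ⟨hb, hb'⟩
    obtain ⟨c, hc, z, hz, rfl⟩ := (mem_sup_iff_of_norm hn).1 hb'
    have hz' : z ∈ zpowers x ⊓ (B ⊔ C) :=
      ⟨hz, by
        have : z = c⁻¹ * (c * z) := by group
        rw [this]; exact mul_mem (mem_sup_right (inv_mem hc)) (mem_sup_left hb)⟩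
    rw [hdis, mem_bot] at hz'
    subst hz'
    rw [mul_one] at hb ⊢
    exact hCB ▸ (⟨hb, hc⟩ : c ∈ B ⊓ C)

/-! ### `ElemN` -/

theorem elemN_iff : ElemN p n H A ↔ A ≤ H ∧ IsElementaryAbelian p A ∧ Nat.card A = p ^ n :=
  ⟨fun h => ⟨h.le, h.elem, h.card⟩, fun h => ⟨h.1, h.2.1, h.2.2⟩⟩

theorem elemN_one_iff (hp : p.Prime) : ElemN p 1 H X ↔ X ≤ H ∧ Nat.card X = p :=
  ⟨fun h => ⟨h.le, by rw [h.card, pow_one]⟩,
    fun h => ⟨h.1, elemAb_of_card_eq hp h.2, by rw [h.2, pow_one]⟩⟩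

theorem elemN_one_of_card (hp : p.Prime) (hle : X ≤ H) (h : Nat.card X = p) : ElemN p 1 H X :=
  (elemN_one_iff hp).2 ⟨hle, h⟩

theorem elemN_zero_iff : ElemN p 0 H A ↔ A = ⊥ :=
  ⟨fun h => card_eq_one.1 (by rw [h.card, pow_zero]),
    fun h => h ▸ ⟨bot_le, EA.bot, by rw [card_bot, pow_zero]⟩⟩

theorem elemN_bot (p : ℕ) (H : Subgroup G) : ElemN p 0 H ⊥ := elemN_zero_iff.2 rfl

theorem elemN_zpowers (hp : p.Prime) (hx : x ∈ H) (ho : orderOf x = p) :
    ElemN p 1 H (zpowers x) :=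
  elemN_one_of_card hp (zpowers_le.2 hx) (by rw [Nat.card_zpowers, ho])

theorem elemN_zpowers' (hp : p.Prime) (hx : x ∈ H) (h1 : x ≠ 1) (hxp : x ^ p = 1) :
    ElemN p 1 H (zpowers x) :=
  haveI := Fact.mk hp
  elemN_zpowers hp hx (orderOf_eq_prime hxp h1)

theorem exists_elemN_one_of_dvd [Finite G] (hp : p.Prime) (h : p ∣ Nat.card H) :
    ∃ X, ElemN p 1 H X := by
  obtain ⟨X, hX, hc⟩ := exists_card_eq_of_dvd_card hp h
  exact ⟨X, elemN_one_of_card hp hX hc⟩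

theorem exists_elemN_one_of_isPGroup [Finite G] (hp : p.Prime) (hP : IsPGroup p P)
    (hne : P ≠ ⊥) : ∃ X, ElemN p 1 P X :=
  exists_elemN_one_of_dvd hp (dvd_card_of_isPGroup hp hP hne)

theorem exists_elemN_of_elemAb [Finite G] (hp : p.Prime) (hA : IsElementaryAbelian p A)
    (hle : A ≤ H) : ∃ n, ElemN p n H A := by
  have := Fact.mk hp
  obtain ⟨n, hn⟩ := EA.exists_card_eq hA
  exact ⟨n, hle, hA, hn⟩

theorem elemN_inf_iff : ElemN p n (H ⊓ K) A ↔ ElemN p n H A ∧ A ≤ K :=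
  ⟨fun h => ⟨⟨h.le.trans inf_le_left, h.elem, h.card⟩, h.le.trans inf_le_right⟩,
    fun h => ⟨le_inf h.1.le h.2, h.1.elem, h.1.card⟩⟩

namespace ElemN

theorem mono (h : ElemN p n H A) (hK : H ≤ K) : ElemN p n K A := ⟨h.le.trans hK, h.elem, h.card⟩

theorem of_le (h : ElemN p n H A) (hK : A ≤ K) : ElemN p n K A := ⟨hK, h.elem, h.card⟩

theorem top (h : ElemN p n H A) : ElemN p n ⊤ A := h.of_le le_top

theorem self (h : ElemN p n H A) : ElemN p n A A := h.of_le le_rfl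

theorem isPGroup (h : ElemN p n H A) : IsPGroup p A := EA.isPGroup h.elem

theorem comm (h : ElemN p n H A) : IsMulCommutative A := h.elem.1

theorem le_cent (h : ElemN p n H A) : A ≤ 𝐂(A) := EA.le_centralizer h.elem

theorem le_cent_of_le (h : ElemN p n H A) (hX : X ≤ A) (hY : Y ≤ A) : X ≤ 𝐂(Y) :=
  EA.le_centralizer_of_le h.elem hX hY

theorem le_cent1 (h : ElemN p n H A) (hx : x ∈ A) : A ≤ 𝐂₁(x) := h.le_cent.trans (cent_le_cent1 hx)

theorem le_norm_of_le (h : ElemN p n H A) (hX : X ≤ A) : A ≤ 𝐍(X) :=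
  le_norm_of_le_cent (h.le_cent_of_le le_rfl hX)

theorem normalIn_of_le (h : ElemN p n H A) (hX : X ≤ A) : X ⊴ A := ⟨hX, h.le_norm_of_le hX⟩

theorem pow_eq_one (h : ElemN p n H A) (hx : x ∈ A) : x ^ p = 1 := h.elem.2 x hx

theorem orderOf_eq (h : ElemN p n H A) (hp : p.Prime) (hx : x ∈ A) (h1 : x ≠ 1) :
    orderOf x = p :=
  haveI := Fact.mk hp
  EA.orderOf_eq h.elem hx h1

theorem zpowers (h : ElemN p n H A) (hp : p.Prime) (hx : x ∈ A) (h1 : x ≠ 1) :
    ElemN p 1 A (zpowers x) := elemN_zpowers hp hx (h.orderOf_eq hp hx h1)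

theorem piGrp [Finite G] (h : ElemN p n H A) (hp : p.Prime) {π : Set ℕ} (hπ : p ∈ π) :
    PiGrp π A := piGrp_of_isPGroup hp h.isPGroup hπ

theorem nilpotent (h : ElemN p n H A) : Group.IsNilpotent A := by
  have := h.comm
  exact ⟨1, by
    rw [Subgroup.upperCentralSeries_one, eq_top_iff]
    intro a _
    exact mem_center_iff.2 fun b => this.is_comm.comm b a⟩

theorem solvable (h : ElemN p n H A) : Group.IsSolvable A := by
  have := h.nilpotent
  infer_instance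

theorem le_omegaOne (h : ElemN p n H A) : A ≤ omegaOne p H := EA.le_omegaOne h.elem h.le

theorem ne_bot (h : ElemN p n H A) (hp : p.Prime) (hn : 0 < n) : A ≠ ⊥ := by
  rintro rfl
  have := h.card
  rw [card_bot] at this
  exact absurd this.symm (Nat.one_lt_pow hn.ne' hp.one_lt).ne'

theorem dvd_card (h : ElemN p n H A) (hn : 0 < n) : p ∣ Nat.card A := by
  rw [h.card]; exact dvd_pow_self p hn.ne'

theorem dvd_card' (h : ElemN p n H A) (hn : 0 < n) : p ∣ Nat.card H :=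
  (h.dvd_card hn).trans (card_dvd_of_le h.le)

theorem mem_primesOf (h : ElemN p n H A) (hp : p.Prime) (hn : 0 < n) : p ∈ primesOf H :=
  ⟨hp, h.dvd_card' hn⟩

theorem card_one (h : ElemN p 1 H X) : Nat.card X = p := by rw [h.card, pow_one]

theorem card_prime (h : ElemN p 1 H X) (hp : p.Prime) : (Nat.card X).Prime := h.card_one ▸ hp

theorem isCyclic (h : ElemN p 1 H X) (hp : p.Prime) : IsCyclic X :=
  isCyclic_of_card_prime (h.card_prime hp)

theorem eq_zpowers (h : ElemN p 1 H X) (hp : p.Prime) (hx : x ∈ X) (h1 : x ≠ 1) :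
    X = Subgroup.zpowers x := eq_zpowers_of_card_prime (h.card_prime hp) hx h1

theorem exists_zpowers (h : ElemN p 1 H X) (hp : p.Prime) :
    ∃ x ∈ X, x ≠ 1 ∧ orderOf x = p ∧ X = Subgroup.zpowers x := by
  obtain ⟨x, hx, h1⟩ := exists_ne_one_of_ne_bot (h.ne_bot hp one_pos)
  exact ⟨x, hx, h1, h.orderOf_eq hp hx h1, h.eq_zpowers hp hx h1⟩

theorem cent_eq_cent1 (h : ElemN p 1 H X) (hp : p.Prime) (hx : x ∈ X) (h1 : x ≠ 1) :
    𝐂(X) = 𝐂₁(x) := cent_eq_cent1_of_card_prime (h.card_prime hp) hx h1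

theorem le_or_inf_eq_bot (h : ElemN p 1 H X) (hp : p.Prime) (K : Subgroup G) :
    X ≤ K ∨ X ⊓ K = ⊥ := le_or_inf_eq_bot_of_prime (h.card_prime hp) K

theorem not_isCyclic (h : ElemN p n H A) (hp : p.Prime) (hn : 2 ≤ n) : ¬ IsCyclic A := by
  intro hc
  have h1 := card_dvd_of_elemAb_of_isCyclic h.elem hc
  rw [h.card] at h1
  have h2 : p ^ n ∣ p ^ 1 := by rwa [pow_one]
  rw [Nat.pow_dvd_pow_iff_le_right hp.one_lt] at h2
  omega

theorem not_isCyclic' (h : ElemN p n H A) (hp : p.Prime) (hn : 2 ≤ n) : ¬ IsCyclic H :=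
  fun hc => h.not_isCyclic hp hn (isCyclic_of_le hc h.le)

theorem map {f : G →* G'} (h : ElemN p n H A) (hf : Function.Injective f) :
    ElemN p n (H.map f) (A.map f) :=
  ⟨map_mono h.le, EA.map h.elem f, by rw [card_map_of_injective hf, h.card]⟩

theorem cj (h : ElemN p n H A) (g : G) : ElemN p n (cj g H) (cj g A) := h.map (conj_injective g)

theorem cj_of_mem_norm (h : ElemN p n H A) (hg : g ∈ 𝐍(H)) : ElemN p n H (BG.cj g A) := by
  have := h.cj g
  rwa [cj_eq_of_mem_norm hg] at this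

theorem cj_of_mem (h : ElemN p n H A) (hg : g ∈ H) : ElemN p n H (BG.cj g A) :=
  h.cj_of_mem_norm (le_normalizer hg)

theorem cj_of_le (h : ElemN p n H A) (hg : BG.cj g A ≤ K) : ElemN p n K (BG.cj g A) :=
  (h.cj g).of_le hg

theorem subgroupOf (h : ElemN p n H A) (hK : A ≤ K) :
    ElemN p n (H.subgroupOf K) (A.subgroupOf K) :=
  ⟨comap_mono h.le, EA.subgroupOf h.elem K, by rw [Pi.card_subgroupOf_of_le hK, h.card]⟩

theorem unique (h : ElemN p n H A) (h' : ElemN p m K A) (hp : p.Prime) : n = m :=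
  Nat.pow_right_injective hp.two_le (h.card.symm.trans h'.card)

theorem le_of_le (h : ElemN p n H A) (h' : ElemN p m K B) (hp : p.Prime) (hAB : A ≤ B) :
    n ≤ m := by
  have := card_dvd_of_le hAB
  rwa [h.card, h'.card, Nat.pow_dvd_pow_iff_le_right hp.one_lt] at this

theorem eq_of_le [Finite G] (h : ElemN p n H A) (h' : ElemN p n K B) (hAB : A ≤ B) : A = B :=
  eq_of_le_of_card_ge hAB (by rw [h.card, h'.card])

theorem lt_of_lt [Finite G] (h : ElemN p n H A) (h' : ElemN p m K B) (hp : p.Prime)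
    (hAB : A < B) : n < m := by
  have := card_lt_of_lt hAB
  rwa [h.card, h'.card, Nat.pow_lt_pow_iff_right hp.one_lt] at this

theorem lt_of_le_of_lt (h : ElemN p n H A) (h' : ElemN p m K B) (hp : p.Prime)
    (hAB : A ≤ B) (hnm : n < m) : A < B :=
  lt_of_le_of_ne hAB fun e => hnm.ne (h.unique (e ▸ h') hp)

theorem not_le_of_lt (h : ElemN p n H A) (h' : ElemN p m K B) (hp : p.Prime) (hnm : m < n) :
    ¬ A ≤ B := fun hAB => absurd (h.le_of_le h' hp hAB) (not_le.2 hnm)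

theorem exists_of_le [Finite G] (h : ElemN p n H A) (hp : p.Prime) (hB : B ≤ A) :
    ∃ m ≤ n, ElemN p m A B := by
  obtain ⟨m, hm⟩ := exists_elemN_of_elemAb hp (EA.mono h.elem hB) hB
  exact ⟨m, hm.le_of_le h hp hB, hm⟩

theorem inf_eq_bot_of_ne [Finite G] (hX : ElemN p 1 H X) (hY : ElemN p 1 K Y) (hp : p.Prime)
    (hne : X ≠ Y) : X ⊓ Y = ⊥ :=
  (hX.le_or_inf_eq_bot hp Y).resolve_left fun h => hne (hX.eq_of_le hY h)

/-- a proper nontrivial subgroup of a member of `ℰ_p^2` lies in `ℰ_p^1` -/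
theorem one_of_two [Finite G] (h : ElemN p 2 H A) (hp : p.Prime) (hX : X ≤ A) (h1 : X ≠ ⊥)
    (h2 : X ≠ A) : ElemN p 1 A X := by
  obtain ⟨m, hm, hXm⟩ := h.exists_of_le hp hX
  interval_cases m
  · exact absurd (elemN_zero_iff.1 hXm) h1
  · exact hXm
  · exact absurd (hXm.eq_of_le h hX) h2

theorem ne_of_one_two (hX : ElemN p 1 K X) (h : ElemN p 2 H A) (hp : p.Prime) : X ≠ A :=
  fun e => absurd (hX.unique (e ▸ h) hp) (by norm_num)

theorem sup [Finite G] (hA : ElemN p n H A) (hB : ElemN p m H B) (hc : B ≤ 𝐂(A))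
    (hd : A ⊓ B = ⊥) : ElemN p (n + m) H (A ⊔ B) :=
  ⟨sup_le hA.le hB.le, elemAb_sup hA.elem hB.elem hc, by
    rw [card_sup_of_disj (le_norm_of_le_cent hc) hd, hA.card, hB.card, pow_add]⟩

/-- adjoining an element of order `p` centralising `A` -/
theorem sup_zpowers [Finite G] (hA : ElemN p n H A) (hp : p.Prime) (hx : x ∈ H) (hxA : x ∉ A)
    (hxc : x ∈ 𝐂(A)) (hxp : x ^ p = 1) : ElemN p (n + 1) H (A ⊔ Subgroup.zpowers x) := by
  have h1 : x ≠ 1 := fun h => hxA (h ▸ one_mem _)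
  have hX := elemN_zpowers' hp hx h1 hxp
  refine hA.sup hX (zpowers_le.2 hxc) ?_
  rw [inf_comm]
  exact (hX.le_or_inf_eq_bot hp A).resolve_left fun h => hxA (h (mem_zpowers x))

theorem sup_of_not_le [Finite G] (hA : ElemN p n H A) (hX : ElemN p 1 H X) (hp : p.Prime)
    (hc : X ≤ 𝐂(A)) (hXA : ¬ X ≤ A) : ElemN p (n + 1) H (A ⊔ X) :=
  hA.sup hX hc (by rw [inf_comm]; exact (hX.le_or_inf_eq_bot hp A).resolve_left hXA)

/-- two distinct commuting subgroups of order `p` generate a member of `ℰ_p^2` -/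
theorem sup_of_ne [Finite G] (hX : ElemN p 1 H X) (hY : ElemN p 1 H Y) (hp : p.Prime)
    (hne : X ≠ Y) (hc : Y ≤ 𝐂(X)) : ElemN p 2 H (X ⊔ Y) :=
  hX.sup hY hc (hX.inf_eq_bot_of_ne hY hp hne)

theorem sup_eq_of_ne [Finite G] (h : ElemN p 2 H A) (hp : p.Prime) (hX : ElemN p 1 A X)
    (hY : ElemN p 1 A Y) (hne : X ≠ Y) : X ⊔ Y = A :=
  (hX.sup_of_ne hY hp hne (h.le_cent_of_le hY.le hX.le)).eq_of_le h (sup_le hX.le hY.le)

theorem dp_of_ne [Finite G] (h : ElemN p 2 H A) (hp : p.Prime) (hX : ElemN p 1 A X)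
    (hY : ElemN p 1 A Y) (hne : X ≠ Y) : DP X Y A :=
  ⟨h.sup_eq_of_ne hp hX hY hne, h.le_cent_of_le hY.le hX.le, hX.inf_eq_bot_of_ne hY hp hne⟩

/-- the second factor of a direct decomposition of an elementary abelian group -/
theorem of_dp [Finite G] (h : ElemN p (n + m) H A) (hp : p.Prime) (hX : ElemN p n K X)
    (hd : DP X Y A) : ElemN p m A Y := by
  have hY : Y ≤ A := hd.sup ▸ le_sup_right
  refine ⟨hY, EA.mono h.elem hY, ?_⟩
  have := card_sup_of_disj (le_norm_of_le_cent hd.cent) hd.disj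
  rw [hd.sup, h.card, hX.card, pow_add] at this
  exact (Nat.eq_of_mul_eq_mul_left (pow_pos hp.pos n) this).symm

theorem exists_compl [Finite G] (h : ElemN p (n + m) H A) (hp : p.Prime) (hX : ElemN p n A X) :
    ∃ Y, ElemN p m A Y ∧ DP X Y A := by
  obtain ⟨Y, hY⟩ := elemAb_exists_compl hp h.elem hX.le
  exact ⟨Y, h.of_dp hp hX hY, hY⟩

theorem exists_between [Finite G] (h : ElemN p n H A) (hp : p.Prime) {k : ℕ} (hX : ElemN p k A X)
    (hkm : k ≤ m) (hmn : m ≤ n) : ∃ B, ElemN p m A B ∧ X ≤ B := by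
  induction m, hkm using Nat.le_induction with
  | base => exact ⟨X, hX, le_rfl⟩
  | succ m hkm ih =>
    obtain ⟨B, hB, hXB⟩ := ih (by omega)
    obtain ⟨x, hx, hxB⟩ := SetLike.not_le_iff_exists.1 (h.not_le_of_lt hB hp (by omega))
    exact ⟨_, hB.sup_zpowers hp hx hxB (h.le_cent_of_le le_rfl hB.le hx) (h.pow_eq_one hx),
      hXB.trans le_sup_left⟩

theorem exists_sub [Finite G] (h : ElemN p n H A) (hp : p.Prime) (hm : m ≤ n) :
    ∃ B, ElemN p m A B := by
  obtain ⟨B, hB, -⟩ := h.exists_between hp (elemN_bot p A) (Nat.zero_le m) hm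
  exact ⟨B, hB⟩

theorem exists_one [Finite G] (h : ElemN p n H A) (hp : p.Prime) (hn : 0 < n) :
    ∃ X, ElemN p 1 A X := h.exists_sub hp hn

theorem exists_one_ne [Finite G] (h : ElemN p n H A) (hp : p.Prime) (hn : 2 ≤ n)
    (X : Subgroup G) : ∃ Y, ElemN p 1 A Y ∧ Y ≠ X := by
  obtain ⟨Y, hY⟩ := h.exists_one hp (by omega)
  by_cases hYX : Y = X
  · obtain ⟨y, hy, hyY⟩ := SetLike.not_le_iff_exists.1 (h.not_le_of_lt hY hp (by omega))
    refine ⟨_, h.zpowers hp hy (fun e => hyY (e ▸ one_mem _)), fun e => hyY ?_⟩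
    rw [hYX, ← e]; exact mem_zpowers y
  · exact ⟨Y, hY, hYX⟩

/-- an elementary abelian group is generated by its subgroups of order `p` -/
theorem le_of_forall_one (h : ElemN p n H A) (hp : p.Prime)
    (hL : ∀ X, ElemN p 1 A X → X ≤ L) : A ≤ L := by
  intro x hx
  by_cases h1 : x = 1
  · exact h1 ▸ one_mem _
  · exact hL _ (h.zpowers hp hx h1) (mem_zpowers x)

/-- a subgroup of index at most `p ^ k` of `H` meets `A ∈ ℰ_p^n(H)` in rank at least `n - k` -/
theorem exists_inf_of_relIndex_le [Finite G] (h : ElemN p n H A) (hp : p.Prime) {k : ℕ}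
    (hK : K.relIndex H ≤ p ^ k) : ∃ m, n ≤ m + k ∧ ElemN p m A (K ⊓ A) := by
  obtain ⟨m, -, hm⟩ := h.exists_of_le hp (inf_le_right : K ⊓ A ≤ A)
  refine ⟨m, ?_, hm⟩
  have h1 := card_inf_mul_relIndex K A
  have h2 : K.relIndex A ≤ p ^ k :=
    (relIndex_le_of_le_right h.le index_ne_zero_of_finite).trans hK
  rw [hm.card, h.card] at h1
  have h3 : p ^ n ≤ p ^ (m + k) := by
    rw [← h1, pow_add]; exact Nat.mul_le_mul_left _ h2
  exact (Nat.pow_le_pow_iff_right hp.one_lt).1 h3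

end ElemN

theorem elemN_map_iff {f : G →* G'} (hf : Function.Injective f) :
    ElemN p n (H.map f) (A.map f) ↔ ElemN p n H A :=
  ⟨fun h => ⟨(map_le_map_iff_of_injective hf).1 h.le, EA.of_map_of_injective hf h.elem,
    by rw [← h.card, card_map_of_injective hf]⟩, fun h => h.map hf⟩

theorem elemN_cj : ElemN p n (cj g H) (cj g A) ↔ ElemN p n H A := elemN_map_iff (conj_injective g)

/-! ### `Ω₁` -/

theorem omegaOne_le (p : ℕ) (H : Subgroup G) : omegaOne p H ≤ H := EA.omegaOne_le H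

theorem omegaOne_mono (h : H ≤ K) : omegaOne p H ≤ omegaOne p K := EA.omegaOne_mono h

theorem mem_omegaOne (hx : x ∈ H) (hp : x ^ p = 1) : x ∈ omegaOne p H := EA.mem_omegaOne hx hp

theorem omegaOne_le_iff : omegaOne p H ≤ K ↔ ∀ x ∈ H, x ^ p = 1 → x ∈ K := EA.omegaOne_le_iff

theorem map_omegaOne {f : G →* G'} (hf : Function.Injective f) (H : Subgroup G) :
    (omegaOne p H).map f = omegaOne p (H.map f) := EA.omegaOne_map_of_injective H hf

theorem cj_omegaOne (g : G) (H : Subgroup G) : cj g (omegaOne p H) = omegaOne p (cj g H) :=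
  map_omegaOne (conj_injective g) H

theorem norm_le_norm_omegaOne (p : ℕ) (H : Subgroup G) : 𝐍(H) ≤ 𝐍(omegaOne p H) :=
  EA.normalizer_le_normalizer_omegaOne H

theorem norms_omegaOne (p : ℕ) (h : A ≤ 𝐍(H)) : A ≤ 𝐍(omegaOne p H) :=
  h.trans (norm_le_norm_omegaOne p H)

theorem omegaOne_normalIn (p : ℕ) (H : Subgroup G) : omegaOne p H ⊴ H :=
  ⟨omegaOne_le p H, norms_omegaOne p le_normalizer⟩

theorem NormalIn.omegaOne (h : K ⊴ H) (p : ℕ) : omegaOne p K ⊴ H :=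
  h.trans_of_norm_le (omegaOne_le p K) (norm_le_norm_omegaOne p K)

theorem omegaOne_charIn (p : ℕ) (H : Subgroup G) : CharIn (omegaOne p H) H := by
  refine ⟨omegaOne_le p H, ?_⟩
  have e : (omegaOne p H).subgroupOf H = omegaOne p ⊤ := by
    apply map_injective H.subtype_injective
    rw [map_omegaOne H.subtype_injective, subgroupOf_map_subtype, inf_eq_left.2 (omegaOne_le p H),
      ← MonoidHom.range_eq_map, range_subtype]
  rw [e, characteristic_iff_map_eq]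
  intro φ
  rw [map_omegaOne (f := φ.toMonoidHom) φ.injective, map_top_of_surjective _ φ.surjective]

theorem omegaOne_bot (p : ℕ) : omegaOne p (⊥ : Subgroup G) = ⊥ :=
  le_bot_iff.1 (omegaOne_le p ⊥)

theorem omegaOne_idem (p : ℕ) (H : Subgroup G) : omegaOne p (omegaOne p H) = omegaOne p H :=
  le_antisymm (omegaOne_le _ _) (omegaOne_le_iff.2 fun _ hx hp =>
    mem_omegaOne (mem_omegaOne hx hp) hp)

theorem omegaOne_eq_of_le (h₁ : omegaOne p H ≤ K) (h₂ : K ≤ H) : omegaOne p K = omegaOne p H :=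
  le_antisymm (omegaOne_mono h₂) (by rw [← omegaOne_idem p H]; exact omegaOne_mono h₁)

theorem omegaOne_eq_self (h : ∀ x ∈ H, x ^ p = 1) : omegaOne p H = H :=
  le_antisymm (omegaOne_le p H) fun x hx => mem_omegaOne hx (h x hx)

theorem omegaOne_of_elemAb (h : IsElementaryAbelian p A) : omegaOne p A = A := omegaOne_eq_self h.2

theorem ElemN.omegaOne_eq (h : ElemN p n H A) : omegaOne p A = A := omegaOne_of_elemAb h.elem

theorem elemAb_omegaOne (h : IsMulCommutative A) (p : ℕ) : IsElementaryAbelian p (omegaOne p A) :=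
  EA.omegaOne_of_comm fun a ha _ hb => (mem_cent.1 (le_cent_of_comm h hb) a ha)

theorem mem_omegaOne_iff_of_comm (h : IsMulCommutative A) :
    x ∈ omegaOne p A ↔ x ∈ A ∧ x ^ p = 1 :=
  EA.mem_omegaOne_iff_of_comm fun a ha _ hb => (mem_cent.1 (le_cent_of_comm h hb) a ha)

theorem elemAb_omegaOne_center (p : ℕ) (H : Subgroup G) :
    IsElementaryAbelian p (omegaOne p 𝐙(H)) := EA.omegaOne_center H

theorem omegaOne_center_le (p : ℕ) (H : Subgroup G) : omegaOne p 𝐙(H) ≤ H :=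
  (omegaOne_le p _).trans inf_le_left

theorem omegaOne_center_le_cent (p : ℕ) (H : Subgroup G) : omegaOne p 𝐙(H) ≤ 𝐂(H) :=
  (omegaOne_le p _).trans inf_le_right

theorem le_cent_omegaOne_center (p : ℕ) (H : Subgroup G) : H ≤ 𝐂(omegaOne p 𝐙(H)) :=
  cent_symm (omegaOne_center_le_cent p H)

theorem norm_le_norm_omegaOne_center (p : ℕ) (H : Subgroup G) : 𝐍(H) ≤ 𝐍(omegaOne p 𝐙(H)) :=
  (norm_le_norm_center H).trans (norm_le_norm_omegaOne p _)

theorem omegaOne_eq_bot_iff [Finite G] (hp : p.Prime) : omegaOne p H = ⊥ ↔ ¬ p ∣ Nat.card H := by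
  constructor
  · intro h hd
    obtain ⟨X, hX⟩ := exists_elemN_one_of_dvd hp hd
    exact hX.ne_bot hp one_pos (le_bot_iff.1 (h ▸ hX.le_omegaOne))
  · intro h
    rw [eq_bot_iff, omegaOne_le_iff]
    intro x hx hxp
    by_contra h1
    exact h ((elemN_zpowers' hp hx (fun e => h1 (e ▸ one_mem _)) hxp).dvd_card' one_pos)

theorem omegaOne_ne_bot_iff [Finite G] (hp : p.Prime) : omegaOne p H ≠ ⊥ ↔ p ∣ Nat.card H := by
  rw [Ne, omegaOne_eq_bot_iff hp, not_not]

theorem omegaOne_ne_bot [Finite G] (hp : p.Prime) (hP : IsPGroup p P) (hne : P ≠ ⊥) :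
    omegaOne p P ≠ ⊥ := (omegaOne_ne_bot_iff hp).2 (dvd_card_of_isPGroup hp hP hne)

theorem center_ne_bot_of_isPGroup [Finite G] (hp : p.Prime) (hP : IsPGroup p P) (hne : P ≠ ⊥) :
    𝐙(P) ≠ ⊥ := by
  haveI := Fact.mk hp
  haveI : Nontrivial P := (nontrivial_iff_ne_bot P).2 hne
  rw [← map_center_subtype, Ne, map_eq_bot_iff_of_injective _ P.subtype_injective]
  exact (nontrivial_iff_ne_bot _).1 hP.center_nontrivial

theorem omegaOne_center_ne_bot [Finite G] (hp : p.Prime) (hP : IsPGroup p P) (hne : P ≠ ⊥) :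
    omegaOne p 𝐙(P) ≠ ⊥ :=
  omegaOne_ne_bot hp (hP.to_le inf_le_left) (center_ne_bot_of_isPGroup hp hP hne)

/-- a subgroup meeting `Ω₁(P)` trivially meets the `p`-group `P` trivially -/
theorem inf_eq_bot_of_inf_omegaOne [Finite G] (hp : p.Prime) (hP : IsPGroup p P)
    (h : K ⊓ omegaOne p P = ⊥) : K ⊓ P = ⊥ := by
  by_contra hne
  apply omegaOne_ne_bot hp (hP.to_le (inf_le_right : K ⊓ P ≤ P)) hne
  rw [eq_bot_iff, ← h]
  exact le_inf ((omegaOne_le p _).trans inf_le_left) (omegaOne_mono inf_le_right)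

theorem inf_omegaOne_ne_bot [Finite G] (hp : p.Prime) (hP : IsPGroup p P) (h : K ⊓ P ≠ ⊥) :
    K ⊓ omegaOne p P ≠ ⊥ := fun e => h (inf_eq_bot_of_inf_omegaOne hp hP e)

/-- subgroups of a cyclic group are determined by their order -/
theorem eq_of_card_eq_of_isCyclic [Finite G] (hc : IsCyclic H) (hX : X ≤ H) (hY : Y ≤ H)
    (h : Nat.card X = Nat.card Y) : X = Y := by
  classical
  have key : ∀ Z : Subgroup G, Z ≤ H → ∀ x ∈ H, (x ∈ Z ↔ x ^ Nat.card Z = 1) := by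
    intro Z hZ x hx
    refine ⟨fun hxZ => orderOf_dvd_iff_pow_eq_one.1 (orderOf_dvd_card' hxZ), fun hxn => ?_⟩
    haveI := Fintype.ofFinite H
    have h1 := IsCyclic.card_pow_eq_one_le (α := H) (n := Nat.card Z) Nat.card_pos
    set S : Finset H := Finset.univ.filter (fun a : H => a ^ Nat.card Z = 1) with hS
    set T : Finset H := Finset.univ.filter (fun a : H => (a : G) ∈ Z) with hT
    have hTS : T ⊆ S := by
      intro a ha
      simp only [hS, hT, Finset.mem_filter, Finset.mem_univ, true_and] at ha ⊢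
      exact Subtype.ext (by
        simpa using orderOf_dvd_iff_pow_eq_one.1 (orderOf_dvd_card' ha))
    have hTc : T.card = Nat.card Z := by
      rw [← Pi.card_subgroupOf_of_le hZ, Nat.card_eq_fintype_card, Fintype.card_subtype]
      rfl
    have heq : T = S := Finset.eq_of_subset_of_card_le hTS (by rw [hTc]; exact h1)
    have hxS : (⟨x, hx⟩ : H) ∈ S := by
      simp only [hS, Finset.mem_filter, Finset.mem_univ, true_and]
      exact Subtype.ext (by simpa using hxn)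
    rw [← heq] at hxS
    simpa [hT] using hxS
  ext x
  constructor
  · intro hx
    rw [key Y hY x (hX hx), ← h, ← key X hX x (hX hx)]; exact hx
  · intro hx
    rw [key X hX x (hY hx), h, ← key Y hY x (hY hx)]; exact hx

/-- subgroups of a cyclic group are characteristic -/
theorem norm_le_norm_of_isCyclic [Finite G] (hc : IsCyclic H) (hX : X ≤ H) : 𝐍(H) ≤ 𝐍(X) :=
  fun g hg => cj_eq_iff_mem_norm.1
    (eq_of_card_eq_of_isCyclic hc (cj_le_of_mem_norm hg hX) hX (card_cj g X))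

theorem NormalIn.of_isCyclic [Finite G] (h : K ⊴ H) (hc : IsCyclic K) (hX : X ≤ K) : X ⊴ H :=
  h.trans_of_norm_le hX (norm_le_norm_of_isCyclic hc hX)

theorem elemN_omegaOne_of_isCyclic [Finite G] (hp : p.Prime) (hc : IsCyclic H)
    (hd : p ∣ Nat.card H) : ElemN p 1 H (omegaOne p H) := by
  have hE := elemAb_omegaOne (comm_of_isCyclic hc) p
  refine elemN_one_of_card hp (omegaOne_le p H) ?_
  rcases (Nat.dvd_prime hp).1
    (card_dvd_of_elemAb_of_isCyclic hE (isCyclic_of_le hc (omegaOne_le p H))) with h | h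
  · exact absurd (card_eq_one.1 h) ((omegaOne_ne_bot_iff hp).2 hd)
  · exact h

theorem elemN_omegaOne_of_isCyclic_pgroup [Finite G] (hp : p.Prime) (hc : IsCyclic P)
    (hP : IsPGroup p P) (hne : P ≠ ⊥) : ElemN p 1 P (omegaOne p P) :=
  elemN_omegaOne_of_isCyclic hp hc (dvd_card_of_isPGroup hp hP hne)

theorem ElemN.eq_omegaOne_of_isCyclic [Finite G] (hX : ElemN p 1 H X) (hp : p.Prime)
    (hc : IsCyclic H) : X = omegaOne p H :=
  hX.eq_of_le (elemN_omegaOne_of_isCyclic hp hc (hX.dvd_card' one_pos)) hX.le_omegaOne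

theorem ElemN.eq_of_isCyclic [Finite G] (hX : ElemN p n H X) (hY : ElemN p n H Y)
    (hc : IsCyclic H) : X = Y :=
  eq_of_card_eq_of_isCyclic hc hX.le hY.le (hX.card.trans hY.card.symm)

theorem omegaOne_eq_of_isCyclic [Finite G] (hp : p.Prime) (hc : IsCyclic H) (hK : K ≤ H)
    (hd : p ∣ Nat.card K) : omegaOne p K = omegaOne p H :=
  ((elemN_omegaOne_of_isCyclic hp (isCyclic_of_le hc hK) hd).mono hK).eq_omegaOne_of_isCyclic hp hc

/-- every nontrivial subgroup of a cyclic `p`-group contains `Ω₁` -/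
theorem omegaOne_le_of_isCyclic [Finite G] (hp : p.Prime) (hc : IsCyclic P) (hP : IsPGroup p P)
    (hK : K ≤ P) (hne : K ≠ ⊥) : omegaOne p P ≤ K := by
  rw [← omegaOne_eq_of_isCyclic hp hc hK (dvd_card_of_isPGroup hp (hP.to_le hK) hne)]
  exact omegaOne_le p K

theorem omegaOne_le_of_isCyclic' [Finite G] (hp : p.Prime) (hc : IsCyclic P) (hP : IsPGroup p P)
    (hne : K ⊓ P ≠ ⊥) : omegaOne p P ≤ K :=
  (omegaOne_le_of_isCyclic hp hc hP inf_le_right hne).trans inf_le_left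

/-- subgroups of a cyclic `p`-group are totally ordered -/
theorem le_total_of_isCyclic [Finite G] (hp : p.Prime) (hc : IsCyclic P) (hP : IsPGroup p P)
    (hX : X ≤ P) (hY : Y ≤ P) : X ≤ Y ∨ Y ≤ X := by
  haveI := Fact.mk hp
  have key : ∀ X Y : Subgroup G, X ≤ P → Y ≤ P → Nat.card X ∣ Nat.card Y → X ≤ Y := by
    intro X Y hX hY hd
    obtain ⟨a, ha⟩ := IsPGroup.iff_card.1 (hP.to_le hX)
    obtain ⟨Z, hZ⟩ := Sylow.exists_subgroup_card_pow_prime (G := Y) p (ha ▸ hd)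
    have := eq_of_card_eq_of_isCyclic hc hX ((map_subtype_le Z).trans hY)
      (by rw [ha, Pi.card_map_subtype, hZ])
    exact this ▸ map_subtype_le Z
  obtain ⟨a, ha⟩ := IsPGroup.iff_card.1 (hP.to_le hX)
  obtain ⟨b, hb⟩ := IsPGroup.iff_card.1 (hP.to_le hY)
  rcases le_total a b with h | h
  · exact Or.inl (key X Y hX hY (by rw [ha, hb]; exact pow_dvd_pow p h))
  · exact Or.inr (key Y X hY hX (by rw [ha, hb]; exact pow_dvd_pow p h))

theorem DP.omegaOne (h : DP K H L) (p : ℕ) :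
    DP (omegaOne p K) (omegaOne p H) (omegaOne p L) := by
  refine ⟨le_antisymm (sup_le (omegaOne_mono (h.sup ▸ le_sup_left))
    (omegaOne_mono (h.sup ▸ le_sup_right))) ?_,
    (omegaOne_le p H).trans (h.cent.trans (cent_anti (omegaOne_le p K))),
    le_bot_iff.1 (h.disj ▸ inf_le_inf (omegaOne_le p K) (omegaOne_le p H))⟩
  rw [omegaOne_le_iff]
  intro x hx hxp
  rw [← h.sup] at hx
  obtain ⟨k, hk, y, hy, rfl⟩ := (mem_sup_iff_of_norm (le_norm_of_le_cent h.cent)).1 hx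
  have hc : Commute k y := mem_cent.1 (h.cent hy) k hk
  rw [hc.mul_pow] at hxp
  have h1 : k ^ p ∈ K ⊓ H :=
    mem_inf.2 ⟨pow_mem hk p, by
      rw [eq_inv_of_mul_eq_one_left hxp]; exact H.inv_mem (H.pow_mem hy p)⟩
  rw [h.disj, mem_bot] at h1
  rw [h1, one_mul] at hxp
  exact mul_mem (mem_sup_left (mem_omegaOne hk h1)) (mem_sup_right (mem_omegaOne hy hxp))

/-- a Hall `π`-subgroup (`p ∈ π`) normal in `H` contains `Ω₁(H)` -/
theorem Hall.omegaOne_eq_of_normal {π : Set ℕ} (h : Hall π K H) (hn : H ≤ 𝐍(K)) (hp : p.Prime)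
    (hπ : p ∈ π) : omegaOne p K = omegaOne p H := by
  refine omegaOne_eq_of_le (omegaOne_le_iff.2 fun x hx hxp => h.mem_of_normal hn hx ?_) h.le
  intro q hq hd
  rwa [(Nat.prime_dvd_prime_iff_eq hq hp).1 (hd.trans (orderOf_dvd_of_pow_eq_one hxp))]

/-! ### `MaxElem` -/

theorem maxElem_iff : MaxElem p H A ↔
    A ≤ H ∧ IsElementaryAbelian p A ∧ ∀ x ∈ H, x ∈ 𝐂(A) → x ^ p = 1 → x ∈ A := by
  constructor
  · intro h
    refine ⟨h.le, h.elem, fun x hx hc hxp => ?_⟩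
    rw [← h.max (A ⊔ zpowers x) (sup_le h.le (zpowers_le.2 hx))
      (elemAb_sup h.elem (EA.zpowers hxp) (zpowers_le.2 hc)) le_sup_left]
    exact mem_sup_right (mem_zpowers x)
  · rintro ⟨h1, h2, h3⟩
    exact ⟨h1, h2, fun B hB hBe hAB => le_antisymm
      (fun x hx => h3 x (hB hx) (EA.le_centralizer_of_le hBe le_rfl hAB hx) (hBe.2 x hx)) hAB⟩

theorem maxElem_iff_omegaOne : MaxElem p H A ↔ A ≤ H ∧ omegaOne p (H ⊓ 𝐂(A)) = A ∧
    ∀ x ∈ A, x ^ p = 1 := by
  rw [maxElem_iff]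
  constructor
  · rintro ⟨h1, h2, h3⟩
    exact ⟨h1, le_antisymm (omegaOne_le_iff.2 fun x hx hxp => h3 x hx.1 hx.2 hxp)
      (EA.le_omegaOne h2 (le_inf h1 (EA.le_centralizer h2))), h2.2⟩
  · rintro ⟨h1, h2, h3⟩
    refine ⟨h1, ⟨comm_iff_le_cent.2 ?_, h3⟩, fun x hx hc hxp => h2 ▸ mem_omegaOne ⟨hx, hc⟩ hxp⟩
    exact h2.ge.trans ((omegaOne_le p _).trans inf_le_right)

theorem exists_maxElem_ge [Finite G] (hA : IsElementaryAbelian p A) (hle : A ≤ H) :
    ∃ B, MaxElem p H B ∧ A ≤ B := by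
  obtain ⟨B, hAB, ⟨h1, h2⟩, hmax⟩ :=
    exists_maximal_ge (H := A) (P := fun B => B ≤ H ∧ IsElementaryAbelian p B) ⟨hle, hA⟩
  exact ⟨B, ⟨h1, h2, fun C hC hCe hBC => hmax C ⟨hC, hCe⟩ hBC⟩, hAB⟩

theorem exists_maxElem [Finite G] (p : ℕ) (H : Subgroup G) : ∃ B, MaxElem p H B := by
  obtain ⟨B, hB, -⟩ := exists_maxElem_ge (p := p) EA.bot (bot_le : ⊥ ≤ H)
  exact ⟨B, hB⟩

namespace MaxElem

theorem restrict (h : MaxElem p H A) (hAK : A ≤ K) (hK : K ≤ H) : MaxElem p K A :=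
  ⟨hAK, h.elem, fun B hB => h.max B (hB.trans hK)⟩

theorem of_top (h : MaxElem p ⊤ A) (hAK : A ≤ K) : MaxElem p K A := h.restrict hAK le_top

theorem mem (h : MaxElem p H A) (hx : x ∈ H) (hc : x ∈ 𝐂(A)) (hxp : x ^ p = 1) : x ∈ A :=
  (maxElem_iff.1 h).2.2 x hx hc hxp

theorem omegaOne_cent (h : MaxElem p H A) : omegaOne p (H ⊓ 𝐂(A)) = A :=
  (maxElem_iff_omegaOne.1 h).2.1

theorem omegaOne_le (h : MaxElem p H A) (hK : K ≤ H) (hc : K ≤ 𝐂(A)) : omegaOne p K ≤ A :=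
  (omegaOne_mono (le_inf hK hc)).trans h.omegaOne_cent.le

theorem omegaOne_eq (h : MaxElem p H A) (hAK : A ≤ K) (hK : K ≤ H) (hc : K ≤ 𝐂(A)) :
    omegaOne p K = A := le_antisymm (h.omegaOne_le hK hc) (EA.le_omegaOne h.elem hAK)

theorem le_of_elemAb (h : MaxElem p H A) (hB : IsElementaryAbelian p B) (hBH : B ≤ H)
    (hc : B ≤ 𝐂(A)) : B ≤ A := fun x hx => h.mem (hBH hx) (hc hx) (hB.2 x hx)

theorem omegaOne_center_le (h : MaxElem p H A) (hAK : A ≤ K) (hK : K ≤ H) :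
    omegaOne p 𝐙(K) ≤ A :=
  h.omegaOne_le (inf_le_left.trans hK) (inf_le_right.trans (cent_anti hAK))

theorem isPGroup (h : MaxElem p H A) : IsPGroup p A := EA.isPGroup h.elem

theorem exists_elemN [Finite G] (h : MaxElem p H A) (hp : p.Prime) : ∃ n, ElemN p n H A :=
  exists_elemN_of_elemAb hp h.elem h.le

theorem map {f : G →* G'} (h : MaxElem p H A) (hf : Function.Injective f) :
    MaxElem p (H.map f) (A.map f) := by
  refine maxElem_iff.2 ⟨map_mono h.le, EA.map h.elem f, ?_⟩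
  rintro _ ⟨x, hx, rfl⟩ hc hxp
  refine mem_map_of_mem f (h.mem hx ?_ (hf (by rw [map_pow, hxp, map_one])))
  rw [mem_cent] at hc ⊢
  intro a ha
  exact hf (by rw [map_mul, map_mul, hc _ (mem_map_of_mem f ha)])

theorem cj (h : MaxElem p H A) (g : G) : MaxElem p (cj g H) (cj g A) := h.map (conj_injective g)

theorem cj_of_mem_norm (h : MaxElem p H A) (hg : g ∈ 𝐍(H)) : MaxElem p H (BG.cj g A) := by
  have := h.cj g
  rwa [cj_eq_of_mem_norm hg] at this

theorem cj_top (h : MaxElem p ⊤ A) (g : G) : MaxElem p ⊤ (BG.cj g A) :=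
  h.cj_of_mem_norm (by rw [norm_top]; trivial)

/-- maximality in a subgroup containing the centraliser -/
theorem of_cent_le (h : MaxElem p K A) (hK : K ≤ H) (hc : H ⊓ 𝐂(A) ≤ K) : MaxElem p H A :=
  maxElem_iff.2 ⟨h.le.trans hK, h.elem, fun _ hx hxc hxp => h.mem (hc ⟨hx, hxc⟩) hxc hxp⟩

theorem ne_bot [Finite G] (h : MaxElem p H A) (hp : p.Prime) (hd : p ∣ Nat.card H) : A ≠ ⊥ := by
  rintro rfl
  obtain ⟨X, hX⟩ := exists_elemN_one_of_dvd hp hd
  exact hX.ne_bot hp one_pos (h.max X hX.le hX.elem bot_le)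

end MaxElem

theorem maxElem_map_iff {f : G →* G'} (hf : Function.Injective f) :
    MaxElem p (H.map f) (A.map f) ↔ MaxElem p H A :=
  ⟨fun h => ⟨(map_le_map_iff_of_injective hf).1 h.le, EA.of_map_of_injective hf h.elem,
    fun B hB hBe hAB => map_injective hf (h.max _ (map_mono hB) (EA.map hBe f) (map_mono hAB))⟩,
    fun h => h.map hf⟩

theorem maxElem_cj : MaxElem p (cj g H) (cj g A) ↔ MaxElem p H A :=
  maxElem_map_iff (conj_injective g)

theorem maxElem_omegaOne_of_comm (h : IsMulCommutative H) (p : ℕ) :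
    MaxElem p H (omegaOne p H) :=
  maxElem_iff.2 ⟨omegaOne_le p H, elemAb_omegaOne h p, fun _ hx _ hxp => mem_omegaOne hx hxp⟩

end CL.BG
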