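import Cfsg.Agent.Base
import Cfsg.Agent.BG.Elem
import Cfsg.Agent.PGrp.Frattini

/-!
# The `p`-rank and the rank of a subgroup; `SCN`; narrow groups
-/

namespace CL.BG

open Cfsg Subgroup

variable {G G' : Type*} [Group G] [Group G'] {H K L N A B X Y P : Subgroup G} {g x y : G}
  {p n m k : ℕ}

/-! ### `pRank` -/

theorem elemN_le_card [Finite G] (hp : p.Prime) (h : ElemN p n H A) : n ≤ Nat.card G := by
  have h1 : n < p ^ n := Nat.lt_pow_self hp.one_lt
  have h2 : Nat.card A ≤ Nat.card G := Nat.le_of_dvd Nat.card_pos (card_subgroup_dvd_card A)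
  rw [h.card] at h2
  omega

theorem pRank_bddAbove [Finite G] (hp : p.Prime) (H : Subgroup G) :
    BddAbove {n | ∃ A, ElemN p n H A} :=
  ⟨Nat.card G, fun _ ⟨_, h⟩ => elemN_le_card hp h⟩

theorem ElemN.le_pRank [Finite G] (h : ElemN p n H A) (hp : p.Prime) : n ≤ pRank p H :=
  le_csSup (pRank_bddAbove hp H) ⟨A, h⟩

theorem exists_elemN_pRank [Finite G] (hp : p.Prime) (H : Subgroup G) :
    ∃ A, ElemN p (pRank p H) H A :=
  Nat.sSup_mem (s := {n | ∃ A, ElemN p n H A}) ⟨0, ⊥, elemN_bot p H⟩ (pRank_bddAbove hp H)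

theorem le_pRank_iff [Finite G] (hp : p.Prime) : n ≤ pRank p H ↔ ∃ A, ElemN p n H A := by
  refine ⟨fun h => ?_, fun ⟨_, h⟩ => h.le_pRank hp⟩
  obtain ⟨A, hA⟩ := exists_elemN_pRank hp H
  obtain ⟨B, hB⟩ := hA.exists_sub hp h
  exact ⟨B, hB.mono hA.le⟩

theorem exists_elemN_of_le_pRank [Finite G] (hp : p.Prime) (h : n ≤ pRank p H) :
    ∃ A, ElemN p n H A := (le_pRank_iff hp).1 h

theorem pRank_le_iff_forall [Finite G] (hp : p.Prime) :
    pRank p H ≤ k ↔ ∀ n A, ElemN p n H A → n ≤ k :=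
  ⟨fun h _ _ hA => (hA.le_pRank hp).trans h,
    fun h => by obtain ⟨A, hA⟩ := exists_elemN_pRank hp H; exact h _ A hA⟩

theorem pRank_lt_iff [Finite G] (hp : p.Prime) : pRank p H < n ↔ ∀ A, ¬ ElemN p n H A := by
  rw [← not_le, le_pRank_iff hp, not_exists]

/-- bridge to the Prelude notion -/
theorem pRank_le_iff [Finite G] (hp : p.Prime) : pRank p H ≤ k ↔ PRankLE p k H := by
  rw [pRank_le_iff_forall hp]
  constructor
  · intro h A hA hAp
    obtain ⟨n, hn⟩ := exists_elemN_of_elemAb hp (EA.map (p := p) ⟨hA, hAp⟩ H.subtype)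
      (map_subtype_le A)
    rw [← Pi.card_map_subtype, hn.card]
    exact Nat.pow_le_pow_right hp.pos (h n _ hn)
  · intro h n A hA
    have hE := EA.subgroupOf hA.elem H
    have := h _ hE.1 hE.2
    rwa [Pi.card_subgroupOf_of_le hA.le, hA.card, Nat.pow_le_pow_iff_right hp.one_lt] at this

theorem lt_pRank_iff [Finite G] (hp : p.Prime) : k < pRank p H ↔ ¬ PRankLE p k H := by
  rw [← pRank_le_iff hp, not_le]

theorem pRank_mono [Finite G] (hp : p.Prime) (h : H ≤ K) : pRank p H ≤ pRank p K := by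
  obtain ⟨A, hA⟩ := exists_elemN_pRank hp H
  exact (hA.mono h).le_pRank hp

theorem pRank_map_of_injective {f : G →* G'} (hf : Function.Injective f) (p : ℕ)
    (H : Subgroup G) : pRank p (H.map f) = pRank p H := by
  unfold pRank
  congr 1
  ext n
  constructor
  · rintro ⟨A, hA⟩
    refine ⟨A.comap f, (elemN_map_iff hf).1 ?_⟩
    rwa [map_comap_eq_self (hA.le.trans (map_le_range f H))]
  · rintro ⟨A, hA⟩
    exact ⟨_, hA.map hf⟩

theorem pRank_cj (p : ℕ) (g : G) (H : Subgroup G) : pRank p (cj g H) = pRank p H :=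
  pRank_map_of_injective (conj_injective g) p H

theorem pRank_map_subtype (p : ℕ) (A : Subgroup H) : pRank p (A.map H.subtype) = pRank p A :=
  pRank_map_of_injective H.subtype_injective p A

theorem pRank_subgroupOf (p : ℕ) (h : H ≤ K) : pRank p (H.subgroupOf K) = pRank p H := by
  rw [← pRank_map_subtype, subgroupOf_map_subtype, inf_eq_left.2 h]

theorem pRank_top_coe (p : ℕ) (H : Subgroup G) : pRank p (⊤ : Subgroup H) = pRank p H := by
  rw [← pRank_map_subtype, ← MonoidHom.range_eq_map, range_subtype]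

theorem pRank_eq_of_mulEquiv (p : ℕ) {H' : Subgroup G'} (e : H ≃* H') :
    pRank p H = pRank p H' := by
  rw [← pRank_top_coe p H, ← pRank_top_coe p H',
    ← pRank_map_of_injective (f := e.toMonoidHom) e.injective,
    map_top_of_surjective _ e.surjective]

theorem pRank_le_of_injective [Finite G'] (hp : p.Prime) {H' : Subgroup G'} {f : H →* H'}
    (hf : Function.Injective f) : pRank p H ≤ pRank p H' := by
  rw [← pRank_top_coe, ← pRank_top_coe p H', ← pRank_map_of_injective hf]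
  exact pRank_mono hp le_top

theorem pRank_top_le_iff [Finite G] (hp : p.Prime) :
    pRank p (⊤ : Subgroup G) ≤ k ↔ PRankLE p k G := by
  rw [pRank_le_iff_forall hp]
  constructor
  · intro h A hA hAp
    obtain ⟨n, hn⟩ := exists_elemN_of_elemAb (H := ⊤) hp (⟨hA, hAp⟩ : IsElementaryAbelian p A) le_top
    rw [hn.card]
    exact Nat.pow_le_pow_right hp.pos (h n _ hn)
  · intro h n A hA
    have := h _ hA.elem.1 hA.elem.2
    rwa [hA.card, Nat.pow_le_pow_iff_right hp.one_lt] at this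

theorem pRank_pos_iff [Finite G] (hp : p.Prime) : 0 < pRank p H ↔ p ∣ Nat.card H :=
  ⟨fun h => by obtain ⟨A, hA⟩ := exists_elemN_pRank hp H; exact hA.dvd_card' h,
    fun h => (le_pRank_iff hp).2 (exists_elemN_one_of_dvd hp h)⟩

theorem pRank_eq_zero_iff [Finite G] (hp : p.Prime) : pRank p H = 0 ↔ ¬ p ∣ Nat.card H := by
  rw [← pRank_pos_iff hp, not_lt, Nat.le_zero]

theorem pRank_bot [Finite G] (hp : p.Prime) : pRank p (⊥ : Subgroup G) = 0 := by
  rw [pRank_eq_zero_iff hp, card_bot, Nat.dvd_one]; exact hp.ne_one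

theorem pRank_pos_of_isPGroup [Finite G] (hp : p.Prime) (hP : IsPGroup p P) (hne : P ≠ ⊥) :
    0 < pRank p P := (pRank_pos_iff hp).2 (dvd_card_of_isPGroup hp hP hne)

theorem pow_pRank_dvd_card [Finite G] (hp : p.Prime) (H : Subgroup G) :
    p ^ pRank p H ∣ Nat.card H := by
  obtain ⟨A, hA⟩ := exists_elemN_pRank hp H
  exact hA.card ▸ card_dvd_of_le hA.le

theorem pRank_le_of_card_eq [Finite G] (hp : p.Prime) (h : Nat.card H = p ^ n) :
    pRank p H ≤ n := by
  have := pow_pRank_dvd_card hp H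
  rwa [h, Nat.pow_dvd_pow_iff_le_right hp.one_lt] at this

theorem pRank_le_factorization [Finite G] (hp : p.Prime) (H : Subgroup G) :
    pRank p H ≤ (Nat.card H).factorization p :=
  (hp.pow_dvd_iff_le_factorization Nat.card_pos.ne').1 (pow_pRank_dvd_card hp H)

theorem ElemN.pRank_eq [Finite G] (h : ElemN p n H A) (hp : p.Prime) : pRank p A = n :=
  le_antisymm (pRank_le_of_card_eq hp h.card) (h.self.le_pRank hp)

theorem elemN_pRank_of_elemAb [Finite G] (hp : p.Prime) (hA : IsElementaryAbelian p A)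
    (hle : A ≤ H) : ElemN p (pRank p A) H A := by
  obtain ⟨n, hn⟩ := exists_elemN_of_elemAb hp hA hle
  rwa [hn.pRank_eq hp]

theorem card_eq_pow_pRank [Finite G] (hp : p.Prime) (hA : IsElementaryAbelian p A) :
    Nat.card A = p ^ pRank p A := (elemN_pRank_of_elemAb hp hA le_rfl).card

theorem pRank_omegaOne [Finite G] (hp : p.Prime) (H : Subgroup G) :
    pRank p (omegaOne p H) = pRank p H := by
  refine le_antisymm (pRank_mono hp (omegaOne_le p H)) ?_
  obtain ⟨A, hA⟩ := exists_elemN_pRank hp H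
  exact (hA.of_le hA.le_omegaOne).le_pRank hp

theorem elemN_omegaOne_of_comm [Finite G] (hp : p.Prime) (h : IsMulCommutative H) :
    ElemN p (pRank p H) H (omegaOne p H) := by
  have := elemN_pRank_of_elemAb hp (elemAb_omegaOne h p) (omegaOne_le p H)
  rwa [pRank_omegaOne hp] at this

theorem card_omegaOne_of_comm [Finite G] (hp : p.Prime) (h : IsMulCommutative H) :
    Nat.card (omegaOne p H) = p ^ pRank p H := (elemN_omegaOne_of_comm hp h).card

/-- in an abelian group of `p`-rank `n` the only member of `ℰ_p^n` is `Ω₁` -/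
theorem ElemN.eq_omegaOne_of_comm [Finite G] (hA : ElemN p n H A) (hp : p.Prime)
    (h : IsMulCommutative H) (hr : pRank p H ≤ n) : A = omegaOne p H := by
  have h1 := elemN_omegaOne_of_comm hp h
  rw [le_antisymm hr (hA.le_pRank hp)] at h1
  exact hA.eq_of_le h1 hA.le_omegaOne

theorem pRank_le_of_forall_conj_le [Finite G] (hp : p.Prime)
    (h : ∀ A, A ≤ H → IsPGroup p A → ∃ g : G, cj g A ≤ K) : pRank p H ≤ pRank p K := by
  obtain ⟨A, hA⟩ := exists_elemN_pRank hp H
  obtain ⟨g, hg⟩ := h A hA.le hA.isPGroup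
  exact (hA.cj_of_le hg).le_pRank hp

theorem SylowOf.pRank_eq [Finite G] (h : SylowOf p P H) (hp : p.Prime) : pRank p P = pRank p H := by
  have := Fact.mk hp
  refine le_antisymm (pRank_mono hp h.le) (pRank_le_of_forall_conj_le hp fun A hA hAp => ?_)
  obtain ⟨g, -, hg⟩ := sylow_conj_le h hAp hA
  exact ⟨g, hg⟩

theorem pRank_eq_of_not_dvd_relIndex [Finite G] (hp : p.Prime) (hK : K ≤ H)
    (h : ¬ p ∣ K.relIndex H) : pRank p K = pRank p H := by
  have := Fact.mk hp
  obtain ⟨P, hP⟩ := sylow_exists p K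
  rw [← hP.pRank_eq hp, (hP.trans_not_dvd hK h).pRank_eq hp]

theorem Hall.pRank_eq [Finite G] {π : Set ℕ} (h : Hall π K H) (hp : p.Prime) (hπ : p ∈ π) :
    pRank p K = pRank p H :=
  pRank_eq_of_not_dvd_relIndex hp h.le (h.idx.not_dvd hp (by simpa using hπ))

theorem PiGrp.pRank_eq_zero [Finite G] {π : Set ℕ} (h : PiGrp π H) (hp : p.Prime) (hπ : p ∉ π) :
    pRank p H = 0 := (pRank_eq_zero_iff hp).2 (h.not_dvd hp hπ)

theorem PiGrp.mem_of_pRank_pos [Finite G] {π : Set ℕ} (h : PiGrp π H) (hp : p.Prime)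
    (hr : 0 < pRank p H) : p ∈ π := h p hp ((pRank_pos_iff hp).1 hr)

/-- passing to a subgroup of index at most `p ^ k` lowers the `p`-rank by at most `k` -/
theorem pRank_le_add_of_relIndex_le [Finite G] (hp : p.Prime) (h : K.relIndex H ≤ p ^ k) :
    pRank p H ≤ pRank p (K ⊓ H) + k := by
  obtain ⟨A, hA⟩ := exists_elemN_pRank hp H
  obtain ⟨m, hm, hB⟩ := hA.exists_inf_of_relIndex_le hp h
  have := (hB.of_le (inf_le_inf_left K hA.le)).le_pRank hp
  omega

theorem pRank_le_succ_of_relIndex_eq [Finite G] (hp : p.Prime) (hK : K ≤ H)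
    (h : K.relIndex H = p) : pRank p H ≤ pRank p K + 1 := by
  have := pRank_le_add_of_relIndex_le (k := 1) hp (by rw [h, pow_one])
  rwa [inf_eq_left.2 hK] at this

/-! ### maximal elementary abelian subgroups and rank -/

theorem ElemN.maxElem_of_pRank_le [Finite G] (h : ElemN p n H A) (hp : p.Prime)
    (hr : pRank p (H ⊓ 𝐂(A)) ≤ n) : MaxElem p H A := by
  refine maxElem_iff.2 ⟨h.le, h.elem, fun x hx hc hxp => ?_⟩
  by_contra hxA
  have := ((h.of_le (le_inf h.le h.le_cent)).sup_zpowers hp ⟨hx, hc⟩ hxA hc hxp).le_pRank hp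
  omega

theorem ElemN.maxElem_of_pRank_le' [Finite G] (h : ElemN p n H A) (hp : p.Prime)
    (hr : pRank p H ≤ n) : MaxElem p H A :=
  h.maxElem_of_pRank_le hp ((pRank_mono hp inf_le_left).trans hr)

theorem MaxElem.pRank_cent [Finite G] (h : MaxElem p H A) (hp : p.Prime) (hA : ElemN p n K A) :
    pRank p (H ⊓ 𝐂(A)) = n := by
  rw [← pRank_omegaOne hp, h.omegaOne_cent, hA.pRank_eq hp]

theorem MaxElem.pRank_le_of_cent [Finite G] (h : MaxElem p H A) (hp : p.Prime) (hA : ElemN p n K A)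
    (hL : L ≤ H) (hc : L ≤ 𝐂(A)) : pRank p L ≤ n :=
  h.pRank_cent hp hA ▸ pRank_mono hp (le_inf hL hc)

theorem ElemN.maxElem_iff [Finite G] (h : ElemN p n H A) (hp : p.Prime) :
    MaxElem p H A ↔ pRank p (H ⊓ 𝐂(A)) ≤ n :=
  ⟨fun hm => (hm.pRank_cent hp h).le, h.maxElem_of_pRank_le hp⟩

theorem ElemN.exists_succ_of_not_maxElem [Finite G] (h : ElemN p n H A) (hp : p.Prime)
    (hm : ¬ MaxElem p H A) : ∃ B, ElemN p (n + 1) H B ∧ A ≤ B := by
  rw [BG.maxElem_iff] at hm
  push Not at hm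
  obtain ⟨x, hx, hc, hxp, hxA⟩ := hm h.le h.elem
  exact ⟨_, h.sup_zpowers hp hx hxA hc hxp, le_sup_left⟩

/-! ### `rank` -/

theorem rank_bddAbove [Finite G] (H : Subgroup G) :
    BddAbove {n | ∃ p : ℕ, p.Prime ∧ ∃ A, ElemN p n H A} :=
  ⟨Nat.card G, fun _ ⟨_, hp, _, h⟩ => elemN_le_card hp h⟩

theorem ElemN.le_rank [Finite G] (h : ElemN p n H A) (hp : p.Prime) : n ≤ rank H :=
  le_csSup (rank_bddAbove H) ⟨p, hp, A, h⟩

theorem pRank_le_rank [Finite G] (hp : p.Prime) (H : Subgroup G) : pRank p H ≤ rank H := by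
  obtain ⟨A, hA⟩ := exists_elemN_pRank hp H
  exact hA.le_rank hp

theorem exists_elemN_rank [Finite G] (H : Subgroup G) :
    ∃ p, p.Prime ∧ ∃ A, ElemN p (rank H) H A :=
  Nat.sSup_mem (s := {n | ∃ p : ℕ, p.Prime ∧ ∃ A, ElemN p n H A})
    ⟨0, 2, Nat.prime_two, ⊥, elemN_bot 2 H⟩ (rank_bddAbove H)

theorem rank_witness [Finite G] (H : Subgroup G) : ∃ p, p.Prime ∧ rank H = pRank p H := by
  obtain ⟨p, hp, A, hA⟩ := exists_elemN_rank H
  exact ⟨p, hp, le_antisymm (hA.le_pRank hp) (pRank_le_rank hp H)⟩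

theorem le_rank_iff [Finite G] : n ≤ rank H ↔ ∃ p, p.Prime ∧ ∃ A, ElemN p n H A := by
  refine ⟨fun h => ?_, fun ⟨p, hp, A, hA⟩ => hA.le_rank hp⟩
  obtain ⟨p, hp, e⟩ := rank_witness H
  exact ⟨p, hp, (le_pRank_iff hp).1 (e ▸ h)⟩

theorem le_rank_iff' [Finite G] : n ≤ rank H ↔ ∃ p, p.Prime ∧ n ≤ pRank p H := by
  refine ⟨fun h => ?_, fun ⟨p, hp, h⟩ => h.trans (pRank_le_rank hp H)⟩
  obtain ⟨p, hp, e⟩ := rank_witness H
  exact ⟨p, hp, e ▸ h⟩

theorem rank_le_iff_forall [Finite G] : rank H ≤ k ↔ ∀ p, p.Prime → pRank p H ≤ k := by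
  refine ⟨fun h p hp => (pRank_le_rank hp H).trans h, fun h => ?_⟩
  obtain ⟨p, hp, e⟩ := rank_witness H
  exact e ▸ h p hp

/-- bridge to the Prelude notion -/
theorem rank_le_iff [Finite G] : rank H ≤ k ↔ RankLE k H := by
  rw [rank_le_iff_forall]
  exact forall₂_congr fun p hp => pRank_le_iff hp

theorem lt_rank_iff [Finite G] : k < rank H ↔ ¬ RankLE k H := by rw [← rank_le_iff, not_le]

theorem rank_top_le_iff [Finite G] : rank (⊤ : Subgroup G) ≤ k ↔ RankLE k G := by
  rw [rank_le_iff_forall]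
  exact forall₂_congr fun p hp => pRank_top_le_iff hp

theorem rank_mono [Finite G] (h : H ≤ K) : rank H ≤ rank K :=
  rank_le_iff_forall.2 fun _ hp => (pRank_mono hp h).trans (pRank_le_rank hp K)

theorem rank_map_of_injective {f : G →* G'} (hf : Function.Injective f) (H : Subgroup G) :
    rank (H.map f) = rank H := by
  unfold rank
  congr 1
  ext n
  refine exists_congr fun p => and_congr_right fun _ => ⟨?_, ?_⟩
  · rintro ⟨A, hA⟩
    refine ⟨A.comap f, (elemN_map_iff hf).1 ?_⟩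
    rwa [map_comap_eq_self (hA.le.trans (map_le_range f H))]
  · rintro ⟨A, hA⟩
    exact ⟨_, hA.map hf⟩

theorem rank_cj (g : G) (H : Subgroup G) : rank (cj g H) = rank H :=
  rank_map_of_injective (conj_injective g) H

theorem rank_map_subtype (A : Subgroup H) : rank (A.map H.subtype) = rank A :=
  rank_map_of_injective H.subtype_injective A

theorem rank_subgroupOf (h : H ≤ K) : rank (H.subgroupOf K) = rank H := by
  rw [← rank_map_subtype, subgroupOf_map_subtype, inf_eq_left.2 h]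

theorem rank_top_coe (H : Subgroup G) : rank (⊤ : Subgroup H) = rank H := by
  rw [← rank_map_subtype, ← MonoidHom.range_eq_map, range_subtype]

theorem rank_eq_of_mulEquiv {H' : Subgroup G'} (e : H ≃* H') : rank H = rank H' := by
  rw [← rank_top_coe H, ← rank_top_coe H',
    ← rank_map_of_injective (f := e.toMonoidHom) e.injective,
    map_top_of_surjective _ e.surjective]

theorem rank_eq_pRank_of_forall [Finite G] (hp : p.Prime)
    (h : ∀ q, q.Prime → q ≠ p → pRank q H ≤ pRank p H) : rank H = pRank p H :=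
  le_antisymm (rank_le_iff_forall.2 fun q hq => by
    by_cases e : q = p
    · rw [e]
    · exact h q hq e) (pRank_le_rank hp H)

theorem rank_pgroup [Finite G] (hp : p.Prime) (hP : IsPGroup p P) : rank P = pRank p P :=
  rank_eq_pRank_of_forall hp fun q hq hne => by
    rw [((piGrp_singleton_iff hp).2 hP).pRank_eq_zero hq hne]; exact Nat.zero_le _

theorem SylowOf.rank_eq [Finite G] (h : SylowOf p P H) (hp : p.Prime) : rank P = pRank p H := by
  have := Fact.mk hp
  rw [rank_pgroup hp h.isPGroup, h.pRank_eq hp]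

theorem ElemN.rank_eq [Finite G] (h : ElemN p n H A) (hp : p.Prime) : rank A = n := by
  rw [rank_pgroup hp h.isPGroup, h.pRank_eq hp]

theorem rank_pos_iff [Finite G] : 0 < rank H ↔ H ≠ ⊥ := by
  rw [Nat.lt_iff_add_one_le, le_rank_iff']
  constructor
  · rintro ⟨p, hp, h⟩ rfl
    rw [pRank_bot hp] at h
    omega
  · intro h
    obtain ⟨p, hp, hd⟩ := exists_prime_dvd_card h
    exact ⟨p, hp, (pRank_pos_iff hp).2 hd⟩

theorem rank_eq_zero_iff [Finite G] : rank H = 0 ↔ H = ⊥ := by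
  rw [← not_iff_not, ← Ne, ← Ne, ← rank_pos_iff, Nat.pos_iff_ne_zero]

theorem rank_bot [Finite G] : rank (⊥ : Subgroup G) = 0 := rank_eq_zero_iff.2 rfl

/-- a witness prime for a positive rank bound lies in `π` for a `π`-group -/
theorem PiGrp.exists_pRank [Finite G] {π : Set ℕ} (h : PiGrp π H) (hn : 0 < n) (hr : n ≤ rank H) :
    ∃ p, p.Prime ∧ p ∈ π ∧ n ≤ pRank p H := by
  obtain ⟨p, hp, h'⟩ := le_rank_iff'.1 hr
  exact ⟨p, hp, h.mem_of_pRank_pos hp (by omega), h'⟩

/-! ### rank one and cyclic groups -/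

theorem pRank_le_one_of_isCyclic [Finite G] (hp : p.Prime) (hc : IsCyclic H) : pRank p H ≤ 1 := by
  by_contra h
  obtain ⟨A, hA⟩ := exists_elemN_of_le_pRank (n := 2) (H := H) hp (by omega)
  exact hA.not_isCyclic' hp le_rfl hc

theorem rank_le_one_of_isCyclic [Finite G] (hc : IsCyclic H) : rank H ≤ 1 :=
  rank_le_iff_forall.2 fun _ hp => pRank_le_one_of_isCyclic hp hc

theorem not_isCyclic_of_two_le_pRank [Finite G] (hp : p.Prime) (h : 2 ≤ pRank p H) :
    ¬ IsCyclic H := fun hc => by have := pRank_le_one_of_isCyclic hp hc; omega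

theorem not_isCyclic_of_two_le_rank [Finite G] (h : 2 ≤ rank H) : ¬ IsCyclic H :=
  fun hc => by have := rank_le_one_of_isCyclic hc; omega

theorem pRank_eq_one_of_isCyclic [Finite G] (hp : p.Prime) (hc : IsCyclic H)
    (hd : p ∣ Nat.card H) : pRank p H = 1 :=
  le_antisymm (pRank_le_one_of_isCyclic hp hc) ((pRank_pos_iff hp).2 hd)

theorem rank_eq_one_of_isCyclic [Finite G] (hc : IsCyclic H) (hne : H ≠ ⊥) : rank H = 1 :=
  le_antisymm (rank_le_one_of_isCyclic hc) (rank_pos_iff.2 hne)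

theorem isCyclic_of_elemAb_of_pRank_le [Finite G] (hp : p.Prime) (hA : IsElementaryAbelian p A)
    (h : pRank p A ≤ 1) : IsCyclic A := by
  have hA' := elemN_pRank_of_elemAb hp hA le_rfl
  generalize pRank p A = n at h hA'
  interval_cases n
  · rw [elemN_zero_iff.1 hA']; infer_instance
  · exact hA'.isCyclic hp

/-- a `p`-group of `p`-rank at most one is cyclic if `p` is odd or the group is abelian -/
theorem isCyclic_of_pRank_le_one' [Finite G] (hp : p.Prime) (hP : IsPGroup p P)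
    (h2 : p ≠ 2 ∨ IsMulCommutative P) (h : pRank p P ≤ 1) : IsCyclic P := by
  have := Fact.mk hp
  have key : ∀ A : Subgroup P, IsMulCommutative A → (∀ a ∈ A, a ^ p = 1) → IsCyclic A := by
    intro A hA hAp
    refine isCyclic_of_elemAb_of_pRank_le hp ⟨hA, hAp⟩ ?_
    rw [← pRank_top_coe] at h
    exact (pRank_mono hp le_top).trans h
  rcases h2 with h2 | h2
  · exact isCyclic_of_odd_of_forall_elementary hP h2 key
  · refine isCyclic_of_isMulCommutative_of_unique hP fun x y hx hy h1 => ?_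
    have hc : IsMulCommutative (⊤ : Subgroup P) := inferInstance
    have hE := elemAb_omegaOne hc p
    have hX : ElemN p 1 (omegaOne p ⊤) (zpowers x) :=
      elemN_zpowers' hp (mem_omegaOne (mem_top x) hx) h1 hx
    rw [hX.eq_omegaOne_of_isCyclic hp (key _ hE.1 hE.2), omegaOne_idem]
    exact mem_omegaOne (mem_top y) hy

theorem isCyclic_of_pRank_le_one [Finite G] (hp : p.Prime) (hP : IsPGroup p P)
    (hodd : Odd (Nat.card P)) (h : pRank p P ≤ 1) : IsCyclic P := by
  by_cases hne : P = ⊥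
  · rw [hne]; infer_instance
  refine isCyclic_of_pRank_le_one' hp hP (Or.inl ?_) h
  rintro rfl
  exact (Nat.not_even_iff_odd.2 hodd) (even_iff_two_dvd.2 (dvd_card_of_isPGroup hp hP hne))

theorem isCyclic_iff_pRank_le_one [Finite G] (hp : p.Prime) (hP : IsPGroup p P)
    (hodd : Odd (Nat.card P)) : IsCyclic P ↔ pRank p P ≤ 1 :=
  ⟨pRank_le_one_of_isCyclic hp, isCyclic_of_pRank_le_one hp hP hodd⟩

theorem two_le_pRank_of_not_isCyclic [Finite G] (hp : p.Prime) (hP : IsPGroup p P)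
    (hodd : Odd (Nat.card P)) (h : ¬ IsCyclic P) : 2 ≤ pRank p P := by
  rw [isCyclic_iff_pRank_le_one hp hP hodd] at h; omega

theorem exists_elemN_two_of_not_isCyclic [Finite G] (hp : p.Prime) (hP : IsPGroup p P)
    (hodd : Odd (Nat.card P)) (h : ¬ IsCyclic P) : ∃ A, ElemN p 2 P A :=
  exists_elemN_of_le_pRank hp (two_le_pRank_of_not_isCyclic hp hP hodd h)

/-- `p`-subgroups of an odd order group of `p`-rank at most one are cyclic -/
theorem isCyclic_of_le_of_pRank_le_one [Finite G] (hp : p.Prime) (hodd : Odd (Nat.card H))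
    (h : pRank p H ≤ 1) (hP : IsPGroup p P) (hle : P ≤ H) : IsCyclic P :=
  isCyclic_of_pRank_le_one hp hP (odd_card_of_le hodd hle) ((pRank_mono hp hle).trans h)

theorem isZGroup_iff_forall [Finite G] :
    IsZGroup H ↔ ∀ p, p.Prime → ∀ P : Subgroup G, IsPGroup p P → P ≤ H → IsCyclic P := by
  constructor
  · intro h p hp P hP hle
    have := Fact.mk hp
    have := isZGroup_of_le h hle
    have h1 : IsCyclic (⊤ : Subgroup P) := (hP.to_subgroup ⊤).isCyclic_of_isZGroup
    exact isCyclic_of_surjective _ (topEquiv (G := P)).surjective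
  · intro h
    refine ⟨fun p hp S => ?_⟩
    have := Fact.mk hp
    rw [← isCyclic_map_iff H.subtype_injective]
    exact h p hp _ (S.isPGroup'.map _) (map_subtype_le _)

theorem rank_le_one_of_isZGroup [Finite G] (h : IsZGroup H) : rank H ≤ 1 := by
  obtain ⟨p, hp, A, hA⟩ := exists_elemN_rank H
  rw [← hA.rank_eq hp]
  exact rank_le_one_of_isCyclic (isZGroup_iff_forall.1 h p hp A hA.isPGroup hA.le)

theorem isZGroup_of_rank_le_one [Finite G] (hH : Odd (Nat.card H) ∨ IsMulCommutative H)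
    (h : rank H ≤ 1) : IsZGroup H := by
  refine isZGroup_iff_forall.2 fun p hp P hP hle => ?_
  have h1 := (pRank_mono hp hle).trans ((pRank_le_rank hp H).trans h)
  rcases hH with hH | hH
  · exact isCyclic_of_pRank_le_one hp hP (odd_card_of_le hH hle) h1
  · exact isCyclic_of_pRank_le_one' hp hP (Or.inr (comm_of_le hH hle)) h1

theorem isZGroup_iff_rank_le_one [Finite G] (hodd : Odd (Nat.card H)) : IsZGroup H ↔ rank H ≤ 1 :=
  ⟨rank_le_one_of_isZGroup, isZGroup_of_rank_le_one (Or.inl hodd)⟩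

theorem isCyclic_of_isZGroup_of_nilpotent [Finite G] (h : IsZGroup H)
    (hn : Group.IsNilpotent H) : IsCyclic H := inferInstance

theorem nilpotent_of_comm' (h : IsMulCommutative H) : Group.IsNilpotent H :=
  ⟨1, by
    rw [Subgroup.upperCentralSeries_one, eq_top_iff]
    intro a _
    exact mem_center_iff.2 fun b => h.is_comm.comm b a⟩

theorem isCyclic_of_isZGroup_of_comm [Finite G] (h : IsZGroup H) (hc : IsMulCommutative H) :
    IsCyclic H := isCyclic_of_isZGroup_of_nilpotent h (nilpotent_of_comm' hc)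

theorem isCyclic_iff_rank_le_one_of_nilpotent [Finite G] (hn : Group.IsNilpotent H)
    (hodd : Odd (Nat.card H)) : IsCyclic H ↔ rank H ≤ 1 :=
  ⟨rank_le_one_of_isCyclic, fun h =>
    isCyclic_of_isZGroup_of_nilpotent (isZGroup_of_rank_le_one (Or.inl hodd) h) hn⟩

theorem isCyclic_iff_rank_le_one_of_comm [Finite G] (hc : IsMulCommutative H) :
    IsCyclic H ↔ rank H ≤ 1 :=
  ⟨rank_le_one_of_isCyclic, fun h =>
    isCyclic_of_isZGroup_of_comm (isZGroup_of_rank_le_one (Or.inr hc) h) hc⟩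

theorem exists_elemN_two_of_comm [Finite G] (hc : IsMulCommutative H) (h : ¬ IsCyclic H) :
    ∃ p, p.Prime ∧ ∃ A, ElemN p 2 H A := by
  rw [isCyclic_iff_rank_le_one_of_comm hc] at h
  exact le_rank_iff.1 (by omega)

theorem exists_elemN_two_of_nilpotent [Finite G] (hn : Group.IsNilpotent H)
    (hodd : Odd (Nat.card H)) (h : ¬ IsCyclic H) : ∃ p, p.Prime ∧ ∃ A, ElemN p 2 H A := by
  rw [isCyclic_iff_rank_le_one_of_nilpotent hn hodd] at h
  exact le_rank_iff.1 (by omega)

/-- in a group of `p`-rank at most one all subgroups of order `p` are conjugate (odd order) -/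
theorem ElemN.conj_of_pRank_le_one [Finite G] (hX : ElemN p 1 H X) (hY : ElemN p 1 H Y)
    (hp : p.Prime) (hodd : Odd (Nat.card H)) (h : pRank p H ≤ 1) : ∃ g ∈ H, BG.cj g X = Y := by
  have := Fact.mk hp
  obtain ⟨P, hP, hYP⟩ := sylow_superset hY.isPGroup hY.le
  obtain ⟨g, hg, hgX⟩ := sylow_conj_le hP hX.isPGroup hX.le
  exact ⟨g, hg, (hX.cj_of_le hgX).eq_of_isCyclic (hY.of_le hYP)
    (isCyclic_of_le_of_pRank_le_one hp hodd h hP.isPGroup hP.le)⟩

/-! ### direct products, extensions and quotients -/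

theorem DP.pRank_eq [Finite G] (h : DP K H L) (hp : p.Prime) :
    pRank p L = pRank p K + pRank p H := by
  have hKL : K ≤ L := h.sup ▸ le_sup_left
  have hHL : H ≤ L := h.sup ▸ le_sup_right
  apply le_antisymm
  · obtain ⟨A, hA⟩ := exists_elemN_pRank hp L
    obtain ⟨m, -, hm⟩ := hA.exists_of_le hp (inf_le_right : K ⊓ A ≤ A)
    have hKn : L ≤ 𝐍(K) := h.sup ▸ sup_le le_normalizer (le_norm_of_le_cent h.cent)
    have hAn : A ≤ 𝐍(K) := hA.le.trans hKn
    have hHn : H ≤ 𝐍(K) := hHL.trans hKn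
    obtain ⟨k, hk⟩ := exists_elemN_of_elemAb hp (quot_isElementaryAbelian K hA.elem)
      (quot_mono K hA.le)
    have h1 := card_inf_mul_card_quot hAn
    rw [hm.card, hk.card, hA.card, ← pow_add] at h1
    have h2 := Nat.pow_right_injective hp.two_le h1
    have h3 := (hm.of_le (inf_le_left : K ⊓ A ≤ K)).le_pRank hp
    have h4 := hk.le_pRank hp
    rw [← h.sup, quot_self_sup hHn, ← pRank_eq_of_mulEquiv p (quotEquivOfDisjoint hHn h.disj)] at h4
    omega
  · obtain ⟨A, hA⟩ := exists_elemN_pRank hp K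
    obtain ⟨B, hB⟩ := exists_elemN_pRank hp H
    exact ((hA.mono hKL).sup (hB.mono hHL) (hB.le.trans (h.cent.trans (cent_anti hA.le)))
      (le_bot_iff.1 (h.disj ▸ inf_le_inf hA.le hB.le))).le_pRank hp

theorem pRank_le_add_map [Finite G] [Finite G'] (hp : p.Prime) (f : G →* G') (H : Subgroup G) :
    pRank p H ≤ pRank p (H ⊓ f.ker) + pRank p (H.map f) := by
  obtain ⟨A, hA⟩ := exists_elemN_pRank hp H
  obtain ⟨m, -, hm⟩ := hA.exists_of_le hp (inf_le_right : f.ker ⊓ A ≤ A)
  obtain ⟨k, hk⟩ := exists_elemN_of_elemAb hp (EA.map hA.elem f) (map_mono hA.le)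
  have h1 := card_inf_mul_relIndex f.ker A
  rw [relIndex_ker, hm.card, hk.card, hA.card, ← pow_add] at h1
  have h2 := Nat.pow_right_injective hp.two_le h1
  have h3 := (hm.of_le (le_inf (inf_le_right.trans hA.le) inf_le_left : _ ≤ H ⊓ f.ker)).le_pRank hp
  have h4 := hk.le_pRank hp
  omega

theorem subgroupOf_inf' (H K L : Subgroup G) :
    (H ⊓ K).subgroupOf L = H.subgroupOf L ⊓ K.subgroupOf L := rfl

theorem pRank_le_add_quot [Finite G] (hp : p.Prime) (hH : H ≤ 𝐍(N)) :
    pRank p H ≤ pRank p (H ⊓ N) + pRank p (quot N H) := by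
  have := pRank_le_add_map hp (cosetHom N) (H.subgroupOf 𝐍(N))
  rw [pRank_subgroupOf p hH, ker_cosetHom, ← subgroupOf_inf',
    pRank_subgroupOf p (inf_le_left.trans hH)] at this
  exact this

/-- a homomorphism whose kernel meets `H` in a `p'`-group preserves the `p`-rank of `H` -/
theorem pRank_map_of_not_dvd [Finite G] [Finite G'] (hp : p.Prime) {f : G →* G'}
    (h : ¬ p ∣ Nat.card ↥(H ⊓ f.ker)) : pRank p (H.map f) = pRank p H := by
  have := Fact.mk hp
  obtain ⟨P, hP⟩ := sylow_exists p H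
  have hP' : SylowOf p (P.map f) (H.map f) := Hall.map hP f
  rw [← hP.pRank_eq hp, ← hP'.pRank_eq hp]
  have hd : P ⊓ f.ker = ⊥ := by
    by_contra hne
    exact h ((dvd_card_of_isPGroup hp (hP.isPGroup.to_le inf_le_left) hne).trans
      (card_dvd_of_le (inf_le_inf_right _ hP.le)))
  refine (pRank_eq_of_mulEquiv p (MulEquiv.ofBijective (f.subgroupMap P)
    ⟨?_, f.subgroupMap_surjective P⟩)).symm
  rw [injective_iff_map_eq_one]
  intro a ha
  have : (a : G) ∈ P ⊓ f.ker := ⟨a.2, congrArg Subtype.val ha⟩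
  rw [hd] at this
  exact Subtype.ext (mem_bot.1 this)

theorem pRank_quot_of_not_dvd [Finite G] (hp : p.Prime) (hH : H ≤ 𝐍(N))
    (h : ¬ p ∣ Nat.card N) : pRank p (quot N H) = pRank p H := by
  rw [← pRank_subgroupOf p hH]
  refine pRank_map_of_not_dvd hp fun hd => h (hd.trans ?_)
  rw [ker_cosetHom, ← subgroupOf_inf', Pi.card_subgroupOf_of_le (inf_le_left.trans hH)]
  exact card_dvd_of_le inf_le_right

theorem pRank_sup_of_not_dvd [Finite G] (hp : p.Prime) (hH : H ≤ 𝐍(N))
    (h : ¬ p ∣ Nat.card N) : pRank p (N ⊔ H) = pRank p H := by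
  refine (pRank_eq_of_not_dvd_relIndex hp le_sup_right fun hd => h (hd.trans ?_)).symm
  rw [relIndex_sup_of_norm_right (Or.inl hH)]
  exact Dvd.intro_left _ (card_inf_mul_relIndex H N)

/-- a normal subgroup of `p'`-order times a subgroup: the `p`-rank is that of the subgroup -/
theorem SDP.pRank_eq [Finite G] (h : SDP K H L) (hp : p.Prime) (hK : ¬ p ∣ Nat.card K) :
    pRank p L = pRank p H := h.sup ▸ pRank_sup_of_not_dvd hp h.norm hK

/-- the map `x ↦ x ^ p` on an abelian subgroup -/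
def powHom (p : ℕ) (h : IsMulCommutative H) : H →* H where
  toFun x := x ^ p
  map_one' := one_pow p
  map_mul' a b := Commute.mul_pow (h.is_comm.comm a b) p

theorem pow_pRank_eq_index [Finite G] (hp : p.Prime) (h : IsMulCommutative H) :
    p ^ pRank p H = (powHom p h).range.index := by
  have e : (powHom p h).ker = (omegaOne p H).subgroupOf H := by
    ext x
    rw [MonoidHom.mem_ker, mem_subgroupOf, mem_omegaOne_iff_of_comm h]
    exact ⟨fun hx => ⟨x.2, congrArg Subtype.val hx⟩, fun hx => Subtype.ext hx.2⟩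
  have h1 := (powHom p h).ker.card_mul_index
  rw [index_ker, e, Pi.card_subgroupOf_of_le (omegaOne_le p H), card_omegaOne_of_comm hp h,
    ← (powHom p h).range.card_mul_index, mul_comm] at h1
  exact Nat.eq_of_mul_eq_mul_left Nat.card_pos h1

/-- quotients of abelian groups do not have larger rank -/
theorem pRank_map_le_of_comm [Finite G] [Finite G'] (hp : p.Prime) (h : IsMulCommutative H)
    (f : G →* G') : pRank p (H.map f) ≤ pRank p H := by
  rw [← Nat.pow_dvd_pow_iff_le_right hp.one_lt, pow_pRank_eq_index hp h,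
    pow_pRank_eq_index hp (comm_map h f)]
  have e : (powHom p (comm_map h f)).range = (powHom p h).range.map (f.subgroupMap H) := by
    ext y
    constructor
    · rintro ⟨z, rfl⟩
      obtain ⟨x, rfl⟩ := f.subgroupMap_surjective H z
      exact ⟨_, ⟨x, rfl⟩, map_pow _ _ _⟩
    · rintro ⟨_, ⟨x, rfl⟩, rfl⟩
      exact ⟨f.subgroupMap H x, (map_pow _ _ _).symm⟩
  rw [e]
  exact index_map_dvd _ (f.subgroupMap_surjective H)

theorem rank_map_le_of_comm [Finite G] [Finite G'] (h : IsMulCommutative H) (f : G →* G') :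
    rank (H.map f) ≤ rank H :=
  rank_le_iff_forall.2 fun _ hp => (pRank_map_le_of_comm hp h f).trans (pRank_le_rank hp H)

theorem pRank_quot_le_of_comm [Finite G] (hp : p.Prime) (h : IsMulCommutative H)
    (N : Subgroup G) : pRank p (quot N H) ≤ pRank p H := by
  have h1 : IsMulCommutative (H.subgroupOf 𝐍(N)) := by
    rw [← comm_map_iff (𝐍(N)).subtype_injective, subgroupOf_map_subtype]
    exact comm_of_le h inf_le_left
  refine (pRank_map_le_of_comm hp h1 (cosetHom N)).trans ?_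
  rw [← pRank_map_subtype, subgroupOf_map_subtype]
  exact pRank_mono hp inf_le_left

theorem rank_quot_le_of_comm [Finite G] (h : IsMulCommutative H) (N : Subgroup G) :
    rank (quot N H) ≤ rank H :=
  rank_le_iff_forall.2 fun _ hp => (pRank_quot_le_of_comm hp h N).trans (pRank_le_rank hp H)

theorem pRank_quot_of_disj (p : ℕ) (hH : H ≤ 𝐍(N)) (hd : N ⊓ H = ⊥) :
    pRank p (quot N H) = pRank p H := (pRank_eq_of_mulEquiv p (quotEquivOfDisjoint hH hd)).symm

theorem rank_quot_of_disj (hH : H ≤ 𝐍(N)) (hd : N ⊓ H = ⊥) : rank (quot N H) = rank H :=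
  (rank_eq_of_mulEquiv (quotEquivOfDisjoint hH hd)).symm

/-- bridge to quotients of the coerced subgroup -/
theorem pRank_quot_le_iff [Finite G] (hp : p.Prime) (hH : H ≤ 𝐍(N)) [(N.subgroupOf H).Normal] :
    pRank p (quot N H) ≤ k ↔ PRankLE p k (H ⧸ N.subgroupOf H) := by
  rw [← pRank_top_le_iff hp,
    pRank_eq_of_mulEquiv p (H' := quot N H) (topEquiv.trans (quotEquiv hH))]

theorem rank_quot_le_iff [Finite G] (hH : H ≤ 𝐍(N)) [(N.subgroupOf H).Normal] :
    rank (quot N H) ≤ k ↔ RankLE k (H ⧸ N.subgroupOf H) := by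
  rw [← rank_top_le_iff, rank_eq_of_mulEquiv (H' := quot N H) (topEquiv.trans (quotEquiv hH))]

/-! ### self-centralising normal subgroups -/

theorem isSCN_iff : IsSCN P A ↔ A ⊴ P ∧ P ⊓ 𝐂(A) = A :=
  ⟨fun h => ⟨⟨h.1, h.2.1⟩, h.2.2⟩, fun h => ⟨h.1.le, h.1.norm, h.2⟩⟩

theorem scn_le (h : IsSCN P A) : A ≤ P := h.1

theorem scn_normalIn (h : IsSCN P A) : A ⊴ P := ⟨h.1, h.2.1⟩

theorem scn_cent (h : IsSCN P A) : P ⊓ 𝐂(A) = A := h.2.2

theorem scn_comm (h : IsSCN P A) : IsMulCommutative A :=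
  comm_iff_le_cent.2 (h.2.2.ge.trans inf_le_right)

theorem scn_le_of_cent (h : IsSCN P A) (hX : X ≤ P) (hc : X ≤ 𝐂(A)) : X ≤ A :=
  (le_inf hX hc).trans h.2.2.le

theorem scn_center_le (h : IsSCN P A) : 𝐙(P) ≤ A :=
  scn_le_of_cent h inf_le_left (inf_le_right.trans (cent_anti h.1))

theorem scn_max (h : IsSCN P A) (hB : B ≤ P) (hc : IsMulCommutative B) (hAB : A ≤ B) : B = A :=
  le_antisymm (scn_le_of_cent h hB (le_cent_of_comm_of_le hc le_rfl hAB)) hAB

theorem scn_restrict (h : IsSCN P A) (hAK : A ≤ K) (hK : K ≤ P) : IsSCN K A :=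
  ⟨hAK, hK.trans h.2.1, le_antisymm ((inf_le_inf_right _ hK).trans h.2.2.le)
    (le_inf hAK (le_cent_of_comm (scn_comm h)))⟩

theorem scn_map_iff {f : G →* G'} (hf : Function.Injective f) :
    IsSCN (P.map f) (A.map f) ↔ IsSCN P A := by
  rw [isSCN_iff, isSCN_iff, normalIn_map_iff hf, ← map_inf_cent hf, (map_injective hf).eq_iff]

theorem scn_cj : IsSCN (cj g P) (cj g A) ↔ IsSCN P A := scn_map_iff (conj_injective g)

theorem scn_maxElem (h : IsSCN P A) (p : ℕ) : MaxElem p (P ⊓ 𝐂(A)) (omegaOne p A) := by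
  rw [h.2.2]; exact maxElem_omegaOne_of_comm (scn_comm h) p

theorem scn_ne_bot (h : IsSCN P A) (hne : P ≠ ⊥) : A ≠ ⊥ := by
  rintro rfl
  have := h.2.2
  rw [cent_bot, inf_top_eq] at this
  exact hne this

/-- every normal abelian subgroup of a `p`-group lies in a self-centralising normal subgroup -/
theorem exists_scn_ge [Finite G] (hp : p.Prime) (hP : IsPGroup p P) (hB : B ⊴ P)
    (hc : IsMulCommutative B) : ∃ A, IsSCN P A ∧ B ≤ A := by
  have := Fact.mk hp
  have := hB.normal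
  have h1 : IsMulCommutative (B.subgroupOf P) := by
    rwa [← comm_map_iff P.subtype_injective, subgroupOf_map_subtype, inf_eq_left.2 hB.le]
  obtain ⟨A, hBA, hA, hAc⟩ := PGrp.exists_scn_ge hP (B.subgroupOf P) h1
  refine ⟨A.map P.subtype, ?_, ?_⟩
  · have : IsSCN (⊤ : Subgroup P) A := ⟨le_top, le_normalizer_of_normal, by rw [top_inf_eq, hAc]⟩
    have h2 := (scn_map_iff P.subtype_injective).2 this
    rwa [← MonoidHom.range_eq_map, range_subtype] at h2
  · have h2 := map_mono (f := P.subtype) hBA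
    rwa [subgroupOf_map_subtype, inf_eq_left.2 hB.le] at h2

theorem exists_scn [Finite G] (hp : p.Prime) (hP : IsPGroup p P) : ∃ A, IsSCN P A := by
  obtain ⟨A, hA, -⟩ := exists_scn_ge hp hP (NormalIn.bot P) inferInstance
  exact ⟨A, hA⟩

/-- a maximal normal abelian subgroup of a `p`-group is self-centralising -/
theorem scn_of_maximal [Finite G] (hp : p.Prime) (hP : IsPGroup p P) (hA : A ⊴ P)
    (hc : IsMulCommutative A) (hmax : ∀ B, B ⊴ P → IsMulCommutative B → A ≤ B → B = A) :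
    IsSCN P A := by
  obtain ⟨B, hB, hAB⟩ := exists_scn_ge hp hP hA hc
  rwa [hmax B (scn_normalIn hB) (scn_comm hB) hAB] at hB

theorem SCNn.mono (h : SCNn n P A) (hm : m ≤ n) : SCNn m P A := ⟨h.scn, hm.trans h.le_rank⟩

theorem scnn_map_iff {f : G →* G'} (hf : Function.Injective f) :
    SCNn n (P.map f) (A.map f) ↔ SCNn n P A :=
  ⟨fun h => ⟨(scn_map_iff hf).1 h.scn, rank_map_of_injective hf A ▸ h.le_rank⟩,
    fun h => ⟨(scn_map_iff hf).2 h.scn, (rank_map_of_injective hf A).symm ▸ h.le_rank⟩⟩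

theorem scnn_cj : SCNn n (cj g P) (cj g A) ↔ SCNn n P A := scnn_map_iff (conj_injective g)

theorem SCNn.le_pRank [Finite G] (h : SCNn n P A) (hp : p.Prime) (hP : IsPGroup p P) :
    n ≤ pRank p A := rank_pgroup hp (hP.to_le h.scn.1) ▸ h.le_rank

theorem SCNp.cj (h : SCNp n p A) (g : G) : SCNp n p (cj g A) := by
  obtain ⟨P, hP, hA⟩ := h
  exact ⟨BG.cj g P, Hall.cj_of_mem hP (mem_top g), scnn_cj.2 hA⟩

theorem SCNp.isPGroup [Finite G] (h : SCNp n p A) (hp : p.Prime) : IsPGroup p A := by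
  have := Fact.mk hp
  obtain ⟨P, hP, hA⟩ := h
  exact hP.isPGroup.to_le hA.scn.1

theorem SCNp.comm (h : SCNp n p A) : IsMulCommutative A := by
  obtain ⟨P, -, hA⟩ := h
  exact scn_comm hA.scn

theorem SCNp.le_rank (h : SCNp n p A) : n ≤ rank A := by
  obtain ⟨P, -, hA⟩ := h
  exact hA.le_rank

/-! ### narrow groups -/

theorem narrow_of_pRank_le (h : pRank p P ≤ 2) : Narrow p P := fun h' => absurd h (not_le.2 h')

theorem narrow_of_maxElem (hA : ElemN p 2 P A) (hm : MaxElem p P A) : Narrow p P :=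
  fun _ => ⟨A, hA, hm⟩

theorem narrow_map_iff {f : G →* G'} (hf : Function.Injective f) :
    Narrow p (P.map f) ↔ Narrow p P := by
  unfold Narrow
  rw [pRank_map_of_injective hf]
  refine imp_congr_right fun _ => ⟨?_, ?_⟩
  · rintro ⟨A, hA, hm⟩
    have e := map_comap_eq_self (hA.le.trans (map_le_range f P))
    rw [← e] at hA hm
    exact ⟨_, (elemN_map_iff hf).1 hA, (maxElem_map_iff hf).1 hm⟩
  · rintro ⟨A, hA, hm⟩
    exact ⟨_, hA.map hf, hm.map hf⟩

theorem narrow_cj : Narrow p (cj g P) ↔ Narrow p P := narrow_map_iff (conj_injective g)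

end CL.BG
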