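import Cfsg.Agent.BG.T9_5

namespace CL.BG

open Cfsg

variable {G : Type*} [Group G] [Finite G]

/-- BG Theorem 9.6 (Uniqueness Theorem), first assertion -/
theorem t9_6a (hG : IsMinSimpleOddOrder G) {K : Subgroup G} (hK : K ≠ ⊤) (h3 : 3 ≤ rank K) :
    InUniqueMaximal K := by
  obtain ⟨p, hp, B, hB⟩ := le_rank_iff.1 h3
  haveI := Fact.mk hp
  refine inU_mono ?_ hB.le hK
  obtain ⟨P, hP, hBP⟩ := sylow_superset hB.isPGroup le_top
  obtain ⟨A, hA⟩ := t5_1a hP.isPGroup (mFT_odd hG P) ((hB.of_le hBP).le_pRank hp)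
  exact t9_3 hG (scn_comm hA.scn) (hP.isPGroup.to_le (scn_le hA.scn)) hA.le_rank
    (t9_5 hG ⟨P, hP, hA⟩) hB.isPGroup (hB.not_isCyclic hp (by norm_num))
    ((hB.of_le hB.le_cent).le_pRank hp)

/-- BG Theorem 9.6, second assertion -/
theorem t9_6b (hG : IsMinSimpleOddOrder G) {K : Subgroup G} (h2 : 2 ≤ rank K)
    (h3 : 3 ≤ rank 𝐂(K)) : InUniqueMaximal K :=
  t9_2 hG (t9_6a hG (mFT_cent_ne_top hG (rank_pos_iff.1 (by omega))) h3) (cent_symm le_rfl) h2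

/-- BG Theorem 9.6, final observation -/
theorem t9_6c (hG : IsMinSimpleOddOrder G) {p : ℕ} [Fact p.Prime] {A : Subgroup G}
    (hA : ElemN p 2 ⊤ A) (hmax : ¬ MaxElem p ⊤ A) : InUniqueMaximal A := by
  have hp : p.Prime := Fact.out
  obtain ⟨B, hB, hAB⟩ := hA.exists_succ_of_not_maxElem hp hmax
  exact t9_6b hG (hA.self.le_rank hp) ((hB.of_le (hB.le_cent_of_le le_rfl hAB)).le_rank hp)

end CL.BG
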