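import Cfsg.Agent.BG.Sigma
import Cfsg.Agent.BG.T9_6

/-! BG section 10, preliminary remarks that need the Uniqueness Theorem -/

namespace CL.BG

open Cfsg

variable {G : Type*} [Group G] [Finite G]

/-- `α(M) ⊆ σ(M)` -/
theorem alpha_sub_sigma (hG : IsMinSimpleOddOrder G) {M : Subgroup G} (hM : IsCoatom M) :
    alpha M ⊆ sigma M := by
  intro p hp
  have := Fact.mk hp.1
  obtain ⟨P, hP⟩ := sylow_exists p M
  have hU := t9_6a hG (mmax_sub_ne_top hM hP.le) ((mem_alpha_iff_sylow hP).1 hp)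
  exact mem_sigma_of_norm_le hM.1 hP ((inU_uniqMax hU hM hP.le).norm_le hG)

/-- `β(M) ⊆ σ(M)` -/
theorem beta_sub_sigma (hG : IsMinSimpleOddOrder G) {M : Subgroup G} (hM : IsCoatom M) :
    beta M ⊆ sigma M :=
  (beta_sub_alpha M).trans (alpha_sub_sigma hG hM)

/-- `M_α ≤ M_σ` -/
theorem alphaCore_le_sigmaCore (hG : IsMinSimpleOddOrder G) {M : Subgroup G} (hM : IsCoatom M) :
    alphaCore M ≤ sigmaCore M :=
  piCoreOf_mono (alpha_sub_sigma hG hM) M

/-- `M_β ≤ M_σ` -/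
theorem betaCore_le_sigmaCore (hG : IsMinSimpleOddOrder G) {M : Subgroup G} (hM : IsCoatom M) :
    betaCore M ≤ sigmaCore M :=
  piCoreOf_mono (beta_sub_sigma hG hM) M

/-- `σ(M) ∩ α(G) = α(M)` -/
theorem sigma_inter_alpha_top (hG : IsMinSimpleOddOrder G) {M : Subgroup G} (hM : IsCoatom M) :
    sigma M ∩ alpha (⊤ : Subgroup G) = alpha M := by
  ext p
  refine ⟨fun h => ?_, fun h => ⟨alpha_sub_sigma hG hM h, alpha_mono le_top h⟩⟩
  have := Fact.mk h.1.1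
  obtain ⟨P, hP⟩ := sylow_exists p M
  exact (mem_alpha_iff_sylow hP).2 ((mem_alpha_iff_sylow (sigma_sylow_top h.1 hP)).1 h.2)

/-- `σ(M) ∩ β(G) = β(M)` -/
theorem mem_beta_iff_sigma (hG : IsMinSimpleOddOrder G) {M : Subgroup G} (hM : IsCoatom M)
    {p : ℕ} : p ∈ beta M ↔ p ∈ sigma M ∧ IsIdealPrime p G := by
  refine ⟨fun h => ⟨beta_sub_sigma hG hM h, h.2⟩, fun h => ⟨?_, h.2⟩⟩
  rw [← sigma_inter_alpha_top hG hM]
  exact ⟨h.1, mem_alpha_top_of_ideal h.2⟩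

/-- outside `σ(M)` the `p`-rank of `M` is at most two -/
theorem pRank_le_two_of_not_mem_sigma (hG : IsMinSimpleOddOrder G) {M : Subgroup G}
    (hM : IsCoatom M) {p : ℕ} [Fact p.Prime] (hp : p ∉ sigma M) : pRank p M ≤ 2 :=
  (not_mem_alpha_iff Fact.out).1 fun h => hp (alpha_sub_sigma hG hM h)

/-- a `σ(M)'`-subgroup of `M` has rank at most two -/
theorem rank_le_two_of_sigma_compl (hG : IsMinSimpleOddOrder G) {M : Subgroup G}
    (hM : IsCoatom M) {E : Subgroup G} (hE : E ≤ M) (hEσ : PiGrp (sigma M)ᶜ E) :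
    rank E ≤ 2 :=
  rank_le_two_of_alpha_compl hE (hEσ.mono (Set.compl_subset_compl.2 (alpha_sub_sigma hG hM)))

end CL.BG
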