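import Cfsg.Agent.BG.Prod
import Cfsg.Agent.PLocal.UpperP
import Cfsg.Agent.Transfer.PCompl
import Cfsg.Agent.Solv.PiCore

set_option autoImplicit false
open Cfsg Subgroup

namespace CL.BG
variable {G : Type*} [Group G] [Finite G]

theorem pLen1_iff_not_dvd_index {p : ℕ} [hp : Fact p.Prime] {Γ : Type*} [Group Γ] [Finite Γ] :
    PLengthLE p 1 Γ ↔ ¬ p ∣ (pPrimePCore p Γ).index := by
  rw [PLengthLE, CL.PL.upperPSeries_two_mul_add_one, ← CL.PL.upperPSeries_two,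
    ← comap_top (QuotientGroup.mk' (upperPSeries p Γ (2 * 1)).1),
    (comap_injective (QuotientGroup.mk'_surjective _)).eq_iff, CL.pPrimeCore_eq_top_iff,
    Nat.coprime_comm, hp.out.coprime_iff_not_dvd]
  rfl

omit [Finite G] in
/-- normality can be checked in a homomorphic image -/
theorem le_norm_of_map_le_norm {G' : Type*} [Group G'] (f : G →* G') {H X : Subgroup G}
    (hX : X ≤ H) (hk : H ⊓ f.ker ≤ X) (h : H.map f ≤ 𝐍(X.map f)) : H ≤ 𝐍(X) := by
  refine le_normalizer_iff.2 fun g hg x hx => ?_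
  obtain ⟨y, hy, he⟩ := conj_mem_of_mem_norm (h ⟨g, hg, rfl⟩) ⟨x, hx, rfl⟩
  have h1 : g * x * g⁻¹ * y⁻¹ ∈ H ⊓ f.ker :=
    ⟨H.mul_mem (H.mul_mem (H.mul_mem hg (hX hx)) (H.inv_mem hg)) (H.inv_mem (hX hy)),
      by simp [MonoidHom.mem_ker, he]⟩
  simpa using X.mul_mem (hk h1) hy

/-- `plength1_pseries2_quo` -/
theorem pLen1_iff_not_dvd {p : ℕ} [Fact p.Prime] {H : Subgroup G} :
    PLengthLE p 1 H ↔ ¬ p ∣ (pPrimePCoreOf p H).relIndex H := by
  rw [pLen1_iff_not_dvd_index, pPrimePCoreOf, relIndex, ← comap_subtype,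
    comap_map_eq_self_of_injective H.subtype_injective]

theorem pLen1_iff_sylow_le {p : ℕ} [hp : Fact p.Prime] {H S : Subgroup G} (hS : SylowOf p S H) :
    PLengthLE p 1 H ↔ S ≤ pPrimePCoreOf p H := by
  rw [pLen1_iff_not_dvd]
  refine ⟨fun h => hS.hall.pi.le_of_relIndex (pPrimePCoreOf_normalIn p H) hS.hall.le
    ((piNat_compl_singleton_iff hp.out).2 h), fun h hd => ?_⟩
  exact hS.not_dvd (hd.trans (relIndex_dvd_of_le_left H h))

theorem pgroup_le_of_pLen1 {p : ℕ} [hp : Fact p.Prime] {H P : Subgroup G} (h : PLengthLE p 1 H)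
    (hP : IsPGroup p P) (hle : P ≤ H) : P ≤ pPrimePCoreOf p H := by
  obtain ⟨S, hS, h1⟩ := sylow_superset hP hle
  exact h1.trans ((pLen1_iff_sylow_le hS).1 h)

theorem core_sup_sylow_of_pLen1 {p : ℕ} [Fact p.Prime] {H S : Subgroup G} (hS : SylowOf p S H)
    (h : PLengthLE p 1 H) : piCoreOf {p}ᶜ H ⊔ S = pPrimePCoreOf p H :=
  piCoreOf_sup_sylow (hS.hall.restrict ((pLen1_iff_sylow_le hS).1 h) (pPrimePCoreOf_le p H))

/-- working characterisation: `O_{p'}(H) S` is normal in `H`. -/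
theorem pLen1_iff_sylow {p : ℕ} [Fact p.Prime] {H S : Subgroup G} (hS : SylowOf p S H) :
    PLengthLE p 1 H ↔ H ≤ 𝐍(piCoreOf {p}ᶜ H ⊔ S) := by
  refine ⟨fun h => ?_, fun h => (pLen1_iff_sylow_le hS).2
    (le_pPrimePCoreOf_of_sup hS.isPGroup ⟨sup_le (piCoreOf_le _ _) hS.hall.le, h⟩)⟩
  rw [core_sup_sylow_of_pLen1 hS h]
  exact (pPrimePCoreOf_normalIn p H).norm

/-- criterion: a normal `p'`-subgroup `K` with `K S` normal. -/
theorem pLen1_of_normal {p : ℕ} [Fact p.Prime] {H S K : Subgroup G} (hS : SylowOf p S H)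
    (hK : K ⊴ H) (hKp : (Nat.card K).Coprime p) (h : H ≤ 𝐍(K ⊔ S)) : PLengthLE p 1 H := by
  have h1 : K ≤ piCoreOf {p}ᶜ H :=
    le_piCoreOf hK ((piGrp_compl_singleton_iff_coprime Fact.out).2 hKp)
  rw [pLen1_iff_sylow hS, ← sup_eq_left.2 h1, sup_assoc]
  exact norms_sup (le_norm_piCoreOf _ _) h

/-- `plength1_p'group` -/
theorem pLen1_of_coprime {p : ℕ} [Fact p.Prime] {H : Subgroup G} (h : (Nat.card H).Coprime p) :
    PLengthLE p 1 H := pLen1_iff_not_dvd.2 (((piGrp_compl_singleton_iff_coprime Fact.out).2 h).relIndex _ |>.not_dvd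
    Fact.out fun h => h rfl)

/-- a `p`-group has `p`-length at most one -/
theorem pLen1_of_isPGroup {p : ℕ} [Fact p.Prime] {H : Subgroup G} (h : IsPGroup p H) :
    PLengthLE p 1 H := (pLen1_iff_sylow (sylowOf_self h)).2 (le_norm_of_le le_sup_right)

/-- `plength1_pcore_Sylow` -/
theorem pLen1_iff_of_core_bot {p : ℕ} [Fact p.Prime] {H : Subgroup G} (h : piCoreOf {p}ᶜ H = ⊥) :
    PLengthLE p 1 H ↔ SylowOf p (piCoreOf {p} H) H := by
  rw [pLen1_iff_not_dvd, pPrimePCoreOf_eq_of_core_bot h, sylowOf_iff]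
  exact ⟨fun h => ⟨piCoreOf_le _ _, isPGroup_piCoreOf Fact.out H, h⟩, fun h => h.2.2⟩

/-- a group with a normal Sylow `p`-subgroup has `p`-length at most one -/
theorem pLen1_of_normal_sylow {p : ℕ} [Fact p.Prime] {H S : Subgroup G} (hS : SylowOf p S H)
    (h : H ≤ 𝐍(S)) : PLengthLE p 1 H :=
  (pLen1_iff_sylow hS).2 (norms_sup (le_norm_piCoreOf _ _) h)

/-- a group with a normal `p`-complement has `p`-length at most one -/
theorem pLen1_of_hall_core {p : ℕ} [Fact p.Prime] {H : Subgroup G}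
    (h : Hall {p}ᶜ (piCoreOf {p}ᶜ H) H) : PLengthLE p 1 H := by
  rw [pLen1_iff_not_dvd, pPrimePCoreOf_eq_self_iff.2 h, relIndex_self]
  exact (Fact.out : p.Prime).not_dvd_one

/-- a normal subgroup with a normal `p`-complement lies in `O_{p',p}` -/
theorem le_pPrimePCoreOf_of_hall_core {p : ℕ} [Fact p.Prime] {H N : Subgroup G} (hN : N ⊴ H)
    (h : Hall {p}ᶜ (piCoreOf {p}ᶜ N) N) : N ≤ pPrimePCoreOf p H :=
  (pPrimePCoreOf_eq_self_iff.2 h).ge.trans hN.pPrimePCoreOf_le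

theorem hall_core_of_le_pPrimePCoreOf {p : ℕ} [Fact p.Prime] {H N : Subgroup G}
    (h : N ≤ pPrimePCoreOf p H) : Hall {p}ᶜ (piCoreOf {p}ᶜ N) N :=
  hall_piCoreOf_of_le (by rw [piCoreOf_pPrimePCoreOf]; exact hall_piCoreOf_pPrimePCoreOf H) h

/-- BG 1.21(a) (`plength1S`). -/
theorem t1_21a {p : ℕ} [Fact p.Prime] {H K : Subgroup G} (hK : K ≤ H) (h : PLengthLE p 1 H) :
    PLengthLE p 1 K := by
  obtain ⟨S, hS⟩ := sylow_exists p K
  exact (pLen1_iff_sylow_le hS).2 ((le_inf (pgroup_le_of_pLen1 h hS.isPGroup (hS.hall.le.trans hK))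
    hS.hall.le).trans (pPrimePCoreOf_inf_le hK))

/-- images (`plength1_quo`). -/
theorem pLen1_map {p : ℕ} [Fact p.Prime] {G' : Type*} [Group G'] [Finite G'] (f : G →* G')
    {H : Subgroup G} (h : PLengthLE p 1 H) : PLengthLE p 1 (H.map f) := by
  obtain ⟨S, hS⟩ := sylow_exists p H
  refine pLen1_of_normal (hS.hall.map f) ((piCoreOf_normalIn {p}ᶜ H).map f)
    ((piGrp_compl_singleton_iff_coprime Fact.out).1 ((piGrp_piCoreOf _ H).map f)) ?_
  rw [← Subgroup.map_sup]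
  exact map_le_norm_map ((pLen1_iff_sylow hS).1 h) f

/-- BG 1.21(b) (`p'quo_plength1`), for an arbitrary homomorphism. -/
theorem t1_21b {p : ℕ} [Fact p.Prime] {G' : Type*} [Group G'] [Finite G'] (f : G →* G')
    {H : Subgroup G} (hk : (Nat.card ↥(H ⊓ f.ker)).Coprime p) (h : PLengthLE p 1 (H.map f)) :
    PLengthLE p 1 H := by
  obtain ⟨S, hS⟩ := sylow_exists p H
  have hk' : PiGrp {p}ᶜ (H ⊓ f.ker) := (piGrp_compl_singleton_iff_coprime Fact.out).2 hk
  have hn : H ⊓ f.ker ⊴ H := NormalIn.inf_of_norm' (le_top.trans (NormalIn.of_normal f.ker).norm)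
  refine (pLen1_iff_sylow hS).2 (le_norm_of_map_le_norm f (sup_le (piCoreOf_le _ _) hS.hall.le)
    ((le_piCoreOf hn hk').trans le_sup_left) ?_)
  rw [Subgroup.map_sup, map_piCoreOf_of_ker f (by rwa [inf_comm])]
  exact (pLen1_iff_sylow (hS.hall.map f)).1 h

/-- BG 1.21(c) (`pquo_plength1`), for an arbitrary homomorphism. -/
theorem t1_21c {p : ℕ} [Fact p.Prime] {G' : Type*} [Group G'] [Finite G'] (f : G →* G')
    {H : Subgroup G} (hk : IsPGroup p ↥(H ⊓ f.ker)) (hc : piCoreOf {p}ᶜ (H.map f) = ⊥)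
    (h : PLengthLE p 1 (H.map f)) : PLengthLE p 1 H := by
  obtain ⟨S, hS⟩ := sylow_exists p H
  have hn : H ⊓ f.ker ⊴ H := NormalIn.inf_of_norm' (le_top.trans (NormalIn.of_normal f.ker).norm)
  refine pLen1_of_normal_sylow hS (le_norm_of_map_le_norm f hS.hall.le (hS.normal_le' hk hn) ?_)
  have h1 := (pLen1_iff_sylow (hS.hall.map f)).1 h
  rwa [hc, bot_sup_eq] at h1

/-- BG 1.21(d) (`p_elt_gen_length1`): `L` is generated by the `p`-elements of `H`. -/
theorem t1_21d {p : ℕ} [Fact p.Prime] {H L : Subgroup G}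
    (hL : L = closure {x | x ∈ H ∧ PiElt {p} x}) :
    PLengthLE p 1 H ↔ Hall {p}ᶜ (piCoreOf {p}ᶜ L) L := by
  have hLH : L ⊴ H := by
    rw [hL]
    refine ⟨(closure_le _).2 fun x hx => hx.1, le_normalizer_closure_iff.2 fun g hg x hx => ?_⟩
    exact subset_closure ⟨H.mul_mem (H.mul_mem hg hx.1) (H.inv_mem hg), hx.2.conj g⟩
  constructor
  · intro h
    refine hall_core_of_le_pPrimePCoreOf (H := H) ?_
    rw [hL]
    refine (closure_le _).2 fun x hx => ?_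
    exact pgroup_le_of_pLen1 h ((piGrp_zpowers.2 hx.2).isPGroup Fact.out) (zpowers_le_of_mem hx.1)
      (mem_zpowers x)
  · intro h
    obtain ⟨S, hS⟩ := sylow_exists p H
    refine (pLen1_iff_sylow_le hS).2 (le_trans ?_ (le_pPrimePCoreOf_of_hall_core hLH h))
    rw [hL]
    exact fun x hx => subset_closure ⟨hS.hall.le hx, hS.hall.pi.piElt hx⟩

/-- a subdirect product of groups with a normal `p`-complement has a normal `p`-complement -/
theorem hall_core_of_map_map {p : ℕ} [Fact p.Prime] {G₁ G₂ : Type*} [Group G₁] [Finite G₁]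
    [Group G₂] [Finite G₂] (f₁ : G →* G₁) (f₂ : G →* G₂) {H : Subgroup G}
    (hk : H ⊓ f₁.ker ⊓ f₂.ker = ⊥)
    (h₁ : Hall {p}ᶜ (piCoreOf {p}ᶜ (H.map f₁)) (H.map f₁))
    (h₂ : Hall {p}ᶜ (piCoreOf {p}ᶜ (H.map f₂)) (H.map f₂)) : Hall {p}ᶜ (piCoreOf {p}ᶜ H) H := by
  rw [← hasNormalPComplement_iff_hall, CL.Transfer.hasNormalPComplement_iff_mul] at h₁ h₂ ⊢
  intro x y hx hy
  have e₁ := h₁ _ _ (CL.Transfer.coprime_orderOf_map (f₁.subgroupMap H) hx)
    (CL.Transfer.coprime_orderOf_map (f₁.subgroupMap H) hy)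
  have e₂ := h₂ _ _ (CL.Transfer.coprime_orderOf_map (f₂.subgroupMap H) hx)
    (CL.Transfer.coprime_orderOf_map (f₂.subgroupMap H) hy)
  rw [← map_mul] at e₁ e₂
  refine (Nat.Coprime.mul_left e₁ e₂).coprime_dvd_left (orderOf_dvd_of_pow_eq_one ?_)
  refine Subtype.ext (mem_bot.1 (hk ▸ ⟨⟨Subtype.prop _, ?_⟩, ?_⟩))
  · have h3 : f₁.subgroupMap H ((x * y) ^ (orderOf (f₁.subgroupMap H (x * y)) *
        orderOf (f₂.subgroupMap H (x * y)))) = 1 := by
      rw [map_pow, pow_mul, pow_orderOf_eq_one, one_pow]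
    exact congrArg Subtype.val h3
  · have h3 : f₂.subgroupMap H ((x * y) ^ (orderOf (f₁.subgroupMap H (x * y)) *
        orderOf (f₂.subgroupMap H (x * y)))) = 1 := by
      rw [map_pow, pow_mul', pow_orderOf_eq_one, one_pow]
    exact congrArg Subtype.val h3

/-- BG 1.21(e) (`quo2_plength1`), for arbitrary homomorphisms. -/
theorem t1_21e {p : ℕ} [Fact p.Prime] {G₁ G₂ : Type*} [Group G₁] [Finite G₁] [Group G₂]
    [Finite G₂] (f₁ : G →* G₁) (f₂ : G →* G₂) {H : Subgroup G} (hk : H ⊓ f₁.ker ⊓ f₂.ker = ⊥)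
    (h₁ : PLengthLE p 1 (H.map f₁)) (h₂ : PLengthLE p 1 (H.map f₂)) : PLengthLE p 1 H := by
  obtain ⟨S, hS⟩ := sylow_exists p H
  set N := H ⊓ (pPrimePCoreOf p (H.map f₁)).comap f₁ ⊓ (pPrimePCoreOf p (H.map f₂)).comap f₂
  have hNH : N ≤ H := inf_le_left.trans inf_le_left
  have hN : N ⊴ H := by
    refine ⟨hNH, norms_inf (norms_inf (le_norm_self H) ?_) ?_⟩
    · exact (le_comap_map f₁ H).trans ((pPrimePCoreOf_normalIn p _).comap f₁).norm
    · exact (le_comap_map f₂ H).trans ((pPrimePCoreOf_normalIn p _).comap f₂).norm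
  have hSN : S ≤ N :=
    le_inf (le_inf hS.hall.le (map_le_iff_le_comap.1 ((pLen1_iff_sylow_le (hS.hall.map f₁)).1 h₁)))
      (map_le_iff_le_comap.1 ((pLen1_iff_sylow_le (hS.hall.map f₂)).1 h₂))
  refine (pLen1_iff_sylow_le hS).2 (hSN.trans (le_pPrimePCoreOf_of_hall_core hN
    (hall_core_of_map_map f₁ f₂ ?_ (hall_core_of_le_pPrimePCoreOf (H := H.map f₁) ?_)
      (hall_core_of_le_pPrimePCoreOf (H := H.map f₂) ?_))))
  · exact le_bot_iff.1 ((inf_le_inf_right _ (inf_le_inf_right _ hNH)).trans hk.le)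
  · exact map_le_iff_le_comap.2 (inf_le_left.trans inf_le_right)
  · exact map_le_iff_le_comap.2 inf_le_right

end CL.BG
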