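import Cfsg.Agent.Base
import Cfsg.Agent.BG.Defs

/-!
# An elementary abelian subgroup as a module for its normaliser
-/

set_option autoImplicit false

namespace CL.BG

open Cfsg Subgroup Module

universe u

variable {G : Type u} [Group G] [Finite G]

/-- an additive action on a `ZMod k`-module is linear -/
def zmodRepOfAdd (k : ℕ) {L W : Type*} [Monoid L] [AddCommGroup W] [Module (ZMod k) W]
    (ψ : L → W →+ W) (h1 : ∀ w, ψ 1 w = w) (h2 : ∀ x y w, ψ (x * y) w = ψ x (ψ y w)) :
    L →* End (ZMod k) W where
  toFun x := (ψ x).toZModLinearMap k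
  map_one' := LinearMap.ext h1
  map_mul' x y := LinearMap.ext (h2 x y)

/-- An elementary abelian `k`-subgroup `V` normalised by `L` is a `ZMod k`-representation of `L`. -/
theorem exists_abelem_rep_zmod {k : ℕ} [Fact k.Prime] {V : Subgroup G}
    (hV : IsElementaryAbelian k V) (L : Subgroup G) (hL : L ≤ 𝐍(V)) :
    ∃ (W : Type u) (_ : AddCommGroup W) (_ : Module (ZMod k) W) (_ : Finite W)
      (ρ : L →* End (ZMod k) W) (e : V ≃ W), (∀ a b : V, e (a * b) = e a + e b) ∧
      ∀ (x : L) (v w : V), (w : G) = x * v * (x : G)⁻¹ → ρ x (e v) = e w := by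
  let _ : CommGroup V := { (inferInstance : Group V) with mul_comm := hV.1.is_comm.comm }
  let _ : Module (ZMod k) (Additive V) := AddCommGroup.zmodModule (n := k) fun x => by
    change Additive.ofMul (Additive.toMul x ^ k) = Additive.ofMul 1
    congr 1
    exact Subtype.ext (hV.2 _ (Additive.toMul x).2)
  let φ : L →* MulAut V := V.normalizerMonoidHom.comp (inclusion hL)
  let ψ : L → Additive V →+ Additive V := fun x => MonoidHom.toAdditive (φ x).toMonoidHom
  let ρ := zmodRepOfAdd k ψ (fun v => by simp [ψ]) (fun x y v => by simp [ψ])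
  refine ⟨Additive V, inferInstance, inferInstance, inferInstance, ρ, Additive.ofMul,
    fun _ _ => rfl, fun x v w h => ?_⟩
  change Additive.ofMul (φ x v) = Additive.ofMul w
  congr 1
  exact Subtype.ext h.symm

/-- An elementary abelian `k`-subgroup `V` normalised by `L` gives a representation of `L` over
any field `F` of characteristic `k`, with the same dimension and kernel, and without `H`-fixed
vectors when `C_V(H) = 1`. -/
theorem exists_abelem_rep {k : ℕ} [Fact k.Prime] (F : Type) [Field F] [Algebra (ZMod k) F]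
    {V : Subgroup G} (hV : IsElementaryAbelian k V) (L : Subgroup G) (hL : L ≤ 𝐍(V)) :
    ∃ (W : Type u) (_ : AddCommGroup W) (_ : Module F W) (_ : FiniteDimensional F W)
      (ρ : L →* End F W), k ^ finrank F W = Nat.card V ∧
      (∀ x : L, ρ x = 1 ↔ (x : G) ∈ 𝐂(V)) ∧
      ∀ H : Subgroup G, H ≤ L → (Nat.card H).Coprime k → V ⊓ 𝐂(H) = ⊥ →
        ∀ w : W, (∀ x : L, (x : G) ∈ H → ρ x w = w) → w = 0 := by
  obtain ⟨W, _, _, _, ρ, e, he, hρ⟩ := exists_abelem_rep_zmod hV L hL
  have hρ' : ∀ (x : L) (v : V), ρ x (e v) =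
      e ⟨x * v * (x : G)⁻¹, (mem_normalizer_iff.1 (hL x.2) v).1 v.2⟩ := fun x v => hρ x v _ rfl
  have he1 : e 1 = 0 := by simpa using he 1 1
  let β := Module.End.baseChangeHom (ZMod k) F W
  have hβ : Function.Injective β := LinearMap.baseChangeHom_injective (R := ZMod k) (S := F)
    (M := W) (N := W)
  refine ⟨TensorProduct (ZMod k) F W, inferInstance, inferInstance, inferInstance,
    β.toMonoidHom.comp ρ, ?_, fun x => ?_, fun H hH hcop hC w hw => ?_⟩
  · rw [Module.finrank_baseChange, Nat.card_congr e, Module.natCard_eq_pow_finrank (K := ZMod k),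
      Nat.card_zmod]
  · change β (ρ x) = 1 ↔ _
    rw [← map_one β, hβ.eq_iff, mem_centralizer_iff]
    constructor
    · intro h v hv
      have := hρ' x ⟨v, hv⟩
      rw [h, Module.End.one_apply, e.apply_eq_iff_eq] at this
      have h2 : v = x * v * (x : G)⁻¹ := congr(($this : G))
      exact eq_mul_inv_iff_mul_eq.1 h2
    · intro h
      ext w
      obtain ⟨v, rfl⟩ := e.surjective w
      exact hρ x v v (eq_mul_inv_iff_mul_eq.2 (h v v.2))
  · let _ := Fintype.ofFinite H
    have hsum : ∑ x : H, ρ (inclusion hH x) = 0 := by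
      ext w
      obtain ⟨v, hv⟩ := e.surjective ((∑ x : H, ρ (inclusion hH x)) w)
      have hfix : ∀ y : H, ρ (inclusion hH y) (e v) = e v := by
        intro y
        rw [hv, ← Module.End.mul_apply, Finset.mul_sum]
        congr 1
        exact Fintype.sum_equiv (Equiv.mulLeft y) _ _ fun x => by simp
      have : (v : G) ∈ V ⊓ 𝐂(H) := ⟨v.2, mem_centralizer_iff.2 fun y hy => by
        have := hfix ⟨y, hy⟩
        rw [hρ', e.apply_eq_iff_eq] at this
        exact mul_inv_eq_iff_eq_mul.1 congr(($this : G))⟩
      rw [hC, mem_bot] at this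
      rw [← hv, show v = 1 from Subtype.ext this, he1, LinearMap.zero_apply]
    have h2 := congr(β $hsum w)
    rw [map_sum, map_zero, LinearMap.sum_apply, LinearMap.zero_apply,
      Finset.sum_congr rfl (g := fun _ => w)
        fun x _ => show β (ρ (inclusion hH x)) w = w from hw (inclusion hH x) x.2,
      Finset.sum_const, Finset.card_univ, ← Nat.card_eq_fintype_card,
      ← Nat.cast_smul_eq_nsmul F, smul_eq_zero] at h2
    refine h2.resolve_left fun h0 => ?_
    have : CharP F k := charP_of_injective_algebraMap (algebraMap (ZMod k) F).injective k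
    rw [CharP.cast_eq_zero_iff F k] at h0
    exact (Fact.out : k.Prime).one_lt.ne' (Nat.eq_one_of_dvd_coprimes hcop h0 dvd_rfl)

end CL.BG
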