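import Cfsg.Agent.Base

/-!
# Bender-Glauberman, Theorem 2.6

A finite group of odd order with a faithful two-dimensional representation over a field `F`
has a derived subgroup whose order only involves the characteristic of `F`.
-/

set_option autoImplicit false

namespace CL.BG

open Matrix

section Ring

variable {R : Type*} [Ring R]

/-- Powers of an element with `(u - 1)^2 = 0`. -/
theorem pow_eq_of_sub_one_sq_eq_zero {u : R} (h : (u - 1) * (u - 1) = 0) (m : ℕ) :
    u ^ m = 1 + (m : R) * (u - 1) := by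
  induction m with
  | zero => simp
  | succ m ih =>
    have h2 : (u - 1) * u = u - 1 := by
      have : (u - 1) * u = (u - 1) * (u - 1) + (u - 1) := by noncomm_ring
      rw [this, h, zero_add]
    rw [pow_succ, ih, add_mul, one_mul, mul_assoc, h2, Nat.cast_succ]
    noncomm_ring

end Ring

section TwoByTwo

variable {F : Type*} [Field F]

theorem mat2_mul_self (u : Matrix (Fin 2) (Fin 2) F) :
    u * u = u.trace • u - u.det • (1 : Matrix (Fin 2) (Fin 2) F) := by
  ext i j
  fin_cases i <;> fin_cases j <;>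
    simp [Matrix.mul_apply, Fin.sum_univ_two, trace_fin_two, det_fin_two] <;> ring

theorem mat2_det_sub_one (u : Matrix (Fin 2) (Fin 2) F) :
    (u - 1).det = u.det - u.trace + 1 := by
  simp [trace_fin_two, det_fin_two]; ring

/-- A determinant-one matrix of finite order prime to the characteristic is the identity or has no
eigenvalue `1`. -/
theorem mat2_eq_one_of_det_sub_one {u : Matrix (Fin 2) (Fin 2) F} (hdet : u.det = 1) {m : ℕ}
    (hm : (m : F) ≠ 0) (hu : u ^ m = 1) (h : (u - 1).det = 0) : u = 1 := by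
  have htr : u.trace = 2 := by
    rw [mat2_det_sub_one, hdet] at h
    linear_combination -h
  have h2 : (u - 1) * (u - 1) = 0 := by
    have := mat2_mul_self u
    rw [htr, hdet] at this
    have e : (u - 1) * (u - 1) = u * u - (2 : F) • u + 1 := by
      rw [two_smul]; noncomm_ring
    rw [e, this, one_smul]; abel
  have h3 := pow_eq_of_sub_one_sq_eq_zero h2 m
  rw [hu] at h3
  have h4 : (m : F) • (u - 1) = 0 := by
    rw [Nat.cast_smul_eq_nsmul, nsmul_eq_mul]
    exact (left_eq_add.mp h3)
  rcases smul_eq_zero.mp h4 with h5 | h5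
  · exact absurd h5 hm
  · exact sub_eq_zero.mp h5

theorem cross_aux {a b c x1 x2 x3 y1 y2 y3 : F} (hz : ¬ (a = 0 ∧ b = 0 ∧ c = 0))
    (hx1 : x1 * b = a * x2) (hx2 : x3 * a = c * x1) (hx3 : x2 * c = b * x3)
    (hy1 : y1 * b = a * y2) (hy2 : y3 * a = c * y1) (hy3 : y2 * c = b * y3) :
    x1 * y2 = y1 * x2 ∧ x1 * y3 = y1 * x3 ∧ x2 * y3 = y2 * x3 := by
  by_cases h1 : a = 0
  · by_cases h2 : b = 0
    · have h3 : c ≠ 0 := fun h => hz ⟨h1, h2, h⟩
      refine ⟨mul_left_cancel₀ h3 ?_, mul_left_cancel₀ h3 ?_, mul_left_cancel₀ h3 ?_⟩ <;> grind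
    · refine ⟨mul_left_cancel₀ h2 ?_, mul_left_cancel₀ h2 ?_, mul_left_cancel₀ h2 ?_⟩ <;> grind
  · refine ⟨mul_left_cancel₀ h1 ?_, mul_left_cancel₀ h1 ?_, mul_left_cancel₀ h1 ?_⟩ <;> grind

/-- The centraliser of a non-scalar `2 × 2` matrix is commutative. -/
theorem mat2_commute_of_commute {z x y : Matrix (Fin 2) (Fin 2) F}
    (hz : ¬ (z 0 1 = 0 ∧ z 1 0 = 0 ∧ z 0 0 = z 1 1)) (hx : x * z = z * x) (hy : y * z = z * y) :
    x * y = y * x := by
  have x00 := congrFun (congrFun hx 0) 0
  have x01 := congrFun (congrFun hx 0) 1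
  have x10 := congrFun (congrFun hx 1) 0
  have y00 := congrFun (congrFun hy 0) 0
  have y01 := congrFun (congrFun hy 0) 1
  have y10 := congrFun (congrFun hy 1) 0
  simp only [Matrix.mul_apply, Fin.sum_univ_two] at x00 x01 x10 y00 y01 y10
  have key : x 0 1 * y 1 0 = y 0 1 * x 1 0 ∧
      x 0 1 * (y 0 0 - y 1 1) = y 0 1 * (x 0 0 - x 1 1) ∧
      x 1 0 * (y 0 0 - y 1 1) = y 1 0 * (x 0 0 - x 1 1) := by
    apply cross_aux (a := z 0 1) (b := z 1 0) (c := z 0 0 - z 1 1)
    · rwa [sub_eq_zero]
    · linear_combination x00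
    · linear_combination x01
    · linear_combination x10
    · linear_combination y00
    · linear_combination y01
    · linear_combination y10
  obtain ⟨k1, k2, k3⟩ := key
  ext i j
  fin_cases i <;> fin_cases j <;> simp only [Matrix.mul_apply, Fin.sum_univ_two, Fin.zero_eta, Fin.mk_one]
  · linear_combination k1
  · linear_combination -k2
  · linear_combination k3
  · linear_combination -k1

end TwoByTwo

section Group

variable {F : Type*} [Field F]

/-- In a finite group of odd order every element is a square of one of its powers. -/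
theorem exists_pow_sq_eq_of_odd {G : Type*} [Group G] (hodd : Odd (Nat.card G)) (g : G) :
    ∃ k : ℕ, (g ^ k) ^ 2 = g := by
  obtain ⟨k, hk⟩ := hodd
  refine ⟨k + 1, ?_⟩
  rw [← pow_mul, show (k + 1) * 2 = (2 * k + 1) + 1 by ring, ← hk, pow_succ, pow_card_eq_one',
    one_mul]

theorem eq_one_of_sq_eq_one_of_odd {G : Type*} [Group G] (hodd : Odd (Nat.card G)) {g : G}
    (h : g ^ 2 = 1) : g = 1 := by
  obtain ⟨k, hk⟩ := exists_pow_sq_eq_of_odd hodd g
  rw [← hk, ← pow_mul, mul_comm, pow_mul, h, one_pow]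

/-- If `g` conjugates `z` to `z` or `z⁻¹` for all `g` in an odd order group, `z` is central. -/
theorem mem_center_of_conj_eq_or_inv {G : Type*} [Group G] (hodd : Odd (Nat.card G)) {z : G}
    (h : ∀ g : G, g * z * g⁻¹ = z ∨ g * z * g⁻¹ = z⁻¹) (g : G) : g * z = z * g := by
  obtain ⟨k, hk⟩ := exists_pow_sq_eq_of_odd hodd g
  rw [← hk]
  set y := g ^ k
  have : y ^ 2 * z * (y ^ 2)⁻¹ = z := by
    have e : y ^ 2 * z * (y ^ 2)⁻¹ = y * (y * z * y⁻¹) * y⁻¹ := by
      simp only [pow_two, _root_.mul_inv_rev, mul_assoc]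
    rcases h y with h1 | h1
    · rw [e, h1, h1]
    · rw [e, h1]
      have : y * z⁻¹ * y⁻¹ = (y * z * y⁻¹)⁻¹ := by group
      rw [this, h1, inv_inv]
  exact mul_inv_eq_iff_eq_mul.mp this

/-- The normal-subgroup step of BG 2.6. -/
theorem odd_mat2_comm_of_normal {G : Type*} [Group G] [Finite G] (hodd : Odd (Nat.card G))
    (ρ : G →* Matrix (Fin 2) (Fin 2) F) (hρ : Function.Injective ρ) {r : ℕ} [Fact r.Prime]
    (hr : (r : F) ≠ 0) (Q : Subgroup G) [Q.Normal] (hQ : IsPGroup r Q) (hQ1 : Q ≠ ⊥)
    (hdet : ∀ x ∈ Q, (ρ x).det = 1) (a b : G) : a * b = b * a := by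
  have : Nontrivial Q := (Subgroup.nontrivial_iff_ne_bot Q).mpr hQ1
  have := hQ.center_nontrivial
  obtain ⟨⟨⟨z, hzQ⟩, hzc⟩, hz1⟩ := exists_ne (1 : Subgroup.center Q)
  have hz1' : z ≠ 1 := fun h => hz1 (by ext; simpa using h)
  have hzc' : ∀ y ∈ Q, y * z = z * y := fun y hy =>
    congrArg Subtype.val (Subgroup.mem_center_iff.mp hzc ⟨y, hy⟩)
  -- non-identity elements of `Q` have no eigenvalue one
  have hunit : ∀ u ∈ Q, u ≠ 1 → (ρ u - 1).det ≠ 0 := by
    intro u hu hu1 h
    obtain ⟨k, hk⟩ := hQ ⟨u, hu⟩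
    have hk' : u ^ r ^ k = 1 := congrArg Subtype.val hk
    have := mat2_eq_one_of_det_sub_one (hdet u hu) (m := r ^ k) (by simpa using fun h => absurd h hr)
      (by rw [← map_pow, hk', map_one]) h
    exact hu1 (hρ (by rw [this, map_one]))
  have hcen : ∀ g : G, g * z = z * g := by
    apply mem_center_of_conj_eq_or_inv hodd
    intro g
    set w := g * z * g⁻¹ with hw
    have hwQ : w ∈ Q := Subgroup.Normal.conj_mem inferInstance z hzQ g
    by_cases hwz : w = z
    · exact Or.inl hwz
    right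
    have hu := hunit (w * z⁻¹) (Q.mul_mem hwQ (Q.inv_mem hzQ)) (by rwa [Ne, mul_inv_eq_one])
    have htr : (ρ w).trace = (ρ z).trace := by
      rw [hw, map_mul, map_mul, Matrix.trace_mul_cycle, ← map_mul, inv_mul_cancel, map_one, one_mul]
    have e1 := mat2_mul_self (ρ w)
    have e2 := mat2_mul_self (ρ z)
    rw [hdet w hwQ, htr] at e1
    rw [hdet z hzQ] at e2
    have hzz : ρ z * ρ z⁻¹ = 1 := by rw [← map_mul, mul_inv_cancel, map_one]
    have hzz' : ρ z⁻¹ * ρ z = 1 := by rw [← map_mul, inv_mul_cancel, map_one]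
    have hcomm : ρ w * ρ z = ρ z * ρ w := by rw [← map_mul, ← map_mul, hzc' w hwQ]
    have hinv : ρ z⁻¹ = (ρ z).trace • (1 : Matrix (Fin 2) (Fin 2) F) - ρ z := by
      have : ρ z * ρ z * ρ z⁻¹ = ((ρ z).trace • ρ z - (1 : F) • 1) * ρ z⁻¹ := by rw [e2]
      rw [mul_assoc, hzz, mul_one, sub_mul, smul_mul_assoc, hzz, one_smul, one_mul] at this
      rw [eq_sub_iff_add_eq, add_comm, ← eq_sub_iff_add_eq]
      exact this
    have hprod : (ρ (w * z⁻¹) - 1) * (ρ z * (ρ w - ρ z⁻¹)) = 0 := by
      rw [← mul_assoc, sub_mul, map_mul, mul_assoc (ρ w), hzz', mul_one, one_mul, hinv]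
      have : (ρ w - ρ z) * (ρ w - ((ρ z).trace • 1 - ρ z)) =
          ρ w * ρ w - (ρ z).trace • ρ w + ρ w * ρ z - ρ z * ρ w + (ρ z).trace • ρ z - ρ z * ρ z := by
        simp only [mul_sub, sub_mul, mul_smul_comm, mul_one, smul_sub]; abel
      rw [this, e1, e2, hcomm]; abel
    have hU : IsUnit (ρ (w * z⁻¹) - 1) := (Matrix.isUnit_iff_isUnit_det _).mpr (Ne.isUnit hu)
    have h0 := hU.mul_right_eq_zero.mp hprod
    have h1 : ρ z⁻¹ * (ρ z * (ρ w - ρ z⁻¹)) = 0 := by rw [h0, mul_zero]
    rw [← mul_assoc, hzz', one_mul, sub_eq_zero] at h1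
    exact hρ h1
  have hns : ¬ (ρ z 0 1 = 0 ∧ ρ z 1 0 = 0 ∧ ρ z 0 0 = ρ z 1 1) := by
    rintro ⟨h1, h2, h3⟩
    apply hz1'
    apply eq_one_of_sq_eq_one_of_odd hodd
    apply hρ
    have hd := hdet z hzQ
    rw [det_fin_two, h1, h2, h3] at hd
    rw [map_pow, map_one, pow_two]
    ext i j
    fin_cases i <;> fin_cases j <;> simp [Matrix.mul_apply, Fin.sum_univ_two, h1, h2, h3] <;>
      linear_combination hd
  apply hρ
  rw [map_mul, map_mul]
  exact mat2_commute_of_commute hns (by rw [← map_mul, ← map_mul, hcen])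
    (by rw [← map_mul, ← map_mul, hcen])

theorem odd_mat2_commutator_aux (n : ℕ) : ∀ {G : Type*} [Group G] [Finite G],
    Nat.card G ≤ n → Odd (Nat.card G) → ∀ (ρ : G →* Matrix (Fin 2) (Fin 2) F),
    Function.Injective ρ → ∀ r : ℕ, r.Prime → r ∣ Nat.card (commutator G) → (r : F) = 0 := by
  induction n with
  | zero =>
    intro G _ _ hn
    exact absurd hn (Nat.not_le.mpr Nat.card_pos)
  | succ n ih =>
    intro G _ _ hn hodd ρ hρ r hr hd
    by_contra hrF
    have := Fact.mk hr
    obtain ⟨P⟩ : Nonempty (Sylow r G) := inferInstance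
    by_cases hN : Subgroup.normalizer (P : Set G) = ⊤
    · have hPn : (P : Subgroup G).Normal := Subgroup.normalizer_eq_top_iff.mp hN
      obtain ⟨x, hx⟩ := exists_prime_orderOf_dvd_card' r hd
      have hx' : orderOf (x : G) = r := by rw [Subgroup.orderOf_coe, hx]
      have hxP : (x : G) ∈ (P : Subgroup G) := by
        have h1 : IsPGroup r (Subgroup.zpowers (x : G)) :=
          IsPGroup.of_card (n := 1) (by rw [Nat.card_zpowers, hx', pow_one])
        obtain ⟨P', hP'⟩ := h1.exists_le_sylow
        have := Sylow.unique_of_normal P hPn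
        rw [Subsingleton.elim P P']
        exact hP' (Subgroup.mem_zpowers _)
      have hcomm := odd_mat2_comm_of_normal hodd ρ hρ hrF (commutator G ⊓ P)
        P.isPGroup'.to_inf_right (by
          intro h
          have : (x : G) ∈ commutator G ⊓ (P : Subgroup G) := ⟨x.2, hxP⟩
          rw [h, Subgroup.mem_bot] at this
          rw [this, orderOf_one] at hx'
          exact hr.one_lt.ne hx') (by
          intro y hy
          have : commutator G ≤ ((Matrix.detMonoidHom.comp ρ).toHomUnits).ker :=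
            Abelianization.commutator_subset_ker _
          have h2 := congrArg Units.val (MonoidHom.mem_ker.mp (this hy.1))
          simpa using h2)
      have : IsMulCommutative G := IsMulCommutative.of_comm hcomm
      rw [commutator_eq_bot, Subgroup.card_bot] at hd
      exact hr.one_lt.ne' (Nat.dvd_one.mp hd)
    · set N := Subgroup.normalizer (P : Set G) with hNdef
      have hlt : Nat.card N < Nat.card G := by
        have h1 := Subgroup.card_mul_index N
        have h2 : N.index ≠ 1 := fun h => hN (Subgroup.index_eq_one.mp h)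
        have h3 : N.index ≠ 0 := Subgroup.index_ne_zero_of_finite
        have h4 : 0 < Nat.card N := Nat.card_pos
        nlinarith [show 2 ≤ N.index by omega]
      have hNodd : Odd (Nat.card N) := hodd.of_dvd_nat (Subgroup.card_subgroup_dvd_card N)
      have hih := ih (G := N) (by omega) hNodd (ρ.comp N.subtype)
        (hρ.comp N.subtype_injective) r hr
      have hnd : ¬ r ∣ Nat.card (commutator N) := fun h => hrF (hih h)
      have hNC : N ≤ Subgroup.centralizer (P : Set G) := by
        rw [← Sylow.coe_coe, ← Subgroup.commutator_eq_bot_iff_le_centralizer]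
        have h1 : ⁅N, (P : Subgroup G)⁆ ≤ (P : Subgroup G) :=
          Subgroup.le_normalizer_iff_commutator_le_right.mp le_rfl
        have h2 : ⁅N, (P : Subgroup G)⁆ ≤ ⁅N, N⁆ :=
          Subgroup.commutator_mono le_rfl Subgroup.le_normalizer
        rw [← Subgroup.map_subtype_commutator] at h2
        have h3 := Subgroup.card_dvd_of_le h2
        rw [Subgroup.card_map_of_injective N.subtype_injective] at h3
        rcases (P.isPGroup'.to_le h1).card_eq_or_dvd with h4 | h4
        · exact Subgroup.card_eq_one.mp h4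
        · exact absurd (h4.trans h3) hnd
      have h5 := MonoidHom.not_dvd_card_ker_transferSylow P hNC
      apply h5
      refine hd.trans (Subgroup.card_dvd_of_le ?_)
      have : IsMulCommutative (P : Subgroup G) :=
        Subgroup.le_centralizer_iff_isMulCommutative.mp (Subgroup.le_normalizer.trans hNC)
      rw [commutator, Subgroup.commutator_le]
      intro a _ b _
      rw [MonoidHom.mem_ker, map_commutatorElement, commutatorElement_eq_one_iff_mul_comm]
      exact mul_comm' _ _

/-- **BG 2.6** (matrix form): every prime dividing `|G'|` is the characteristic of `F`. -/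
theorem odd_mat2_commutator {G : Type*} [Group G] [Finite G] (hodd : Odd (Nat.card G))
    (ρ : G →* Matrix (Fin 2) (Fin 2) F) (hρ : Function.Injective ρ) {r : ℕ} (hr : r.Prime)
    (hd : r ∣ Nat.card (commutator G)) : (r : F) = 0 :=
  odd_mat2_commutator_aux _ le_rfl hodd ρ hρ r hr hd

/-- **BG 2.6** (`GL` form). -/
theorem odd_GL2_commutator {G : Type*} [Group G] [Finite G] (hodd : Odd (Nat.card G))
    (ρ : G →* GL (Fin 2) F) (hρ : Function.Injective ρ) {r : ℕ} (hr : r.Prime)
    (hd : r ∣ Nat.card (commutator G)) : (r : F) = 0 :=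
  odd_mat2_commutator hodd ((Units.coeHom _).comp ρ) (Units.val_injective.comp hρ) hr hd

/-- **BG 2.6** (endomorphism form), for a space of dimension two. -/
theorem odd_End2_commutator {V : Type*} [AddCommGroup V] [Module F V]
    (hV : Module.finrank F V = 2) {G : Type*} [Group G] [Finite G] (hodd : Odd (Nat.card G))
    (ρ : G →* Module.End F V) (hρ : Function.Injective ρ) {r : ℕ} (hr : r.Prime)
    (hd : r ∣ Nat.card (commutator G)) : (r : F) = 0 := by
  have : Module.Finite F V := Module.finite_of_finrank_eq_succ hV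
  let b := Module.finBasisOfFinrankEq F V hV
  exact odd_mat2_commutator hodd
    ((LinearMap.toMatrixAlgEquiv b).toMulEquiv.toMonoidHom.comp ρ)
    ((LinearMap.toMatrixAlgEquiv b).injective.comp hρ) hr hd

theorem isPGroup_of_forall_prime_cast_eq_zero {H : Type*} [Group H] [Finite H] (p : ℕ)
    [Fact p.Prime] [CharP F p] (h : ∀ r : ℕ, r.Prime → r ∣ Nat.card H → (r : F) = 0) :
    IsPGroup p H := by
  rw [IsPGroup.iff_card]
  refine ⟨_, Nat.eq_prime_pow_of_unique_prime_dvd Nat.card_pos.ne' fun {d} hd hdvd => ?_⟩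
  have := (CharP.cast_eq_zero_iff F p d).mp (h d hd hdvd)
  exact ((Nat.prime_dvd_prime_iff_eq Fact.out hd).mp this).symm

/-- **BG 2.6(b)**: in characteristic `p` the derived subgroup is a `p`-group. -/
theorem odd_mat2_commutator_isPGroup {G : Type*} [Group G] [Finite G] (hodd : Odd (Nat.card G))
    (p : ℕ) [Fact p.Prime] [CharP F p] (ρ : G →* Matrix (Fin 2) (Fin 2) F)
    (hρ : Function.Injective ρ) : IsPGroup p (commutator G) :=
  isPGroup_of_forall_prime_cast_eq_zero (F := F) p fun _ hr hd =>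
    odd_mat2_commutator hodd ρ hρ hr hd

theorem odd_GL2_commutator_isPGroup {G : Type*} [Group G] [Finite G] (hodd : Odd (Nat.card G))
    (p : ℕ) [Fact p.Prime] [CharP F p] (ρ : G →* GL (Fin 2) F)
    (hρ : Function.Injective ρ) : IsPGroup p (commutator G) :=
  isPGroup_of_forall_prime_cast_eq_zero (F := F) p fun _ hr hd =>
    odd_GL2_commutator hodd ρ hρ hr hd

theorem odd_End2_commutator_isPGroup {V : Type*} [AddCommGroup V] [Module F V]
    (hV : Module.finrank F V = 2) {G : Type*} [Group G] [Finite G] (hodd : Odd (Nat.card G))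
    (p : ℕ) [Fact p.Prime] [CharP F p] (ρ : G →* Module.End F V)
    (hρ : Function.Injective ρ) : IsPGroup p (commutator G) :=
  isPGroup_of_forall_prime_cast_eq_zero (F := F) p fun _ hr hd =>
    odd_End2_commutator hV hodd ρ hρ hr hd

theorem isMulCommutative_of_forall_prime_cast {G : Type*} [Group G] [Finite G]
    (hG : (Nat.card G : F) ≠ 0)
    (h : ∀ r : ℕ, r.Prime → r ∣ Nat.card (commutator G) → (r : F) = 0) : IsMulCommutative G := by
  rw [← commutator_eq_bot_iff, ← Subgroup.card_eq_one]
  by_contra hne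
  obtain ⟨r, hr, hd⟩ := Nat.exists_prime_and_dvd hne
  obtain ⟨k, hk⟩ := hd.trans (Subgroup.card_subgroup_dvd_card _)
  exact hG (by rw [hk, Nat.cast_mul, h r hr hd, zero_mul])

/-- **BG 2.6(a)**: if the characteristic does not divide `|G|` then `G` is abelian. -/
theorem odd_mat2_isMulCommutative {G : Type*} [Group G] [Finite G] (hodd : Odd (Nat.card G))
    (hG : (Nat.card G : F) ≠ 0) (ρ : G →* Matrix (Fin 2) (Fin 2) F)
    (hρ : Function.Injective ρ) : IsMulCommutative G :=
  isMulCommutative_of_forall_prime_cast hG fun _ hr hd => odd_mat2_commutator hodd ρ hρ hr hd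

theorem odd_GL2_isMulCommutative {G : Type*} [Group G] [Finite G] (hodd : Odd (Nat.card G))
    (hG : (Nat.card G : F) ≠ 0) (ρ : G →* GL (Fin 2) F)
    (hρ : Function.Injective ρ) : IsMulCommutative G :=
  isMulCommutative_of_forall_prime_cast hG fun _ hr hd => odd_GL2_commutator hodd ρ hρ hr hd

theorem odd_End2_isMulCommutative {V : Type*} [AddCommGroup V] [Module F V]
    (hV : Module.finrank F V = 2) {G : Type*} [Group G] [Finite G] (hodd : Odd (Nat.card G))
    (hG : (Nat.card G : F) ≠ 0) (ρ : G →* Module.End F V)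
    (hρ : Function.Injective ρ) : IsMulCommutative G :=
  isMulCommutative_of_forall_prime_cast hG fun _ hr hd => odd_End2_commutator hV hodd ρ hρ hr hd

end Group

end CL.BG
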