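import Cfsg.Agent.BG.T1_11

set_option autoImplicit false
open Cfsg Subgroup

namespace CL.BG
variable {G : Type*} [Group G] [Finite G]

/-- BG 1.13 (`critical_odd`), abstract form. -/
theorem t1_13_abs {p : ℕ} [Fact p.Prime] (hp : p ≠ 2) {P : Type*} [Group P] [Finite P]
    [Nontrivial P] (hP : IsPGroup p P) :
    ∃ K : Subgroup P, K.Characteristic ∧ K ≠ ⊥ ∧ ⁅(⊤ : Subgroup P), K⁆ ≤ 𝐙(K) ∧ (∀ x ∈ K, x ^ p = 1) ∧
      ∀ a : MulAut P, (orderOf a).Coprime p → (∀ x ∈ K, a x = x) → a = 1 := by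
  have hodd : Odd p := (Fact.out : p.Prime).odd_of_ne_two hp
  obtain ⟨C, hC, -, h2, h3⟩ := CL.PGrp.exists_critical hP
  have hCC : ⁅C, C⁆ ≤ 𝐂(C) := (commutator_mono le_rfl le_top).trans (h2.trans inf_le_right)
  have hKC : omegaOne p C ≤ C := (closure_le _).2 fun x hx => hx.1
  have hchar : (omegaOne p C).Characteristic := by
    refine characteristic_iff_le_comap.2 fun φ => (closure_le _).2 fun x hx => ?_
    refine subset_closure ⟨characteristic_iff_le_comap.1 hC φ hx.1, ?_⟩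
    change φ x ^ p = 1
    rw [← map_pow, hx.2, map_one]
  refine ⟨omegaOne p C, hchar, ?_, ?_, ?_, fun a ha h => ?_⟩
  · have hne : C ≠ ⊥ := by
      rintro rfl
      rw [cent_bot] at h3
      exact top_ne_bot (le_bot_iff.1 h3)
    obtain ⟨x, hx, ho⟩ := exists_orderOf_eq_of_dvd_card Fact.out
      (dvd_card_of_isPGroup Fact.out (hP.to_subgroup C) hne)
    refine ne_bot_of_mem (x := x) (subset_closure ⟨hx, ho ▸ pow_orderOf_eq_one x⟩) ?_
    rintro rfl
    exact (Fact.out : p.Prime).one_lt.ne (by rw [← ho, orderOf_one])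
  · refine le_inf (commutator_le_right _ _) ?_
    rw [commutator_comm]
    exact (commutator_mono hKC le_rfl).trans (h2.trans (inf_le_right.trans (cent_anti hKC)))
  · intro x hx
    induction hx using closure_induction with
    | mem x hx => exact hx.2
    | one => exact one_pow p
    | mul x y hx hy ihx ihy =>
      have hc := hCC (commutator_mem_commutator (hKC hy) (hKC hx))
      rw [CL.PGrp.mul_pow_of_odd' (mem_cent.1 hc x (hKC hx)).symm (mem_cent.1 hc y (hKC hy)).symm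
        hodd (by rw [ihy]; exact Commute.one_left x), ihx, ihy, one_mul]
    | inv x _ ih => rw [inv_pow, ih, inv_one]
  · refine CL.PGrp.aut_eq_one_of_centralizer_le hP C h3 a ha
      (CL.PGrp.aut_apply_eq_of_class_two hodd hP C hCC a
        (fun x hx => characteristic_iff_le_comap.1 hC a hx) ha fun x hx h1 => ?_)
    exact h x (subset_closure ⟨hx, h1⟩)

/-- BG 1.13 (`critical_odd`), ambient form.  `[H, K] ≤ Z(K)` gives class at most 2. -/
theorem t1_13 {p : ℕ} [Fact p.Prime] (hp : p ≠ 2) {H : Subgroup G} (hH : IsPGroup p H)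
    (hne : H ≠ ⊥) :
    ∃ K : Subgroup G, CharIn K H ∧ K ≠ ⊥ ∧ ⁅H, K⁆ ≤ 𝐙(K) ∧ (∀ x ∈ K, x ^ p = 1) ∧
      ∀ A : Subgroup G, A ≤ 𝐍(H) → (Nat.card A).Coprime p → A ≤ 𝐂(K) → A ≤ 𝐂(H) := by
  have := (nontrivial_iff_ne_bot H).2 hne
  obtain ⟨K, hK, h1, h2, h3, h4⟩ := t1_13_abs hp hH
  refine ⟨K.map H.subtype, CharIn.map_subtype K,
    fun h => h1 ((map_eq_bot_iff_of_injective _ H.subtype_injective).1 h), ?_, ?_,
    fun A hA hcop hc a ha => ?_⟩
  · have h5 := map_mono (f := H.subtype) h2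
    rwa [Subgroup.map_commutator, map_inf_cent H.subtype_injective, ← MonoidHom.range_eq_map,
      range_subtype] at h5
  · rintro _ ⟨x, hx, rfl⟩
    exact congrArg Subtype.val (h3 x hx)
  · rw [← normalizerMonoidHom_eq_one_iff (hA ha)]
    refine h4 _ (hcop.coprime_dvd_left
      ((orderOf_normalizerMonoidHom_dvd (hA ha)).trans (orderOf_dvd_card' ha))) fun x hx => ?_
    rw [normalizerMonoidHom_apply_eq_iff]
    exact (mem_cent.1 (hc ha) x ⟨x, hx, rfl⟩).symm

end CL.BG
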