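import Cfsg.Agent.BG.T1_6
import Cfsg.Agent.BG.Fit

set_option autoImplicit false
open Cfsg Subgroup

namespace CL.BG
variable {G : Type*} [Group G] [Finite G]

/-- BG 1.8 (`coprime_cent_Phi`). -/
theorem t1_8 {A H : Subgroup G} (hcop : (Nat.card H).Coprime (Nat.card A))
    (h : ⁅H, A⁆ ≤ frattiniOf H) : A ≤ 𝐂(H) := by
  have h1 : ⁅H, A⁆ ≤ H := h.trans (phi_le H)
  have hA : A ≤ 𝐍(H) := le_norm_of_commutator_le le_rfl h1
  have h2 := t1_6a_strong hA (coprime_card_mono hcop h1 le_rfl)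
    (Or.inl (solvable_of_nil (nilpotent_of_le (phi_nil H) h)))
  have h3 : H ≤ H ⊓ 𝐂(A) :=
    le_of_le_phi_sup inf_le_left (h2.ge.trans (sup_le_sup_right h _))
  exact cent_symm (h3.trans inf_le_right)

end CL.BG
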