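import Cfsg.Agent.BG.T4_8
import Cfsg.Agent.BG.Fit
import Cfsg.Agent.BG.T1_8
import Cfsg.Agent.BG.T1_13
import Cfsg.Agent.BG.A3_AbelemRep
import Cfsg.Agent.BG.OddGL2

set_option autoImplicit false

namespace CL.BG

open Cfsg Subgroup

variable {G : Type*} [Group G] [Finite G]

/-- if all `π'`-subgroups of `H` lie in `C` then `|H : C ∩ H|` is a `π`-number -/
theorem piNat_relIndex_of_forall_le {π : Set ℕ} {H C : Subgroup G}
    (h : ∀ L : Subgroup G, L ≤ H → PiGrp πᶜ L → L ≤ C) : PiNat π (C.relIndex H) := by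
  intro q hq hd
  by_contra hqπ
  have : Fact q.Prime := ⟨hq⟩
  obtain ⟨Q, hQ⟩ := sylow_exists q H
  exact hQ.not_dvd (hd.trans (relIndex_dvd_of_le_left H
    (h Q hQ.le (piGrp_of_isPGroup hq hQ.isPGroup hqπ))))

/-- BG 2.6 for an elementary abelian group of order at most `p ^ 2`. -/
theorem odd_der_le_cent_of_card_le_sq {p : ℕ} [Fact p.Prime] {E A L : Subgroup G}
    (hE : IsElementaryAbelian p E) (hc : Nat.card E ≤ p ^ 2) (hA : A ≤ 𝐍(E))
    (hAodd : Odd (Nat.card A)) (hL : L ≤ ⁅A, A⁆) (hp'L : PiGrp {p}ᶜ L) : L ≤ 𝐂(E) := by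
  have hp : p.Prime := Fact.out
  by_cases hcyc : IsCyclic E
  · exact hL.trans (cyc_der_le_cent hcyc hA)
  obtain ⟨W, _, _, _, ρ, h1, h2, -⟩ := exists_abelem_rep (ZMod p) hE A hA
  have hW : Module.finrank (ZMod p) W = 2 := by
    refine le_antisymm ((Nat.pow_le_pow_iff_right hp.one_lt).1 (h1 ▸ hc)) ?_
    by_contra hlt
    refine hcyc (pg_isCyclic_of_card_le (EA.isPGroup hE) ?_)
    rw [← h1]
    simpa using Nat.pow_le_pow_right hp.pos (show Module.finrank (ZMod p) W ≤ 1 by omega)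
  let σ := ρ.toHomUnits.rangeRestrict
  have hσ : Function.Surjective σ := MonoidHom.rangeRestrict_surjective _
  have : Finite ρ.toHomUnits.range := Finite.of_surjective σ hσ
  have h3 := odd_End2_commutator_isPGroup hW
    (Odd.of_dvd_nat hAodd (card_dvd_of_surjective σ hσ)) p
    ((Units.coeHom _).comp ρ.toHomUnits.range.subtype)
    (Units.val_injective.comp Subtype.val_injective)
  intro x hx
  have hx' := hL hx
  rw [← map_subtype_commutator] at hx'
  obtain ⟨y, hy, rfl⟩ := hx'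
  have h4 : σ y ∈ commutator ρ.toHomUnits.range := by
    rw [_root_.commutator_def, ← map_top_of_surjective σ hσ, ← map_commutator]
    exact mem_map_of_mem σ hy
  obtain ⟨k, hk⟩ := h3 ⟨σ y, h4⟩
  have h5 : orderOf (σ y) ∣ p ^ k := orderOf_dvd_of_pow_eq_one (congrArg Subtype.val hk)
  have h6 : orderOf (σ y) ∣ Nat.card L :=
    ((orderOf_map_dvd σ y).trans (orderOf_coe y).symm.dvd).trans (orderOf_dvd_card' hx)
  have h7 : σ y = 1 := orderOf_eq_one_iff.1 (Nat.eq_one_of_dvd_coprimes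
    (((piGrp_compl_singleton_iff_coprime hp).1 hp'L).pow_right k) h6 h5)
  exact (h2 y).1 (congrArg (fun z : ρ.toHomUnits.range => ((z : (Module.End (ZMod p) W)ˣ) :
    Module.End (ZMod p) W)) h7)

/-- BG 4.17, corollary: `p'`-subgroups of `A'` centralise `R`. -/
theorem t4_17' {p : ℕ} [Fact p.Prime] {R : Subgroup G} (hR : IsPGroup p R) (hodd : Odd (Nat.card R)) (hr : pRank p R ≤ 2)
    {A : Subgroup G} (hA : A ≤ 𝐍(R)) (hsol : Group.IsSolvable A) (hAodd : Odd (Nat.card A))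
    {L : Subgroup G} (hL : L ≤ ⁅A, A⁆) (hp'L : PiGrp {p}ᶜ L) : L ≤ 𝐂(R) := by
  have hp : p.Prime := Fact.out
  by_cases hne : R = ⊥
  · rw [hne, cent_bot]; exact le_top
  obtain ⟨K, hK, -, -, hKe, hKc⟩ := t1_13 (pg_ne_two hR hodd hne) hR hne
  have hLA : L ≤ A := hL.trans (NormalIn.der A).le
  have hKp : IsPGroup p K := hR.to_le hK.le
  have hAK : A ≤ 𝐍(K) := hK.norms hA
  have hAF : A ≤ 𝐍(frattiniOf K) := norms_phi hAK
  have hKF : K ≤ 𝐍(frattiniOf K) := (phi_normal K).norm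
  have hrK : pRank p K ≤ 2 := (pRank_mono hp hK.le).trans hr
  have hc : Nat.card (quot (frattiniOf K) K) ≤ p ^ 2 := by
    by_cases hF : frattiniOf K = ⊥
    · refine (Nat.le_of_dvd Nat.card_pos (card_quot_dvd _ _)).trans ?_
      rw [card_eq_pow_pRank hp ((phi_eq_bot_iff hKp).1 hF)]
      exact Nat.pow_le_pow_right hp.pos hrK
    · have h1 := t4_8a hKp hrK hKe
      rw [← card_mul_card_quot hKF (phi_le K)] at h1
      have h2 : p ≤ Nat.card (frattiniOf K) :=
        Nat.le_of_dvd Nat.card_pos (pg_dvd_card (hKp.to_le (phi_le K)) hF)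
      refine Nat.le_of_mul_le_mul_left ?_ hp.pos
      calc p * _ ≤ _ := Nat.mul_le_mul_right _ h2
        _ ≤ p ^ 3 := h1
        _ = p * p ^ 2 := by ring
  have h3 := odd_der_le_cent_of_card_le_sq (quot_phi_elem hKp) hc (quot_normalizer _ hAK)
    (quot_odd _ hAodd) (quot_commutator hAF hAF ▸ quot_mono _ hL) (hp'L.quot _)
  rw [quot_le_centralizer_iff (hLA.trans hAF) hKF, Subgroup.commutator_comm] at h3
  exact hKc L (hLA.trans hA) ((piGrp_compl_singleton_iff_coprime hp).1 hp'L)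
    (t1_8 (coprime_card_of_isPGroup hp hKp hp'L) h3)

/-- BG 4.17, internal action: `A' / C_{A'}(R)` is a `p`-group. -/
theorem t4_17 {p : ℕ} [Fact p.Prime] {R : Subgroup G} (hR : IsPGroup p R) (hodd : Odd (Nat.card R)) (hr : pRank p R ≤ 2)
    {A : Subgroup G} (hA : A ≤ 𝐍(R)) (hsol : Group.IsSolvable A) (hAodd : Odd (Nat.card A)) :
    PiNat {p} (𝐂(R).relIndex ⁅A, A⁆) := by
  exact piNat_relIndex_of_forall_le fun L hL hp'L => t4_17' hR hodd hr hA hsol hAodd hL hp'L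

end CL.BG
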