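import Cfsg.Agent.BG.T4_13
import Cfsg.Agent.BG.T4_17

set_option autoImplicit false

namespace CL.BG

open Cfsg Subgroup

variable {G : Type*} [Group G] [Finite G]

/-- Common part of BG 4.18 and 5.6: the structure of `H'`. -/
theorem der_compl_of_core {p : ℕ} [Fact p.Prime] {H : Subgroup G} (hsol : Group.IsSolvable H)
    (h : ∀ L : Subgroup (Qt (piCoreOf {p}ᶜ H)),
      L ≤ ⁅quot (piCoreOf {p}ᶜ H) H, quot (piCoreOf {p}ᶜ H) H⁆ → PiGrp {p}ᶜ L →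
        L ≤ 𝐂(piCoreOf {p} (quot (piCoreOf {p}ᶜ H) H))) :
    Hall {p}ᶜ (piCoreOf {p}ᶜ ⁅H, H⁆) ⁅H, H⁆ ∧
      ⁅H, H⁆ ≤ pPrimePCoreOf p H ∧ PiNat {p}ᶜ ((pPrimePCoreOf p H).relIndex H) := by
  have hV := piCoreOf_normalIn {p}ᶜ H
  have hVb := piCoreOf_quot_piCoreOf {p}ᶜ H
  have hpp := pPrimePCoreOf_eq_coquot (p := p) H
  generalize hVe : piCoreOf {p}ᶜ H = V at *
  have hC := inf_cent_core_le (π := {p}) (quot_isSolvable V hsol) hVb
  have hR := piCoreOf_normalIn {p} (quot V H)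
  have hD := NormalIn.der (quot V H)
  have h1 : PiGrp {p} ⁅quot V H, quot V H⁆ := by
    have := piNat_relIndex_of_forall_le (π := {p}) (H := ⁅quot V H, quot V H⁆) (C := ⊥)
      fun L hL hp'L => (((piGrp_piCoreOf {p} _).of_le
        ((le_inf (hL.trans hD.le) (h L hL hp'L)).trans hC)).eq_bot hp'L).le
    rwa [relIndex_bot_left] at this
  have h2 : ⁅quot V H, quot V H⁆ ≤ piCoreOf {p} (quot V H) := le_piCoreOf hD h1
  have hHV : ⁅H, H⁆ ≤ 𝐍(V) := (NormalIn.der H).le.trans hV.norm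
  refine ⟨Hall.mk' (piCoreOf_le _ _) (piGrp_piCoreOf _ _) ?_, ?_, ?_⟩
  · rw [(NormalIn.der H).piCoreOf_eq_inf, hVe, inf_relIndex_right, compl_compl,
      ← piGrp_quot_iff hHV, quot_commutator hV.norm hV.norm]
    exact h1
  · rw [hpp, ← quot_le_iff hHV, quot_commutator hV.norm hV.norm]
    exact h2
  · have h3 := nil_hall_core (nil_of_comm ((quot_isMulCommutative_iff hR.norm).2 h2)) {p}
    rw [piCoreOf_quot_piCoreOf, hall_bot_iff, piGrp_quot_iff hR.norm, ← relIndex_coquot V,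
      hV.coquot_quot] at h3
    rwa [hpp]

/-- Common part of BG 4.18 and 5.6: the largest prime. -/
theorem max_pdiv_of_core {p : ℕ} [Fact p.Prime] {H : Subgroup G} (hsol : Group.IsSolvable H)
    (h : ∀ q : ℕ, q.Prime → q ≠ p →
      q ∣ 𝐂(piCoreOf {p} (quot (piCoreOf {p}ᶜ H) H)).relIndex (quot (piCoreOf {p}ᶜ H) H) → q < p)
    {q : ℕ} (hq : q.Prime) (hd : q ∣ (piCoreOf {p}ᶜ H).relIndex H) : q ≤ p := by
  by_cases hqp : q = p
  · exact hqp.le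
  have hC := inf_cent_core_le (π := {p}) (quot_isSolvable _ hsol) (piCoreOf_quot_piCoreOf {p}ᶜ H)
  rw [← card_quot (le_norm_piCoreOf _ H),
    ← card_inf_mul_relIndex 𝐂(piCoreOf {p} (quot (piCoreOf {p}ᶜ H) H)), inf_comm] at hd
  refine (h q hq hqp (((Nat.Prime.dvd_mul hq).1 hd).resolve_left ?_)).le
  exact ((piGrp_piCoreOf {p} _).of_le hC).not_dvd hq hqp

/-- Common part of BG 4.18 and 5.6: the normal `p`-complement. -/
theorem hall_of_max_pdiv {p : ℕ} {H : Subgroup G} (hodd : Odd (Nat.card H))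
    (h : ∀ q : ℕ, q.Prime → q ∣ (piCoreOf {p}ᶜ H).relIndex H → q ≤ p)
    (hmin : p = 3 ∨ ∀ q : ℕ, q.Prime → q ∣ Nat.card H → p ≤ q) :
    Hall {p}ᶜ (piCoreOf {p}ᶜ H) H := by
  refine Hall.mk' (piCoreOf_le _ _) (piGrp_piCoreOf _ _) fun q hq hd => ?_
  have h1 := h q hq hd
  have h2 : q ∣ Nat.card H := hd.trans (relIndex_dvd_card _ _)
  rw [compl_compl, Set.mem_singleton_iff]
  rcases hmin with rfl | hmin
  · have h3 := hq.two_le
    have h4 : q ≠ 2 := by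
      rintro rfl
      exact (Nat.not_even_iff_odd.2 hodd) (even_iff_two_dvd.2 h2)
    omega
  · exact le_antisymm h1 (hmin q hq h2)

theorem pRank_quot_core {p : ℕ} [Fact p.Prime] (H : Subgroup G) :
    pRank p (quot (piCoreOf {p}ᶜ H) H) = pRank p H :=
  pRank_quot_of_not_dvd Fact.out (le_norm_piCoreOf _ H)
    ((piGrp_compl_singleton_iff Fact.out).1 (piGrp_piCoreOf _ H))

theorem pRank_pcore_quot_le {p n : ℕ} [Fact p.Prime] {H : Subgroup G} (hr : pRank p H ≤ n) :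
    pRank p (piCoreOf {p} (quot (piCoreOf {p}ᶜ H) H)) ≤ n :=
  (pRank_mono Fact.out (piCoreOf_le _ _)).trans ((pRank_quot_core H).trans_le hr)

theorem t4_18_aux {p : ℕ} [Fact p.Prime] {H : Subgroup G} (hsol : Group.IsSolvable H)
    (hodd : Odd (Nat.card H)) (hr : pRank p H ≤ 2) :
    Hall {p}ᶜ (piCoreOf {p}ᶜ ⁅H, H⁆) ⁅H, H⁆ ∧
      ⁅H, H⁆ ≤ pPrimePCoreOf p H ∧ PiNat {p}ᶜ ((pPrimePCoreOf p H).relIndex H) :=
  der_compl_of_core hsol fun _ hL hp'L => t4_17' (isPGroup_piCoreOf Fact.out _)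
    (odd_card_of_le (quot_odd _ hodd) (piCoreOf_le _ _)) (pRank_pcore_quot_le hr)
    (le_norm_piCoreOf _ _) (quot_isSolvable _ hsol) (quot_odd _ hodd) hL hp'L

/-- BG 4.18(a). -/
theorem t4_18a {p : ℕ} [Fact p.Prime] {H : Subgroup G} (hsol : Group.IsSolvable H)
    (hodd : Odd (Nat.card H)) (hr : pRank p H ≤ 2) {q : ℕ} (hq : q.Prime)
    (hd : q ∣ (piCoreOf {p}ᶜ H).relIndex H) : q ≤ p := by
  refine max_pdiv_of_core hsol (fun q hq hqp hd => ?_) hq hd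
  exact (t4_13 (isPGroup_piCoreOf Fact.out _)
    (odd_card_of_le (quot_odd _ hodd) (piCoreOf_le _ _)) (pRank_pcore_quot_le hr)
    (le_norm_piCoreOf _ _) hq hqp hd).2.1

/-- BG 4.18(b). -/
theorem t4_18b {p : ℕ} [Fact p.Prime] {H : Subgroup G} (hsol : Group.IsSolvable H)
    (hodd : Odd (Nat.card H)) (hr : pRank p H ≤ 2)
    (hmin : p = 3 ∨ ∀ q : ℕ, q.Prime → q ∣ Nat.card H → p ≤ q) :
    Hall {p}ᶜ (piCoreOf {p}ᶜ H) H := by
  exact hall_of_max_pdiv hodd (fun q hq hd => t4_18a hsol hodd hr hq hd) hmin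

/-- BG 4.18(c). -/
theorem t4_18c {p : ℕ} [Fact p.Prime] {H : Subgroup G} (hsol : Group.IsSolvable H)
    (hodd : Odd (Nat.card H)) (hr : pRank p H ≤ 2) :
    Hall {p}ᶜ (piCoreOf {p}ᶜ ⁅H, H⁆) ⁅H, H⁆ := by
  exact (t4_18_aux hsol hodd hr).1

/-- BG 4.18(d). -/
theorem t4_18d {p : ℕ} [Fact p.Prime] {H : Subgroup G} (hsol : Group.IsSolvable H)
    (hodd : Odd (Nat.card H)) (hr : pRank p H ≤ 2) {L : Subgroup G}
    (hL : L ≤ ⁅H, H⁆) (hp'L : PiGrp {p}ᶜ L) :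
    L ≤ piCoreOf {p}ᶜ ⁅H, H⁆ ∧ L ≤ piCoreOf {p}ᶜ H := by
  have h := le_piCoreOf_of_hall (t4_18c hsol hodd hr) hL hp'L
  exact ⟨h, h.trans ((NormalIn.der H).piCoreOf_le _)⟩

/-- BG 4.18(e). -/
theorem t4_18e {p : ℕ} [Fact p.Prime] {H : Subgroup G} (hsol : Group.IsSolvable H)
    (hodd : Odd (Nat.card H)) (hr : pRank p H ≤ 2) :
    ⁅H, H⁆ ≤ pPrimePCoreOf p H ∧ PiNat {p}ᶜ ((pPrimePCoreOf p H).relIndex H) := by
  exact (t4_18_aux hsol hodd hr).2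

/-- the conclusions of BG 4.18 and 5.6 for the whole group, in the vocabulary of the prelude -/
theorem der_compl_top_form {p : ℕ} [Fact p.Prime] (hodd : Odd (Nat.card G))
    (ha : ∀ q : ℕ, q.Prime → q ∣ (piCoreOf {p}ᶜ (⊤ : Subgroup G)).relIndex ⊤ → q ≤ p)
    (hc : Hall {p}ᶜ (piCoreOf {p}ᶜ ⁅(⊤ : Subgroup G), (⊤ : Subgroup G)⁆) ⁅(⊤ : Subgroup G), (⊤ : Subgroup G)⁆)
    (he : ⁅(⊤ : Subgroup G), (⊤ : Subgroup G)⁆ ≤ pPrimePCoreOf p ⊤ ∧
      PiNat {p}ᶜ ((pPrimePCoreOf p (⊤ : Subgroup G)).relIndex ⊤)) :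
    (∀ q : ℕ, q.Prime → q ∣ (pPrimeCore p G).index → q ≤ p) ∧
      ((p = 3 ∨ ∀ q : ℕ, q.Prime → q ∣ Nat.card G → p ≤ q) → HasNormalPComplement p G) ∧
      HasNormalPComplement p ↥(commutator G) ∧
      (∀ L : Subgroup ↥(commutator G), (Nat.card L).Coprime p →
        L ≤ pPrimeCore p ↥(commutator G)) ∧
      commutator G ≤ pPrimePCore p G ∧ ((pPrimePCore p G).index).Coprime p := by
  have hp : p.Prime := Fact.out
  refine ⟨?_, fun hmin => ?_, hasNormalPComplement_iff_hall.2 hc, fun L hL => ?_, ?_, ?_⟩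
  · rwa [piCoreOf_compl_singleton_top hp, relIndex_top_right] at ha
  · have h1 := hall_of_max_pdiv (by rwa [card_top]) ha (by rwa [card_top])
    obtain ⟨P⟩ : Nonempty (Sylow p G) := inferInstance
    have h2 := sdp_top_iff.1 (sdp_piCoreOf_sylow h1 (sylowOf_top P))
    exact ⟨P, _, h2.1, h2.2⟩
  · have h1 := le_piCoreOf_of_hall hc (map_subtype_le L)
      ((piGrp_compl_singleton_iff_coprime hp).2 (by rwa [card_map_subtype']))
    rw [piCoreOf_compl_singleton hp] at h1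
    exact map_subtype_le_map_subtype.1 h1
  · rw [← pPrimePCoreOf_top]; exact he.1
  · rw [← pPrimePCoreOf_top, ← relIndex_top_right]
    exact (IsPiNum.compl_singleton_iff_coprime hp).1 he.2

end CL.BG
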