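import Cfsg.Agent.BG.Conj
import Cfsg.Agent.BG.Quot
import Cfsg.Agent.Solv.PiHall
import Cfsg.Agent.Auto.ACL_BG_PiGrp_646bf9

/-!
# Nilpotent subgroups of an ambient finite group
-/

set_option autoImplicit false
open Cfsg Subgroup

namespace CL.BG
variable {G : Type*} [Group G] {H K L N A B X P : Subgroup G} {π : Set ℕ}

/-! ### basic sources of nilpotent and solvable subgroups -/

theorem nil_of_comm (h : IsMulCommutative H) : Group.IsNilpotent H := by
  rw [isNilpotent_iff_lowerCentralSeries]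
  exact ⟨1, commutator_self_eq_bot_iff.2 h⟩

theorem nil_of_isCyclic (h : IsCyclic H) : Group.IsNilpotent H := nil_of_comm (comm_of_isCyclic h)

theorem nil_bot : Group.IsNilpotent (⊥ : Subgroup G) := inferInstance

theorem nil_of_isPGroup [Finite G] {p : ℕ} [Fact p.Prime] (h : IsPGroup p H) :
    Group.IsNilpotent H := h.isNilpotent

theorem solvable_of_nil (h : Group.IsNilpotent H) : Group.IsSolvable H := inferInstance

theorem solvable_of_comm (h : IsMulCommutative H) : Group.IsSolvable H :=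
  solvable_of_nil (nil_of_comm h)

theorem solvable_of_isCyclic (h : IsCyclic H) : Group.IsSolvable H :=
  solvable_of_nil (nil_of_isCyclic h)

theorem solvable_of_isPGroup [Finite G] {p : ℕ} [Fact p.Prime] (h : IsPGroup p H) :
    Group.IsSolvable H := solvable_of_nil (nil_of_isPGroup h)

theorem solvable_of_card_prime (h : (Nat.card H).Prime) : Group.IsSolvable H :=
  solvable_of_isCyclic (isCyclic_of_card_prime h)

theorem solvable_bot : Group.IsSolvable (⊥ : Subgroup G) := inferInstance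

/-- `K H` is solvable when `H` normalises `K` and both are solvable. -/
theorem solvable_sup (h : H ≤ 𝐍(K)) (hK : Group.IsSolvable K) (hH : Group.IsSolvable H) :
    Group.IsSolvable ↥(K ⊔ H) := by
  refine isSolvable_of_quot (V := K) (sup_le (le_norm_self K) h) ?_ hK
  rw [quot_self_sup h]
  exact quot_isSolvable K hH

theorem der_lt_of_solvable (h : Group.IsSolvable H) (hne : H ≠ ⊥) : ⁅H, H⁆ < H := by
  rw [← nontrivial_iff_ne_bot] at hne
  have := Group.IsSolvable.commutator_lt_top_of_nontrivial H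
  rw [← map_subtype_commutator]
  conv_rhs => rw [← H.range_subtype, MonoidHom.range_eq_map]
  exact map_subtype_lt_map_subtype.2 this

theorem nil_of_class_two (h : ⁅⁅H, H⁆, H⁆ = ⊥) : Group.IsNilpotent H :=
  isNilpotent_of_lowerCentralSeries_eq_bot (n := 2) h

theorem nil_of_der_le_cent (h : ⁅H, H⁆ ≤ 𝐂(H)) : Group.IsNilpotent H :=
  nil_of_class_two (commutator_eq_bot_iff'.2 h)

/-! ### normalisers grow, the centre meets normal subgroups -/

/-- `nilpotent_proper_norm` -/
theorem nil_lt_norm (hH : Group.IsNilpotent H) (h : K < H) : K < H ⊓ 𝐍(K) := by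
  have h1 : K.subgroupOf H < ⊤ := by
    rw [lt_top_iff_ne_top, Ne, subgroupOf_eq_top]
    exact h.not_ge
  obtain ⟨x, hx, hxK⟩ := SetLike.exists_of_lt (Group.normalizerCondition_of_isNilpotent _ h1)
  rw [← subgroupOf_normalizer_eq h.le] at hx
  refine lt_of_le_of_ne (le_inf h.le (le_norm_self K)) fun he => hxK ?_
  have : (x : G) ∈ H ⊓ 𝐍(K) := ⟨x.2, hx⟩
  rw [← he] at this
  exact this

/-- `nilpotent_sub_norm` -/
theorem nil_eq_of_norm_le (hH : Group.IsNilpotent H) (hK : K ≤ H) (h : H ⊓ 𝐍(K) ≤ K) : K = H := by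
  by_contra hne
  exact (nil_lt_norm hH (lt_of_le_of_ne hK hne)).not_ge h

/-- `nil_comm_properl`: inside a nilpotent group, `[N, A] < N`. -/
theorem nil_commutator_lt (hL : Group.IsNilpotent L) (hN : N ≤ L) (hA : A ≤ L) (hAN : A ≤ 𝐍(N))
    (hne : N ≠ ⊥) : ⁅N, A⁆ < N := by
  refine lt_of_le_of_ne (commutator_le_left_of_norm hAN) fun he => hne ?_
  obtain ⟨n, hn⟩ := (isNilpotent_iff_lowerCentralSeries L).1 hL
  have : ∀ k, N ≤ L.lowerCentralSeries k := by
    intro k
    induction k with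
    | zero => exact hN
    | succ k ih => rw [← he]; exact commutator_mono ih hA
  exact le_bot_iff.1 (hn ▸ this n)

/-- inside a nilpotent group, a nontrivial `A`-invariant subgroup has nontrivial `A`-fixed
points -/
theorem nil_inf_cent_ne_bot [Finite G] (hL : Group.IsNilpotent L) (hN : N ≤ L) (hA : A ≤ L)
    (hAN : A ≤ 𝐍(N)) (hne : N ≠ ⊥) : N ⊓ 𝐂(A) ≠ ⊥ := by
  induction N using subgroup_induction with
  | ih N ih =>
    by_cases h : ⁅N, A⁆ = ⊥
    · rwa [inf_eq_left.2 (commutator_eq_bot_iff'.1 h)]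
    · have hlt := nil_commutator_lt hL hN hA hAN hne
      exact ne_bot_of_le (ih _ hlt (hlt.le.trans hN) (normalizer_commutator_ge_right N A) h)
        (inf_le_inf_right _ hlt.le)

/-- `meet_center_nil` -/
theorem nil_meet_center [Finite G] (hH : Group.IsNilpotent H) (hN : N ⊴ H) (hne : N ≠ ⊥) :
    N ⊓ 𝐙(H) ≠ ⊥ := by
  rw [← inf_assoc, inf_eq_left.2 hN.le]
  exact nil_inf_cent_ne_bot hH hN.le le_rfl hN.norm hne

/-- `TI_center_nil` -/
theorem nil_eq_bot_of_inf_center [Finite G] (hH : Group.IsNilpotent H) (hN : N ⊴ H)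
    (h : N ⊓ 𝐙(H) = ⊥) : N = ⊥ := by
  by_contra hne
  exact nil_meet_center hH hN hne h

/-- `center_nil_eq1` -/
theorem nil_center_ne_bot [Finite G] (hH : Group.IsNilpotent H) (hne : H ≠ ⊥) : 𝐙(H) ≠ ⊥ :=
  nil_inf_cent_ne_bot hH le_rfl le_rfl (le_norm_self H) hne

/-- a `p`-group acting on a nontrivial `p`-group has nontrivial fixed points -/
theorem pgroup_inf_cent_ne_bot [Finite G] {p : ℕ} [Fact p.Prime] (hN : IsPGroup p N)
    (hA : IsPGroup p A) (hAN : A ≤ 𝐍(N)) (hne : N ≠ ⊥) : N ⊓ 𝐂(A) ≠ ⊥ :=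
  nil_inf_cent_ne_bot (nil_of_isPGroup (hN.to_sup_of_normal_left' hA hAN)) le_sup_left
    le_sup_right hAN hne

/-- a `p`-group acting on a nontrivial `p`-group `N`: `[N, A] < N` -/
theorem pgroup_commutator_lt [Finite G] {p : ℕ} [Fact p.Prime] (hN : IsPGroup p N)
    (hA : IsPGroup p A) (hAN : A ≤ 𝐍(N)) (hne : N ≠ ⊥) : ⁅N, A⁆ < N :=
  nil_commutator_lt (nil_of_isPGroup (hN.to_sup_of_normal_left' hA hAN)) le_sup_left
    le_sup_right hAN hne

/-- a normal subgroup of prime order of a nilpotent group is central -/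
theorem nil_le_center_of_card_prime [Finite G] (hH : Group.IsNilpotent H) (hN : N ⊴ H)
    (hp : (Nat.card N).Prime) : N ≤ 𝐙(H) := by
  rcases le_or_inf_eq_bot_of_prime hp 𝐙(H) with h | h
  · exact h
  · exact absurd h (nil_meet_center hH hN (ne_bot_of_card_prime hp))

/-- maximal subgroups of a nilpotent group are normal -/
theorem nil_normal_of_maximal (hH : Group.IsNilpotent H) (h : K < H)
    (hmax : ∀ L : Subgroup G, K < L → L ≤ H → L = H) : K ⊴ H :=
  ⟨h.le, by
    have := hmax _ (nil_lt_norm hH h) inf_le_left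
    exact inf_eq_left.1 this⟩

/-- a central extension of a nilpotent group is nilpotent -/
theorem nil_of_quot_of_le_cent (hN : N ⊓ H ≤ 𝐂(H)) (hHN : H ≤ 𝐍(N))
    (h : Group.IsNilpotent (quot N H)) : Group.IsNilpotent H := by
  refine Subgroup.isNilpotent_of_ker_le_center (quotHom hHN) ?_
  rw [ker_quotHom]
  intro x hx
  rw [mem_center_iff]
  intro y
  exact Subtype.ext (mem_cent.1 (hN ⟨hx, x.2⟩) y y.2)

/-- `quotient_center_nil` -/
theorem nil_of_quot_center (h : Group.IsNilpotent (quot 𝐙(H) H)) : Group.IsNilpotent H :=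
  nil_of_quot_of_le_cent (inf_le_left.trans inf_le_right) (NormalIn.center H).norm h

/-! ### Hall and Sylow subgroups of nilpotent groups -/

variable [Finite G]

theorem isPiHall_piCore_of_nil (π : Set ℕ) (Γ : Type*) [Group Γ] [Finite Γ] [Group.IsNilpotent Γ] :
    IsPiHall π (piCore π Γ) := by
  refine ⟨PiCore.isPiNum_card π, fun p hp hπ hd => ?_⟩
  have := Fact.mk hp
  obtain ⟨P⟩ : Nonempty (Sylow p Γ) := inferInstance
  have hP : (P : Subgroup Γ) ≤ piCore π Γ :=
    PiCore.le_piCore (Pi.isPiNum_card_of_isPGroup hp hπ P.isPGroup')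
  exact P.not_dvd_index (hd.trans (index_dvd_of_le hP))

/-- `nilpotent_pcore_Hall` -/
theorem nil_hall_core (hH : Group.IsNilpotent H) (π : Set ℕ) : Hall π (piCoreOf π H) H :=
  PiHall.isPiHallOf_map_subtype.2 (isPiHall_piCore_of_nil π H)

theorem nil_sylow_core (hH : Group.IsNilpotent H) (p : ℕ) : SylowOf p (piCoreOf {p} H) H :=
  nil_hall_core hH {p}

omit [Finite G] in
theorem nil_aux_core_normal (π : Set ℕ) (H : Subgroup G) : piCoreOf π H ⊴ H :=
  NormalIn.map_subtype _

/-- in a nilpotent group every `π`-subgroup lies in the `π`-core -/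
theorem nil_le_core (hH : Group.IsNilpotent H) (hX : X ≤ H) (hπ : PiGrp π X) :
    X ≤ piCoreOf π H :=
  PiHall.of_le_of_normal (nil_hall_core hH π) (nil_aux_core_normal π H).norm hX hπ

theorem nil_pgroup_le_core {p : ℕ} [hp : Fact p.Prime] (hH : Group.IsNilpotent H) (hX : X ≤ H)
    (h : IsPGroup p X) : X ≤ piCoreOf {p} H :=
  nil_le_core hH hX ((Pi.isPGroup_iff_isPiNum hp.out).1 h)

theorem nil_coprime_le_core {p : ℕ} [hp : Fact p.Prime] (hH : Group.IsNilpotent H) (hX : X ≤ H)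
    (h : (Nat.card X).Coprime p) : X ≤ piCoreOf {p}ᶜ H :=
  nil_le_core hH hX ((IsPiNum.compl_singleton_iff_coprime hp.out).2 h)

theorem nil_mem_core (hH : Group.IsNilpotent H) {x : G} (hx : x ∈ H) (hπ : PiElt π x) :
    x ∈ piCoreOf π H := by
  refine nil_le_core hH (zpowers_le.2 hx) ?_ (mem_zpowers x)
  rwa [PiGrp, Nat.card_zpowers]

/-- `nilpotent_Hall_pcore` -/
theorem nil_hall_eq_core (hH : Group.IsNilpotent H) (h : Hall π X H) : X = piCoreOf π H :=
  PiHall.of_eq_of_le h (nil_aux_core_normal π H).le (PiCore.isPiNum_card_map_subtype π H)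
    (nil_le_core hH h.1 h.2.1)

theorem nil_sylow_eq_core {p : ℕ} (hH : Group.IsNilpotent H) (h : SylowOf p P H) :
    P = piCoreOf {p} H := nil_hall_eq_core hH h

theorem nil_hall_char (hH : Group.IsNilpotent H) (h : Hall π X H) : CharIn X H := by
  rw [nil_hall_eq_core hH h]
  have := PiCore.characteristic (G := H) π
  exact CharIn.map_subtype _

theorem nil_hall_normal (hH : Group.IsNilpotent H) (h : Hall π X H) : X ⊴ H :=
  (nil_hall_char hH h).normalIn

theorem nil_hall_norm_le (hH : Group.IsNilpotent H) (h : Hall π X H) : 𝐍(H) ≤ 𝐍(X) :=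
  (nil_hall_char hH h).norm_le

theorem nil_sylow_normal {p : ℕ} (hH : Group.IsNilpotent H) (h : SylowOf p P H) : P ⊴ H :=
  nil_hall_normal hH h

theorem nil_sylow_norm_le {p : ℕ} (hH : Group.IsNilpotent H) (h : SylowOf p P H) : 𝐍(H) ≤ 𝐍(P) :=
  nil_hall_norm_le hH h

theorem nil_isHall_char (hH : Group.IsNilpotent H) (h : IsHall X H) : CharIn X H :=
  nil_hall_char hH (PiHall.isPiHallOf_of_coprime h.le h.coprime)

/-- a Hall `π`-subgroup of a nilpotent group contains every `π`-subgroup -/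
theorem nil_le_hall (hH : Group.IsNilpotent H) (h : Hall π X H) (hA : A ≤ H) (hπ : PiGrp π A) :
    A ≤ X := nil_hall_eq_core hH h ▸ nil_le_core hH hA hπ

theorem nil_pgroup_le_sylow {p : ℕ} [Fact p.Prime] (hH : Group.IsNilpotent H) (h : SylowOf p P H)
    (hA : A ≤ H) (hp : IsPGroup p A) : A ≤ P :=
  nil_sylow_eq_core hH h ▸ nil_pgroup_le_core hH hA hp

theorem core_inf_core_compl (π : Set ℕ) (H K : Subgroup G) :
    piCoreOf π H ⊓ piCoreOf πᶜ K = ⊥ :=
  (Pi.disjoint_of_isPiNum (PiCore.isPiNum_card_map_subtype π H)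
    (PiCore.isPiNum_card_map_subtype πᶜ K)).eq_bot

/-- `pcore π` and `pcore π'` commute in any group -/
theorem core_compl_le_cent_core (π : Set ℕ) (H : Subgroup G) :
    piCoreOf πᶜ H ≤ 𝐂(piCoreOf π H) :=
  cent_symm (le_cent_of_norm_of_disj
    ((nil_aux_core_normal π H).le.trans (nil_aux_core_normal πᶜ H).norm)
    ((nil_aux_core_normal πᶜ H).le.trans (nil_aux_core_normal π H).norm)
    (core_inf_core_compl π H H))

/-- a Hall `π`-subgroup and a Hall `π'`-subgroup generate the group -/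
theorem hall_sup_hall_compl {Y : Subgroup G} (hX : Hall π X H) (hY : Hall πᶜ Y H) : X ⊔ Y = H := by
  have h := (PiHall.isComplement' (PiHall.subgroupOf hX) (PiHall.subgroupOf hY)).sup_eq_top
  rw [← subgroupOf_sup hX.1 hY.1, subgroupOf_eq_top] at h
  exact le_antisymm (sup_le hX.1 hY.1) h

/-- `nilpotent_pcoreC` -/
theorem nil_core_dp (hH : Group.IsNilpotent H) (π : Set ℕ) :
    DP (piCoreOf π H) (piCoreOf πᶜ H) H :=
  ⟨hall_sup_hall_compl (nil_hall_core hH π) (nil_hall_core hH πᶜ), core_compl_le_cent_core π H,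
    core_inf_core_compl π H H⟩

/-- `sub_nilpotent_cent2` -/
theorem nil_cent_of_coprime (hH : Group.IsNilpotent H) (hA : A ≤ H) (hB : B ≤ H)
    (hcop : (Nat.card A).Coprime (Nat.card B)) : A ≤ 𝐂(B) := by
  have h1 : B ≤ piCoreOf {p | p ∣ Nat.card B} H := nil_le_core hH hB (IsPiNum.self_dvd _)
  have h2 : A ≤ piCoreOf {p | p ∣ Nat.card B}ᶜ H :=
    nil_le_core hH hA (IsPiNum.compl_dvd_iff_coprime.2 hcop)
  exact h2.trans ((core_compl_le_cent_core _ H).trans (cent_anti h1))

theorem nil_cent_of_pi (hH : Group.IsNilpotent H) (hA : A ≤ H) (hB : B ≤ H) (hπA : PiGrp π A)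
    (hπB : PiGrp πᶜ B) : A ≤ 𝐂(B) :=
  nil_cent_of_coprime hH hA hB (IsPiNum.coprime hπA hπB)

theorem nil_commute_of_coprime (hH : Group.IsNilpotent H) {x y : G} (hx : x ∈ H) (hy : y ∈ H)
    (hcop : (orderOf x).Coprime (orderOf y)) : x * y = y * x := by
  have := nil_cent_of_coprime hH (zpowers_le.2 hx) (zpowers_le.2 hy)
    (by rwa [Nat.card_zpowers, Nat.card_zpowers])
  exact (mem_cent.1 (this (mem_zpowers x)) y (mem_zpowers y)).symm

/-- the `π`-core of a subgroup of a nilpotent group -/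
theorem nil_core_of_le (hH : Group.IsNilpotent H) (hX : X ≤ H) (π : Set ℕ) :
    piCoreOf π X = X ⊓ piCoreOf π H := by
  apply le_antisymm
  · exact le_inf (nil_aux_core_normal π X).le (nil_le_core hH
      ((nil_aux_core_normal π X).le.trans hX) (PiCore.isPiNum_card_map_subtype π X))
  · exact nil_le_core (nilpotent_of_le hH hX) inf_le_left
      (Pi.isPiNum_card_of_le (PiCore.isPiNum_card_map_subtype π H) inf_le_right)

theorem nil_core_mono (hH : Group.IsNilpotent H) (hX : X ≤ H) (π : Set ℕ) :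
    piCoreOf π X ≤ piCoreOf π H := nil_core_of_le hH hX π ▸ inf_le_right

/-- a Hall subgroup of a nilpotent group meets every subgroup in a Hall subgroup -/
theorem nil_hall_inf (hH : Group.IsNilpotent H) (h : Hall π X H) (hK : K ≤ H) :
    Hall π (K ⊓ X) K := by
  rw [nil_hall_eq_core hH h, ← nil_core_of_le hH hK]
  exact nil_hall_core (nilpotent_of_le hH hK) π

omit [Finite G] in
/-- a group is generated by one Sylow subgroup for each prime -/
theorem le_of_forall_exists_sylow_le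
    (h : ∀ p : ℕ, p.Prime → p ∣ Nat.card H → ∃ P : Subgroup G, SylowOf p P H ∧ P ≤ L) : H ≤ L := by
  rw [← relIndex_eq_one]
  by_contra hne
  obtain ⟨p, hp, hd⟩ := Nat.exists_prime_and_dvd hne
  obtain ⟨P, hP, hPL⟩ := h p hp (hd.trans (relIndex_dvd_card L H))
  exact hP.2.2 p hp rfl (hd.trans (relIndex_dvd_of_le_left H hPL))

/-- a nilpotent group is generated by its `p`-cores -/
theorem nil_le_of_forall_core_le (hH : Group.IsNilpotent H)
    (h : ∀ p : ℕ, p.Prime → p ∣ Nat.card H → piCoreOf {p} H ≤ L) : H ≤ L :=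
  le_of_forall_exists_sylow_le fun p hp hd => ⟨_, nil_sylow_core hH p, h p hp hd⟩

/-- a group with a normal Sylow subgroup for every prime is nilpotent -/
theorem nil_of_forall_exists_normal_sylow
    (h : ∀ p : ℕ, p.Prime → p ∣ Nat.card H → ∃ P : Subgroup G, SylowOf p P H ∧ H ≤ 𝐍(P)) :
    Group.IsNilpotent H := by
  refine ((Group.isNilpotent_of_finite_tfae (G := H)).out 0 3).2 ?_
  intro p hp Q
  by_cases hd : p ∣ Nat.card H
  · obtain ⟨P, hP, hn⟩ := h p hp.out hd
    obtain ⟨R, hR⟩ := PiHall.exists_sylow_eq (PiHall.subgroupOf hP)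
    have hRn : (R : Subgroup H).Normal := hR ▸ (NormalIn.mk hP.1 hn).normal
    have := Sylow.unique_of_normal R hRn
    rwa [Subsingleton.elim Q R]
  · have : (Q : Subgroup H) = ⊥ := by
      by_contra hne
      obtain ⟨k, hk⟩ := Q.isPGroup'.exists_card_eq
      have h1 := one_lt_card_of_ne_bot hne
      rcases k with _ | k
      · simp [hk] at h1
      · exact hd ((Dvd.intro_left _ (pow_succ p k).symm).trans (hk ▸ card_subgroup_dvd_card _))
    rw [this]
    infer_instance

theorem nil_iff_forall_core_sylow :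
    Group.IsNilpotent H ↔ ∀ p : ℕ, p.Prime → SylowOf p (piCoreOf {p} H) H :=
  ⟨fun h p _ => nil_sylow_core h p, fun h => nil_of_forall_exists_normal_sylow fun p hp _ =>
    ⟨_, h p hp, (nil_aux_core_normal _ H).norm⟩⟩

/-- `pi_center_nilpotent` -/
theorem nil_prime_dvd_card_center (hH : Group.IsNilpotent H) {p : ℕ} (hp : p.Prime)
    (hd : p ∣ Nat.card H) : p ∣ Nat.card ↥𝐙(H) := by
  have hS := nil_sylow_core hH p
  have hne : piCoreOf {p} H ≠ ⊥ := by
    intro h
    rw [h] at hS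
    exact hS.2.2 p hp rfl (by rwa [relIndex_bot_left])
  obtain ⟨q, hq, hqd⟩ := exists_prime_dvd_card (nil_meet_center hH (nil_aux_core_normal _ H) hne)
  have : q = p := hS.2.1 q hq (hqd.trans (card_dvd_of_le inf_le_left))
  exact this ▸ hqd.trans (card_dvd_of_le inf_le_right)

theorem nil_primesOf_center (hH : Group.IsNilpotent H) : primesOf 𝐙(H) = primesOf H := by
  ext p
  exact ⟨fun h => ⟨h.1, h.2.trans (card_dvd_of_le inf_le_left)⟩,
    fun h => ⟨h.1, nil_prime_dvd_card_center hH h.1 h.2⟩⟩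

/-- `nil_Zgroup_cyclic` -/
theorem nil_isCyclic_of_isZGroup (hH : Group.IsNilpotent H) (hZ : IsZGroup H) : IsCyclic H :=
  inferInstance

/-- a nilpotent group with abelian Sylow subgroups is abelian -/
theorem nil_comm_of_forall_core_comm (hH : Group.IsNilpotent H)
    (h : ∀ p : ℕ, p.Prime → p ∣ Nat.card H → IsMulCommutative (piCoreOf {p} H)) :
    IsMulCommutative H := by
  rw [comm_iff_le_cent]
  refine nil_le_of_forall_core_le hH fun p hp hd => ?_
  conv_rhs => rw [← (nil_core_dp hH {p}).sup, cent_sup]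
  exact le_inf (le_cent_of_comm (h p hp hd)) (cent_symm (core_compl_le_cent_core _ H))

/-- a nilpotent group with cyclic Sylow subgroups is cyclic -/
theorem nil_isCyclic_of_forall_core_isCyclic (hH : Group.IsNilpotent H)
    (h : ∀ p : ℕ, p.Prime → p ∣ Nat.card H → IsCyclic (piCoreOf {p} H)) : IsCyclic H := by
  refine nil_isCyclic_of_isZGroup hH ⟨fun p hp Q => ?_⟩
  have := Fact.mk hp
  by_cases hd : p ∣ Nat.card H
  · have h1 : (Q : Subgroup H).map H.subtype ≤ piCoreOf {p} H :=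
      nil_pgroup_le_core hH (map_subtype_le _) (Q.isPGroup'.map _)
    exact (isCyclic_map_iff H.subtype_injective).1 (isCyclic_of_le (h p hp hd) h1)
  · obtain ⟨k, hk⟩ := Q.isPGroup'.exists_card_eq
    rcases k with _ | k
    · have : Subsingleton Q := (Nat.card_eq_one_iff_unique.1 (by simpa using hk)).1
      infer_instance
    · exact absurd ((Dvd.intro_left _ (pow_succ p k).symm).trans
        (hk ▸ card_subgroup_dvd_card (Q : Subgroup H))) hd

/-- Fitting's theorem: two nilpotent subgroups normalising each other generate a nilpotent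
subgroup -/
theorem nil_sup_of_norm (hA : Group.IsNilpotent A) (hB : Group.IsNilpotent B) (hAB : A ≤ 𝐍(B))
    (hBA : B ≤ 𝐍(A)) : Group.IsNilpotent ↥(A ⊔ B) := by
  refine nil_of_forall_exists_normal_sylow fun p hp _ => ?_
  have hSA := nil_sylow_core hA p
  have hSB := nil_sylow_core hB p
  have nA : A ⊔ B ≤ 𝐍(piCoreOf {p} A) :=
    (sup_le (le_norm_self A) hBA).trans (nil_sylow_norm_le hA hSA)
  have nB : A ⊔ B ≤ 𝐍(piCoreOf {p} B) :=
    (sup_le hAB (le_norm_self B)).trans (nil_sylow_norm_le hB hSB)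
  have hA' := nil_hall_core hA {p}ᶜ
  have hB' := nil_hall_core hB {p}ᶜ
  have nA' : A ⊔ B ≤ 𝐍(piCoreOf {p}ᶜ A) :=
    (sup_le (le_norm_self A) hBA).trans (nil_hall_norm_le hA hA')
  have nB' : A ⊔ B ≤ 𝐍(piCoreOf {p}ᶜ B) :=
    (sup_le hAB (le_norm_self B)).trans (nil_hall_norm_le hB hB')
  set S := piCoreOf {p} A ⊔ piCoreOf {p} B with hS
  set T := piCoreOf {p}ᶜ A ⊔ piCoreOf {p}ᶜ B with hT
  have hSle : S ≤ A ⊔ B := sup_le_sup hSA.1 hSB.1
  have hTle : T ≤ A ⊔ B := sup_le_sup hA'.1 hB'.1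
  have hSp : IsPiNum {p} (Nat.card S) :=
    Pi.isPiNum_card_sup ((hSA.1.trans le_sup_left).trans nB) hSA.2.1 hSB.2.1
  have hTp : IsPiNum {p}ᶜ (Nat.card T) :=
    Pi.isPiNum_card_sup ((hA'.1.trans le_sup_left).trans nB') hA'.2.1 hB'.2.1
  have hST : S ⊔ T = A ⊔ B := by
    rw [hS, hT, sup_sup_sup_comm, (nil_core_dp hA {p}).sup, (nil_core_dp hB {p}).sup]
  have nS : A ⊔ B ≤ 𝐍(S) := norms_sup nA nB
  refine ⟨S, PiHall.mkOf hSle hSp ?_, nS⟩
  rw [← hST, relIndex_sup_of_norm (hTle.trans nS)]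
  exact hTp.of_dvd (relIndex_dvd_card S T)

theorem nil_sup_of_normal (hA : Group.IsNilpotent A) (hB : Group.IsNilpotent B) (hAH : A ⊴ H)
    (hBH : B ⊴ H) : Group.IsNilpotent ↥(A ⊔ B) :=
  nil_sup_of_norm hA hB (hAH.le.trans hBH.norm) (hBH.le.trans hAH.norm)

/-- `cprod_nil` -/
theorem nil_sup_of_cent (hA : Group.IsNilpotent A) (hB : Group.IsNilpotent B) (h : B ≤ 𝐂(A)) :
    Group.IsNilpotent ↥(A ⊔ B) :=
  nil_sup_of_norm hA hB (le_norm_of_le_cent (cent_symm h)) (le_norm_of_le_cent h)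

theorem DP.nil (h : DP A B H) (hA : Group.IsNilpotent A) (hB : Group.IsNilpotent B) :
    Group.IsNilpotent H := h.sup ▸ nil_sup_of_cent hA hB h.cent

theorem CP.nil (h : CP A B H) (hA : Group.IsNilpotent A) (hB : Group.IsNilpotent B) :
    Group.IsNilpotent H := h.sup ▸ nil_sup_of_cent hA hB h.cent

end CL.BG
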