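import Cfsg.Agent.BG.T6_5
import Cfsg.Agent.BG.T1_21
import Cfsg.Agent.BG.Nil

set_option autoImplicit false
open Cfsg Subgroup

namespace CL.BG
variable {G : Type*} [Group G] [Finite G]

/-- BG 6.6(a1) (`plength1_Hall_prod`). -/
theorem t6_6a1 {p : ℕ} [Fact p.Prime] {S H : Subgroup G} (hS : SylowOf p S H)
    (h : PLengthLE p 1 H) : piCoreOf {p}ᶜ H ⊔ S = pPrimePCoreOf p H := core_sup_sylow_of_pLen1 hS h

/-- BG 6.6(a2) (`plength1_Frattini`). -/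
theorem t6_6a2 {p : ℕ} [Fact p.Prime] {S H : Subgroup G} (hS : SylowOf p S H)
    (h : PLengthLE p 1 H) : piCoreOf {p}ᶜ H ⊔ (H ⊓ 𝐍(S)) = H := by
  have h1 := SylowOf.frattini
    (hS.hall.restrict ((pLen1_iff_sylow_le hS).1 h) (pPrimePCoreOf_le p H))
    (pPrimePCoreOf_normalIn p H)
  rwa [← t6_6a1 hS h, sup_assoc, sup_eq_right.2 (le_inf hS.hall.le (le_norm_self S))] at h1

/-- BG 6.6(b) (`plength1_Sylow_sub_der1`). -/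
theorem t6_6b {p : ℕ} [Fact p.Prime] {S H : Subgroup G} (hS : SylowOf p S H)
    (h : PLengthLE p 1 H) (hS' : S ≤ ⁅H, H⁆) : S ≤ ⁅H ⊓ 𝐍(S), H ⊓ 𝐍(S)⁆ := by
  have h1 := t6_5a (t6_6a2 hS h) (le_norm_piCoreOf _ H) (le_inf hS.hall.le (le_norm_self S))
    ((piGrp_piCoreOf _ H).coprime' hS.hall.pi)
  rw [inf_eq_left.2 hS'] at h1
  exact h1.le.trans inf_le_right

/-- BG 6.6(c) (`plength1_Sylow_trans`). -/
theorem t6_6c {p : ℕ} [Fact p.Prime] {S H : Subgroup G} (hS : SylowOf p S H)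
    (h : PLengthLE p 1 H) {Y : Set G} (hY : Y ⊆ S) {g : G}
    (hg : g ∈ H) (hYg : ∀ y ∈ Y, g * y * g⁻¹ ∈ S) :
    ∃ u ∈ H ⊓ 𝐍(S), ∃ c ∈ H ⊓ centralizer Y, g = u * c := by
  have hYS : closure Y ≤ S := (closure_le _).2 hY
  have hSU : S ≤ H ⊓ 𝐍(S) := le_inf hS.hall.le (le_norm_self S)
  obtain ⟨u, hu, c, hc, he⟩ := t6_5c (t6_6a2 hS h) (le_norm_piCoreOf _ H) (hYS.trans hSU)
    ((piGrp_piCoreOf _ H).coprime' (hS.hall.pi.of_le hYS))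
    (Or.inr (solvable_of_isPGroup (hS.isPGroup.to_le hYS))) hg (le_trans (by
      rw [cj_closure]
      refine (closure_le _).2 ?_
      rintro _ ⟨y, hy, rfl⟩
      exact hYg y hy) hSU)
  exact ⟨u, hu, c, ⟨piCoreOf_le _ _ hc.1, centralizer_le Subgroup.subset_closure hc.2⟩, he⟩

/-- BG 6.6(d) (`plength1_Sylow_Jsub`). -/
theorem t6_6d {p : ℕ} [Fact p.Prime] {S H Q : Subgroup G} (hS : SylowOf p S H)
    (h : PLengthLE p 1 H) (hQH : Q ≤ H) (hQ : IsPGroup p Q) :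
    ∃ x ∈ H ⊓ 𝐂(Q ⊓ S), cj x Q ≤ S := by
  obtain ⟨g, hg, h1⟩ := sylow_conj_le hS hQ hQH
  obtain ⟨u, hu, c, hc, rfl⟩ := t6_6c hS h (Y := (Q ⊓ S : Subgroup G)) (fun _ hy => hy.2) hg
    fun y hy => cj_le_iff.1 h1 y hy.1
  refine ⟨c, hc, ?_⟩
  rwa [cj_mul, cj_le_iff_le_cj_inv, cj_eq_of_mem_norm ((𝐍(S)).inv_mem hu.2)] at h1

end CL.BG
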