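import Cfsg.Agent.BG.Sigma
import Cfsg.Agent.BG.T9_6
import Cfsg.Agent.BG.T4_18
import Cfsg.Agent.BG.T1_21
import Cfsg.Agent.BG.T6_6

/-! BG Theorem 10.1 -/

namespace CL.BG

open Cfsg

variable {G : Type*} [Group G] [Finite G]

/-- BG 10.1(b): `C(X)` is transitive on the conjugates of `M` that contain `X`. -/
theorem t10_1b (hG : IsMinSimpleOddOrder G) {M : Subgroup G} (hM : IsCoatom M) {p : ℕ}
    [Fact p.Prime] (hp : p ∈ sigma M) {X : Subgroup G} (hX : IsPGroup p X) {g₁ g₂ : G}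
    (h₁ : X ≤ cj g₁ M) (h₂ : X ≤ cj g₂ M) : ∃ c ∈ 𝐂(X), cj g₂ M = cj c (cj g₁ M) := by
  have pp : p.Prime := Fact.out
  induction X using subgroup_induction_gt generalizing g₁ g₂ with
  | ih X ih =>
  by_cases hX1 : X = ⊥
  · refine ⟨g₂ * g₁⁻¹, by rw [hX1, cent_bot]; trivial, ?_⟩
    rw [cj_cj, inv_mul_cancel_right]
  -- either `X` is a Sylow subgroup of the conjugate, or it grows in its normaliser
  have grow : ∀ g : G, X ≤ cj g M → SylowOf p X (cj g M) ∨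
      ∃ Y, X < Y ∧ IsPGroup p Y ∧ Y ≤ cj g M ∧ Y ≤ 𝐍(X) := by
    intro g hg
    obtain ⟨S, hS, hXS⟩ := sylow_superset hX hg
    rcases hXS.eq_or_lt with e | hlt
    · exact Or.inl (e ▸ hS)
    · exact Or.inr ⟨S ⊓ 𝐍(X), lt_inf_norm_of_isPGroup hS.isPGroup hlt,
        hS.isPGroup.to_inf_left, inf_le_left.trans hS.le, inf_le_right⟩
  have syl : ∀ g g' : G, SylowOf p X (cj g M) → X ≤ cj g' M → cj g' M = cj g M := by
    intro g g' hS h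
    have e : cj g' M = cj (g' * g⁻¹) (cj g M) := by rw [cj_cj, inv_mul_cancel_right]
    rw [e] at h ⊢
    exact cj_eq_of_mem (t10_1d' (by rwa [sigma_cj]) hS h)
  rcases grow g₁ h₁ with hS | ⟨X₁, hlt₁, hp₁, hM₁, hN₁⟩
  · exact ⟨1, one_mem _, by rw [cj_one, syl g₁ g₂ hS h₂]⟩
  rcases grow g₂ h₂ with hS | ⟨X₂, hlt₂, hp₂, hM₂, hN₂⟩
  · exact ⟨1, one_mem _, by rw [cj_one, syl g₂ g₁ hS h₁]⟩
  have hL : 𝐍(X) ≠ ⊤ := mFT_norm_pgroup_ne_top hG hX hX1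
  obtain ⟨P, hP, hX₁P⟩ := sylow_superset hp₁ hN₁
  obtain ⟨t, ht, hX₂P⟩ := sylow_le_conj hP hp₂ hN₂
  obtain ⟨S, hS⟩ := sylow_exists p M
  obtain ⟨g, -, hPg⟩ := sylow_le_conj (sigma_sylow_top hp hS) hP.isPGroup le_top
  replace hPg : P ≤ cj g M := hPg.trans (cj_mono g hS.le)
  have hXP : X < P := hlt₁.trans_le hX₁P
  obtain ⟨c₁, hc₁, e₁⟩ := ih X₁ hlt₁ hp₁ hM₁ (hX₁P.trans hPg)
  obtain ⟨c₂, hc₂, e₂⟩ := ih X₂ hlt₂ hp₂ (g₁ := t * g) (g₂ := g₂)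
    (by rw [cj_mul]; exact hX₂P.trans (cj_mono t hPg)) hM₂
  have key : ∃ c ∈ 𝐂(X), cj (t * g) M = cj c (cj g M) := by
    by_cases hr : 3 ≤ rank P
    · have hU := inU_uniqMax (t9_6a hG (mFT_pgroup_ne_top hG hP.isPGroup) hr) (mmax_cj g hM) hPg
      refine ⟨1, one_mem _, ?_⟩
      rw [cj_one, cj_mul, cj_eq_of_mem (hU.le_of_le hP.le hL ht)]
    · have hr2 : pRank p 𝐍(X) ≤ 2 := by
        have := pRank_le_rank pp P
        rw [← hP.pRank_eq Fact.out]; omega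
      have hpl : PLengthLE p 1 ↥𝐍(X) :=
        pLen1_iff_not_dvd.2 ((piNat_compl_singleton_iff pp).1
          (t4_18e (mFT_sol hG hL) (mFT_odd hG _) hr2).2)
      have hO := piCoreOf_normalIn {p}ᶜ 𝐍(X)
      rw [← t6_6a2 hP hpl, mem_sup_iff_of_norm (inf_le_left.trans hO.norm)] at ht
      obtain ⟨k, hk, u, hu, rfl⟩ := ht
      have hkC : k ∈ 𝐂(X) :=
        cent_symm (PiGrp.le_cent ((piGrp_singleton_iff pp).2 hX) (piGrp_piCoreOf _ _)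
          ((le_norm_self X).trans hO.norm) hO.le) hk
      obtain ⟨c, hc, e⟩ := ih P hXP hP.isPGroup (g₁ := g) (g₂ := u * g) hPg
        (by rw [cj_mul, ← cj_eq_of_mem_norm hu.2]; exact cj_mono u hPg)
      refine ⟨k * c, mul_mem hkC (cent_anti hXP.le hc), ?_⟩
      rw [mul_assoc, cj_mul, e, cj_mul]
  obtain ⟨c, hc, e⟩ := key
  refine ⟨c₂ * c * c₁, mul_mem (mul_mem (cent_anti hlt₂.le hc₂) hc) (cent_anti hlt₁.le hc₁), ?_⟩
  rw [e₂, e, e₁, cj_mul, cj_mul]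

/-- BG 10.1(a) -/
theorem t10_1a (hG : IsMinSimpleOddOrder G) {M : Subgroup G} (hM : IsCoatom M) {p : ℕ}
    [Fact p.Prime] (hp : p ∈ sigma M) {X : Subgroup G} (hX : IsPGroup p X) (hXM : X ≤ M) {g : G}
    (hg : cj g X ≤ M) : ∃ m ∈ M, ∃ c ∈ 𝐂(X), g = m * c := by
  obtain ⟨c, hc, e⟩ := t10_1b hG hM hp hX (g₁ := g⁻¹) (g₂ := 1) (cj_le_iff_le_cj_inv.1 hg)
    (by rwa [cj_one])
  rw [cj_one, cj_cj, eq_comm, mmax_cj_eq_iff hG hM] at e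
  exact ⟨(c * g⁻¹)⁻¹, inv_mem e, c, hc, by group⟩

/-- BG 10.1(c), elementwise form -/
theorem t10_1c' (hG : IsMinSimpleOddOrder G) {M : Subgroup G} (hM : IsCoatom M) {p : ℕ}
    [Fact p.Prime] (hp : p ∈ sigma M) {X : Subgroup G} (hX : IsPGroup p X) (hXM : X ≤ M) {g : G}
    (hg : g ∈ 𝐍(X)) : ∃ m ∈ M ⊓ 𝐍(X), ∃ c ∈ 𝐂(X), g = m * c := by
  obtain ⟨m, hm, c, hc, rfl⟩ := t10_1a hG hM hp hX hXM ((cj_eq_of_mem_norm hg).le.trans hXM)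
  exact ⟨m, ⟨hm, (Subgroup.mul_mem_cancel_right _ (cent_le_norm X hc)).1 hg⟩, c, hc, rfl⟩

/-- BG 10.1(c) -/
theorem t10_1c (hG : IsMinSimpleOddOrder G) {M : Subgroup G} (hM : IsCoatom M) {p : ℕ}
    [Fact p.Prime] (hp : p ∈ sigma M) {X : Subgroup G} (hX : IsPGroup p X) (hXM : X ≤ M) :
    (M ⊓ 𝐍(X)) ⊔ 𝐂(X) = 𝐍(X) := by
  refine le_antisymm (sup_le inf_le_right (cent_le_norm X)) fun g hg => ?_
  obtain ⟨m, hm, c, hc, rfl⟩ := t10_1c' hG hM hp hX hXM hg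
  exact Subgroup.mul_mem_sup hm hc

/-- BG 10.1(e).  (Part (d) is `CL.BG.t10_1d` in `BG/Sigma`.) -/
theorem t10_1e (hG : IsMinSimpleOddOrder G) {M : Subgroup G} (hM : IsCoatom M) {p : ℕ}
    [Fact p.Prime] (hp : p ∈ sigma M) {X : Subgroup G} (hX : IsPGroup p X) (hXM : X ≤ M)
    (hC : 𝐂(X) ≤ M) {g : G} (hg : cj g X ≤ M) : g ∈ M := by
  obtain ⟨m, hm, c, hc, rfl⟩ := t10_1a hG hM hp hX hXM hg
  exact mul_mem hm (hC hc)

end CL.BG
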