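import Cfsg.Agent.BG.Prod

set_option autoImplicit false
open Cfsg Subgroup

namespace CL.BG
variable {G : Type*} [Group G] [Finite G]

/-- BG 1.17, the focal subgroup theorem (`focal_subgroup_gen`). -/
theorem t1_17 {p : ℕ} [Fact p.Prime] {S H : Subgroup G} (hS : SylowOf p S H) :
    S ⊓ ⁅H, H⁆ = closure {y | ∃ x ∈ S, ∃ u ∈ H, u * x * u⁻¹ ∈ S ∧ y = u * x * u⁻¹ * x⁻¹} := by
  obtain ⟨P, rfl⟩ := sylowOf_iff_exists.1 hS
  have h1 := congrArg (Subgroup.map H.subtype) (commutator_inf_eq_focalSubgroup P)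
  rw [map_inf _ _ _ H.subtype_injective, map_subtype_commutator, inf_comm] at h1
  rw [h1, focalSubgroup_def, MonoidHom.map_closure]
  refine le_antisymm ((closure_le _).2 ?_) ((closure_le _).2 ?_)
  · rintro _ ⟨_, ⟨hg, x, hx, u, rfl⟩, rfl⟩
    have h2 : u * x * u⁻¹ ∈ (P : Subgroup H) := by
      have h3 := (P : Subgroup H).mul_mem ((P : Subgroup H).inv_mem hg) hx
      simpa [commutatorElement_def, mul_assoc] using h3
    refine (inv_mem_iff (x := H.subtype _)).1 (subset_closure ⟨x, ⟨x, hx, rfl⟩, u, u.2,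
      ⟨u * x * u⁻¹, h2, rfl⟩, ?_⟩)
    simp [commutatorElement_def, mul_assoc]
  · rintro _ ⟨_, ⟨x, hx, rfl⟩, u, hu, ⟨y, hy, he⟩, rfl⟩
    have h2 : (⟨u, hu⟩ : H) * x * (⟨u, hu⟩ : H)⁻¹ = y := Subtype.ext he.symm
    refine (inv_mem_iff (x := u * H.subtype x * u⁻¹ * (H.subtype x)⁻¹)).1
      (subset_closure ⟨x * y⁻¹, ⟨(P : Subgroup H).mul_mem hx ((P : Subgroup H).inv_mem hy), x, hx,
        ⟨u, hu⟩, ?_⟩, ?_⟩)
    · rw [← h2]; simp [commutatorElement_def, mul_assoc]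
    · rw [← h2]; simp [mul_assoc]

end CL.BG
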