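import Cfsg.Agent.BG.T1_9
import Cfsg.Agent.BG.Fit

set_option autoImplicit false
open Cfsg Subgroup

namespace CL.BG
variable {G : Type*} [Group G] [Finite G]

/-- BG 1.2, first inclusion (`Fitting_stab_chief`): `F(K)` centralises all chief factors. -/
theorem t1_2a {H K V U : Subgroup G} (hsol : Group.IsSolvable H) (hK : K ⊴ H)
    (h : ChiefFactor H V U) : ⁅U, fittingOf K⁆ ≤ V := h.commutator_le_of_nil (solvable_of_le hsol h.normalU.le) (fit_normal_trans hK) (fit_nil K)

/-- BG 1.2, second inclusion (`chief_stab_sub_Fitting`). -/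
theorem t1_2b {H K X : Subgroup G} (hsol : Group.IsSolvable H) (hK : K ⊴ H) (hX : X ≤ K)
    (h : ∀ V U : Subgroup G, ChiefFactor H V U → U ≤ fittingOf K → ⁅U, X⁆ ≤ V) :
    X ≤ fittingOf K := by
  set F := fittingOf K with hF
  have hFH : F ⊴ H := fit_normal_trans hK
  -- the stabiliser of all chief factors below `F`
  set D : Subgroup G := K ⊓ ⨅ (VU : {VU : Subgroup G × Subgroup G //
    ChiefFactor H VU.1 VU.2 ∧ VU.2 ≤ F}), coquot VU.1.1 𝐂(quot VU.1.1 VU.1.2) with hD
  have hDiff : ∀ Y : Subgroup G, Y ≤ K → (Y ≤ D ↔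
      ∀ V U : Subgroup G, ChiefFactor H V U → U ≤ F → ⁅U, Y⁆ ≤ V) := by
    intro Y hY
    have hYH := hY.trans hK.le
    rw [hD, le_inf_iff, le_iInf_iff, and_iff_right hY]
    constructor
    · intro h1 V U hc hU
      have h2 := h1 ⟨(V, U), hc, hU⟩
      rw [← quot_le_iff (hYH.trans hc.normV),
        quot_le_centralizer_iff (hYH.trans hc.normV) hc.norm_U_V, commutator_comm] at h2
      exact h2
    · rintro h1 ⟨⟨V, U⟩, hc, hU⟩
      rw [← quot_le_iff (hYH.trans hc.normV),
        quot_le_centralizer_iff (hYH.trans hc.normV) hc.norm_U_V, commutator_comm]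
      exact h1 V U hc hU
  have hDH : D ⊴ H := by
    refine ⟨inf_le_left.trans hK.le, norms_inf hK.norm (norms_iInf ?_)⟩
    rintro ⟨⟨V, U⟩, hc, hU⟩
    exact le_normalizer_coquot hc.normV (norms_cent (quot_normalizer V hc.normalU.norm))
  have hFD : F ≤ D := (hDiff F (fit_le K)).2 fun V U hc _ => t1_2a hsol hK hc
  refine ((hDiff X hX).2 h).trans ?_
  by_contra hn
  obtain ⟨W, hW, hWD⟩ := exists_chiefFactor_bot' (lt_of_le_not_ge hFD hn) hDH hFH.norm
  obtain ⟨p, hp, he⟩ := hW.exists_elem (solvable_of_le hsol hW.normalU.le)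
  have := Fact.mk hp
  obtain ⟨P, hP⟩ := sylow_exists p W
  have hWK : W ≤ K := hWD.trans inf_le_left
  have hPD : P ≤ D := hP.hall.le.trans hWD
  set R := piCoreOf {p}ᶜ F with hR
  have hRH : R ⊴ H := hFH.piCoreOf_trans _
  have hPR : P ≤ 𝐂(R) := by
    refine chief_induction_up (Q := fun W => P ≤ 𝐂(W)) bot_le hRH (by rw [norm_bot]; exact le_top)
      (by rw [cent_bot]; exact le_top) fun W₁ W₂ _ h2 hc h3 => ?_
    refine t1_9 hc.le h3
      ((hDiff P (hP.hall.le.trans hWK)).1 hPD W₁ W₂ hc (h2.trans (piCoreOf_le _ _))) ?_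
    exact (coprime_card_of_isPGroup hp hP.isPGroup ((piGrp_piCoreOf _ F).of_le h2)).symm
  have hsup : P ⊔ F = W := hP.hall.sup_eq_of_idx hW.le
    ((isPGroup_quot_iff hW.norm_U_V).1 (CL.isPGroup_of_isElementaryAbelian he))
  have hOp : piCoreOf {p} F ≤ P :=
    hP.normal_le' (isPGroup_piCoreOf hp F)
      ((hFH.piCoreOf_trans _).of_le ((piCoreOf_le _ _).trans hW.le) hW.normalU.le)
  have hW2 : R ⊔ P = W := by
    refine le_antisymm (sup_le ((piCoreOf_le _ _).trans hW.le) hP.hall.le) ?_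
    rw [← hsup]
    refine sup_le le_sup_right ?_
    exact (nil_core_dp (fit_nil K) {p}).sup.ge.trans (sup_le (hOp.trans le_sup_right) le_sup_left)
  have hnil : Group.IsNilpotent W := by
    rw [← hW2]
    exact nil_sup_of_cent (nil_of_le_fit (piCoreOf_le _ _)) (nil_of_isPGroup hP.isPGroup) hPR
  exact hW.lt.not_ge (le_fit (hW.normalU.of_le hWK hK.le) hnil)

end CL.BG
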