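import Cfsg.Agent.BG.T4_17

set_option autoImplicit false

namespace CL.BG

open Cfsg Subgroup

variable {G : Type*} [Group G] [Finite G]

omit [Finite G] in
theorem der_sup_le {K H : Subgroup G} (h : H ≤ 𝐍(K)) : ⁅K ⊔ H, K ⊔ H⁆ ≤ K ⊔ ⁅H, H⁆ := by
  have h1 : K ⊔ H ≤ 𝐍(K) := sup_le (le_norm_self K) h
  rw [sup_comm K ⁅H, H⁆, ← quot_le_quot_iff ((NormalIn.der _).le.trans h1)
    ((NormalIn.der _).le.trans h), quot_commutator h1 h1, quot_commutator h h, quot_self_sup h]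

/-- BG 4.19. -/
theorem t4_19 {p : ℕ} [Fact p.Prime] {H Hs U V : Subgroup G} (hsol : Group.IsSolvable H)
    (hodd : Odd (Nat.card H)) (hHs : Hs ⊴ H) (hr : pRank p Hs ≤ 2) (hUV : ChiefFactor H V U)
    (hp : PiNat {p} (V.relIndex U)) (hU : U ≤ Hs) : ⁅⁅H, H⁆, U⁆ ≤ V := by
  have hp' : p.Prime := Fact.out
  have hHV := hUV.normV
  have hUH := hUV.normalU.le
  have hmin := hUV.minNormal
  have hUp : IsPGroup p (quot V U) := (isPGroup_quot_iff hUV.norm_U_V).2 hp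
  have hUe := hmin.elem_of_isPGroup hUp
  obtain ⟨P, hP⟩ := sylow_exists p U
  have hPU : quot V P = quot V U :=
    ((hP.quot hUV.norm_U_V).eq_of_le' hUp (quot_mono V hP.le) le_rfl).symm
  have hN := hP.frattini hUV.normalU
  set N := H ⊓ 𝐍(P) with hNdef
  have hNH : N ≤ H := inf_le_left
  have hDH : ⁅N, N⁆ ≤ H := (NormalIn.der N).le.trans hNH
  have h1 := t4_17 hP.isPGroup (odd_card_of_le hodd (hP.le.trans hUH))
    ((pRank_mono hp' (hP.le.trans hU)).trans hr) (inf_le_right : N ≤ 𝐍(P))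
    (solvable_of_le hsol hNH) (odd_card_of_le hodd hNH)
  obtain ⟨S, hS⟩ := sylow_exists p ⁅N, N⁆
  have h2 : S ⊔ 𝐂(P) ⊓ ⁅N, N⁆ = ⁅N, N⁆ :=
    Hall.sup_eq_of_idx hS inf_le_right (by rwa [inf_relIndex_right])
  have h3 := pgroup_inf_cent_ne_bot hUp (quot_isPGroup V hS.isPGroup)
    ((quot_mono V (hS.le.trans hDH)).trans hmin.norm) hmin.ne_bot
  have h4 : ⁅quot V H, quot V H⁆ ≤ 𝐂(quot V U ⊓ 𝐂(quot V S)) := by
    rw [← quot_commutator hHV hHV, ← hN]
    refine (quot_mono V (der_sup_le (hNH.trans hUV.normalU.norm))).trans ?_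
    rw [quot_sup hUV.norm_U_V (hDH.trans hHV), ← h2, quot_sup (hS.le.trans (hDH.trans hHV))
      (inf_le_right.trans (hDH.trans hHV))]
    refine sup_le ((EA.le_centralizer hUe).trans (cent_anti inf_le_left))
      (sup_le (cent_symm inf_le_right) ?_)
    refine (quot_centralizer V (inf_le_left : 𝐂(P) ⊓ ⁅N, N⁆ ≤ 𝐂(P))).trans ?_
    rw [hPU]
    exact cent_anti inf_le_left
  have h5 := hmin.le_of_inf_ne_bot (norms_cent (NormalIn.der (quot V H)).norm)
    (ne_bot_of_le h3 (le_inf inf_le_left (cent_symm h4)))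
  rw [← quot_le_centralizer_iff ((NormalIn.der H).le.trans hHV) hUV.norm_U_V,
    quot_commutator hHV hHV]
  exact cent_symm h5

end CL.BG
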