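import Cfsg.Agent.BG.T4_18
import Cfsg.Agent.BG.T4_19
import Cfsg.Agent.BG.T1_2

set_option autoImplicit false

namespace CL.BG

open Cfsg Subgroup

variable {G : Type*} [Group G] [Finite G]

/-- BG 4.20(b) for any group with nilpotent derived subgroup. -/
theorem normalIn_of_der_le_fit {H : Subgroup G} (hD : ⁅H, H⁆ ≤ fittingOf H) {q : ℕ}
    [Fact q.Prime] {S T : Subgroup G} (hS : SylowOf q S H) (hT : CharIn T S)
    (hTS : T ≤ ⁅S, S⁆) : T ⊴ H := by
  have hK : fittingOf H ⊔ S ⊴ H :=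
    NormalIn.of_der_le (hD.trans le_sup_left) (sup_le (fit_le H) hS.le)
  have h1 := SylowOf.frattini (hS.restrict le_sup_right hK.le) hK
  have hTF : T ≤ piCoreOf {q} (fittingOf H) := nil_pgroup_le_core (fit_nil H)
    (hTS.trans ((commutator_mono hS.le hS.le).trans hD)) (hS.isPGroup.to_le hT.le)
  refine ⟨hT.le.trans hS.le, ?_⟩
  rw [← h1, ← (nil_core_dp (fit_nil H) {q}).sup]
  refine sup_le (sup_le (sup_le ?_ ?_) hT.normalIn.norm) (inf_le_right.trans hT.norm_le)
  · rw [pcore_fit]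
    exact (Hall.piCoreOf_le hS).trans hT.normalIn.norm
  · exact le_norm_of_le_cent ((core_compl_le_cent_core _ _).trans (cent_anti hTF))

/-- BG 4.20(a). -/
theorem t4_20a {H : Subgroup G} (hsol : Group.IsSolvable H) (hodd : Odd (Nat.card H))
    (hr : rank (fittingOf H) ≤ 2) : ⁅H, H⁆ ≤ fittingOf H := by
  refine (t1_2b hsol (NormalIn.refl H) (NormalIn.der H).le fun V U hUV hU => ?_)
  obtain ⟨p, hp, he⟩ := hUV.exists_elem (solvable_of_le hsol hUV.normalU.le)
  have : Fact p.Prime := ⟨hp⟩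
  rw [Subgroup.commutator_comm]
  exact t4_19 hsol hodd (fit_normal H) ((pRank_le_rank hp _).trans hr) hUV
    ((isPGroup_quot_iff hUV.norm_U_V).1 (EA.isPGroup he)) hU

/-- BG 4.20(b). -/
theorem t4_20b {H : Subgroup G} (hsol : Group.IsSolvable H) (hodd : Odd (Nat.card H))
    (hr : rank (fittingOf H) ≤ 2) {q : ℕ} [Fact q.Prime] {S T : Subgroup G}
    (hS : SylowOf q S H) (hT : CharIn T S) (hTS : T ≤ ⁅S, S⁆) : T ⊴ H := by
  exact normalIn_of_der_le_fit (t4_20a hsol hodd hr) hS hT hTS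

/-- BG 4.20(c), last factor: a normal `p`-complement for the least prime. -/
theorem t4_20c_min {H : Subgroup G} (hsol : Group.IsSolvable H) (hodd : Odd (Nat.card H))
    (hr : rank (fittingOf H) ≤ 2) {p : ℕ}
    (hmin : ∀ q : ℕ, q.Prime → q ∣ Nat.card H → p ≤ q) :
    Hall {p}ᶜ (piCoreOf {p}ᶜ H) H := by
  by_cases hp : p.Prime
  swap
  · have h : PiGrp {p}ᶜ H := fun q hq _ hqp => hp (Set.mem_singleton_iff.1 hqp ▸ hq)
    rw [piCoreOf_eq_self h]
    exact Hall.self h
  have : Fact p.Prime := ⟨hp⟩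
  have hF := fit_normal H
  have h1 := nil_hall_core
    (nil_of_comm ((quot_isMulCommutative_iff hF.norm).2 (t4_20a hsol hodd hr))) {p}ᶜ
  have hK := coquot_piCoreOf_normalIn {p}ᶜ hF
  have h2 := h1.idx
  rw [← relIndex_coquot, hF.coquot_quot] at h2
  have h3 := piNat_relIndex_coquot_piCoreOf {p}ᶜ (fittingOf H) H
  have h4 := pRank_eq_of_not_dvd_relIndex hp (le_coquot _ _)
    ((piNat_compl_singleton_iff hp).1 h3)
  have h5 := t4_18b (solvable_of_le hsol hK.le) (odd_card_of_le hodd hK.le)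
    (h4 ▸ (pRank_le_rank hp _).trans hr)
    (Or.inr fun q hq hd => hmin q hq (hd.trans (card_dvd_of_le hK.le)))
  exact (h5.trans_idx hK.le h2).hall_piCoreOf (hK.piCoreOf_trans _).norm

/-- BG 4.20(c), intermediate factors of the Sylow tower. -/
theorem t4_20c {H : Subgroup G} (hsol : Group.IsSolvable H) (hodd : Odd (Nat.card H))
    (hr : rank (fittingOf H) ≤ 2) (m : ℕ) :
    Hall {q | m ≤ q} (piCoreOf {q | m ≤ q} H) H := by
  induction m with
  | zero =>
    have h : PiGrp {q | 0 ≤ q} H := fun q _ _ => Nat.zero_le q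
    rw [piCoreOf_eq_self h]
    exact Hall.self h
  | succ m ih =>
    have hK := piCoreOf_normalIn {q | m ≤ q} H
    have h1 := t4_20c_min (solvable_of_le hsol hK.le) (odd_card_of_le hodd hK.le)
      ((rank_mono (fit_le_of_normal hK)).trans hr) (p := m) ih.pi
    have h2 := h1.trans_inter ih
    have e : ({q | m ≤ q} ∩ {m}ᶜ : Set ℕ) = {q | m + 1 ≤ q} := by
      ext q
      simp only [Set.mem_inter_iff, Set.mem_setOf_eq, Set.mem_compl_iff, Set.mem_singleton_iff]
      omega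
    rw [e] at h2
    exact h2.hall_piCoreOf (hK.piCoreOf_trans _).norm

/-- BG 4.20(c), first factor: the Sylow subgroup for the largest prime is normal. -/
theorem t4_20c_max {H : Subgroup G} (hsol : Group.IsSolvable H) (hodd : Odd (Nat.card H))
    (hr : rank (fittingOf H) ≤ 2) {p : ℕ}
    (hmax : ∀ q : ℕ, q.Prime → q ∣ Nat.card H → q ≤ p) :
    SylowOf p (piCoreOf {p} H) H := by
  have e : ∀ q : ℕ, q.Prime → q ∣ Nat.card H → (q ∈ {q | p ≤ q} ↔ q ∈ ({p} : Set ℕ)) := by
    intro q hq hd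
    have := hmax q hq hd
    simp only [Set.mem_setOf_eq, Set.mem_singleton_iff]
    omega
  have h := (t4_20c hsol hodd hr p).congr e
  rwa [piCoreOf_congr e] at h

end CL.BG
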