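import Cfsg.Agent.BG.T10_0
import Cfsg.Agent.BG.T10_1
import Cfsg.Agent.BG.T1_17
import Cfsg.Agent.BG.T4_20
import Cfsg.Agent.BG.Fit
import Cfsg.Agent.BG.QuotPi

/-! BG Theorem 10.2 (the quotient forms of part (d) are in `T10_2q`) -/

namespace CL.BG

open Cfsg
open scoped commutatorElement

variable {G : Type*} [Group G] [Finite G]

omit [Finite G] in
theorem mFT_der_top (hG : IsMinSimpleOddOrder G) : ⁅(⊤ : Subgroup G), (⊤ : Subgroup G)⁆ = ⊤ :=
  mFT_commutator hG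

/-- for `p ∈ σ(M)` the Sylow `p`-subgroups of `M` lie in `M'` -/
theorem sigma_sylow_le_der (hG : IsMinSimpleOddOrder G) {M : Subgroup G} (hM : IsCoatom M)
    {p : ℕ} [Fact p.Prime] (hp : p ∈ sigma M) {P : Subgroup G} (hP : SylowOf p P M) :
    P ≤ ⁅M, M⁆ := by
  have h := t1_17 (sigma_sylow_top hp hP)
  rw [mFT_der_top hG, inf_top_eq] at h
  rw [h, Subgroup.closure_le]
  rintro _ ⟨x, hx, u, -, hu, rfl⟩
  have hX : Subgroup.zpowers x ≤ P := Subgroup.zpowers_le.2 hx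
  obtain ⟨m, hm, c, hc, rfl⟩ := t10_1a hG hM hp (hP.isPGroup.to_le hX) (hX.trans hP.le) (g := u)
    (by rw [cj_zpowers]; exact Subgroup.zpowers_le.2 (hP.le hu))
  have e : x * c = c * x := mem_cent.1 hc x (Subgroup.mem_zpowers x)
  have e' : m * c * x * (m * c)⁻¹ * x⁻¹ = ⁅m, x⁆ := by
    rw [commutatorElement_def, mul_assoc m c x, ← e]; group
  rw [e']
  exact Subgroup.commutator_mem_commutator hm (hP.le hx)

/-- `|M : M'|` is a `σ(M)'`-number -/
theorem piNat_sigma_compl_relIndex_der (hG : IsMinSimpleOddOrder G) {M : Subgroup G}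
    (hM : IsCoatom M) : PiNat (sigma M)ᶜ ((⁅M, M⁆).relIndex M) := by
  intro p hp hd hσ
  have := Fact.mk hp
  obtain ⟨P, hP⟩ := sylow_exists p M
  exact hP.not_dvd (hd.trans (Subgroup.relIndex_dvd_of_le_left M (sigma_sylow_le_der hG hM hσ hP)))

/-- a `σ(M)`-subgroup of `M` lies in `M'` -/
theorem le_der_of_piGrp_sigma (hG : IsMinSimpleOddOrder G) {M : Subgroup G} (hM : IsCoatom M)
    {X : Subgroup G} (hX : X ≤ M) (hXσ : PiGrp (sigma M) X) : X ≤ ⁅M, M⁆ :=
  hXσ.le_of_relIndex (NormalIn.der M) hX (piNat_sigma_compl_relIndex_der hG hM)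

/-- BG 10.2(c) -/
theorem t10_2c (hG : IsMinSimpleOddOrder G) {M : Subgroup G} (hM : IsCoatom M) :
    sigmaCore M ≤ ⁅M, M⁆ :=
  le_der_of_piGrp_sigma hG hM (sigmaCore_le M) (piGrp_sigmaCore M)

theorem alphaCore_le_der (hG : IsMinSimpleOddOrder G) {M : Subgroup G} (hM : IsCoatom M) :
    alphaCore M ≤ ⁅M, M⁆ :=
  (alphaCore_le_sigmaCore hG hM).trans (t10_2c hG hM)

theorem betaCore_le_der (hG : IsMinSimpleOddOrder G) {M : Subgroup G} (hM : IsCoatom M) :
    betaCore M ≤ ⁅M, M⁆ :=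
  (betaCore_le_sigmaCore hG hM).trans (t10_2c hG hM)

/-- an `α(M)'`-subgroup of `M / M_α` has rank at most two -/
theorem rank_le_two_of_le_quot_alphaCore {M : Subgroup G} {F : Subgroup (Qt (alphaCore M))}
    (hF : F ≤ quot (alphaCore M) M) (h : PiGrp (alpha M)ᶜ F) : rank F ≤ 2 := by
  refine rank_le_iff_forall.2 fun p hp => ?_
  by_cases hα : p ∈ alpha M
  · rw [h.pRank_eq_zero hp (not_not.2 hα)]; omega
  · refine (pRank_mono hp hF).trans ?_
    rw [pRank_quot_of_not_dvd hp (alphaCore_normal M).norm ((piGrp_alphaCore M).not_dvd hp hα)]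
    exact (not_mem_alpha_iff hp).1 hα

theorem t10_2_aux (hG : IsMinSimpleOddOrder G) {M : Subgroup G} (hM : IsCoatom M) :
    Group.IsNilpotent (quot (alphaCore M) ⁅M, M⁆) ∧
      PiGrp (alpha M)ᶜ (quot (alphaCore M) ⁅M, M⁆) := by
  have hn := (alphaCore_normal M).norm
  have hF : PiGrp (alpha M)ᶜ (fittingOf (quot (alphaCore M) M)) :=
    fit_pi_of_core_compl_eq_bot (by rw [compl_compl]; exact piCoreOf_quot_piCoreOf _ _)
  have h := t4_20a (quot_isSolvable _ (mmax_sol hG hM)) (quot_odd _ (mFT_odd hG M))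
    (rank_le_two_of_le_quot_alphaCore (fit_le _) hF)
  rw [← quot_commutator hn hn] at h
  exact ⟨nil_of_le_fit h, hF.of_le h⟩

/-- BG 10.2(a1) -/
theorem t10_2a (hG : IsMinSimpleOddOrder G) {M : Subgroup G} (hM : IsCoatom M) :
    Hall (alpha M) (alphaCore M) M := by
  refine Hall.trans_idx (K := ⁅M, M⁆) ?_ (NormalIn.der M).le
    ((piNat_sigma_compl_relIndex_der hG hM).mono
      (Set.compl_subset_compl.2 (alpha_sub_sigma hG hM)))
  exact Hall.mk' (alphaCore_le_der hG hM) (piGrp_alphaCore M)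
    ((piGrp_quot_iff (le_norm_alphaCore (NormalIn.der M).le)).1 (t10_2_aux hG hM).2)

/-- BG 10.2(a2) -/
theorem t10_2a_top (hG : IsMinSimpleOddOrder G) {M : Subgroup G} (hM : IsCoatom M) :
    Hall (alpha M) (alphaCore M) ⊤ :=
  (t10_2a hG hM).top_of_sub_sigma (alpha_sub_sigma hG hM)

/-- if `V ⊴ M` and `M'V/V` is nilpotent, then `V H ⊴ M` for Hall subgroups `H` of `M'` -/
theorem sup_hall_der_normalIn {M V : Subgroup G} (hV : V ⊴ M)
    (hnil : Group.IsNilpotent (quot V ⁅M, M⁆)) {π : Set ℕ} {H : Subgroup G}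
    (hH : Hall π H ⁅M, M⁆) : (V ⊔ H) ⊴ M := by
  have hHM : H ≤ M := hH.le.trans (NormalIn.der M).le
  have hb := hH.quot ((NormalIn.der M).le.trans hV.norm)
  refine normalIn_of_quot hV le_sup_left (sup_le (le_norm_self V) (hHM.trans hV.norm)) ?_
  rw [quot_self_sup (hHM.trans hV.norm)]
  exact (nil_hall_char hnil hb).trans_normalIn ((NormalIn.der M).quot V)

/-- BG 10.2(d2), quotient-free form: `M_α` times a Hall subgroup of `M'` is normal in `M`. -/
theorem t10_2d_normal (hG : IsMinSimpleOddOrder G) {M : Subgroup G} (hM : IsCoatom M)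
    {π : Set ℕ} {H : Subgroup G} (hH : Hall π H ⁅M, M⁆) : (alphaCore M ⊔ H) ⊴ M :=
  sup_hall_der_normalIn (alphaCore_normal M) (t10_2_aux hG hM).1 hH

/-- BG 10.2(b1) -/
theorem t10_2b (hG : IsMinSimpleOddOrder G) {M : Subgroup G} (hM : IsCoatom M) :
    Hall (sigma M) (sigmaCore M) M := by
  obtain ⟨H, hH⟩ := hall_exists (sigma M) (mmax_sub_sol hG hM (NormalIn.der M).le)
  have hle : alphaCore M ≤ H :=
    hH.normal_le ((alphaCore_normal M).of_le (alphaCore_le_der hG hM) (NormalIn.der M).le)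
      ((piGrp_alphaCore M).mono (alpha_sub_sigma hG hM))
  have hn := t10_2d_normal hG hM hH
  rw [sup_eq_right.2 hle] at hn
  exact (hH.trans_idx (NormalIn.der M).le (piNat_sigma_compl_relIndex_der hG hM)).hall_piCoreOf
    hn.norm

/-- BG 10.2(b2) -/
theorem t10_2b_top (hG : IsMinSimpleOddOrder G) {M : Subgroup G} (hM : IsCoatom M) :
    Hall (sigma M) (sigmaCore M) ⊤ :=
  (t10_2b hG hM).top_of_sub_sigma le_rfl

/-- `π(M_σ) = σ(M)` -/
theorem primesOf_sigmaCore (hG : IsMinSimpleOddOrder G) {M : Subgroup G} (hM : IsCoatom M) :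
    primesOf (sigmaCore M) = sigma M := by
  ext p
  rw [(t10_2b hG hM).mem_primesOf_iff]
  exact ⟨fun h => h.1, fun h => ⟨h, sigma_sub_primesOf M h⟩⟩

/-- `π(M_α) = α(M)` -/
theorem primesOf_alphaCore (hG : IsMinSimpleOddOrder G) {M : Subgroup G} (hM : IsCoatom M) :
    primesOf (alphaCore M) = alpha M := by
  ext p
  rw [(t10_2a hG hM).mem_primesOf_iff]
  exact ⟨fun h => h.1, fun h => ⟨h, alpha_sub_primesOf M h⟩⟩

omit [Finite G] in
/-- a subgroup `H` of `K` meeting `V` trivially is nilpotent if `KV/V` is -/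
theorem nil_of_quot_of_disj {V H K : Subgroup G} (hHK : H ≤ K) (hK : K ≤ 𝐍(V)) (hd : V ⊓ H = ⊥)
    (hnil : Group.IsNilpotent (quot V K)) : Group.IsNilpotent H :=
  nil_of_quot_of_le_cent (by rw [hd]; exact bot_le) (hHK.trans hK)
    (nilpotent_of_le hnil (quot_mono V hHK))

/-- BG 10.2(d2), quotient-free form: `α(M)'`-subgroups of `M'` are nilpotent. -/
theorem t10_2d (hG : IsMinSimpleOddOrder G) {M : Subgroup G} (hM : IsCoatom M) {H : Subgroup G}
    (hH : H ≤ ⁅M, M⁆) (hHα : PiGrp (alpha M)ᶜ H) : Group.IsNilpotent H :=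
  nil_of_quot_of_disj hH (le_norm_alphaCore (NormalIn.der M).le) (alphaCore_inf_eq_bot hHα)
    (t10_2_aux hG hM).1

/-- every nontrivial finite group has a largest prime divisor -/
theorem exists_max_prime_dvd_card {H : Subgroup G} (h : H ≠ ⊥) :
    ∃ p : ℕ, p.Prime ∧ p ∣ Nat.card H ∧ ∀ q : ℕ, q.Prime → q ∣ Nat.card H → q ≤ p := by
  obtain ⟨p, hp, hd⟩ := exists_prime_dvd_card h
  have hne : (Nat.card H).primeFactors.Nonempty :=
    ⟨p, Nat.mem_primeFactors.2 ⟨hp, hd, (card_pos' H).ne'⟩⟩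
  have hm := Nat.mem_primeFactors.1 (Finset.max'_mem _ hne)
  exact ⟨_, hm.1, hm.2.1, fun q hq hqd =>
    Finset.le_max' _ q (Nat.mem_primeFactors.2 ⟨hq, hqd, (card_pos' H).ne'⟩)⟩

/-- BG 10.2(e) -/
theorem t10_2e (hG : IsMinSimpleOddOrder G) {M : Subgroup G} (hM : IsCoatom M) :
    sigmaCore M ≠ ⊥ := by
  intro h0
  have hσ : sigma M = ∅ := by
    rw [← primesOf_sigmaCore hG hM, h0, Set.eq_empty_iff_forall_notMem]
    intro p hp
    exact (piGrp_bot (G := G) (∅ : Set ℕ)).mem hp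
  have hα : alpha M = ∅ := Set.subset_eq_empty (alpha_sub_sigma hG hM) hσ
  obtain ⟨p, hp, hd, hmax⟩ := exists_max_prime_dvd_card (mmax_ne_bot hG hM)
  have := Fact.mk hp
  have hS := t4_20c_max (mmax_sol hG hM) (mFT_odd hG M)
    ((rank_mono (fit_le M)).trans (alpha_eq_empty_iff.1 hα)) hmax
  have hmem := mem_sigma_of_norm_le hM.1 hS
    (mmax_normal hG hM (piCoreOf_normalIn _ _) (hS.ne_bot_iff.2 hd)).le
  rw [hσ] at hmem
  exact hmem

/-- `N(M_σ) = M` -/
theorem normalizer_sigmaCore (hG : IsMinSimpleOddOrder G) {M : Subgroup G} (hM : IsCoatom M) :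
    𝐍(sigmaCore M) = M :=
  mmax_normal hG hM (sigmaCore_normal M) (t10_2e hG hM)

/-- `C(M_σ) ≤ M` -/
theorem cent_sigmaCore_le (hG : IsMinSimpleOddOrder G) {M : Subgroup G} (hM : IsCoatom M) :
    𝐂(sigmaCore M) ≤ M :=
  mmax_normal_cent_le hG hM (sigmaCore_normal M) (t10_2e hG hM)

/-- a `σ(M)`-subgroup of `M` lies in `M_σ` -/
theorem le_sigmaCore (hG : IsMinSimpleOddOrder G) {M : Subgroup G} (hM : IsCoatom M)
    {X : Subgroup G} (hX : X ≤ M) (hXσ : PiGrp (sigma M) X) : X ≤ sigmaCore M :=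
  (t10_2b hG hM).le_of_normal (sigmaCore_normal M).norm hX hXσ

/-- an `α(M)`-subgroup of `M` lies in `M_α` -/
theorem le_alphaCore (hG : IsMinSimpleOddOrder G) {M : Subgroup G} (hM : IsCoatom M)
    {X : Subgroup G} (hX : X ≤ M) (hXα : PiGrp (alpha M) X) : X ≤ alphaCore M :=
  (t10_2a hG hM).le_of_normal (alphaCore_normal M).norm hX hXα

/-- for `p ∈ σ(M)`, Sylow `p`-subgroups of `M_σ` and of `M` are the same -/
theorem sylowOf_sigmaCore_iff (hG : IsMinSimpleOddOrder G) {M : Subgroup G} (hM : IsCoatom M)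
    {p : ℕ} [Fact p.Prime] (hp : p ∈ sigma M) {P : Subgroup G} :
    SylowOf p P (sigmaCore M) ↔ SylowOf p P M :=
  ⟨fun h => h.trans_hall (t10_2b hG hM) hp, fun h => Hall.restrict h
    (le_sigmaCore hG hM h.le (piGrp_of_isPGroup Fact.out h.isPGroup hp)) (sigmaCore_le M)⟩

/-- for `p ∈ α(M)`, Sylow `p`-subgroups of `M_α` and of `M` are the same -/
theorem sylowOf_alphaCore_iff (hG : IsMinSimpleOddOrder G) {M : Subgroup G} (hM : IsCoatom M)
    {p : ℕ} [Fact p.Prime] (hp : p ∈ alpha M) {P : Subgroup G} :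
    SylowOf p P (alphaCore M) ↔ SylowOf p P M :=
  ⟨fun h => h.trans_hall (t10_2a hG hM) hp, fun h => Hall.restrict h
    (le_alphaCore hG hM h.le (piGrp_of_isPGroup Fact.out h.isPGroup hp)) (alphaCore_le M)⟩

/-- `σ(M)` is not empty -/
theorem sigma_nonempty (hG : IsMinSimpleOddOrder G) {M : Subgroup G} (hM : IsCoatom M) :
    (sigma M).Nonempty := by
  rw [← primesOf_sigmaCore hG hM]
  exact primesOf_nonempty (t10_2e hG hM)

end CL.BG
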