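import Cfsg.Agent.Base
import Cfsg.Agent.BG.Rank
import Cfsg.Agent.BG.Fit
import Cfsg.Agent.BG.Max
import Cfsg.Agent.BG.T10_0
import Cfsg.Agent.BG.T10_2

/-!
# BG section 12: complements of `M_σ` and the sets `τ₁, τ₂, τ₃`
-/

namespace CL.BG

open Cfsg Subgroup

variable {G : Type*} [Group G] [Finite G]

/-! ### elementary facts on `σ`, `τ_i` -/

section elementary

variable {M P : Subgroup G} {p : ℕ}

theorem s12_mem_sigma [hp : Fact p.Prime] :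
    p ∈ sigma M ↔ p ∣ Nat.card M ∧ ∃ P : Subgroup G, SylowOf p P M ∧ 𝐍(P) ≤ M := by
  constructor
  · rintro ⟨-, hd, S, hS⟩
    exact ⟨hd, _, sylowOf_map_subtype S, hS⟩
  · rintro ⟨hd, P, hP, hN⟩
    obtain ⟨S, rfl⟩ := sylowOf_iff_exists.1 hP
    exact ⟨hp.out, hd, S, hN⟩

theorem s12_norm_sylow (hp : p ∈ sigma M) (hP : SylowOf p P M) : 𝐍(P) ≤ M := by
  haveI : Fact p.Prime := ⟨hp.1⟩
  obtain ⟨-, Q, hQ, hN⟩ := s12_mem_sigma.1 hp
  obtain ⟨g, hg, rfl⟩ := sylow_conj hQ hP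
  rw [← cj_norm]
  exact cj_le_of_mem hg hN

theorem s12_mem_sigma_of_sylow [Fact p.Prime] (hP : SylowOf p P M) (hne : P ≠ ⊥)
    (hN : 𝐍(P) ≤ M) : p ∈ sigma M :=
  s12_mem_sigma.2 ⟨hP.ne_bot_iff.1 hne, P, hP, hN⟩

theorem s12_sylow_top (hp : p ∈ sigma M) (hP : SylowOf p P M) : SylowOf p P ⊤ := by
  haveI : Fact p.Prime := ⟨hp.1⟩
  exact hP.top_of_norm_le (s12_norm_sylow hp hP)

theorem s12_mem_tau1 :
    p ∈ tau1 M ↔ p.Prime ∧ p ∉ sigma M ∧ pRank p M = 1 ∧ ¬ p ∣ Nat.card ↥⁅M, M⁆ := by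
  constructor
  · rintro ⟨hp, hs, hd, hd', hr⟩
    have h1 := (pRank_le_iff hp).2 hr
    have h2 := (pRank_pos_iff hp).2 hd
    exact ⟨hp, hs, by omega, hd'⟩
  · rintro ⟨hp, hs, hr, hd'⟩
    exact ⟨hp, hs, (pRank_pos_iff hp).1 (by omega), hd', (pRank_le_iff hp).1 hr.le⟩

theorem s12_mem_tau2 : p ∈ tau2 M ↔ p.Prime ∧ p ∉ sigma M ∧ pRank p M = 2 := by
  constructor
  · rintro ⟨hp, hs, h2, h1⟩
    have h1 := (lt_pRank_iff hp).2 h1
    have h2 := (pRank_le_iff hp).2 h2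
    exact ⟨hp, hs, by omega⟩
  · rintro ⟨hp, hs, hr⟩
    exact ⟨hp, hs, (pRank_le_iff hp).1 hr.le, (lt_pRank_iff hp).1 (by omega)⟩

theorem s12_mem_tau3 :
    p ∈ tau3 M ↔ p.Prime ∧ p ∉ sigma M ∧ pRank p M = 1 ∧ p ∣ Nat.card ↥⁅M, M⁆ := by
  constructor
  · rintro ⟨hp, hs, hd, hr⟩
    have h1 := (pRank_le_iff hp).2 hr
    have h2 := (pRank_pos_iff hp).2 (hd.trans (card_dvd_of_le (NormalIn.der M).le))
    exact ⟨hp, hs, by omega, hd⟩
  · rintro ⟨hp, hs, hr, hd⟩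
    exact ⟨hp, hs, hd, (pRank_le_iff hp).1 hr.le⟩

theorem s12_mem_alpha : p ∈ alpha M ↔ p.Prime ∧ 2 < pRank p M := by
  constructor
  · rintro ⟨hp, h⟩
    exact ⟨hp, (lt_pRank_iff hp).2 h⟩
  · rintro ⟨hp, h⟩
    exact ⟨hp, (lt_pRank_iff hp).1 h⟩

omit [Finite G] in
theorem s12_tau1_sub : tau1 M ⊆ (sigma M)ᶜ := fun _ h => h.2.1

omit [Finite G] in
theorem s12_tau2_sub : tau2 M ⊆ (sigma M)ᶜ := fun _ h => h.2.1

omit [Finite G] in
theorem s12_tau3_sub : tau3 M ⊆ (sigma M)ᶜ := fun _ h => h.2.1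

omit [Finite G] in
theorem s12_tau1_not2 (h : p ∈ tau1 M) : p ∉ tau2 M := fun h' => h'.2.2.2 h.2.2.2.2

omit [Finite G] in
theorem s12_tau1_not3 (h : p ∈ tau1 M) : p ∉ tau3 M := fun h' => h.2.2.2.1 h'.2.2.1

omit [Finite G] in
theorem s12_tau3_not2 (h : p ∈ tau3 M) : p ∉ tau2 M := fun h' => h'.2.2.2 h.2.2.2

theorem s12_tau2_rank (h : p ∈ tau2 M) : pRank p M = 2 := (s12_mem_tau2.1 h).2.2

theorem s12_tau13_rank (h : p ∈ tau1 M ∨ p ∈ tau3 M) : pRank p M = 1 := by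
  rcases h with h | h
  · exact (s12_mem_tau1.1 h).2.2.1
  · exact (s12_mem_tau3.1 h).2.2.1

theorem s12_sigma_cj_sub (g : G) (M : Subgroup G) : sigma M ⊆ sigma (cj g M) := by
  intro p hp
  haveI : Fact p.Prime := ⟨hp.1⟩
  obtain ⟨hd, P, hP, hN⟩ := s12_mem_sigma.1 hp
  refine s12_mem_sigma.2 ⟨by rwa [card_cj], cj g P, Hall.cj hP g, ?_⟩
  rw [← cj_norm]
  exact cj_mono g hN

theorem s12_sigma_cj (g : G) (M : Subgroup G) : sigma (cj g M) = sigma M := by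
  refine Set.Subset.antisymm ?_ (s12_sigma_cj_sub g M)
  have := s12_sigma_cj_sub g⁻¹ (cj g M)
  rwa [cj_inv_cj] at this

theorem s12_tau1_cj (g : G) (M : Subgroup G) : tau1 (cj g M) = tau1 M := by
  ext p
  rw [s12_mem_tau1, s12_mem_tau1, s12_sigma_cj, pRank_cj, ← cj_commutator, card_cj]

theorem s12_tau2_cj (g : G) (M : Subgroup G) : tau2 (cj g M) = tau2 M := by
  ext p
  rw [s12_mem_tau2, s12_mem_tau2, s12_sigma_cj, pRank_cj]

theorem s12_tau3_cj (g : G) (M : Subgroup G) : tau3 (cj g M) = tau3 M := by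
  ext p
  rw [s12_mem_tau3, s12_mem_tau3, s12_sigma_cj, pRank_cj, ← cj_commutator, card_cj]

theorem s12_sigmaCore_cj (g : G) (M : Subgroup G) : sigmaCore (cj g M) = cj g (sigmaCore M) := by
  change piCoreOf (sigma (cj g M)) (cj g M) = cj g (piCoreOf (sigma M) M)
  rw [cj_piCoreOf, s12_sigma_cj]

omit [Finite G] in
theorem s12_sigmaCore_normal (M : Subgroup G) : sigmaCore M ⊴ M := piCoreOf_normalIn _ M

omit [Finite G] in
theorem s12_sigmaCore_le (M : Subgroup G) : sigmaCore M ≤ M := piCoreOf_le _ M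

omit [Finite G] in
theorem s12_norm_sigmaCore {X : Subgroup G} (h : X ≤ M) : X ≤ 𝐍(sigmaCore M) :=
  h.trans (s12_sigmaCore_normal M).norm

theorem s12_sigmaCore_pi (M : Subgroup G) : PiGrp (sigma M) (sigmaCore M) := piGrp_piCoreOf _ M

omit [Finite G] in
theorem s12_alphaCore_normal (M : Subgroup G) : alphaCore M ⊴ M := piCoreOf_normalIn _ M

theorem s12_alphaCore_pi (M : Subgroup G) : PiGrp (alpha M) (alphaCore M) := piGrp_piCoreOf _ M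

/-- a `σ(M)'`-group has order prime to `|M_σ|` -/
theorem s12_coprime {X : Subgroup G} (hX : PiGrp (sigma M)ᶜ X) :
    (Nat.card (sigmaCore M)).Coprime (Nat.card X) :=
  (s12_sigmaCore_pi M).coprime hX

theorem s12_coprime_pgroup (hp : p.Prime) (hs : p ∉ sigma M) (hP : IsPGroup p P) :
    (Nat.card (sigmaCore M)).Coprime (Nat.card P) :=
  s12_coprime (piGrp_of_isPGroup hp hP hs)

theorem s12_disj {X : Subgroup G} (hX : PiGrp (sigma M)ᶜ X) : sigmaCore M ⊓ X = ⊥ :=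
  (s12_sigmaCore_pi M).inf_eq_bot hX

/-- conjugating by an element of `M` does not change the centraliser in `M_σ` up to
conjugacy -/
theorem s12_cent_cj {X : Subgroup G} {g : G} (hg : g ∈ M) :
    sigmaCore M ⊓ 𝐂(cj g X) = cj g (sigmaCore M ⊓ 𝐂(X)) := by
  rw [cj_inf, cj_cent, (s12_sigmaCore_normal M).cj_eq hg]

theorem s12_cent_cj_eq_bot {X : Subgroup G} {g : G} (hg : g ∈ M) :
    sigmaCore M ⊓ 𝐂(cj g X) = ⊥ ↔ sigmaCore M ⊓ 𝐂(X) = ⊥ := by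
  rw [s12_cent_cj hg, cj_eq_bot_iff]

end elementary

/-- every `σ(M)'`-subgroup of `M` lies in a complement of `M_σ` -/
theorem ex_sigma_compl (hG : IsMinSimpleOddOrder G) {M F : Subgroup G} (hM : IsCoatom M)
    (hFM : F ≤ M) (hF : PiGrp (sigma M)ᶜ F) : ∃ E, Hall (sigma M)ᶜ E M ∧ F ≤ E :=
  hall_superset (mmax_sol hG hM) hFM hF

theorem s12_sigmaCompl_of_hall {M E H E₁ E₂ E₃ : Subgroup G} (hE : Hall (sigma M)ᶜ E M)
    (hH : Hall (tau1 M ∪ tau2 M) H E) (h₁ : Hall (tau1 M) E₁ H) (h₂ : Hall (tau2 M) E₂ H)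
    (h₃ : Hall (tau3 M) E₃ E) : SigmaCompl M E E₁ E₂ E₃ := by
  refine ⟨hE, h₁.trans hH Set.subset_union_left, h₂.trans hH Set.subset_union_right, h₃, ?_⟩
  have h₁' : Hall (tau2 M)ᶜ E₁ H := by
    refine h₁.congr fun q hq hd => ⟨fun h => s12_tau1_not2 h, fun h => ?_⟩
    rcases piGrp_iff.1 hH.pi q hq hd with h' | h'
    · exact h'
    · exact absurd h' h
  intro x hx
  obtain ⟨a, ha, b, hb, rfl⟩ := h₂.exists_mul h₁' ((sup_le h₂.le h₁.le) hx)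
  exact ⟨a, ha, b, hb, rfl⟩

theorem ex_tau2_compl (hG : IsMinSimpleOddOrder G) {M E E₁ E₃ : Subgroup G} (hM : IsCoatom M)
    (hE : Hall (sigma M)ᶜ E M) (h₁ : Hall (tau1 M) E₁ E) (h₃ : Hall (tau3 M) E₃ E) :
    ∃ E₂, SigmaCompl M E E₁ E₂ E₃ := by
  have hs := mmax_sub_sol hG hM hE.le
  obtain ⟨H, hH, hle⟩ := hall_superset (π := tau1 M ∪ tau2 M) hs h₁.le
    (h₁.pi.mono Set.subset_union_left)
  obtain ⟨E₂, h₂⟩ := hall_exists (tau2 M) (solvable_of_le hs hH.le)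
  exact ⟨E₂, s12_sigmaCompl_of_hall hE hH (h₁.restrict hle hH.le) h₂ h₃⟩

theorem ex_tau1_compl (hG : IsMinSimpleOddOrder G) {M E E₂ E₃ : Subgroup G} (hM : IsCoatom M)
    (hE : Hall (sigma M)ᶜ E M) (h₂ : Hall (tau2 M) E₂ E) (h₃ : Hall (tau3 M) E₃ E) :
    ∃ E₁, SigmaCompl M E E₁ E₂ E₃ := by
  have hs := mmax_sub_sol hG hM hE.le
  obtain ⟨H, hH, hle⟩ := hall_superset (π := tau1 M ∪ tau2 M) hs h₂.le
    (h₂.pi.mono Set.subset_union_right)
  obtain ⟨E₁, h₁⟩ := hall_exists (tau1 M) (solvable_of_le hs hH.le)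
  exact ⟨E₁, s12_sigmaCompl_of_hall hE hH h₁ (h₂.restrict hle hH.le) h₃⟩

theorem ex_sigmaCompl (hG : IsMinSimpleOddOrder G) {M E : Subgroup G} (hM : IsCoatom M)
    (hE : Hall (sigma M)ᶜ E M) : ∃ E₁ E₂ E₃, SigmaCompl M E E₁ E₂ E₃ := by
  have hs := mmax_sub_sol hG hM hE.le
  obtain ⟨E₁, h₁⟩ := hall_exists (tau1 M) hs
  obtain ⟨E₃, h₃⟩ := hall_exists (tau3 M) hs
  obtain ⟨E₂, h⟩ := ex_tau2_compl hG hM hE h₁ h₃
  exact ⟨E₁, E₂, E₃, h⟩

theorem coprime_sigma_compl {M E : Subgroup G} (hE : Hall (sigma M)ᶜ E M) :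
    (Nat.card (sigmaCore M)).Coprime (Nat.card E) :=
  s12_coprime hE.pi

theorem sdprod_sigma (hG : IsMinSimpleOddOrder G) {M E : Subgroup G} (hM : IsCoatom M)
    (hE : Hall (sigma M)ᶜ E M) : SDP (sigmaCore M) E M :=
  (t10_2b hG hM).sdp (s12_sigmaCore_normal M).norm hE

/-- bridge to the form used in the listed statements -/
theorem isComplIn_sigma_iff (hG : IsMinSimpleOddOrder G) {M E : Subgroup G} (hM : IsCoatom M) :
    IsComplIn E (sigmaCore M) M ↔ Hall (sigma M)ᶜ E M := by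
  constructor
  · intro h
    have hle : E ≤ M := le_sup_left.trans (sup_eq_of_isComplIn h).le
    exact (sdp_of_isComplIn' h (s12_norm_sigmaCore hle)).hall_right_of_left (t10_2b hG hM)
  · intro h
    exact (sdprod_sigma hG hM h).isComplIn'

theorem partition_pi_mmax (hG : IsMinSimpleOddOrder G) {M : Subgroup G} (hM : IsCoatom M)
    {p : ℕ} : p ∈ primesOf M ↔ p ∈ tau1 M ∨ p ∈ tau2 M ∨ p ∈ tau3 M ∨ p ∈ sigma M := by
  constructor
  · rintro ⟨hp, hd⟩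
    haveI : Fact p.Prime := ⟨hp⟩
    by_cases hs : p ∈ sigma M
    · exact Or.inr (Or.inr (Or.inr hs))
    have h1 := pRank_le_two_of_not_mem_sigma hG hM hs
    have h2 := (pRank_pos_iff hp).2 hd
    by_cases h3 : pRank p M = 2
    · exact Or.inr (Or.inl (s12_mem_tau2.2 ⟨hp, hs, h3⟩))
    by_cases h4 : p ∣ Nat.card ↥⁅M, M⁆
    · exact Or.inr (Or.inr (Or.inl (s12_mem_tau3.2 ⟨hp, hs, by omega, h4⟩)))
    · exact Or.inl (s12_mem_tau1.2 ⟨hp, hs, by omega, h4⟩)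
  · rintro (h | h | h | h)
    · exact ⟨h.1, h.2.2.1⟩
    · exact ⟨h.1, (pRank_pos_iff h.1).1 (by rw [s12_tau2_rank h]; omega)⟩
    · exact ⟨h.1, h.2.2.1.trans (card_dvd_of_le (NormalIn.der M).le)⟩
    · exact ⟨h.1, h.2.1⟩

theorem partition_pi_sigma_compl (hG : IsMinSimpleOddOrder G) {M E : Subgroup G}
    (hM : IsCoatom M) (hE : Hall (sigma M)ᶜ E M) {p : ℕ} :
    p ∈ primesOf E ↔ p ∈ tau1 M ∨ p ∈ tau2 M ∨ p ∈ tau3 M := by
  rw [hE.mem_primesOf_iff, partition_pi_mmax hG hM]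
  constructor
  · rintro ⟨hs, h | h | h | h⟩
    · exact Or.inl h
    · exact Or.inr (Or.inl h)
    · exact Or.inr (Or.inr h)
    · exact absurd h hs
  · rintro (h | h | h)
    · exact ⟨h.2.1, Or.inl h⟩
    · exact ⟨h.2.1, Or.inr (Or.inl h)⟩
    · exact ⟨h.2.1, Or.inr (Or.inr (Or.inl h))⟩

/-- a prime dividing the order of a `σ(M)'`-subgroup of `M` lies in some `τ_i(M)` -/
theorem s12_tau_cases (hG : IsMinSimpleOddOrder G) {M X : Subgroup G} (hM : IsCoatom M)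
    (hXM : X ≤ M) (hX : PiGrp (sigma M)ᶜ X) {p : ℕ} (hp : p.Prime) (hd : p ∣ Nat.card X) :
    p ∈ tau1 M ∨ p ∈ tau2 M ∨ p ∈ tau3 M := by
  rcases (partition_pi_mmax hG hM).1 ⟨hp, hd.trans (card_dvd_of_le hXM)⟩ with h | h | h | h
  · exact Or.inl h
  · exact Or.inr (Or.inl h)
  · exact Or.inr (Or.inr h)
  · exact absurd h (piGrp_iff.1 hX p hp hd)

theorem s12_dvd_der_iff (hG : IsMinSimpleOddOrder G) {M E : Subgroup G} (hM : IsCoatom M)
    (hE : Hall (sigma M)ᶜ E M) {p : ℕ} (hp : p.Prime) (hs : p ∉ sigma M) :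
    p ∣ Nat.card ↥⁅M, M⁆ ↔ p ∣ Nat.card ↥⁅E, E⁆ := by
  constructor
  · intro h
    have h1 := (sdprod_sigma hG hM hE).der_le
    have h2 := card_sup_dvd (K := sigmaCore M) (H := ⁅E, E⁆)
      (s12_norm_sigmaCore ((NormalIn.der E).le.trans hE.le))
    rcases (Nat.Prime.dvd_mul hp).1 ((h.trans (card_dvd_of_le h1)).trans h2) with h3 | h3
    · exact absurd h3 ((s12_sigmaCore_pi M).not_dvd hp hs)
    · exact h3
  · intro h
    exact h.trans (card_dvd_of_le (commutator_mono hE.le hE.le))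

theorem s12_pRank_compl {M E : Subgroup G} (hE : Hall (sigma M)ᶜ E M) {p : ℕ} (hp : p.Prime)
    (h : 0 < pRank p E) : p ∉ sigma M :=
  hE.pi.mem_of_pRank_pos hp h

theorem tau1E (hG : IsMinSimpleOddOrder G) {M E : Subgroup G} (hM : IsCoatom M)
    (hE : Hall (sigma M)ᶜ E M) {p : ℕ} (hp : p.Prime) :
    p ∈ tau1 M ↔ pRank p E = 1 ∧ ¬ p ∣ Nat.card ↥⁅E, E⁆ := by
  rw [s12_mem_tau1]
  constructor
  · rintro ⟨-, hs, hr, hd⟩
    exact ⟨by rw [hE.pRank_eq hp hs, hr], by rwa [← s12_dvd_der_iff hG hM hE hp hs]⟩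
  · rintro ⟨hr, hd⟩
    have hs := s12_pRank_compl hE hp (by omega)
    exact ⟨hp, hs, by rw [← hE.pRank_eq hp hs, hr], by rwa [s12_dvd_der_iff hG hM hE hp hs]⟩

theorem tau2E (hG : IsMinSimpleOddOrder G) {M E : Subgroup G} (hM : IsCoatom M)
    (hE : Hall (sigma M)ᶜ E M) {p : ℕ} (hp : p.Prime) : p ∈ tau2 M ↔ pRank p E = 2 := by
  have _ := hG
  have _ := hM
  rw [s12_mem_tau2]
  constructor
  · rintro ⟨-, hs, hr⟩
    rw [hE.pRank_eq hp hs, hr]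
  · intro hr
    have hs := s12_pRank_compl hE hp (by omega)
    exact ⟨hp, hs, by rw [← hE.pRank_eq hp hs, hr]⟩

theorem tau3E (hG : IsMinSimpleOddOrder G) {M E : Subgroup G} (hM : IsCoatom M)
    (hE : Hall (sigma M)ᶜ E M) {p : ℕ} (hp : p.Prime) :
    p ∈ tau3 M ↔ pRank p E = 1 ∧ p ∣ Nat.card ↥⁅E, E⁆ := by
  rw [s12_mem_tau3]
  constructor
  · rintro ⟨-, hs, hr, hd⟩
    exact ⟨by rw [hE.pRank_eq hp hs, hr], by rwa [← s12_dvd_der_iff hG hM hE hp hs]⟩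
  · rintro ⟨hr, hd⟩
    have hs := s12_pRank_compl hE hp (by omega)
    exact ⟨hp, hs, by rw [← hE.pRank_eq hp hs, hr], by rwa [s12_dvd_der_iff hG hM hE hp hs]⟩

theorem ex_tau2Elem (hG : IsMinSimpleOddOrder G) {M E : Subgroup G} (hM : IsCoatom M)
    (hE : Hall (sigma M)ᶜ E M) {p : ℕ} (hp : p ∈ tau2 M) : ∃ A, ElemN p 2 E A :=
  exists_elemN_of_le_pRank hp.1 ((tau2E hG hM hE hp.1).1 hp).ge

/-- complements of `M_σ` have rank at most two -/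
theorem rank_sigma_compl_le (hG : IsMinSimpleOddOrder G) {M E : Subgroup G} (hM : IsCoatom M)
    (hEM : E ≤ M) (hE : PiGrp (sigma M)ᶜ E) : rank E ≤ 2 :=
  rank_le_two_of_sigma_compl hG hM hEM hE

theorem sigma'2Elem_tau2 (hG : IsMinSimpleOddOrder G) {M E A : Subgroup G} (hM : IsCoatom M)
    (hE : Hall (sigma M)ᶜ E M) {p : ℕ} (hp : p.Prime) (hA : ElemN p 2 E A) : p ∈ tau2 M := by
  rw [tau2E hG hM hE hp]
  have h1 := hA.le_pRank hp
  have h2 := (pRank_le_rank hp E).trans (rank_sigma_compl_le hG hM hE.le hE.pi)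
  omega

/-- an elementary abelian subgroup of rank two of `M` for a prime outside `σ(M)` -/
theorem s12_tau2_of_elemN (hG : IsMinSimpleOddOrder G) {M A : Subgroup G} (hM : IsCoatom M)
    {p : ℕ} (hp : p.Prime) (hs : p ∉ sigma M) (hA : ElemN p 2 M A) : p ∈ tau2 M := by
  haveI : Fact p.Prime := ⟨hp⟩
  have h1 := hA.le_pRank hp
  have h2 := pRank_le_two_of_not_mem_sigma hG hM hs
  exact s12_mem_tau2.2 ⟨hp, hs, by omega⟩

/-- a `p`-subgroup of `M` is cyclic for `p ∈ τ₁(M) ∪ τ₃(M)` -/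
theorem tau13_isCyclic (hG : IsMinSimpleOddOrder G) {M P : Subgroup G} {p : ℕ}
    (hp : p ∈ tau1 M ∨ p ∈ tau3 M) (hPM : P ≤ M) (hP : IsPGroup p P) : IsCyclic P := by
  have hp' : p.Prime := hp.elim (·.1) (·.1)
  exact isCyclic_of_le_of_pRank_le_one hp' (mFT_odd hG M) (s12_tau13_rank hp).le hP hPM

/-- a `τ₁(M) ∪ τ₃(M)`-subgroup of `M` is a `Z`-group -/
theorem s12_tau13_isZGroup (hG : IsMinSimpleOddOrder G) {M X : Subgroup G} (hXM : X ≤ M)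
    (hX : PiGrp (tau1 M ∪ tau3 M) X) : IsZGroup X := by
  refine isZGroup_iff_forall.2 fun p hp P hP hle => ?_
  by_cases hne : P = ⊥
  · subst hne
    infer_instance
  exact tau13_isCyclic hG (hX.mem_of_isPGroup hp hP hne hle) (hle.trans hXM) hP

/-- an element of `ℰ_p^2(M)` lies in a complement of `M_σ` when `p ∈ τ₂(M)` -/
theorem s12_ex_compl_elemN (hG : IsMinSimpleOddOrder G) {M A : Subgroup G} (hM : IsCoatom M)
    {p n : ℕ} (hp : p.Prime) (hs : p ∉ sigma M) (hA : ElemN p n M A) :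
    ∃ E, Hall (sigma M)ᶜ E M ∧ ElemN p n E A := by
  obtain ⟨E, hE, hle⟩ := ex_sigma_compl hG hM hA.le (hA.piGrp hp hs)
  exact ⟨E, hE, hA.of_le hle⟩

end CL.BG
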