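import Cfsg.Agent.BG.Prod
import Cfsg.Agent.BG.Fit
import Cfsg.Agent.BG.Rank
import Cfsg.Agent.BG.QuotPi
import Cfsg.Agent.BG.Max

/-! # Small general lemmas used in BG sections 13 and 15 -/

namespace CL.BG

open Cfsg Subgroup

variable {G : Type*} [Group G] {H K L N A B X Y P Q R M E : Subgroup G} {π : Set ℕ} {p q : ℕ}

theorem a13_der_sup_le (h : N ≤ 𝐍(K)) : ⁅K ⊔ N, K ⊔ N⁆ ≤ K ⊔ ⁅N, N⁆ := by
  have h1 : K ⊔ N ≤ 𝐍(K) := sup_le le_normalizer h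
  have h2 : ⁅K ⊔ N, K ⊔ N⁆ ≤ 𝐍(K) := (NormalIn.der _).le.trans h1
  have h3 : ⁅N, N⁆ ≤ 𝐍(K) := (NormalIn.der _).le.trans h
  rw [sup_comm K ⁅N, N⁆, ← quot_le_quot_iff h2 h3, quot_commutator h1 h1, quot_self_sup h,
    quot_commutator h h]

/-- `A` normalises the `π`-group `K`, `K` normalises the `π'`-group `N ≥ A`: then `A` centralises
`K`. -/
theorem a13_le_cent (hK : PiGrp π K) (hN : PiGrp πᶜ N) (hAK : A ≤ 𝐍(K)) (hKN : K ≤ 𝐍(N))
    (hAN : A ≤ N) : A ≤ 𝐂(K) := by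
  rw [← commutator_eq_bot_iff'', eq_bot_iff, ← hK.inf_eq_bot hN]
  exact le_inf (commutator_le_left_of_norm hAK)
    ((commutator_mono le_rfl hAN).trans (commutator_le_right_of_norm hKN))

theorem a13_notConj_symm (h : ∀ g : G, H ≠ cj g M) : ∀ g : G, M ≠ cj g H := fun g e =>
  h g⁻¹ (by rw [e, cj_inv_cj])

theorem a13_notConj_ne (h : ∀ g : G, H ≠ cj g M) : H ≠ M := fun e => h 1 (by rw [cj_one, e])

theorem a13_notConj_cj (h : ∀ g : G, H ≠ cj g M) (x : G) : ∀ g : G, cj x H ≠ cj g M := fun g e =>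
  h (x⁻¹ * g) (by rw [cj_mul, ← e, cj_inv_cj])

/-- a subgroup of prime order in a nontrivial subgroup -/
theorem a13_exists_elem [Finite G] (h : H ≠ ⊥) : ∃ q : ℕ, q.Prime ∧ ∃ X, ElemN q 1 H X := by
  obtain ⟨q, hq, hd⟩ := exists_prime_dvd_card h
  exact ⟨q, hq, exists_elemN_one_of_dvd hq hd⟩

/-- It suffices to check a prime action on subgroups of prime order. -/
theorem a13_semiprime_of_prime [Finite G]
    (h : ∀ q : ℕ, q.Prime → ∀ X : Subgroup G, ElemN q 1 A X → K ⊓ 𝐂(X) ≤ 𝐂(A)) :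
    Semiprime K A := by
  intro x hx hx1
  apply le_antisymm _ (inf_le_inf_left _ (cent_le_cent1 hx))
  obtain ⟨q, hq, X, hX⟩ := a13_exists_elem (H := zpowers x) (by rwa [Ne, zpowers_eq_bot])
  refine le_inf inf_le_left
    (le_trans (inf_le_inf_left _ ?_) (h q hq X (hX.mono (zpowers_le.2 hx))))
  rw [← cent_zpowers]
  exact cent_anti hX.le

theorem Semiprime.a13_cent_eq (h : Semiprime K A) (hX : X ≤ A) (hX1 : X ≠ ⊥) :
    K ⊓ 𝐂(X) = K ⊓ 𝐂(A) := by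
  apply le_antisymm _ (inf_le_inf_left _ (cent_anti hX))
  obtain ⟨x, hx, hx1⟩ := exists_ne_one_of_ne_bot hX1
  rw [← h x (hX hx) hx1]
  exact inf_le_inf_left _ (cent_le_cent1 hx)

/-- It suffices to check a regular action on subgroups of prime order. -/
theorem a13_semiregular_of_prime [Finite G]
    (h : ∀ q : ℕ, q.Prime → ∀ X : Subgroup G, ElemN q 1 A X → K ⊓ 𝐂(X) = ⊥) :
    Semiregular K A := by
  intro x hx hx1
  obtain ⟨q, hq, X, hX⟩ := a13_exists_elem (H := zpowers x) (by rwa [Ne, zpowers_eq_bot])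
  rw [eq_bot_iff, ← h q hq X (hX.mono (zpowers_le.2 hx)), ← cent_zpowers]
  exact inf_le_inf_left _ (cent_anti hX.le)

theorem Semiregular.a13_cent_eq (h : Semiregular K A) (hX : X ≤ A) (hX1 : X ≠ ⊥) :
    K ⊓ 𝐂(X) = ⊥ := by
  obtain ⟨x, hx, hx1⟩ := exists_ne_one_of_ne_bot hX1
  rw [eq_bot_iff, ← h x (hX hx) hx1]
  exact inf_le_inf_left _ (cent_le_cent1 hx)

theorem a13_exists_of_not_semiregular [Finite G] (h : ¬ Semiregular K A) :
    ∃ q : ℕ, q.Prime ∧ ∃ X : Subgroup G, ElemN q 1 A X ∧ K ⊓ 𝐂(X) ≠ ⊥ := by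
  by_contra hc
  push Not at hc
  exact h (a13_semiregular_of_prime hc)

theorem a13_inf_cent_ne_bot_anti (h : K ⊓ 𝐂(A) ≠ ⊥) (hX : X ≤ A) : K ⊓ 𝐂(X) ≠ ⊥ :=
  ne_bot_of_le h (inf_le_inf_left _ (cent_anti hX))

theorem a13_inf_cent_eq_bot_mono (h : K ⊓ 𝐂(X) = ⊥) (hX : X ≤ A) : K ⊓ 𝐂(A) = ⊥ :=
  eq_bot_iff.2 (h ▸ inf_le_inf_left _ (cent_anti hX))

/-- a prime dividing `|K N|` but not `|K|` divides `|N|` -/
theorem a13_dvd_of_le_sup (hn : N ≤ 𝐍(K)) (hL : L ≤ K ⊔ N) (hp : p.Prime)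
    (hd : p ∣ Nat.card L) (hK : ¬ p ∣ Nat.card K) : p ∣ Nat.card N :=
  ((hp.dvd_mul.1 ((hd.trans (card_dvd_of_le hL)).trans (card_sup_dvd hn))).resolve_left hK)

/-- `K` normal `p'`-subgroup of `K N`: the `p`-rank of `K N` is that of `N` -/
theorem a13_pRank_of_sup [Finite G] (hp : p.Prime) (hn : N ≤ 𝐍(K)) (h : K ⊔ N = L)
    (hK : ¬ p ∣ Nat.card K) : pRank p L = pRank p N := by
  rw [← h, pRank_sup_of_not_dvd hp hn hK]

/-- a Sylow subgroup of `N` is one of `K N` when `K` is a normal `p'`-subgroup -/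
theorem SylowOf.a13_compl_sup [Finite G] (hp : p.Prime) (h : SylowOf p P N) (hn : N ≤ 𝐍(K))
    (hK : ¬ p ∣ Nat.card K) : SylowOf p P (K ⊔ N) :=
  Hall.compl_sup h ((piGrp_compl_singleton_iff hp).2 hK) hn

/-! ### the sets `σ, α, β, τᵢ` -/

theorem a13_sigma_normal (M : Subgroup G) : sigmaCore M ⊴ M := piCoreOf_normalIn _ _

theorem a13_alpha_normal (M : Subgroup G) : alphaCore M ⊴ M := piCoreOf_normalIn _ _

theorem a13_beta_normal (M : Subgroup G) : betaCore M ⊴ M := piCoreOf_normalIn _ _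

theorem a13_sigma_pi [Finite G] (M : Subgroup G) : PiGrp (sigma M) (sigmaCore M) :=
  piGrp_piCoreOf _ _

theorem a13_alpha_pi [Finite G] (M : Subgroup G) : PiGrp (alpha M) (alphaCore M) :=
  piGrp_piCoreOf _ _

theorem a13_beta_pi [Finite G] (M : Subgroup G) : PiGrp (beta M) (betaCore M) :=
  piGrp_piCoreOf _ _

theorem a13_beta_sub_alpha (M : Subgroup G) : beta M ⊆ alpha M := fun _ h => h.1

theorem a13_beta_le_alpha [Finite G] (M : Subgroup G) : betaCore M ≤ alphaCore M :=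
  piCoreOf_mono (a13_beta_sub_alpha M) M

theorem a13_norm_sigma (h : X ≤ M) : X ≤ 𝐍(sigmaCore M) := h.trans (a13_sigma_normal M).norm

theorem a13_norm_alpha (h : X ≤ M) : X ≤ 𝐍(alphaCore M) := h.trans (a13_alpha_normal M).norm

theorem a13_norm_beta (h : X ≤ M) : X ≤ 𝐍(betaCore M) := h.trans (a13_beta_normal M).norm

theorem a13_tau1_not_tau2 (h : p ∈ tau1 M) : p ∉ tau2 M := fun h' => h'.2.2.2 h.2.2.2.2

theorem a13_tau1_not_tau3 (h : p ∈ tau1 M) : p ∉ tau3 M := fun h' => h.2.2.2.1 h'.2.2.1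

theorem a13_tau3_not_tau2 (h : p ∈ tau3 M) : p ∉ tau2 M := fun h' => h'.2.2.2 h.2.2.2

theorem a13_tau13_prime (h : p ∈ tau1 M ∨ p ∈ tau3 M) : p.Prime := h.elim (·.1) (·.1)

theorem a13_tau13_not_sigma (h : p ∈ tau1 M ∨ p ∈ tau3 M) : p ∉ sigma M :=
  h.elim (·.2.1) (·.2.1)

theorem a13_tau13_not_tau2 (h : p ∈ tau1 M ∨ p ∈ tau3 M) : p ∉ tau2 M :=
  h.elim a13_tau1_not_tau2 a13_tau3_not_tau2

theorem a13_tau13_primesOf (h : p ∈ tau1 M ∨ p ∈ tau3 M) : p ∈ primesOf M :=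
  h.elim (fun h => ⟨h.1, h.2.2.1⟩)
    (fun h => ⟨h.1, h.2.2.1.trans (card_dvd_of_le (NormalIn.der M).le)⟩)

theorem a13_tau13_pRank [Finite G] (h : p ∈ tau1 M ∨ p ∈ tau3 M) : pRank p M ≤ 1 :=
  (pRank_le_iff (a13_tau13_prime h)).2 (h.elim (·.2.2.2.2) (·.2.2.2))

theorem a13_tau2_pRank [Finite G] (h : p ∈ tau2 M) : pRank p M = 2 :=
  le_antisymm ((pRank_le_iff h.1).2 h.2.2.1) ((lt_pRank_iff h.1).2 h.2.2.2)

theorem a13_tau2_primesOf [Finite G] (h : p ∈ tau2 M) : p ∈ primesOf M :=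
  ⟨h.1, (pRank_pos_iff h.1).1 (by rw [a13_tau2_pRank h]; norm_num)⟩

theorem a13_sigma_primesOf (h : p ∈ sigma M) : p ∈ primesOf M := ⟨h.1, h.2.1⟩

theorem a13_der_tau1' (M : Subgroup G) : PiGrp (tau1 M)ᶜ ⁅M, M⁆ :=
  fun _ _ hd h => h.2.2.2.1 hd

theorem a13_tau1_sub (M : Subgroup G) : tau1 M ⊆ (sigma M)ᶜ := fun _ h => h.2.1

theorem a13_tau2_sub (M : Subgroup G) : tau2 M ⊆ (sigma M)ᶜ := fun _ h => h.2.1

theorem a13_tau3_sub (M : Subgroup G) : tau3 M ⊆ (sigma M)ᶜ := fun _ h => h.2.1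

theorem a13_mem_sigma_iff [Finite G] [hp : Fact p.Prime] :
    p ∈ sigma M ↔ p ∣ Nat.card M ∧ ∃ P, SylowOf p P M ∧ 𝐍(P) ≤ M := by
  constructor
  · rintro ⟨-, hd, S, hS⟩
    exact ⟨hd, _, sylowOf_map_subtype S, hS⟩
  · rintro ⟨hd, P, hP, hN⟩
    obtain ⟨S, rfl⟩ := sylowOf_iff_exists.1 hP
    exact ⟨hp.out, hd, S, hN⟩

theorem a13_norm_sylow_le [Finite G] (h : p ∈ sigma M) (hP : SylowOf p P M) : 𝐍(P) ≤ M := by
  have := Fact.mk h.1
  obtain ⟨-, S, hS, hN⟩ := a13_mem_sigma_iff.1 h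
  obtain ⟨g, hg, rfl⟩ := sylow_conj hS hP
  rw [← cj_norm]
  exact cj_le_of_mem hg hN

theorem a13_sylow_top [Finite G] (h : p ∈ sigma M) (hP : SylowOf p P M) : SylowOf p P ⊤ :=
  haveI := Fact.mk h.1
  hP.top_of_norm_le (a13_norm_sylow_le h hP)

theorem a13_mem_sigma [Finite G] (hp : p.Prime) (hP : SylowOf p P M) (h1 : P ≠ ⊥)
    (hN : 𝐍(P) ≤ M) : p ∈ sigma M :=
  haveI := Fact.mk hp
  a13_mem_sigma_iff.2 ⟨hP.ne_bot_iff.1 h1, P, hP, hN⟩

theorem a13_sigma_cj_sub [Finite G] (g : G) (M : Subgroup G) : sigma M ⊆ sigma (cj g M) := by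
  intro p h
  have := Fact.mk h.1
  obtain ⟨hd, S, hS, hN⟩ := a13_mem_sigma_iff.1 h
  exact a13_mem_sigma_iff.2 ⟨by rwa [card_cj], cj g S, Hall.cj hS g,
    by rw [← cj_norm]; exact cj_mono g hN⟩

theorem a13_sigma_cj [Finite G] (g : G) (M : Subgroup G) : sigma (cj g M) = sigma M :=
  Set.Subset.antisymm (by simpa [cj_inv_cj] using a13_sigma_cj_sub g⁻¹ (cj g M))
    (a13_sigma_cj_sub g M)

theorem a13_pRankLE_cj [Finite G] (hp : p.Prime) (k : ℕ) (g : G) (M : Subgroup G) :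
    PRankLE p k (cj g M) ↔ PRankLE p k M := by
  rw [← pRank_le_iff hp, ← pRank_le_iff hp, pRank_cj]

theorem a13_alpha_cj [Finite G] (g : G) (M : Subgroup G) : alpha (cj g M) = alpha M := by
  ext p
  exact and_congr_right fun hp => by rw [a13_pRankLE_cj hp]

theorem a13_beta_cj [Finite G] (g : G) (M : Subgroup G) : beta (cj g M) = beta M := by
  ext p
  show (p ∈ alpha _ ∧ _) ↔ (p ∈ alpha _ ∧ _)
  rw [a13_alpha_cj]

theorem a13_tau1_cj [Finite G] (g : G) (M : Subgroup G) : tau1 (cj g M) = tau1 M := by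
  ext p
  exact and_congr_right fun hp => by
    rw [a13_pRankLE_cj hp, a13_sigma_cj, card_cj, ← cj_commutator, card_cj]

theorem a13_tau2_cj [Finite G] (g : G) (M : Subgroup G) : tau2 (cj g M) = tau2 M := by
  ext p
  exact and_congr_right fun hp => by
    rw [a13_pRankLE_cj hp, a13_pRankLE_cj hp, a13_sigma_cj]

theorem a13_tau3_cj [Finite G] (g : G) (M : Subgroup G) : tau3 (cj g M) = tau3 M := by
  ext p
  exact and_congr_right fun hp => by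
    rw [a13_pRankLE_cj hp, a13_sigma_cj, ← cj_commutator, card_cj]

theorem a13_cj_sigmaCore [Finite G] (g : G) (M : Subgroup G) :
    cj g (sigmaCore M) = sigmaCore (cj g M) := by
  show cj g (piCoreOf _ M) = piCoreOf _ _
  rw [cj_piCoreOf, a13_sigma_cj]

theorem a13_cj_alphaCore [Finite G] (g : G) (M : Subgroup G) :
    cj g (alphaCore M) = alphaCore (cj g M) := by
  show cj g (piCoreOf _ M) = piCoreOf _ _
  rw [cj_piCoreOf, a13_alpha_cj]

theorem a13_cj_betaCore [Finite G] (g : G) (M : Subgroup G) :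
    cj g (betaCore M) = betaCore (cj g M) := by
  show cj g (piCoreOf _ M) = piCoreOf _ _
  rw [cj_piCoreOf, a13_beta_cj]

/-- `|M_σ|` is prime to the order of a `σ(M)'`-group -/
theorem a13_coprime_sigma [Finite G] (hA : PiGrp (sigma M)ᶜ A) (hK : K ≤ sigmaCore M) :
    (Nat.card K).Coprime (Nat.card A) :=
  ((a13_sigma_pi M).of_le hK).coprime hA

end CL.BG
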