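import Cfsg.Agent.BG.T10_3

/-! BG Lemma 10.4 -/

namespace CL.BG

open Cfsg

variable {G : Type*} [Group G] [Finite G]

/-- BG 10.4(a) -/
theorem t10_4a (hG : IsMinSimpleOddOrder G) {M : Subgroup G} (hM : IsCoatom M) {p : ℕ}
    (hp : p ∣ (⁅M, M⁆).relIndex M) : p ∉ sigma M := fun h =>
  piNat_sigma_compl_relIndex_der hG hM p h.1 hp h

/-- BG 10.4(b) -/
theorem t10_4b (hG : IsMinSimpleOddOrder G) {M : Subgroup G} (hM : IsCoatom M) {p : ℕ}
    [Fact p.Prime] (hp : p ∉ sigma M) {P : Subgroup G} (hP : SylowOf p P M) (hP1 : P ≠ ⊥) :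
    ∃ x ∈ omegaOne p 𝐙(P), x ≠ 1 ∧ orderOf x = p ∧ ¬ UniqMax 𝐂₁(x) M ∧
      IsZGroup ↥(alphaCore M ⊓ 𝐂₁(x)) := by
  have pp : p.Prime := Fact.out
  obtain ⟨x, hx, h1, hU⟩ : ∃ x ∈ omegaOne p 𝐙(P), x ≠ 1 ∧ ¬ UniqMax 𝐂₁(x) M := by
    by_contra hall
    push Not at hall
    refine not_norm_le_of_not_mem_sigma hM.1 hp hP fun u hu => ?_
    obtain ⟨y, hy, hy1⟩ := exists_ne_one_of_ne_bot (omegaOne_center_ne_bot pp hP.isPGroup hP1)
    have hyu := hall (u * y * u⁻¹)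
      (conj_mem_of_mem_norm (norm_le_norm_omegaOne_center p P hu) hy) (by simpa using hy1)
    rw [← cj_cent1] at hyu
    exact (hall y hy hy1).mem_of_cj_le hG hyu.le
  have hxp := (mem_omegaOne_iff_of_comm (comm_center P)).1 hx
  refine ⟨x, hx, h1, orderOf_eq_prime hxp.2 h1, hU,
    isZGroup_of_rank_le_one (Or.inl (mFT_odd hG _)) ?_⟩
  by_contra hr
  have hXP : Subgroup.zpowers x ≤ P := Subgroup.zpowers_le.2 hxp.1.1
  have h := t10_3 hG hM (hXP.trans hP.le) (piGrp_of_isPGroup pp (hP.isPGroup.to_le hXP)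
    fun h => hp (alpha_sub_sigma hG hM h)) (by rw [cent_zpowers]; omega)
  rw [cent_zpowers] at h
  exact hU ((inU_uniqMax h hM inf_le_left).mono inf_le_right (mFT_cent1_ne_top hG h1))

/-- BG 10.4(c), first part -/
theorem t10_4c (hG : IsMinSimpleOddOrder G) {M : Subgroup G} (hM : IsCoatom M) {p : ℕ}
    [Fact p.Prime] (hp : p ∉ sigma M) {A : Subgroup G} (hA : ElemN p 2 M A) :
    MaxElem p ⊤ A := by
  by_contra h
  have hU := inU_uniqMax (t9_6c hG hA.top h) hM hA.le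
  obtain ⟨P, hP, hAP⟩ := sylow_superset hA.isPGroup hA.le
  exact not_norm_le_of_not_mem_sigma hM.1 hp hP ((hU.mono_of_le hAP hP.le).norm_le hG)

/-- BG 10.4(c), second part -/
theorem t10_4c_ideal (hG : IsMinSimpleOddOrder G) {M : Subgroup G} (hM : IsCoatom M) {p : ℕ}
    [Fact p.Prime] (hp : p ∉ sigma M) (hr : pRank p M = 2) : ¬ IsIdealPrime p G := by
  intro h
  obtain ⟨A, hA⟩ := exists_elemN_of_le_pRank Fact.out hr.ge
  obtain ⟨S, hS, hAS⟩ := sylow_superset hA.isPGroup le_top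
  exact (isIdealPrime_iff.1 h).2.2 S hS A (hA.of_le hAS) ((t10_4c hG hM hp hA).of_top hAS)

end CL.BG
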