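import Cfsg.Agent.BG.T1_18
import Cfsg.Agent.BG.QuotPi

set_option autoImplicit false
open Cfsg Subgroup

namespace CL.BG
variable {G : Type*} [Group G] [Finite G]

omit [Finite G] in
theorem relIndex_der (H : Subgroup G) : ⁅H, H⁆.relIndex H = (_root_.commutator H).index := by
  rw [← map_subtype_commutator, relIndex, ← comap_subtype,
    comap_map_eq_self_of_injective H.subtype_injective]

omit [Finite G] in
theorem card_der (H : Subgroup G) : Nat.card ↥⁅H, H⁆ = Nat.card (_root_.commutator H) := by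
  rw [← map_subtype_commutator, card_map_of_injective H.subtype_injective]

/-- BG 1.19(a) (`cyclic_Sylow_tiVsub_der1`). -/
theorem t1_19a {p : ℕ} [Fact p.Prime] {S H : Subgroup G} (hS : SylowOf p S H) (hc : IsCyclic S) :
    S ⊓ ⁅H, H⁆ = ⊥ ∨ S ≤ ⁅H, H⁆ := by
  obtain ⟨P, hP⟩ := sylowOf_iff_exists.1 hS
  have : IsCyclic P := by
    rw [← hP] at hc
    exact (isCyclic_map_iff H.subtype_injective).1 hc
  rcases P.not_dvd_card_commutator_or_not_dvd_index_commutator with h | h
  · refine Or.inl (hS.hall.pi.inf_eq_bot ((piGrp_compl_singleton_iff Fact.out).2 ?_))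
    rwa [card_der]
  · refine Or.inr (hS.hall.pi.le_of_relIndex (NormalIn.der H) hS.hall.le
      ((piNat_compl_singleton_iff Fact.out).2 ?_))
    rwa [relIndex_der]

/-- BG 1.19(b) (`Zgroup_der1_Hall`). -/
theorem t1_19b {H : Subgroup G} (hZ : IsZGroup H) : IsHall ⁅H, H⁆ H := ⟨(NormalIn.der H).le, by rw [card_der, relIndex_der]; exact IsZGroup.coprime_commutator_index H⟩

/-- Aschbacher 39.2 (`cyclic_pdiv_normal_complement`). -/
theorem t1_19c {p : ℕ} [Fact p.Prime] {S H : Subgroup G} (hS : SylowOf p S H) (hc : IsCyclic S)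
    (hp : ∀ q : ℕ, q.Prime → q ∣ Nat.card H → p ≤ q) : SDP (piCoreOf {p}ᶜ H) S H := by
  obtain ⟨P, hP⟩ := sylowOf_iff_exists.1 hS
  by_cases hd : p ∣ Nat.card H
  · have hc' : IsCyclic P := by
      rw [← hP] at hc
      exact (isCyclic_map_iff H.subtype_injective).1 hc
    have h1 : Nat.card H ≠ 1 := fun h => (Fact.out : p.Prime).one_lt.ne' (Nat.dvd_one.1 (h ▸ hd))
    have hm : (Nat.card H).minFac = p :=
      le_antisymm (Nat.minFac_le_of_dvd (Fact.out : p.Prime).two_le hd)
        (hp _ (Nat.minFac_prime h1) (Nat.minFac_dvd _))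
    have h2 := sdp_map_subtype (hc'.isComplement' hm)
    rw [hP] at h2
    exact sdp_core_of_sdp_sylow hS h2
  · have h1 : PiGrp {p}ᶜ H := (piGrp_compl_singleton_iff Fact.out).2 hd
    rw [piCoreOf_eq_self h1, hS.hall.eq_bot_iff.2 h1]
    exact SDP.bot_right H

/-- Aschbacher 39.3 (`Zgroup_metacyclic`): `H'` is cyclic with a cyclic complement. -/
theorem t1_19d {H : Subgroup G} (hZ : IsZGroup H) :
    IsCyclic ↥⁅H, H⁆ ∧ ∃ K : Subgroup G, IsCyclic K ∧ SDP ⁅H, H⁆ K H := by
  refine ⟨?_, ?_⟩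
  · rw [← map_subtype_commutator, isCyclic_map_iff H.subtype_injective]
    exact IsZGroup.isCyclic_commutator H
  · obtain ⟨K, hK⟩ := exists_sdp_of_isHall (t1_19b hZ) (NormalIn.der H).norm
    refine ⟨K, ?_, hK⟩
    have h1 : IsMulCommutative K := by
      rw [← commutator_self_eq_bot_iff, ← hK.der_inf_right, hK.disj]
    have h2 := isZGroup_of_le hZ hK.right_le
    have h3 : Group.IsNilpotent K := by
      rw [isNilpotent_iff_lowerCentralSeries]
      exact ⟨1, commutator_self_eq_bot_iff.2 h1⟩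
    infer_instance

end CL.BG
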