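import Cfsg.Agent.BG.T1_6
import Cfsg.Agent.BG.Fit

set_option autoImplicit false
open Cfsg Subgroup

namespace CL.BG
variable {G : Type*} [Group G] [Finite G]

/-- BG 6.3(a) (`coprime_der1_sdprod`). -/
theorem t6_3a {K H L : Subgroup G} (h : SDP K H L) (hcop : (Nat.card K).Coprime (Nat.card H))
    (hsol : Group.IsSolvable K) (hK : K ≤ ⁅L, L⁆) : ⁅K, H⁆ = K ∧ K ⊓ 𝐂(H) ≤ ⁅K, K⁆ := by
  have hR : ⁅K, H⁆ ≤ K := commutator_le_left_of_norm h.norm
  have hKR : K ≤ 𝐍(⁅K, H⁆) := normalizer_commutator_ge_left K H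
  have hHR : H ≤ 𝐍(⁅K, H⁆) := normalizer_commutator_ge_right K H
  have hL : L ≤ 𝐍(⁅K, H⁆) := h.sup ▸ sup_le hKR hHR
  have h1 : ⁅K, H⁆ = K := by
    have h2 := (h.quot_of_le hL hR).dp
      ((quot_le_centralizer_iff hHR hKR).2 (commutator_comm H K).le)
    have h3 : quot ⁅K, H⁆ K ≤ ⁅quot ⁅K, H⁆ K, quot ⁅K, H⁆ K⁆ := by
      have h4 := quot_mono ⁅K, H⁆ hK
      rw [quot_commutator hL hL, ← h2.der.sup] at h4
      have h5 := sup_inf_modular (Or.inl h2.der.sdp.norm) (NormalIn.der (quot ⁅K, H⁆ K)).le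
      rw [inf_eq_right.2 h4] at h5
      refine h5.le.trans (sup_le le_rfl ?_)
      exact ((inf_le_inf_right _ (NormalIn.der _).le).trans h2.symm.disj.le).trans bot_le
    refine le_antisymm hR ((quot_eq_bot_iff hKR).1 ?_)
    by_contra hne
    exact (der_lt_of_solvable (quot_isSolvable _ hsol) hne).not_ge h3
  refine ⟨h1, ?_⟩
  have hK' : K ≤ 𝐍(⁅K, K⁆) := (NormalIn.der K).norm
  have hH' : H ≤ 𝐍(⁅K, K⁆) := norms_der h.norm
  have h2 := t1_6d_TI (quot_normalizer ⁅K, K⁆ h.norm) (quot_coprime _ hcop)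
    ((quot_isMulCommutative_iff hK').2 le_rfl)
  rw [← quot_commutator hK' hH', h1] at h2
  rw [← quot_eq_bot_iff (inf_le_left.trans hK'), ← le_bot_iff, ← h2]
  exact quot_inf_centralizer_le _ K H

/-- BG 6.3(b) (`prime_nil_der1_factor`). -/
theorem t6_3b {L : Subgroup G} (hnil : Group.IsNilpotent ↥⁅L, L⁆)
    (hp : (⁅L, L⁆.relIndex L).Prime) :
    IsHall ⁅L, L⁆ L ∧ ∀ H : Subgroup G, SDP ⁅L, L⁆ H L → ⁅L, L⁆ = ⁅L, H⁆ := by
  have := Fact.mk hp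
  set p := ⁅L, L⁆.relIndex L with hpL
  have hV : piCoreOf {p}ᶜ ⁅L, L⁆ ⊴ L := (NormalIn.der L).piCoreOf_trans _
  have hVK := piCoreOf_le {p}ᶜ ⁅L, L⁆
  have h1 : IsPGroup p (quot (piCoreOf {p}ᶜ ⁅L, L⁆) L) := by
    rw [isPGroup_quot_iff hV.norm, ← relIndex_mul_relIndex _ _ _ hVK (NormalIn.der L).le]
    refine CL.IsPiNum.mul ?_ ((piNat_prime_iff hp).2 rfl)
    have h2 := (nil_hall_core hnil {p}ᶜ).idx
    rwa [compl_compl] at h2
  have h2 : IsCyclic (quot (piCoreOf {p}ᶜ ⁅L, L⁆) L) := by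
    refine isCyclic_of_quot_der (nil_of_isPGroup h1) (isCyclic_of_card_prime ?_)
    rwa [card_quot (NormalIn.der _).norm, ← quot_commutator hV.norm hV.norm,
      relIndex_quot hV.norm hVK]
  have h3 : PiGrp {p}ᶜ ⁅L, L⁆ :=
    (piGrp_piCoreOf _ _).of_le ((quot_isMulCommutative_iff hV.norm).1 (comm_of_isCyclic h2))
  have h4 : IsHall ⁅L, L⁆ L :=
    ⟨(NormalIn.der L).le, (piGrp_compl_singleton_iff_coprime hp).1 h3⟩
  refine ⟨h4, fun H hH => le_antisymm ?_ (commutator_mono le_rfl hH.right_le)⟩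
  rw [← (t6_3a hH (hH.coprime_of_isHall_left h4) (solvable_of_nil hnil) le_rfl).1]
  exact commutator_mono (NormalIn.der L).le le_rfl

end CL.BG
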