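import Cfsg.Agent.Base
import Cfsg.Agent.BG.A12_Basic
import Cfsg.Agent.BG.T10_4
import Cfsg.Agent.BG.T1_19
import Cfsg.Agent.BG.T6_3

/-!
# BG Lemma 12.1: the structure of a complement `E` of `M_σ`
-/

namespace CL.BG

open Cfsg Subgroup

variable {G : Type*} [Group G] [Finite G]

/-- BG 12.1(a) -/
theorem t12_1a (hG : IsMinSimpleOddOrder G) {M E : Subgroup G} (hM : IsCoatom M)
    (hE : Hall (sigma M)ᶜ E M) : Group.IsNilpotent ↥⁅E, E⁆ :=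
  t10_2d hG hM (commutator_mono hE.le hE.le)
    ((hE.pi.of_le (NormalIn.der E).le).mono
      (Set.compl_subset_compl.2 (alpha_sub_sigma hG hM)))

/-- BG 12.1(b) -/
theorem t12_1b (hG : IsMinSimpleOddOrder G) {M E E₃ : Subgroup G} (hM : IsCoatom M)
    (hE : Hall (sigma M)ᶜ E M) (h₃ : Hall (tau3 M) E₃ E) : E₃ ≤ ⁅E, E⁆ ∧ E₃ ⊴ E := by
  have hle : E₃ ≤ ⁅E, E⁆ := by
    refine le_of_forall_exists_sylow_le fun p hp hd => ?_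
    have : Fact p.Prime := ⟨hp⟩
    have h3 : p ∈ tau3 M := piGrp_iff.1 h₃.pi p hp hd
    obtain ⟨P, hP⟩ := sylow_exists p E₃
    refine ⟨P, hP, ?_⟩
    have hPE : SylowOf p P E := hP.trans_hall h₃ h3
    rcases t1_19a hPE (tau13_isCyclic hG (Or.inr h3) (hPE.hall.le.trans hE.le) hP.isPGroup)
      with h | h
    · have h1 : SylowOf p (P ⊓ ⁅E, E⁆) ⁅E, E⁆ := hPE.hall.inf_normal (NormalIn.der E)
      exact absurd h (h1.ne_bot_iff.2 ((tau3E hG hM hE hp).1 h3).2)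
    · exact h
  exact ⟨hle, (nil_hall_char (t12_1a hG hM hE)
    (h₃.restrict hle (NormalIn.der E).le)).trans_normalIn (NormalIn.der E)⟩

/-- BG 12.1(c) -/
theorem t12_1c (hG : IsMinSimpleOddOrder G) {M E E₁ E₂ : Subgroup G} (hM : IsCoatom M)
    (hE : Hall (sigma M)ᶜ E M) (h₁ : Hall (tau1 M) E₁ E) (h₂ : Hall (tau2 M) E₂ E)
    (h : E₂ = ⊥) : E₁ ≠ ⊥ := by
  intro h'
  have h1 := h₁.eq_bot_iff.1 h'
  have h2 := h₂.eq_bot_iff.1 h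
  have h3 : PiGrp (tau3 M) E := by
    refine piGrp_iff.2 fun p hp hd => ?_
    rcases s12_tau_cases hG hM hE.le hE.pi hp hd with h | h | h
    · exact absurd h (piGrp_iff.1 h1 p hp hd)
    · exact absurd h (piGrp_iff.1 h2 p hp hd)
    · exact h
  have h4 := (t12_1b hG hM hE (Hall.self h3)).1
  have h5 : E = ⊥ := by
    by_contra hne
    exact absurd h4 (not_le_of_gt (der_lt_of_solvable (mmax_sub_sol hG hM hE.le) hne))
  have h6 := sdprod_sigma hG hM hE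
  rw [h5] at h6
  have h7 := t10_2c hG hM
  rw [h6.left_eq_of_bot] at h7
  exact absurd h7 (not_le_of_gt (der_lt_of_solvable (mmax_sol hG hM) (mmax_ne_bot hG hM)))

omit [Finite G] in
/-- `M'` is a `τ₁(M)'`-group -/
theorem s12_der_tau1 (M : Subgroup G) : PiGrp (tau1 M)ᶜ ⁅M, M⁆ :=
  piGrp_iff.2 fun _ _ hd h => h.2.2.2.1 hd

/-- BG 12.1(d), first half -/
theorem t12_1d1 (hG : IsMinSimpleOddOrder G) {M E₁ : Subgroup G} (hM : IsCoatom M)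
    (hle : E₁ ≤ M) (h₁ : PiGrp (tau1 M) E₁) : IsCyclic E₁ := by
  have _ := hM
  refine isCyclic_of_isZGroup_of_comm
    (s12_tau13_isZGroup hG hle (h₁.mono Set.subset_union_left)) ?_
  refine comm_iff_le_cent.2 (commutator_eq_bot_iff'.1 (eq_bot_iff.2 ?_))
  rw [← h₁.inf_eq_bot (s12_der_tau1 M)]
  exact le_inf (NormalIn.der E₁).le (commutator_mono hle hle)

/-- BG 12.1(d), second half -/
theorem t12_1d3 (hG : IsMinSimpleOddOrder G) {M E₃ : Subgroup G} (hM : IsCoatom M)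
    (hle : E₃ ≤ M) (h₃ : PiGrp (tau3 M) E₃) : IsCyclic E₃ := by
  obtain ⟨E, hE, hE₃⟩ := ex_sigma_compl hG hM hle (h₃.mono s12_tau3_sub)
  obtain ⟨F, hF, hF₃⟩ := hall_superset (mmax_sub_sol hG hM hE.le) hE₃ h₃
  exact isCyclic_of_isZGroup_of_nilpotent
    (s12_tau13_isZGroup hG hle (h₃.mono Set.subset_union_right))
    (nilpotent_of_le (t12_1a hG hM hE) (hF₃.trans (t12_1b hG hM hE hF).1))

/-- `E₃ E₂` is a normal Hall `τ₁(M)'`-subgroup of `E` containing `E'` -/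
theorem s12_hall32 (hG : IsMinSimpleOddOrder G) {M E E₂ E₃ : Subgroup G} (hM : IsCoatom M)
    (hE : Hall (sigma M)ᶜ E M) (h₂ : Hall (tau2 M) E₂ E) (h₃ : Hall (tau3 M) E₃ E) :
    Hall (tau1 M)ᶜ (E₃ ⊔ E₂) E ∧ ⁅E, E⁆ ≤ E₃ ⊔ E₂ ∧ (E₃ ⊔ E₂) ⊴ E := by
  have hn := (t12_1b hG hM hE h₃).2
  have hK : Hall (tau1 M)ᶜ (E₃ ⊔ E₂) E := by
    refine (h₃.sup_union h₂ (Or.inl (h₂.le.trans hn.norm))).congr fun p hp hd => ⟨?_, fun h => ?_⟩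
    · rintro (h | h) h'
      · exact s12_tau1_not3 h' h
      · exact s12_tau1_not2 h' h
    · rcases s12_tau_cases hG hM hE.le hE.pi hp hd with h' | h' | h'
      · exact absurd h' h
      · exact Or.inr h'
      · exact Or.inl h'
  have hd : ⁅E, E⁆ ≤ E₃ ⊔ E₂ :=
    hK.normal_le (NormalIn.der E) ((s12_der_tau1 M).of_le (commutator_mono hE.le hE.le))
  exact ⟨hK, hd, NormalIn.of_der_le hd hK.le⟩

/-- BG 12.1(e): `E = E₃ ⋊ (E₂ ⋊ E₁) = (E₃ ⋊ E₂) ⋊ E₁` -/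
theorem t12_1e (hG : IsMinSimpleOddOrder G) {M E E₁ E₂ E₃ : Subgroup G} (hM : IsCoatom M)
    (h : SigmaCompl M E E₁ E₂ E₃) :
    SDP E₂ E₁ (E₂ ⊔ E₁) ∧ SDP E₃ (E₂ ⊔ E₁) E ∧ SDP E₃ E₂ (E₃ ⊔ E₂) ∧ SDP (E₃ ⊔ E₂) E₁ E ∧
      ⁅E, E⁆ ≤ E₃ ⊔ E₂ := by
  obtain ⟨hE, h₁, h₂, h₃, hg⟩ := h
  obtain ⟨hK, hd, hKn⟩ := s12_hall32 hG hM hE h₂ h₃
  have hn := (t12_1b hG hM hE h₃).2
  have s1 : SDP (E₃ ⊔ E₂) E₁ E := hK.sdp' hKn.norm h₁
  have s2 : SDP E₃ E₂ (E₃ ⊔ E₂) := SDP.mk_sup (h₂.le.trans hn.norm)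
    (disj_of_coprime (h₃.pi.coprime_of_disjoint h₂.pi
      (Set.disjoint_left.2 fun _ h => s12_tau3_not2 h)))
  have e : (E₂ ⊔ E₁) ⊓ (E₃ ⊔ E₂) = E₂ := by
    refine le_antisymm ?_ (le_inf le_sup_left le_sup_right)
    rintro x ⟨hx, hx'⟩
    obtain ⟨a, ha, b, hb, rfl⟩ := hg x hx
    have hb' : b ∈ (E₃ ⊔ E₂) ⊓ E₁ := ⟨by
      have := (E₃ ⊔ E₂).mul_mem ((E₃ ⊔ E₂).inv_mem ((le_sup_right : E₂ ≤ E₃ ⊔ E₂) ha)) hx'
      simpa using this, hb⟩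
    rw [s1.disj, mem_bot] at hb'
    rw [hb', mul_one]
    exact ha
  have hn2 : E₁ ≤ 𝐍(E₂) := by
    rw [← e]
    exact norms_inf (le_norm_of_le le_sup_right) (h₁.le.trans hKn.norm)
  obtain ⟨s3, s4⟩ := s2.assoc s1 (h₁.le.trans hn.norm) hn2
  exact ⟨s3, s4, s2, s1, hd⟩

/-- BG 12.1(f) -/
theorem t12_1f (hG : IsMinSimpleOddOrder G) {M E E₃ : Subgroup G} (hM : IsCoatom M)
    (hE : Hall (sigma M)ᶜ E M) (h₃ : Hall (tau3 M) E₃ E) : E₃ ⊓ 𝐂(E) = ⊥ := by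
  obtain ⟨hd, hn⟩ := t12_1b hG hM hE h₃
  obtain ⟨H, hH⟩ := h₃.exists_sdp hn.norm
  have hc := t12_1d3 hG hM (h₃.le.trans hE.le) h₃.pi
  have h := (t6_3a hH (hH.coprime_of_isHall_left h₃.isHall) (solvable_of_isCyclic hc) hd).2
  rw [commutator_eq_bot_iff'.2 (le_cent_of_comm (comm_of_isCyclic hc))] at h
  exact eq_bot_iff.2 ((inf_le_inf_left _ (cent_anti hH.right_le)).trans h)

/-- BG 12.1(g) -/
theorem t12_1g (hG : IsMinSimpleOddOrder G) {M : Subgroup G} (hM : IsCoatom M) {p : ℕ}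
    (hp : p ∈ tau2 M) :
    ¬ IsIdealPrime p G ∧ ∀ A : Subgroup G, ElemN p 2 M A → MaxElem p ⊤ A := by
  have : Fact p.Prime := ⟨hp.1⟩
  exact ⟨t10_4c_ideal hG hM hp.2.1 (s12_tau2_rank hp), fun _ hA => t10_4c hG hM hp.2.1 hA⟩

end CL.BG
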