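import Cfsg.Agent.BG.QuotPi
import Cfsg.Agent.BG.Rank
import Cfsg.Agent.PLocal.ElemAb
import Cfsg.Agent.PGrp.ClassBound
import Cfsg.Agent.PGrp.Frattini
import Cfsg.Agent.Solv.UniqueSubgroupP

/-!
# `p`-subgroups, cyclic subgroups and metacyclic subgroups of an ambient group
-/

set_option autoImplicit false

namespace CL.BG

open Cfsg Subgroup
open scoped commutatorElement

variable {G : Type*} [Group G] {R N K H A C X Y V : Subgroup G} {p : ℕ}

/-! ### passing to `↥R` -/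

theorem card_subgroupOf_of_le' (h : H ≤ R) : Nat.card (H.subgroupOf R) = Nat.card H :=
  Nat.card_congr (subgroupOfEquivOfLe h).toEquiv

theorem card_map_subtype' (X : Subgroup R) : Nat.card (X.map R.subtype) = Nat.card X :=
  (Nat.card_congr (X.equivMapOfInjective _ R.subtype_injective).toEquiv).symm

theorem map_subtype_top' (R : Subgroup G) : (⊤ : Subgroup R).map R.subtype = R := by
  rw [← MonoidHom.range_eq_map, range_subtype]

theorem isCyclic_subgroupOf_iff (h : H ≤ R) : IsCyclic (H.subgroupOf R) ↔ IsCyclic H :=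
  (subgroupOfEquivOfLe h).isCyclic

theorem isCyclic_map_subtype_iff (X : Subgroup R) : IsCyclic (X.map R.subtype) ↔ IsCyclic X :=
  isCyclic_map_iff R.subtype_injective

theorem map_subtype_cent (X : Subgroup R) :
    (centralizer (X : Set R)).map R.subtype = R ⊓ 𝐂(X.map R.subtype) := by
  have := map_inf_cent R.subtype_injective (⊤ : Subgroup R) X
  rwa [top_inf_eq, map_subtype_top'] at this

theorem subgroupOf_cent (h : H ≤ R) :
    (𝐂(H)).subgroupOf R = centralizer ((H.subgroupOf R : Subgroup R) : Set R) := by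
  apply map_injective R.subtype_injective
  rw [map_subtype_cent, map_subgroupOf_eq_of_le h, subgroupOf_map_subtype, inf_comm]

theorem omegaOne_top_map_subtype (p : ℕ) (R : Subgroup G) :
    (omegaOne p (⊤ : Subgroup R)).map R.subtype = omegaOne p R := by
  rw [EA.omegaOne_map_of_injective _ R.subtype_injective, map_subtype_top']

theorem omegaOne_top_eq (p : ℕ) (Γ : Type*) [Group Γ] :
    omegaOne p (⊤ : Subgroup Γ) = closure {x : Γ | x ^ p = 1} := by
  unfold omegaOne; simp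

theorem omegaOne_closure_map_subtype (p : ℕ) (R : Subgroup G) :
    (closure {x : R | x ^ p = 1}).map R.subtype = omegaOne p R := by
  rw [← omegaOne_top_eq, omegaOne_top_map_subtype]

theorem card_omegaOne_top (p : ℕ) (R : Subgroup G) :
    Nat.card (omegaOne p (⊤ : Subgroup R)) = Nat.card (omegaOne p R) := by
  rw [← omegaOne_top_map_subtype p R, card_map_subtype']

theorem omegaOne_elem_of_comm (p : ℕ) (h : IsMulCommutative R) :
    IsElementaryAbelian p (omegaOne p R) :=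
  EA.omegaOne_of_comm fun _ ha _ hb => (mem_cent.1 (le_cent_of_comm h hb) _ ha)

/-- a characteristic subgroup of a characteristic subgroup -/
theorem CharIn.trans (h₁ : CharIn X H) (h₂ : CharIn H R) : CharIn X R := by
  refine ⟨h₁.le.trans h₂.le, ?_⟩
  have := h₂.char
  have e := subgroupOfEquivOfLe h₂.le
  have : ((X.subgroupOf R).subgroupOf (H.subgroupOf R)).Characteristic := by
    have : (X.subgroupOf R).subgroupOf (H.subgroupOf R) =
        (X.subgroupOf H).comap (subgroupOfEquivOfLe h₂.le).toMonoidHom := by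
      ext x; rfl
    rw [this, characteristic_iff_comap_eq]
    intro φ
    let e := subgroupOfEquivOfLe h₂.le
    have h3 := characteristic_iff_comap_eq.1 h₁.char ((e.symm.trans φ).trans e)
    ext x
    have h4 := congrArg (fun S : Subgroup H => e x ∈ S) h3
    simpa [e] using h4
  have h5 := characteristic_of_characteristic_of_characteristic
    (H := H.subgroupOf R) (K := (X.subgroupOf R).subgroupOf (H.subgroupOf R))
  rwa [map_subgroupOf_eq_of_le (subgroupOf_mono _ h₁.le)] at h5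

theorem CharIn.inf_cent (h : CharIn X R) : CharIn (R ⊓ 𝐂(X)) R := by
  refine ⟨inf_le_left, ?_⟩
  have := h.char
  rw [inf_subgroupOf_left, subgroupOf_cent h.le]
  infer_instance

theorem charIn_refl (R : Subgroup G) : CharIn R R :=
  ⟨le_rfl, by rw [subgroupOf_self]; infer_instance⟩

theorem charIn_der (R : Subgroup G) : CharIn ⁅R, R⁆ R := by
  rw [← map_subtype_commutator]; exact CharIn.map_subtype _

theorem charIn_center (R : Subgroup G) : CharIn 𝐙(R) R := (charIn_refl R).inf_cent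

/-! ### conjugation action on a normalised subgroup -/

/-- the conjugation action of `A ≤ N(X)` on `X` -/
def conjAct' (h : A ≤ 𝐍(X)) : A →* MulAut X := X.normalizerMonoidHom.comp (inclusion h)

theorem coe_conjAct' (h : A ≤ 𝐍(X)) (a : A) (x : X) :
    ((conjAct' h a x : X) : G) = a * x * (a : G)⁻¹ := rfl

theorem ker_conjAct' (h : A ≤ 𝐍(X)) : (conjAct' h).ker = (𝐂(X)).subgroupOf A := by
  ext a
  rw [MonoidHom.mem_ker, mem_subgroupOf, mem_cent]
  constructor
  · intro h1 x hx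
    have := congrArg (fun φ : MulAut X => ((φ ⟨x, hx⟩ : X) : G)) h1
    simp only [coe_conjAct', MulAut.one_apply] at this
    rw [mul_inv_eq_iff_eq_mul] at this
    exact this.symm
  · intro h1
    ext x
    rw [coe_conjAct', ← h1 x x.2]; simp

theorem card_range_conjAct' (h : A ≤ 𝐍(X)) :
    Nat.card (conjAct' h).range = (𝐂(X)).relIndex A := by
  rw [← index_ker, ker_conjAct']; rfl

theorem relIndex_cent_dvd_card_mulAut (h : A ≤ 𝐍(X)) :
    (𝐂(X)).relIndex A ∣ Nat.card (MulAut X) := by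
  rw [← card_range_conjAct' h]; exact card_subgroup_dvd_card _

theorem der_le_cent_of_comm_range (h : A ≤ 𝐍(X)) (hc : ∀ a b : A,
    conjAct' h a * conjAct' h b = conjAct' h b * conjAct' h a) : ⁅A, A⁆ ≤ 𝐂(X) := by
  rw [commutator_le]
  intro a ha b hb
  have : (⁅(⟨a, ha⟩ : A), (⟨b, hb⟩ : A)⁆ : A) ∈ (conjAct' h).ker := by
    rw [MonoidHom.mem_ker, map_commutatorElement, commutatorElement_eq_one_iff_mul_comm, hc]
  rw [ker_conjAct', mem_subgroupOf] at this
  exact this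

/-! ### cyclic subgroups -/

theorem cyc_der_le_cent (hC : IsCyclic C) (h : A ≤ 𝐍(C)) : ⁅A, A⁆ ≤ 𝐂(C) := by
  refine der_le_cent_of_comm_range h fun a b => ?_
  apply (IsCyclic.mulAutMulEquiv C).injective
  rw [map_mul, map_mul, mul_comm]

theorem cyc_relIndex_cent_dvd [Finite G] (hC : IsCyclic C) (h : A ≤ 𝐍(C)) :
    (𝐂(C)).relIndex A ∣ (Nat.card C).totient := by
  rw [← IsCyclic.card_mulAut]; exact relIndex_cent_dvd_card_mulAut h

theorem relIndex_cent_dvd_of_card_prime [Finite G] (hp : p.Prime) (hX : Nat.card X = p)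
    (h : A ≤ 𝐍(X)) : (𝐂(X)).relIndex A ∣ p - 1 := by
  have := cyc_relIndex_cent_dvd (isCyclic_of_card_prime (hX ▸ hp)) h
  rwa [hX, Nat.totient_prime hp] at this

theorem pow_mem_cent_of_card_prime [Finite G] (hp : p.Prime) (hX : Nat.card X = p) {x : G}
    (h : x ∈ 𝐍(X)) : x ^ (p - 1) ∈ 𝐂(X) := by
  have h1 : zpowers x ≤ 𝐍(X) := zpowers_le.2 h
  obtain ⟨k, hk⟩ := relIndex_cent_dvd_of_card_prime hp hX h1
  have := (NormalIn.inf_cent h1).normal
  have h2 := pow_index_mem (H := (zpowers x ⊓ 𝐂(X)).subgroupOf (zpowers x)) ⟨x, mem_zpowers x⟩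
  rw [mem_subgroupOf] at h2
  have h3 : ((zpowers x ⊓ 𝐂(X)).subgroupOf (zpowers x)).index = (𝐂(X)).relIndex (zpowers x) :=
    inf_relIndex_left _ _
  rw [h3] at h2
  rw [hk, pow_mul]
  exact Subgroup.pow_mem _ h2.2 _

/-- in a cyclic group an element killed by the order of a subgroup lies in that subgroup -/
theorem cyc_mem_of_pow_card [Finite G] (hC : IsCyclic C) (hX : X ≤ C) {y : G} (hy : y ∈ C)
    (h : y ^ Nat.card X = 1) : y ∈ X := by
  classical
  have := Fintype.ofFinite C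
  have h1 := IsCyclic.card_pow_eq_one_le (α := C) (n := Nat.card X) Nat.card_pos
  have h2 : (Finset.univ.filter fun c : C => (c : G) ∈ X) ⊆
      Finset.univ.filter fun c : C => c ^ Nat.card X = 1 := by
    intro c hc
    simp only [Finset.mem_filter, Finset.mem_univ, true_and] at hc ⊢
    apply Subtype.ext
    exact orderOf_dvd_iff_pow_eq_one.1 (orderOf_dvd_card' hc)
  have h3 : (Finset.univ.filter fun c : C => (c : G) ∈ X).card = Nat.card X := by
    rw [← card_subgroupOf_of_le' hX, ← Fintype.card_subtype, ← Nat.card_eq_fintype_card]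
    rfl
  have h4 := Finset.eq_of_subset_of_card_le h2 (h1.trans h3.ge)
  have h5 : (⟨y, hy⟩ : C) ∈ Finset.univ.filter fun c : C => c ^ Nat.card X = 1 := by
    simp only [Finset.mem_filter, Finset.mem_univ, true_and]
    exact Subtype.ext (by simpa using h)
  rw [← h4] at h5
  simpa using h5

theorem cyc_le_of_card_dvd [Finite G] (hC : IsCyclic C) (hX : X ≤ C) (hY : Y ≤ C)
    (h : Nat.card X ∣ Nat.card Y) : X ≤ Y := fun _ hx =>
  cyc_mem_of_pow_card hC hY (hX hx)
    (orderOf_dvd_iff_pow_eq_one.1 ((orderOf_dvd_card' hx).trans h))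

theorem cyc_eq_of_card_eq [Finite G] (hC : IsCyclic C) (hX : X ≤ C) (hY : Y ≤ C)
    (h : Nat.card X = Nat.card Y) : X = Y :=
  le_antisymm (cyc_le_of_card_dvd hC hX hY h.dvd) (cyc_le_of_card_dvd hC hY hX h.symm.dvd)

theorem cyc_charIn [Finite G] (hC : IsCyclic C) (hX : X ≤ C) : CharIn X C := by
  refine ⟨hX, characteristic_iff_map_eq.2 fun φ => ?_⟩
  have : IsCyclic (⊤ : Subgroup C) := Subgroup.isCyclic _
  refine cyc_eq_of_card_eq this le_top le_top ?_
  exact (Nat.card_congr ((X.subgroupOf C).equivMapOfInjective _ φ.injective).toEquiv).symm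

theorem cyc_norm_le [Finite G] (hC : IsCyclic C) (hX : X ≤ C) : 𝐍(C) ≤ 𝐍(X) :=
  (cyc_charIn hC hX).norm_le

theorem cyc_normalIn [Finite G] (hC : IsCyclic C) (hX : X ≤ C) (h : C ⊴ R) : X ⊴ R :=
  (cyc_charIn hC hX).trans_normalIn h

theorem cyc_card_omegaOne_dvd (p : ℕ) (hC : IsCyclic C) :
    Nat.card (omegaOne p C) ∣ p := by
  have h1 := omegaOne_elem_of_comm p (comm_of_isCyclic hC)
  obtain ⟨x, hx, h2⟩ := exists_zpowers_of_isCyclic (isCyclic_of_le hC (EA.omegaOne_le (p := p) C))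
  rw [h2, Nat.card_zpowers]
  exact orderOf_dvd_of_pow_eq_one (h1.2 x hx)

/-! ### `p`-subgroups -/

section pgroup

variable [Finite G] [hp : Fact p.Prime]

theorem pg_card_eq_pow (hR : IsPGroup p R) : ∃ n, Nat.card R = p ^ n := IsPGroup.iff_card.1 hR

theorem pg_dvd_card (hR : IsPGroup p R) (hne : R ≠ ⊥) : p ∣ Nat.card R := by
  obtain ⟨n, hn⟩ := pg_card_eq_pow hR
  rcases n with _ | n
  · exact absurd (card_eq_one.1 (by simpa using hn)) hne
  · rw [hn]; exact dvd_pow_self _ n.succ_ne_zero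

theorem pg_ne_two (hR : IsPGroup p R) (hodd : Odd (Nat.card R)) (hne : R ≠ ⊥) : p ≠ 2 := by
  rintro rfl
  exact (Nat.not_even_iff_odd.2 hodd) (even_iff_two_dvd.2 (pg_dvd_card hR hne))

theorem pg_ne_two_of_not_isCyclic (hR : IsPGroup p R) (hodd : Odd (Nat.card R))
    (h : ¬ IsCyclic R) : p ≠ 2 :=
  pg_ne_two hR hodd (by rintro rfl; exact h inferInstance)

theorem pg_odd (hR : IsPGroup p R) (h : p ≠ 2) : Odd (Nat.card R) := by
  obtain ⟨n, hn⟩ := pg_card_eq_pow hR
  rw [hn]; exact (hp.out.odd_of_ne_two h).pow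

theorem pg_relIndex_eq_pow (hR : IsPGroup p R) (H : Subgroup G) : ∃ n, H.relIndex R = p ^ n := by
  obtain ⟨n, hn⟩ := pg_card_eq_pow hR
  have : H.relIndex R ∣ p ^ n := hn ▸ relIndex_dvd_card H R
  obtain ⟨k, -, hk⟩ := (Nat.dvd_prime_pow hp.out).1 this
  exact ⟨k, hk⟩

theorem pg_dvd_relIndex (hR : IsPGroup p R) (h : ¬ R ≤ H) : p ∣ H.relIndex R := by
  obtain ⟨n, hn⟩ := pg_relIndex_eq_pow hR H
  rcases n with _ | n
  · exact absurd (relIndex_eq_one.1 (by simpa using hn)) h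
  · rw [hn]; exact dvd_pow_self _ n.succ_ne_zero

theorem pg_mul_card_le_of_lt (hR : IsPGroup p R) (h : H < R) : p * Nat.card H ≤ Nat.card R :=
  PGrp.Chain.mul_card_le_of_lt hR h

theorem pg_exists_order_p (hR : IsPGroup p R) (hne : R ≠ ⊥) : ∃ x ∈ R, x ≠ 1 ∧ x ^ p = 1 := by
  obtain ⟨x, hx, h⟩ := exists_orderOf_eq_of_dvd_card hp.out (pg_dvd_card hR hne)
  refine ⟨x, hx, ?_, h ▸ pow_orderOf_eq_one x⟩
  rintro rfl
  exact hp.out.one_lt.ne (by simpa using h)

theorem pg_omegaOne_ne_bot (hR : IsPGroup p R) (hne : R ≠ ⊥) : omegaOne p R ≠ ⊥ := by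
  obtain ⟨x, hx, h1, h2⟩ := pg_exists_order_p hR hne
  exact ne_bot_of_mem (EA.mem_omegaOne hx h2) h1

theorem pg_eq_bot_of_inf_omegaOne (hR : IsPGroup p R) (hH : H ≤ R) (h : H ⊓ omegaOne p R = ⊥) :
    H = ⊥ := by
  by_contra hne
  refine pg_omegaOne_ne_bot (hR.to_le hH) hne (le_bot_iff.1 ?_)
  rw [← h]
  exact le_inf (EA.omegaOne_le H) (EA.omegaOne_mono hH)

theorem cyc_card_omegaOne (hC : IsCyclic C) (hR : IsPGroup p C) (hne : C ≠ ⊥) :
    Nat.card (omegaOne p C) = p :=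
  ((Nat.dvd_prime hp.out).1 (cyc_card_omegaOne_dvd p hC)).resolve_left
    fun h => pg_omegaOne_ne_bot hR hne (card_eq_one.1 h)

theorem cyc_omegaOne_le (hC : IsCyclic C) (hR : IsPGroup p C) (hX : X ≤ C) (hne : X ≠ ⊥) :
    omegaOne p C ≤ X :=
  cyc_le_of_card_dvd hC (EA.omegaOne_le C) hX
    ((cyc_card_omegaOne_dvd p hC).trans (pg_dvd_card (hR.to_le hX) hne))

theorem cyc_eq_omegaOne (hC : IsCyclic C) (hX : X ≤ C) (hc : Nat.card X = p) :
    X = omegaOne p C := by
  have h1 : X ≤ omegaOne p C := fun x hx =>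
    EA.mem_omegaOne (hX hx) (orderOf_dvd_iff_pow_eq_one.1 (hc ▸ orderOf_dvd_card' hx))
  exact eq_of_le_of_card_ge h1 ((Nat.le_of_dvd hp.out.pos (cyc_card_omegaOne_dvd p hC)).trans hc.ge)

/-- subgroups of a cyclic `p`-group form a chain -/
theorem cyc_le_total (hC : IsCyclic C) (hR : IsPGroup p C) (hX : X ≤ C) (hY : Y ≤ C) :
    X ≤ Y ∨ Y ≤ X := by
  obtain ⟨a, ha⟩ := pg_card_eq_pow (hR.to_le hX)
  obtain ⟨b, hb⟩ := pg_card_eq_pow (hR.to_le hY)
  rcases le_total a b with h | h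
  · exact Or.inl (cyc_le_of_card_dvd hC hX hY (by rw [ha, hb]; exact pow_dvd_pow _ h))
  · exact Or.inr (cyc_le_of_card_dvd hC hY hX (by rw [ha, hb]; exact pow_dvd_pow _ h))

/-- an odd `p`-group all of whose elements of order `p` lie in a cyclic subgroup is cyclic -/
theorem pg_isCyclic_of_omegaOne_le (hR : IsPGroup p R) (hodd : Odd (Nat.card R))
    (hC : IsCyclic C) (h : omegaOne p R ≤ C) : IsCyclic R := by
  by_contra hnc
  refine hnc (isCyclic_of_odd_of_forall_elementary hR (pg_ne_two_of_not_isCyclic hR hodd hnc)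
    fun B _ hB => ?_)
  rw [← isCyclic_map_subtype_iff]
  refine isCyclic_of_le hC (le_trans ?_ h)
  rintro _ ⟨b, hb, rfl⟩
  exact EA.mem_omegaOne b.2 (by simpa using congrArg Subtype.val (hB b hb))

theorem pg_isCyclic_iff_omegaOne (hR : IsPGroup p R) (hodd : Odd (Nat.card R)) :
    IsCyclic R ↔ IsCyclic (omegaOne p R) :=
  ⟨fun h => isCyclic_of_le h (EA.omegaOne_le R),
    fun h => pg_isCyclic_of_omegaOne_le hR hodd h le_rfl⟩

theorem pg_isCyclic_of_card_le (hR : IsPGroup p R) (h : Nat.card R ≤ p) : IsCyclic R := by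
  obtain ⟨n, hn⟩ := pg_card_eq_pow hR
  refine isCyclic_of_card_dvd_prime (p := p) ?_
  rw [hn] at h ⊢
  have : n ≤ 1 := (Nat.pow_le_pow_iff_right hp.out.one_lt).1 (by simpa using h)
  simpa using pow_dvd_pow p this

theorem pg_comm_of_card_le_sq (hR : IsPGroup p R) (h : Nat.card R ≤ p ^ 2) :
    IsMulCommutative R := by
  obtain ⟨n, hn⟩ := pg_card_eq_pow hR
  have h2 : n ≤ 2 := (Nat.pow_le_pow_iff_right hp.out.one_lt).1 (hn ▸ h)
  rcases h2.eq_or_lt with rfl | h3
  · exact IsPGroup.isMulCommutative_of_card_eq_prime_sq hn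
  · refine comm_of_isCyclic (pg_isCyclic_of_card_le hR ?_)
    rw [hn]
    simpa using Nat.pow_le_pow_right hp.out.pos (Nat.lt_succ_iff.1 h3)

theorem pg_exists_normal_between (hR : IsPGroup p R) (hK : K ⊴ R) (hN : N ⊴ R) (hKN : K ≤ N)
    (k : ℕ) (hk : Nat.card K * p ^ k ≤ Nat.card N) :
    ∃ M : Subgroup G, M ⊴ R ∧ K ≤ M ∧ M ≤ N ∧ Nat.card M = Nat.card K * p ^ k := by
  have := hK.normal
  have := hN.normal
  obtain ⟨M, hM, h1, h2, h3⟩ := PGrp.exists_normal_between hR (K.subgroupOf R) (N.subgroupOf R)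
    (subgroupOf_mono R hKN) k
    (by rwa [card_subgroupOf_of_le' hK.le, card_subgroupOf_of_le' hN.le])
  refine ⟨M.map R.subtype, NormalIn.map_subtype M, ?_, ?_, ?_⟩
  · rw [← map_subgroupOf_eq_of_le hK.le]; exact map_mono h1
  · rw [← map_subgroupOf_eq_of_le hN.le]; exact map_mono h2
  · rw [card_map_subtype', h3, card_subgroupOf_of_le' hK.le]

theorem pg_exists_normal_card (hR : IsPGroup p R) (hN : N ⊴ R) (k : ℕ) (hk : p ^ k ≤ Nat.card N) :
    ∃ M : Subgroup G, M ⊴ R ∧ M ≤ N ∧ Nat.card M = p ^ k := by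
  obtain ⟨M, h1, -, h2, h3⟩ := pg_exists_normal_between hR (NormalIn.bot R) hN bot_le k
    (by simpa using hk)
  exact ⟨M, h1, h2, by simpa using h3⟩

theorem pg_exists_le_card (hR : IsPGroup p R) (k : ℕ) (hk : p ^ k ≤ Nat.card R) :
    ∃ M : Subgroup G, M ⊴ R ∧ Nat.card M = p ^ k := by
  obtain ⟨M, h1, -, h3⟩ := pg_exists_normal_card hR (NormalIn.refl R) k hk
  exact ⟨M, h1, h3⟩

/-- a normal subgroup of order `p^k` has centraliser of index at most `p^(k choose 2)` -/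
theorem pg_relIndex_cent_le (hR : IsPGroup p R) (hN : N ⊴ R) {k : ℕ} (hk : Nat.card N = p ^ k) :
    (𝐂(N)).relIndex R ≤ p ^ k.choose 2 := by
  have := hN.normal
  have := PGrp.index_centralizer_le hR k (N.subgroupOf R)
    (by rwa [card_subgroupOf_of_le' hN.le])
  rwa [← subgroupOf_cent hN.le] at this

theorem pg_relIndex_cent_dvd (hR : IsPGroup p R) (hRN : R ≤ 𝐍(N)) (hk : Nat.card N = p ^ 2) :
    (𝐂(N)).relIndex R ∣ p := by
  have hN : IsPGroup p N := IsPGroup.of_card hk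
  have hS : IsPGroup p ↥(N ⊔ R) := by
    rw [sup_comm]; exact IsPGroup.to_sup_of_normal_right' hR hN hRN
  have h1 := pg_relIndex_cent_le hS (NormalIn.sup_left hRN) hk
  have h2 : (𝐂(N)).relIndex R ≤ (𝐂(N)).relIndex (N ⊔ R) :=
    relIndex_le_of_le_right le_sup_right (relIndex_pos _ _).ne'
  obtain ⟨n, hn⟩ := pg_relIndex_eq_pow hR 𝐂(N)
  have h3 : p ^ n ≤ p ^ 1 := hn ▸ h2.trans h1
  rw [hn]
  simpa using pow_dvd_pow p ((Nat.pow_le_pow_iff_right hp.out.one_lt).1 h3)

theorem pg_le_cent_of_card_prime (hR : IsPGroup p R) (hRN : R ≤ 𝐍(N)) (hk : Nat.card N = p) :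
    R ≤ 𝐂(N) := by
  by_contra h
  have h1 := (pg_dvd_relIndex hR h).trans (relIndex_cent_dvd_of_card_prime hp.out hk hRN)
  have h2 := hp.out.two_le
  have := Nat.le_of_dvd (by omega) h1
  omega

theorem pg_normal_of_relIndex (hR : IsPGroup p R) (hH : H ≤ R) (h : H.relIndex R = p) : H ⊴ R :=
  NormalIn.of_normal_subgroupOf hH (PGrp.normal_of_index_eq_prime hR h)

theorem pg_normal_of_relIndex_dvd (hR : IsPGroup p R) (hH : H ≤ R) (h : H.relIndex R ∣ p) :
    H ⊴ R := by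
  rcases (Nat.dvd_prime hp.out).1 h with h | h
  · rw [le_antisymm hH (relIndex_eq_one.1 h)]; exact NormalIn.refl R
  · exact pg_normal_of_relIndex hR hH h

theorem pg_der_le_of_relIndex_le_sq (hR : IsPGroup p R) (hRN : R ≤ 𝐍(N))
    (h : N.relIndex R ≤ p ^ 2) : ⁅R, R⁆ ≤ N :=
  (quot_isMulCommutative_iff hRN).1
    (pg_comm_of_card_le_sq (quot_isPGroup N hR) (by rwa [card_quot hRN]))

omit [Finite G] hp in
theorem pow_relIndex_mem (hRN : R ≤ 𝐍(N)) {x : G} (hx : x ∈ R) : x ^ N.relIndex R ∈ N := by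
  rw [← coset_eq_one_iff (hRN (R.pow_mem hx _)), coset_pow (hRN hx), ← card_quot hRN]
  exact orderOf_dvd_iff_pow_eq_one.1 (orderOf_dvd_card' (coset_mem_quot hx))

/-- a proper subgroup of a `p`-group lies in a normal subgroup of index `p` -/
theorem pg_exists_maximal_ge (hR : IsPGroup p R) (h : H < R) :
    ∃ M : Subgroup G, H ≤ M ∧ M ⊴ R ∧ M.relIndex R = p := by
  obtain ⟨M, h1, h2, h3⟩ := PGrp.exists_normal_index_prime hR (K := H.subgroupOf R)
    (fun h' => h.not_ge (subgroupOf_eq_top.1 h'))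
  refine ⟨M.map R.subtype, ?_, NormalIn.map_subtype M, ?_⟩
  · rw [← map_subgroupOf_eq_of_le h.le]; exact map_mono h1
  · rw [relIndex, subgroupOf, comap_map_eq_self_of_injective R.subtype_injective, h3]

theorem pg_eq_of_sup_der (hR : IsPGroup p R) (hH : H ≤ R) (h : R ≤ H ⊔ ⁅R, R⁆) : H = R := by
  by_contra hne
  obtain ⟨M, h1, h2, h3⟩ := pg_exists_maximal_ge hR (lt_of_le_of_ne hH hne)
  have h4 : ⁅R, R⁆ ≤ M := pg_der_le_of_relIndex_le_sq hR h2.norm
    (by rw [h3]; exact Nat.le_self_pow two_ne_zero p)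
  have := relIndex_eq_one.2 (h.trans (sup_le h1 h4))
  exact hp.out.one_lt.ne' (h3 ▸ this)

theorem pg_isCyclic_of_quot (hR : IsPGroup p R) (hRN : R ≤ 𝐍(N)) (hN : N ≤ ⁅R, R⁆)
    (h : IsCyclic (quot N R)) : IsCyclic R := by
  obtain ⟨x, hx, h1⟩ := exists_zpowers_sup_of_isCyclic_quot hRN h
  rw [← pg_eq_of_sup_der hR (zpowers_le.2 hx) (h1.trans (sup_le_sup_left hN _))]
  infer_instance

/-- a normal section of order at most `p` is central -/
theorem pg_commutator_le_of_relIndex (hR : IsPGroup p R) (hRK : R ≤ 𝐍(K)) (hRN : R ≤ 𝐍(N))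
    (hNK : N ≤ 𝐍(K)) (h : K.relIndex N ∣ p) : ⁅R, N⁆ ≤ K := by
  rw [← quot_le_centralizer_iff hRK hNK]
  rw [← card_quot hNK] at h
  rcases (Nat.dvd_prime hp.out).1 h with h | h
  · rw [card_eq_one.1 h, cent_bot]; exact le_top
  · exact pg_le_cent_of_card_prime (quot_isPGroup K hR) (quot_normalizer K hRN) h

omit [Finite G] in
theorem relIndex_sup_zpowers_of_norm {x : G} (hx : x ∈ 𝐍(K)) (h1 : x ∉ K) (h2 : x ^ p ∈ K) :
    K.relIndex (K ⊔ zpowers x) = p := by
  have h3 : zpowers x ≤ 𝐍(K) := zpowers_le.2 hx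
  rw [relIndex_sup_of_norm h3, ← card_quot h3, quot_zpowers hx, Nat.card_zpowers]
  refine orderOf_eq_prime ?_ ?_
  · rw [← coset_pow hx, coset_eq_one h2]
  · rwa [Ne, coset_eq_one_iff hx]

omit [Finite G] in
theorem card_sup_zpowers_of_norm {x : G} (hx : x ∈ 𝐍(K)) (h1 : x ∉ K) (h2 : x ^ p ∈ K) :
    Nat.card ↥(K ⊔ zpowers x) = Nat.card K * p := by
  rw [← card_mul_relIndex (le_sup_left : K ≤ K ⊔ zpowers x), relIndex_sup_zpowers_of_norm hx h1 h2]

omit [Finite G] in
/-- a subgroup of prime index is maximal -/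
theorem eq_or_eq_of_relIndex_prime (hKR : K.relIndex R = p) (h₁ : K ≤ H) (h₂ : H ≤ R) :
    H = K ∨ H = R := by
  have h := relIndex_mul_relIndex K H R h₁ h₂
  rw [hKR] at h
  rcases (Nat.dvd_prime hp.out).1 (Dvd.intro _ h) with h3 | h3
  · exact Or.inl (le_antisymm (relIndex_eq_one.1 h3) h₁)
  · rw [h3] at h
    have : H.relIndex R = 1 := Nat.eq_of_mul_eq_mul_left hp.out.pos (by simpa using h)
    exact Or.inr (le_antisymm h₂ (relIndex_eq_one.1 this))

omit [Finite G] in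
theorem sup_eq_of_relIndex_prime (hKR : K.relIndex R = p) (hK : K ≤ R) (hH : H ≤ R)
    (h : ¬ H ≤ K) : K ⊔ H = R :=
  (eq_or_eq_of_relIndex_prime hKR le_sup_left (sup_le hK hH)).resolve_left
    fun h' => h (h' ▸ le_sup_right)

omit [Finite G] hp in
theorem elem_card_le_of_isCyclic (hA : IsElementaryAbelian p A) (hc : IsCyclic A) :
    Nat.card A ∣ p := by
  have := cyc_card_omegaOne_dvd p hc
  rwa [omegaOne_eq_self hA.2] at this

theorem not_isCyclic_of_elem (hA : IsElementaryAbelian p A) (hc : p ^ 2 ≤ Nat.card A) :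
    ¬ IsCyclic A := fun h => by
  have h1 := hc.trans (Nat.le_of_dvd hp.out.pos (elem_card_le_of_isCyclic hA h))
  have h2 := hp.out.one_lt
  nlinarith

omit [Finite G] in
theorem elem_of_card_prime (hc : Nat.card A = p) : IsElementaryAbelian p A :=
  ⟨comm_of_isCyclic (isCyclic_of_card_prime (hc ▸ hp.out)),
    fun _ hx => orderOf_dvd_iff_pow_eq_one.1 (hc ▸ orderOf_dvd_card' hx)⟩

theorem elem_of_card_sq (hc : Nat.card A = p ^ 2) (hnc : ¬ IsCyclic A) : IsElementaryAbelian p A :=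
  ⟨IsPGroup.isMulCommutative_of_card_eq_prime_sq hc, fun x hx => by
    simpa using congrArg Subtype.val (PGrp.Chain.pow_eq_one_of_card_sq hc hnc ⟨x, hx⟩)⟩

end pgroup

/-! ### metacyclic subgroups -/

theorem isMetacyclic_iff : IsMetacyclic R ↔ ∃ N : Subgroup G, N ⊴ R ∧ IsCyclic N ∧
    IsCyclic (quot N R) := by
  constructor
  · rintro ⟨N, hN, h1, h2⟩
    have h3 := NormalIn.map_subtype N
    refine ⟨N.map R.subtype, h3, (isCyclic_map_subtype_iff N).2 h1, ?_⟩
    have h4 : N ≤ (quotHom h3.norm).ker := by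
      rw [ker_quotHom, subgroupOf, comap_map_eq_self_of_injective R.subtype_injective]
    exact isCyclic_of_surjective (QuotientGroup.lift N (quotHom h3.norm) h4)
      (QuotientGroup.lift_surjective_of_surjective N _ (quotHom_surjective _) h4)
  · rintro ⟨N, hN, h1, h2⟩
    have := hN.normal
    exact ⟨N.subgroupOf R, hN.normal, (isCyclic_subgroupOf_iff hN.le).2 h1,
      (quotEquiv hN.norm).isCyclic.2 h2⟩

theorem isCyclic_quot_inf (hH : H ≤ 𝐍(N)) (h : IsCyclic (quot N H)) :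
    IsCyclic (quot (N ⊓ H) H) := by
  obtain ⟨x, hx, h1⟩ := exists_zpowers_sup_of_isCyclic_quot hH h
  have h2 : H ≤ 𝐍(N ⊓ H) := norms_inf hH (le_norm_self H)
  have h3 : zpowers x ≤ H := zpowers_le.2 hx
  have h4 : H = zpowers x ⊔ N ⊓ H := by
    rw [← sup_inf_modular (Or.inr (h3.trans hH)) h3, inf_eq_right.2 h1]
  have h5 : quot (N ⊓ H) H = zpowers (coset (N ⊓ H) x) := by
    rw [← quot_zpowers (h2 hx), ← quot_sup_self (h3.trans h2), ← h4]
  rw [h5]; infer_instance

theorem isMetacyclic_of_le (h : IsMetacyclic R) (hH : H ≤ R) : IsMetacyclic H := by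
  obtain ⟨N, hN, h1, h2⟩ := isMetacyclic_iff.1 h
  exact isMetacyclic_iff.2 ⟨N ⊓ H, hN.inf_right hH, isCyclic_of_le h1 inf_le_left,
    isCyclic_quot_inf (hH.trans hN.norm) (isCyclic_of_le h2 (quot_mono N hH))⟩

theorem isCyclic_der_of_isMetacyclic (h : IsMetacyclic R) : IsCyclic ↥⁅R, R⁆ := by
  obtain ⟨N, hN, h1, h2⟩ := isMetacyclic_iff.1 h
  exact isCyclic_of_le h1 ((quot_isMulCommutative_iff hN.norm).1 (comm_of_isCyclic h2))

theorem isMetacyclic_quot (h : IsMetacyclic R) (hV : R ≤ 𝐍(V)) : IsMetacyclic (quot V R) := by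
  obtain ⟨N, hN, h1, h2⟩ := isMetacyclic_iff.1 h
  obtain ⟨x, hx, h3⟩ := exists_zpowers_sup_of_isCyclic_quot hN.norm h2
  have h4 := hN.quot V
  refine isMetacyclic_iff.2 ⟨quot V N, h4, quot_isCyclic V h1, ?_⟩
  have h5 : quot V R = zpowers (coset V x) ⊔ quot V N := by
    rw [← quot_zpowers (hV hx), ← quot_sup ((zpowers_le.2 hx).trans hV) (hN.le.trans hV),
      le_antisymm h3 (sup_le (zpowers_le.2 hx) hN.le)]
  have h6 : coset V x ∈ 𝐍(quot V N) := h4.norm (coset_mem_quot hx)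
  rw [h5, quot_sup_self (zpowers_le.2 h6), quot_zpowers h6]
  infer_instance

end CL.BG
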