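import Cfsg.Agent.BG.Defs

/-!
# The second centre `Z₂(R)` of an ambient subgroup
-/

set_option autoImplicit false

namespace CL.BG

open Cfsg Subgroup
open scoped commutatorElement

variable {G : Type*} [Group G]

/-- `Z₂(R)`, the second centre of `R`, as a subgroup of the ambient group. -/
def z2Of (R : Subgroup G) : Subgroup G := (Subgroup.upperCentralSeries R 2).map R.subtype

theorem z2Of_le (R : Subgroup G) : z2Of R ≤ R := map_subtype_le _

theorem center_map_subtype (R : Subgroup G) : (center R).map R.subtype = 𝐙(R) := by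
  ext x
  constructor
  · rintro ⟨y, hy, rfl⟩
    exact ⟨y.2, fun g hg => congrArg Subtype.val (mem_center_iff.1 hy ⟨g, hg⟩)⟩
  · rintro ⟨hx, hc⟩
    exact ⟨⟨x, hx⟩, mem_center_iff.2 fun g => Subtype.ext (hc g g.2), rfl⟩

theorem mem_z2Of {R : Subgroup G} {x : G} :
    x ∈ z2Of R ↔ x ∈ R ∧ ∀ y ∈ R, ⁅x, y⁆ ∈ 𝐙(R) := by
  constructor
  · rintro ⟨z, hz, rfl⟩
    refine ⟨z.2, fun y hy => ?_⟩
    have := Subgroup.mem_upperCentralSeries_succ_iff.1 hz ⟨y, hy⟩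
    rw [Subgroup.upperCentralSeries_one] at this
    rw [← center_map_subtype]
    exact ⟨_, this, rfl⟩
  · rintro ⟨hx, h⟩
    refine ⟨⟨x, hx⟩, Subgroup.mem_upperCentralSeries_succ_iff.2 fun y => ?_, rfl⟩
    rw [Subgroup.upperCentralSeries_one]
    have := h y y.2
    rw [← center_map_subtype] at this
    obtain ⟨w, hw, e⟩ := this
    have : w = ⁅(⟨x, hx⟩ : R), y⁆ := Subtype.ext e
    exact this ▸ hw

theorem center_le_z2Of (R : Subgroup G) : 𝐙(R) ≤ z2Of R := fun x hx =>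
  mem_z2Of.2 ⟨hx.1, fun y hy => by
    rw [commutatorElement_eq_one_iff_mul_comm.2 (hx.2 y hy).symm]
    exact one_mem _⟩

theorem commutator_z2Of_le (R : Subgroup G) : ⁅z2Of R, R⁆ ≤ 𝐙(R) :=
  commutator_le.2 fun _ hx y hy => (mem_z2Of.1 hx).2 y hy

theorem le_z2Of {R X : Subgroup G} (hX : X ≤ R) (h : ⁅X, R⁆ ≤ 𝐂(R)) : X ≤ z2Of R := fun x hx =>
  mem_z2Of.2 ⟨hX hx, fun y hy => ⟨R.commutator_le_self (commutator_mem_commutator (hX hx) hy),
    h (commutator_mem_commutator hx hy)⟩⟩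

theorem z2Of_charIn (R : Subgroup G) : CharIn (z2Of R) R :=
  ⟨z2Of_le R, by
    rw [z2Of, ← comap_subtype, comap_map_eq_self_of_injective R.subtype_injective]
    infer_instance⟩

theorem normalizer_le_normalizer_z2Of (R : Subgroup G) : 𝐍(R) ≤ 𝐍(z2Of R) := by
  rw [le_normalizer_iff]
  intro g hg x hx
  obtain ⟨hxR, hx⟩ := mem_z2Of.1 hx
  have hc : ∀ y ∈ R, g * y * g⁻¹ ∈ R := fun y hy => (mem_normalizer_iff.1 hg y).1 hy
  have hc' : ∀ y ∈ R, g⁻¹ * y * g ∈ R := fun y hy => by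
    simpa using (mem_normalizer_iff.1 (inv_mem hg) y).1 hy
  refine mem_z2Of.2 ⟨hc x hxR, fun y hy => ?_⟩
  have e : ⁅g * x * g⁻¹, y⁆ = g * ⁅x, g⁻¹ * y * g⁆ * g⁻¹ := by
    simp only [commutatorElement_def]; group
  obtain ⟨h1, h2⟩ := hx _ (hc' y hy)
  rw [e]
  refine ⟨hc _ h1, fun w hw => ?_⟩
  have := h2 _ (hc' w hw)
  calc w * (g * ⁅x, g⁻¹ * y * g⁆ * g⁻¹) = g * (g⁻¹ * w * g * ⁅x, g⁻¹ * y * g⁆) * g⁻¹ := by group
    _ = g * (⁅x, g⁻¹ * y * g⁆ * (g⁻¹ * w * g)) * g⁻¹ := by rw [this]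
    _ = _ := by group

theorem z2Of_normalIn (R : Subgroup G) : z2Of R ⊴ R :=
  ⟨z2Of_le R, le_normalizer.trans (normalizer_le_normalizer_z2Of R)⟩

end CL.BG
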