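import Cfsg.Agent.BG.PAmb
import Cfsg.Agent.BG.Z2
import Cfsg.Agent.PGrp.RankTwo2

set_option autoImplicit false

namespace CL.BG

open Cfsg Subgroup

variable {G : Type*} [Group G] [Finite G]

/-- BG 4.11 (Huppert). -/
theorem t4_11 {p : ℕ} [Fact p.Prime] {R : Subgroup G} (hR : IsPGroup p R) (hp : 3 < p)
    (hO : Nat.card (omegaOne p R) ≤ p ^ 2) : IsMetacyclic R := by
  exact PGrp.RankTwo.isMetacyclic_of_card_omega_le hp hR
    (by rwa [← omegaOne_top_eq, card_omegaOne_top])

end CL.BG
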