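import Cfsg.Agent.BG.Elem
import Cfsg.Agent.BG.Prod
import Cfsg.Agent.Solv.MinNormal
import Cfsg.Agent.S0660

set_option autoImplicit false
open Cfsg Subgroup

namespace CL.BG
variable {G : Type*} [Group G] [Finite G]

/-- BG 1.20 (`Maschke_abelem`). -/
theorem t1_20 {p : ℕ} [Fact p.Prime] {A V U : Subgroup G} (hV : IsElementaryAbelian p V)
    (hA : (Nat.card A).Coprime p) (hUV : U ≤ V) (hAV : A ≤ 𝐍(V)) (hAU : A ≤ 𝐍(U)) :
    ∃ W : Subgroup G, DP U W V ∧ A ≤ 𝐍(W) := by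
  obtain ⟨W, hW⟩ := elemAb_exists_compl Fact.out hV hUV
  obtain ⟨W', h1, h2, h3, h4⟩ := Cfsg.Agent.S0660.result V A U hV.1 hAV
    (coprime_card_of_isPGroup Fact.out (CL.isPGroup_of_isElementaryAbelian hV)
      ((piGrp_compl_singleton_iff_coprime Fact.out).2 hA)).symm hUV hAU W hW.right_le hW.disj hW.sup
  exact ⟨W', ⟨h4, le_cent_of_comm_of_le hV.1 h1 hUV, h3⟩, h2⟩

end CL.BG
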