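import Cfsg.Agent.BG.T1_9
import Cfsg.Agent.BG.Nil
import Cfsg.Agent.Solv.CoprimeAbelian

set_option autoImplicit false
open Cfsg Subgroup

namespace CL.BG
variable {G : Type*} [Group G] [Finite G]

/-- BG 1.6(a), strong variant (`coprimeR_cent_prod`). -/
theorem t1_6a_strong {A H : Subgroup G} (hA : A ≤ 𝐍(H))
    (hcop : (Nat.card ↥⁅H, A⁆).Coprime (Nat.card A))
    (hsol : Group.IsSolvable ↥⁅H, A⁆ ∨ Group.IsSolvable A) :
    ⁅H, A⁆ ⊔ (H ⊓ 𝐂(A)) = H := CL.coprime_sup_centralizer_of_commutator_le (norms_commutator hA (le_norm_self A)) hcop.symm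
    hsol.symm (commutator_le_left_of_norm hA) le_rfl

/-- BG 1.6(a) (`coprime_cent_prod`). -/
theorem t1_6a {A H : Subgroup G} (hA : A ≤ 𝐍(H)) (hcop : (Nat.card H).Coprime (Nat.card A))
    (hsol : Group.IsSolvable H ∨ Group.IsSolvable A) : ⁅H, A⁆ ⊔ (H ⊓ 𝐂(A)) = H := CL.coprime_commutator_sup_centralizer hA hcop.symm hsol.symm

/-- BG 1.6(a), element form. -/
theorem t1_6a_elt {A H : Subgroup G} (hA : A ≤ 𝐍(H)) (hcop : (Nat.card H).Coprime (Nat.card A))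
    (hsol : Group.IsSolvable H ∨ Group.IsSolvable A) :
    ∀ x ∈ H, ∃ r ∈ ⁅H, A⁆, ∃ c ∈ H ⊓ 𝐂(A), x = r * c := fun _ hx => CL.coprime_exists_commutator_mul_centralizer hA hcop.symm hsol.symm hx

/-- BG 1.6(b) (`coprime_commGid`). -/
theorem t1_6b {A H : Subgroup G} (hA : A ≤ 𝐍(H)) (hcop : (Nat.card H).Coprime (Nat.card A))
    (hsol : Group.IsSolvable H ∨ Group.IsSolvable A) : ⁅⁅H, A⁆, A⁆ = ⁅H, A⁆ := CL.coprime_commutator_commutator hA hcop.symm hsol.symm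

/-- BG 1.6(c) (`coprime_commGG1P`). -/
theorem t1_6c {A H : Subgroup G} (hA : A ≤ 𝐍(H)) (hcop : (Nat.card H).Coprime (Nat.card A))
    (h : ⁅⁅H, A⁆, A⁆ = ⊥) : A ≤ 𝐂(H) := t1_9 (commutator_le_left_of_norm hA) (commutator_eq_bot_iff''.1 h) le_rfl hcop

/-- BG 1.6(d), TI part (`coprime_abel_cent_TI`). -/
theorem t1_6d_TI {A H : Subgroup G} (hA : A ≤ 𝐍(H)) (hcop : (Nat.card H).Coprime (Nat.card A))
    (hab : IsMulCommutative H) : ⁅H, A⁆ ⊓ 𝐂(A) = ⊥ := by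
  have h1 := CL.coprime_centralizer_inf_commutator hA hcop.symm
  rw [← h1]
  refine le_antisymm (le_inf (inf_le_inf_right _ (commutator_le_left_of_norm hA)) inf_le_left) ?_
  exact le_inf inf_le_right (inf_le_left.trans inf_le_right)

/-- BG 1.6(d) (`coprime_abelian_cent_dprod`). -/
theorem t1_6d {A H : Subgroup G} (hA : A ≤ 𝐍(H)) (hcop : (Nat.card H).Coprime (Nat.card A))
    (hab : IsMulCommutative H) : DP ⁅H, A⁆ (H ⊓ 𝐂(A)) H := ⟨t1_6a hA hcop (Or.inl (solvable_of_comm hab)),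
    le_cent_of_comm_of_le hab inf_le_left (commutator_le_left_of_norm hA),
    le_bot_iff.1 ((inf_le_inf_left _ inf_le_right).trans (t1_6d_TI hA hcop hab).le)⟩

/-- BG 1.6(e) (`coprime_abelian_faithful_Ohm1`). -/
theorem t1_6e {A H : Subgroup G} (hA : A ≤ 𝐍(H)) (hcop : (Nat.card H).Coprime (Nat.card A))
    (hab : IsMulCommutative H) (h : ∀ x ∈ H, (orderOf x).Prime → A ≤ 𝐂₁(x)) : A ≤ 𝐂(H) := CL.coprime_le_centralizer_of_prime_order hA hcop.symm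
    fun v hv hp _ ha => mem_cent1.1 (h v hv hp ha)

/-- BG 1.6(e) for an abelian `p`-group. -/
theorem t1_6e_p {p : ℕ} [Fact p.Prime] {A H : Subgroup G} (hH : IsPGroup p H) (hA : A ≤ 𝐍(H))
    (hcop : (Nat.card H).Coprime (Nat.card A))
    (hab : IsMulCommutative H) (h : A ≤ 𝐂(omegaOne p H)) : A ≤ 𝐂(H) := by
  refine t1_6e hA hcop hab fun x hx hp => h.trans (cent_le_cent1 (subset_closure ⟨hx, ?_⟩))
  obtain ⟨k, hk⟩ := IsPGroup.iff_card.1 hH
  have h1 : orderOf x ∣ p ^ k := hk ▸ orderOf_dvd_card' hx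
  rw [← (Nat.prime_dvd_prime_iff_eq hp Fact.out).1 (hp.dvd_of_dvd_pow h1), pow_orderOf_eq_one]

end CL.BG
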