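import Cfsg.Agent.BG.PAmb
import Cfsg.Agent.BG.Z2
import Cfsg.Agent.PGrp.RankTwo

set_option autoImplicit false

namespace CL.BG

open Cfsg Subgroup

variable {G : Type*} [Group G] [Finite G]

/-- BG 4.10. -/
theorem t4_10 {p : ℕ} [Fact p.Prime] {R : Subgroup G} (hR : IsPGroup p R) (hodd : Odd (Nat.card R)) (hm : IsMetacyclic R)
    (hnc : ¬ IsCyclic R) : ElemN p 2 R (omegaOne p R) := by
  obtain ⟨E, h1, h2⟩ := PGrp.RankTwo.exists_omega_of_metacyclic
    (pg_ne_two_of_not_isCyclic hR hodd hnc) hR hm hnc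
  have h3 : closure {x : R | x ^ p = 1} = E :=
    le_antisymm ((closure_le _).2 fun x hx => (h1 x).2 hx) fun x hx => subset_closure ((h1 x).1 hx)
  rw [← omegaOne_closure_map_subtype, h3]
  exact ⟨map_subtype_le _, EA.map ⟨IsPGroup.isMulCommutative_of_card_eq_prime_sq h2,
    fun x hx => (h1 x).1 hx⟩ _, by rw [card_map_subtype', h2]⟩

end CL.BG
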