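import Cfsg.Agent.BG.T4_5
import Cfsg.Agent.BG.T4_10
import Cfsg.Agent.BG.Fit
import Cfsg.Agent.BG.T1_6
import Cfsg.Agent.BG.T1_20

set_option autoImplicit false

namespace CL.BG

open Cfsg Subgroup

variable {G : Type*} [Group G] [Finite G]

/-- Maschke's theorem for an elementary abelian section `U / V`. -/
theorem maschke_section {p : ℕ} [Fact p.Prime] {A V L U : Subgroup G} (hVL : V ≤ L) (hLU : L ≤ U)
    (hUV : U ≤ 𝐍(V)) (he : IsElementaryAbelian p (quot V U)) (hA : (Nat.card A).Coprime p)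
    (hAV : A ≤ 𝐍(V)) (hAL : A ≤ 𝐍(L)) (hAU : A ≤ 𝐍(U)) :
    ∃ X : Subgroup G, V ≤ X ∧ X ≤ U ∧ A ≤ 𝐍(X) ∧ X ⊓ L = V ∧ X ⊔ L = U := by
  obtain ⟨W, hW, hAW⟩ := t1_20 he (quot_coprime_left V hA) (quot_mono V hLU)
    (quot_normalizer V hAU) (quot_normalizer V hAL)
  have hL : coquot V (quot V L) = L := coquot_quot_of_le (hLU.trans hUV) hVL
  have hU : coquot V (quot V U) = U := coquot_quot_of_le hUV (hVL.trans hLU)
  refine ⟨coquot V W, le_coquot V W, hU ▸ coquot_mono V hW.right_le, le_normalizer_coquot hAV hAW,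
    ?_, ?_⟩
  · rw [← hL, ← coquot_inf, inf_comm, hW.disj, coquot_bot]
  · rw [← hL, ← coquot_sup, sup_comm, hW.sup, hU]

/-- BG 4.12(a), the main case. -/
theorem comm_of_metacyclic_of_commutator_eq {p : ℕ} [Fact p.Prime] {T A : Subgroup G}
    (hT : IsPGroup p T) (hodd : Odd (Nat.card T)) (hm : IsMetacyclic T) (hp'A : PiGrp {p}ᶜ A)
    (hTA : ⁅T, A⁆ = T) : IsMulCommutative T := by
  have hp : p.Prime := Fact.out
  have hA : A ≤ 𝐍(T) := hTA ▸ normalizer_commutator_ge_right T A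
  obtain ⟨S, hS1, ⟨hST, hSc, hAS⟩, hmax⟩ :=
    exists_maximal_ge (P := fun S : Subgroup G => S ≤ T ∧ IsCyclic S ∧ A ≤ 𝐍(S)) (H := ⁅T, T⁆)
      ⟨(NormalIn.der T).le, isCyclic_der_of_isMetacyclic hm, norms_der hA⟩
  have hSn : S ⊴ T := NormalIn.of_der_le hS1 hST
  have hSz : T ≤ 𝐂(S) := by
    refine le_trans ?_ (cyc_der_le_cent hSc (sup_le hSn.norm hAS))
    rw [← hTA]
    exact commutator_mono (hTA.symm ▸ le_sup_left) le_sup_right
  by_cases hc : IsCyclic T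
  · exact comm_of_isCyclic hc
  by_cases hS0 : S = ⊥
  · exact comm_iff_le_cent.2 (commutator_eq_bot_iff'.1 (le_bot_iff.1 (hS0 ▸ hS1)))
  have hE := t4_10 hT hodd hm hc
  have hab : IsMulCommutative (quot S T) := (quot_isMulCommutative_iff hSn.norm).2 hS1
  have hW : coquot S (omegaOne p (quot S T)) ≤ T := hSn.coquot_le (omegaOne_le p _)
  have hEN : omegaOne p T ≤ 𝐍(S) := hE.le.trans hSn.norm
  obtain ⟨X, hSX, hXW, hAX, h1, h2⟩ := maschke_section (p := p) (A := A)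
    (le_sup_left : S ≤ S ⊔ omegaOne p T)
    (sup_le (le_coquot S _) ((quot_le_iff hEN).1 (quot_omegaOne_le p hSn.norm)))
    (coquot_le_normalizer S _) (by rw [quot_coquot]; exact elemAb_omegaOne hab p)
    ((piGrp_compl_singleton_iff_coprime hp).1 hp'A) hAS (norms_sup hAS (norms_omegaOne p hA))
    (le_normalizer_coquot hAS (norms_omegaOne p (quot_normalizer S hA)))
  have hXT : X ≤ T := hXW.trans hW
  have hXc : IsCyclic X := pg_isCyclic_of_omegaOne_le (hT.to_le hXT) (odd_card_of_le hodd hXT) hSc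
    (h1 ▸ le_inf (omegaOne_le p X) ((omegaOne_mono hXT).trans le_sup_right))
  have hXS : X = S := hmax X ⟨hXT, hXc, hAX⟩ hSX
  rw [hXS, ← sup_assoc, sup_idem] at h2
  have h3 : Nat.card (omegaOne p (quot S T)) ≤ p := by
    rw [← quot_coquot S (omegaOne p (quot S T)), ← h2, quot_self_sup hEN]
    have e1 := card_inf_mul_card_quot hEN
    rw [hE.card] at e1
    have e2 : p ≤ Nat.card ↥(S ⊓ omegaOne p T) := Nat.le_of_dvd Nat.card_pos
      (pg_dvd_card (hT.to_le (inf_le_left.trans hST))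
        (inf_omegaOne_ne_bot hp hT (by rwa [inf_eq_left.2 hST])))
    have := hp.pos
    nlinarith
  exact isMulCommutative_of_isCyclic_quot hSn.norm (inf_le_left.trans (cent_symm hSz))
    (t4_5_cyclic_of_card_omega (quot_isPGroup S hT) (quot_odd S hodd) h3)

/-- BG 4.12 (Huppert). -/
theorem t4_12 {p : ℕ} [Fact p.Prime] {R : Subgroup G} (hR : IsPGroup p R) (hodd : Odd (Nat.card R)) (hm : IsMetacyclic R)
    {A : Subgroup G} (hA : A ≤ 𝐍(R)) (hp'A : PiGrp {p}ᶜ A) :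
    IsMulCommutative ↥⁅R, A⁆ ∧ SDP ⁅R, A⁆ (R ⊓ 𝐂(A)) R ∧
      (¬ IsMulCommutative R → ¬ A ≤ 𝐂(R) →
        IsCyclic ↥⁅R, A⁆ ∧ IsCyclic ↥(R ⊓ 𝐂(A)) ∧ ⁅R, A⁆ ≠ ⊥ ∧ R ⊓ 𝐂(A) ≠ ⊥ ∧ ⁅R, R⁆ ≤ ⁅R, A⁆) := by
  have hp : p.Prime := Fact.out
  have hcop := coprime_card_of_isPGroup hp hR hp'A
  have hsol : Group.IsSolvable R ∨ Group.IsSolvable A := Or.inl (solvable_of_isPGroup hR)
  have hTR : ⁅R, A⁆ ≤ R := commutator_le_left_of_norm hA
  have hAT : A ≤ 𝐍(⁅R, A⁆) := normalizer_commutator_ge_right R A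
  have hT : IsPGroup p ↥⁅R, A⁆ := hR.to_le hTR
  have hTT : ⁅⁅R, A⁆, A⁆ = ⁅R, A⁆ := t1_6b hA hcop hsol
  have hab : IsMulCommutative ↥⁅R, A⁆ := comm_of_metacyclic_of_commutator_eq hT
    (odd_card_of_le hodd hTR) (isMetacyclic_of_le hm hTR) hp'A hTT
  have hsd : SDP ⁅R, A⁆ (R ⊓ 𝐂(A)) R := by
    refine ⟨t1_6a hA hcop hsol, inf_le_left.trans (normalizer_commutator_ge_left R A), ?_⟩
    have := t1_6d_TI hAT (coprime_card_of_isPGroup hp hT hp'A) hab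
    rw [hTT] at this
    exact le_bot_iff.1 (this ▸ inf_le_inf_left _ inf_le_right)
  refine ⟨hab, hsd, fun hnab hnc => ?_⟩
  have h1 : ⁅R, A⁆ ≠ ⊥ := fun h => hnc (commutator_eq_bot_iff''.1 h)
  have h2 : R ⊓ 𝐂(A) ≠ ⊥ := fun h => hnab (by
    rw [h] at hsd; rw [← hsd.left_eq_of_bot]; exact hab)
  have hC : IsPGroup p ↥(R ⊓ 𝐂(A)) := hR.to_le inf_le_left
  have hE := t4_10 hR hodd hm fun h => hnab (comm_of_isCyclic h)
  have a1 : omegaOne p ⁅R, A⁆ ≤ omegaOne p R := omegaOne_mono hTR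
  have a2 : omegaOne p (R ⊓ 𝐂(A)) ≤ omegaOne p R := omegaOne_mono inf_le_left
  have h3 : Nat.card (omegaOne p ⁅R, A⁆) * Nat.card (omegaOne p (R ⊓ 𝐂(A))) ≤ p ^ 2 := by
    rw [← card_sup_of_disj (le_norm_of_le_cent (hE.le_cent_of_le a2 a1))
      (le_bot_iff.1 (hsd.disj ▸ inf_le_inf (omegaOne_le p _) (omegaOne_le p _))), ← hE.card]
    exact card_le_of_le (sup_le a1 a2)
  have b1 : p ≤ Nat.card (omegaOne p ⁅R, A⁆) := Nat.le_of_dvd Nat.card_pos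
    (pg_dvd_card (hT.to_le (omegaOne_le p _)) (pg_omegaOne_ne_bot hT h1))
  have b2 : p ≤ Nat.card (omegaOne p (R ⊓ 𝐂(A))) := Nat.le_of_dvd Nat.card_pos
    (pg_dvd_card (hC.to_le (omegaOne_le p _)) (pg_omegaOne_ne_bot hC h2))
  have hp0 := hp.pos
  have c1 : IsCyclic ↥⁅R, A⁆ :=
    t4_5_cyclic_of_card_omega hT (odd_card_of_le hodd hTR) (by nlinarith)
  have c2 : IsCyclic ↥(R ⊓ 𝐂(A)) :=
    t4_5_cyclic_of_card_omega hC (odd_card_of_le hodd inf_le_left) (by nlinarith)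
  exact ⟨c1, c2, h1, h2, hsd.der_le_left (comm_of_isCyclic c2)⟩

end CL.BG
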