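import Cfsg.Agent.BG.PAmb
import Cfsg.Agent.BG.Z2
import Cfsg.Agent.PGrp.RankTwo2

set_option autoImplicit false

namespace CL.BG

open Cfsg Subgroup

variable {G : Type*} [Group G] [Finite G]

/-- BG 4.13 and 4.14, for automorphisms. -/
theorem t4_13_aut {p : ℕ} [Fact p.Prime] {R : Subgroup G} (hR : IsPGroup p R) (hodd : Odd (Nat.card R)) (hr : pRank p R ≤ 2)
    {q : ℕ} (hq : q.Prime) (hqp : q ≠ p) (hd : q ∣ Nat.card (MulAut R)) :
    q ∣ p ^ 2 - 1 ∧ q < p ∧ (q ∣ (p + 1) / 2 ∨ q ∣ (p - 1) / 2) := by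
  have hp : p.Prime := Fact.out
  have hne : R ≠ ⊥ := by
    rintro rfl
    have : Nat.card (MulAut (⊥ : Subgroup G)) = 1 := Nat.card_unique
    exact hq.one_lt.ne' (Nat.dvd_one.1 (this ▸ hd))
  have hp2 := pg_ne_two hR hodd hne
  obtain ⟨h1, h2⟩ := PGrp.RankTwo.prime_dvd_card_aut_of_rank_two hp2 hR
    ((pRank_le_iff hp).1 hr) hq hqp hd
  refine ⟨h1, h2, ?_⟩
  obtain ⟨k, hk⟩ := hp.odd_of_ne_two hp2
  have e1 : (p + 1) / 2 = k + 1 := by omega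
  have e2 : (p - 1) / 2 = k := by omega
  have e3 : p ^ 2 - 1 = 2 * 2 * ((k + 1) * k) := by
    rw [hk]; exact Nat.sub_eq_of_eq_add (by ring)
  rw [e1, e2]
  by_cases hq2 : q = 2
  · subst hq2; omega
  · rw [e3] at h1
    rcases (Nat.Prime.dvd_mul hq).1 h1 with h | h
    · have := (Nat.prime_dvd_prime_iff_eq hq Nat.prime_two).1
        (((Nat.Prime.dvd_mul hq).1 h).elim id id)
      exact absurd this hq2
    · exact (Nat.Prime.dvd_mul hq).1 h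

/-- BG 4.13 and 4.14, internal action: `q` divides `|A : C_A(R)|`. -/
theorem t4_13 {p : ℕ} [Fact p.Prime] {R : Subgroup G} (hR : IsPGroup p R) (hodd : Odd (Nat.card R)) (hr : pRank p R ≤ 2)
    {A : Subgroup G} (hA : A ≤ 𝐍(R)) {q : ℕ} (hq : q.Prime) (hqp : q ≠ p)
    (hd : q ∣ 𝐂(R).relIndex A) :
    q ∣ p ^ 2 - 1 ∧ q < p ∧ (q ∣ (p + 1) / 2 ∨ q ∣ (p - 1) / 2) := by
  exact t4_13_aut hR hodd hr hq hqp (hd.trans (relIndex_cent_dvd_card_mulAut hA))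

end CL.BG
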