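import Cfsg.Agent.BG.PAmb
import Cfsg.Agent.BG.Z2
import Cfsg.Agent.PGrp.Pairing

set_option autoImplicit false

namespace CL.BG

open Cfsg Subgroup

variable {G : Type*} [Group G] [Finite G]

/-- BG 4.15, with the hypothesis "extraspecial" spelled out. -/
theorem t4_15' {p : ℕ} [Fact p.Prime] {R : Subgroup G} (hR : IsPGroup p R) {S : Subgroup G}
    (hSR : S ≤ R) (hZ : 𝐙(S) = ⁅S, S⁆) (hc : Nat.card ↥⁅S, S⁆ = p) (h : ⁅S, R⁆ ≤ ⁅S, S⁆) :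
    CP S (R ⊓ 𝐂(S)) R := by
  refine ⟨le_antisymm (sup_le hSR inf_le_left) fun x hx => ?_, inf_le_right⟩
  have hn : R ≤ 𝐍(S) := le_norm_of_commutator_le le_rfl (h.trans (NormalIn.der S).le)
  have hcent : ⁅S, S⁆ ≤ 𝐂(R) := cent_symm (pg_le_cent_of_card_prime hR (norms_der hn) hc)
  have : IsCyclic ↥⁅S, S⁆ := isCyclic_of_card_prime (hc ▸ Fact.out)
  obtain ⟨e, he, c, hc', rfl⟩ := PGrp.sup_inf_centralizer_eq_of_pairing R S ⁅S, S⁆ hSR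
    (by rwa [Subgroup.commutator_comm]) hcent (hZ ▸ hcent) x hx
  exact mul_mem_sup he ⟨(R.mul_mem_cancel_left (hSR he)).1 hx, hc'⟩

/-- BG 4.15. -/
theorem t4_15 {p : ℕ} [Fact p.Prime] {R : Subgroup G} (hR : IsPGroup p R) {S : Subgroup G} (hSR : S ≤ R)
    (hS : IsExtraspecial p S) (h : ⁅S, R⁆ ≤ ⁅S, S⁆) : CP S (R ⊓ 𝐂(S)) R := by
  have hZ : 𝐙(S) = ⁅S, S⁆ := by rw [← map_center_subtype, ← hS.1.2.2, map_subtype_commutator]
  have hc : Nat.card ↥⁅S, S⁆ = p := by rw [← hZ, ← map_center_subtype, card_map_subtype', hS.2]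
  exact t4_15' hR hSR hZ hc h

end CL.BG
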