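import Cfsg.Agent.BG.T4_8
import Cfsg.Agent.BG.T4_11
import Cfsg.Agent.BG.T4_12
import Cfsg.Agent.BG.T4_13
import Cfsg.Agent.BG.T4_15

set_option autoImplicit false

namespace CL.BG

open Cfsg Subgroup
open scoped commutatorElement

variable {G : Type*} [Group G] [Finite G]

/-- A non-abelian group of order `p ^ 3` has centre of order `p` equal to its derived group. -/
theorem center_of_card_cube {p : ℕ} [Fact p.Prime] {S : Subgroup G} (hc : Nat.card S = p ^ 3)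
    (hn : ¬ IsMulCommutative S) : Nat.card ↥𝐙(S) = p ∧ 𝐙(S) = ⁅S, S⁆ := by
  have hp : p.Prime := Fact.out
  have hS : IsPGroup p S := IsPGroup.of_card hc
  have hS1 : S ≠ ⊥ := fun h => hn (h ▸ comm_of_isCyclic inferInstance)
  have hZ : 𝐙(S) ⊴ S := NormalIn.center S
  have e := card_mul_card_quot hZ.norm hZ.le
  obtain ⟨k, hk⟩ := pg_card_eq_pow (hS.to_le hZ.le)
  obtain ⟨m, hm⟩ := pg_card_eq_pow (quot_isPGroup 𝐙(S) hS)
  have hk0 : k ≠ 0 := by
    rintro rfl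
    exact center_ne_bot_of_isPGroup hp hS hS1 (Subgroup.card_eq_one.1 (by rw [hk, pow_zero]))
  have hm2 : 2 ≤ m := by
    by_contra h
    refine hn (isMulCommutative_of_isCyclic_quot hZ.norm (inf_le_left.trans inf_le_right)
      (pg_isCyclic_of_card_le (quot_isPGroup 𝐙(S) hS) ?_))
    rw [hm]
    calc p ^ m ≤ p ^ 1 := Nat.pow_le_pow_right hp.pos (by omega)
      _ = p := pow_one p
  rw [hk, hm, hc, ← pow_add] at e
  have e' := Nat.pow_right_injective hp.two_le e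
  obtain rfl : k = 1 := by omega
  obtain rfl : m = 2 := by omega
  rw [pow_one] at hk
  refine ⟨hk, (eq_of_le_of_prime (hk ▸ hp) ?_ ?_).symm⟩
  · exact pg_der_le_of_relIndex_le_sq hS hZ.norm (by rw [← card_quot hZ.norm, hm])
  · exact fun h => hn (comm_iff_le_cent.2 (commutator_eq_bot_iff'.1 h))

omit [Finite G] in
/-- a map which is multiplicative on a subgroup respects powers there -/
theorem map_pow_of_mul_on {K : Subgroup G} {f : G → G}
    (hf : ∀ a ∈ K, ∀ b ∈ K, f (a * b) = f a * f b) {a : G} (ha : a ∈ K) (n : ℕ) :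
    f (a ^ n) = f a ^ n := by
  induction n with
  | zero =>
    have := hf 1 K.one_mem 1 K.one_mem
    rw [mul_one] at this
    simpa using this
  | succ n ih => rw [pow_succ, hf _ (K.pow_mem ha n) _ ha, ih, pow_succ]

omit [Finite G] in
theorem exists_sq_eq_of_odd_card {A : Subgroup G} (h : Odd (Nat.card A)) {a : G} (ha : a ∈ A) :
    ∃ b ∈ A, b * b = a := by
  obtain ⟨k, hk⟩ := h
  refine ⟨a ^ (k + 1), A.pow_mem ha _, ?_⟩
  have : a ^ Nat.card A = 1 := orderOf_dvd_iff_pow_eq_one.1 (orderOf_dvd_card' ha)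
  rw [← pow_add, show k + 1 + (k + 1) = Nat.card A + 1 by omega, pow_succ, this, one_mul]

/-- The eigenvalue argument in the proof of Blackburn's theorem. -/
theorem blackburn_aux {p : ℕ} [Fact p.Prime] {S T A : Subgroup G} {x s : G}
    (hZ : 𝐙(S) = ⁅S, S⁆) (hZc : Nat.card ↥⁅S, S⁆ = p) (hTS : T ≤ S) (hi : T.relIndex S = p)
    (hT : IsMulCommutative T) (hSx : ∀ v ∈ S, ∀ w ∈ zpowers x, ⁅v, w⁆ ∈ T) (hx : x ∈ 𝐂(T))
    (hZx : ⁅S, S⁆ ≤ zpowers x) (hs : s ∈ S) (hsx : ⁅s, x⁆ ∉ ⁅S, S⁆)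
    (hST : S ≤ 𝐍(T)) (hAS : A ≤ 𝐍(S)) (hAx : A ≤ 𝐍(zpowers x))
    {a : G} (ha : a ∈ A) : ∃ j : ℕ, (s ^ j)⁻¹ * (a * s * a⁻¹) ∈ T ∧ j * j ≡ 1 [MOD p] := by
  have hp : p.Prime := Fact.out
  have hxT : zpowers x ≤ 𝐂(T) := zpowers_le.2 hx
  have hsT : s ∉ T := fun h => hsx (by
    rw [commutatorElement_eq_one_iff_mul_comm.2 (mem_cent.1 hx s h)]; exact one_mem _)
  have hS : T ⊔ zpowers s = S :=
    sup_eq_of_relIndex_prime hi hTS (zpowers_le.2 hs) (fun h => hsT (zpowers_le.1 h))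
  have hcen : ∀ u ∈ S, ∀ v ∈ S, ∀ y ∈ S, y * ⁅u, v⁆ = ⁅u, v⁆ * y := fun u hu v hv y hy =>
    mem_cent.1 (hZ.symm ▸ commutator_mem_commutator hu hv : ⁅u, v⁆ ∈ 𝐙(S)).2 y hy
  have hTc : ∀ t ∈ T, ∀ t' ∈ T, ⁅t, t'⁆ = 1 := fun t ht t' ht' =>
    commutatorElement_eq_one_iff_mul_comm.2 (mem_cent.1 (le_cent_of_comm hT ht') t ht)
  -- bilinearity in `S`
  have hL : ∀ y ∈ S, ∀ u ∈ S, ∀ v ∈ S, ⁅u * v, y⁆ = ⁅u, y⁆ * ⁅v, y⁆ := by
    intro y hy u hu v hv
    have e : ⁅u * v, y⁆ = u * ⁅v, y⁆ * u⁻¹ * ⁅u, y⁆ := by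
      simp only [commutatorElement_def]; group
    rw [e, hcen v hv y hy u hu, mul_inv_cancel_right,
      hcen u hu y hy _ ((NormalIn.der S).le (commutator_mem_commutator hv hy))]
  have hR : ∀ y ∈ S, ∀ u ∈ S, ∀ v ∈ S, ⁅y, u * v⁆ = ⁅y, u⁆ * ⁅y, v⁆ := by
    intro y hy u hu v hv
    have e : ⁅y, u * v⁆ = ⁅y, u⁆ * (u * ⁅y, v⁆ * u⁻¹) := by
      simp only [commutatorElement_def]; group
    rw [e, hcen y hy v hv u hu, mul_inv_cancel_right]
  have hW : ∀ v ∈ S, ∀ w ∈ zpowers x, ∀ w' ∈ zpowers x, ⁅v, w * w'⁆ = ⁅v, w⁆ * ⁅v, w'⁆ := by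
    intro v hv w hw w' hw'
    have e : ⁅v, w * w'⁆ = ⁅v, w⁆ * (w * ⁅v, w'⁆ * w⁻¹) := by
      simp only [commutatorElement_def]; group
    rw [e, ← mem_cent.1 (hxT hw) _ (hSx v hv w' hw'), mul_inv_cancel_right]
  have hV : ∀ u ∈ S, ∀ w ∈ zpowers x, ∀ v ∈ S, ∀ v' ∈ S,
      ⁅u, ⁅v * v', w⁆⁆ = ⁅u, ⁅v, w⁆⁆ * ⁅u, ⁅v', w⁆⁆ := by
    intro u hu w hw v hv v' hv'
    have h1 := hTS (hSx v hv w hw)
    have h2 := hTS (hSx v' hv' w hw)
    have e : ⁅v * v', w⁆ = ⁅v, ⁅v', w⁆⁆ * (⁅v', w⁆ * ⁅v, w⁆) := by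
      simp only [commutatorElement_def]; group
    have h3 : ⁅u, ⁅v, ⁅v', w⁆⁆⁆ = 1 :=
      commutatorElement_eq_one_iff_mul_comm.2 (hcen v hv _ h2 u hu)
    rw [e, hR u hu _ ((NormalIn.der S).le (commutator_mem_commutator hv h2)) _ (S.mul_mem h2 h1),
      h3, one_mul, hR u hu _ h2 _ h1,
      hcen u hu _ h1 _ ((NormalIn.der S).le (commutator_mem_commutator hu h2))]
  -- the action of `a`
  have has : a * s * a⁻¹ ∈ zpowers s ⊔ T := by
    rw [sup_comm, hS]; exact conj_mem_of_mem_norm (hAS ha) hs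
  obtain ⟨y, hy, t', ht', e1⟩ := (mem_sup_iff_of_norm' ((zpowers_le.2 hs).trans hST)).1 has
  obtain ⟨j, rfl⟩ := (mem_powers_iff_mem_zpowers.2 hy : y ∈ Submonoid.powers s)
  obtain ⟨i, e2⟩ := (mem_powers_iff_mem_zpowers.2
    (conj_mem_of_mem_norm (hAx ha) (mem_zpowers x)) : _ ∈ Submonoid.powers x)
  simp only at e1 e2
  refine ⟨j, by rw [← e1, inv_mul_cancel_left]; exact ht', ?_⟩
  set z := ⁅s, ⁅s, x⁆⁆ with hz
  have ht : ⁅s, x⁆ ∈ T := hSx s hs x (mem_zpowers x)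
  have hz1 : z ≠ 1 := by
    intro h
    refine hsx (hZ ▸ ⟨hTS ht, ?_⟩)
    rw [← hS, cent_sup, cent_zpowers]
    exact ⟨le_cent_of_comm hT ht, mem_cent1.2 (commutatorElement_eq_one_iff_mul_comm.1 h).symm⟩
  have hzS : z ∈ ⁅S, S⁆ := commutator_mem_commutator hs (hTS ht)
  have hzo : orderOf z = p := by
    have := orderOf_dvd_card' hzS
    rw [hZc] at this
    exact ((Nat.dvd_prime hp).1 this).resolve_left (by simpa using hz1)
  have c1 : a * z * a⁻¹ = z ^ i := by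
    obtain ⟨n, hn⟩ := (mem_powers_iff_mem_zpowers.2 (hZx hzS) : _ ∈ Submonoid.powers x)
    simp only at hn
    rw [← hn, ← conj_pow, ← e2, ← pow_mul, ← pow_mul, mul_comm]
  have hsj : s ^ j ∈ S := S.pow_mem hs j
  have hxi : x ^ i ∈ zpowers x := pow_mem (mem_zpowers x) i
  have c2 : a * z * a⁻¹ = z ^ (i * (j * j)) := by
    have e : a * z * a⁻¹ = ⁅a * s * a⁻¹, ⁅a * s * a⁻¹, a * x * a⁻¹⁆⁆ := by
      simp only [hz, commutatorElement_def]; group
    have hst : s ^ j * t' ∈ S := S.mul_mem hsj (hTS ht')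
    have f1 : ⁅t', x ^ i⁆ = 1 :=
      commutatorElement_eq_one_iff_mul_comm.2 (mem_cent.1 (hxT hxi) t' ht')
    rw [e, ← e1, ← e2, hL _ (hTS (hSx _ hst _ hxi)) _ hsj _ (hTS ht'),
      hTc _ ht' _ (hSx _ hst _ hxi), mul_one,
      map_pow_of_mul_on (f := fun u => ⁅u, ⁅s ^ j * t', x ^ i⁆⁆) (hL _ (hTS (hSx _ hst _ hxi))) hs,
      hV s hs _ hxi _ hsj _ (hTS ht'), f1, commutatorElement_one_right, mul_one,
      map_pow_of_mul_on (f := fun v => ⁅s, ⁅v, x ^ i⁆⁆) (hV s hs _ hxi) hs,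
      map_pow_of_mul_on (f := fun w => ⁅s, w⁆) (hW s hs) (mem_zpowers x),
      map_pow_of_mul_on (f := fun w => ⁅s, w⁆) (hR s hs) (hTS ht), ← pow_mul, ← pow_mul]
  have c3 : i * (j * j) ≡ i * 1 [MOD p] := by
    rw [mul_one, ← hzo, ← pow_eq_pow_iff_modEq, ← c1, c2]
  have c4 : p.Coprime i := by
    rw [hp.coprime_iff_not_dvd, ← hzo, orderOf_dvd_iff_pow_eq_one, ← c1]
    intro h
    apply hz1
    have : z = a⁻¹ * (a * z * a⁻¹) * a := by group
    rw [this, h]; group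
  exact Nat.ModEq.cancel_left_of_coprime c4 c3

/-- BG 4.16 (Blackburn). -/
theorem t4_16 {p : ℕ} [Fact p.Prime] {R : Subgroup G} (hR : IsPGroup p R) (hodd : Odd (Nat.card R)) (hR1 : R ≠ ⊥)
    (hr : pRank p R ≤ 2) {A : Subgroup G} (hRA : ⁅R, A⁆ = R) (hp'A : PiGrp {p}ᶜ A)
    (hAodd : Odd (Nat.card A)) :
    3 < p ∧ (IsMulCommutative R ∨ ∃ S C : Subgroup G, ¬ IsMulCommutative S ∧ Nat.card S = p ^ 3 ∧
      (∀ x ∈ S, x ^ p = 1) ∧ CP S C R ∧ IsCyclic C ∧ omegaOne p C = ⁅S, S⁆) := by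
  have hp : p.Prime := Fact.out
  have hA : A ≤ 𝐍(R) := hRA ▸ normalizer_commutator_ge_right R A
  have hp3 : 3 < p := by
    have h1 : 𝐂(R).relIndex A ≠ 1 := fun h =>
      hR1 (hRA ▸ commutator_eq_bot_iff''.2 (relIndex_eq_one.1 h))
    obtain ⟨q, hq, hd⟩ := Nat.exists_prime_and_dvd h1
    have hdA : q ∣ Nat.card A := hd.trans (relIndex_dvd_card _ _)
    have hqp : q ≠ p := fun h => hp'A.not_dvd hp (by simp) (h ▸ hdA)
    have h2 := (t4_13 hR hodd hr hA hq hqp hd).2.1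
    have h3 : q ≠ 2 := by
      rintro rfl
      exact (Nat.not_even_iff_odd.2 hAodd) (even_iff_two_dvd.2 hdA)
    have := hq.two_le
    omega
  refine ⟨hp3, ?_⟩
  set S := omegaOne p R with hSdef
  have hSR : S ⊴ R := omegaOne_normalIn p R
  have hS : IsPGroup p S := hR.to_le hSR.le
  have he : ∀ x ∈ S, x ^ p = 1 := t4_8b hR hr hp3
  by_cases hsm : Nat.card S ≤ p ^ 2
  · left
    have := (t4_12 hR hodd (t4_11 hR hp3 hsm) hA hp'A).1
    rwa [hRA] at this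
  right
  have hSc : Nat.card S = p ^ 3 := by
    have h1 := t4_8a hS ((pRank_mono hp hSR.le).trans hr) he
    obtain ⟨k, hk⟩ := pg_card_eq_pow hS
    rw [hk] at h1 hsm ⊢
    have h2 := (Nat.pow_le_pow_iff_right hp.one_lt).1 h1
    have h3 := (Nat.pow_le_pow_iff_right hp.one_lt).not.1 hsm
    congr 1; omega
  have hSn : ¬ IsMulCommutative S := fun h => by
    have := (ElemN.mk hSR.le ⟨h, he⟩ hSc).le_pRank hp
    omega
  obtain ⟨hZc, hZ⟩ := center_of_card_cube hSc hSn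
  rw [hZ] at hZc
  set C := R ⊓ 𝐂(S) with hCdef
  have hCR : C ⊴ R := NormalIn.inf_cent hSR.norm
  have hS'R : ⁅S, S⁆ ⊴ R := hSR.der_trans
  have hS'C : ⁅S, S⁆ ≤ C := le_inf hS'R.le (hZ ▸ inf_le_right)
  have hSC : S ⊓ C = ⁅S, S⁆ := by
    rw [hCdef, ← inf_assoc, inf_eq_left.2 hSR.le, hZ]
  have hOC : omegaOne p C = ⁅S, S⁆ := by
    refine le_antisymm (hSC ▸ le_inf (omegaOne_mono hCR.le) (omegaOne_le p C)) ?_
    intro y hy
    exact mem_omegaOne (hS'C hy) (he y ((NormalIn.der S).le hy))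
  have hCc : IsCyclic C :=
    t4_5_cyclic_of_card_omega (hR.to_le hCR.le) (odd_card_of_le hodd hCR.le) (by rw [hOC, hZc])
  refine ⟨S, C, hSn, hSc, he, ?_, hCc, hOC⟩
  by_contra hcp
  have hSRS : ¬ ⁅S, R⁆ ≤ ⁅S, S⁆ := fun h => hcp (t4_15' hR hSR.le hZ hZc h)
  have hS1 : S ≠ ⊥ := fun h => hSn (h ▸ comm_of_isCyclic inferInstance)
  set T := ⁅S, R⁆ with hTdef
  have hTR : T ⊴ R := hSR.commutator (NormalIn.refl R)
  have hTS : T < S := nil_commutator_lt (nil_of_isPGroup hR) hSR.le le_rfl hSR.norm hS1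
  have hS'T : ⁅S, S⁆ ≤ T := commutator_mono le_rfl hSR.le
  have hTc : Nat.card T = p ^ 2 := by
    obtain ⟨k, hk⟩ := pg_card_eq_pow (hR.to_le hTR.le)
    have h1 := card_lt_of_lt hTS
    have h2 := card_lt_of_lt (lt_of_le_of_ne hS'T fun h => hSRS h.ge)
    rw [hk] at h1 h2 ⊢
    rw [hSc] at h1
    rw [hZc] at h2
    have h3 := (Nat.pow_lt_pow_iff_right hp.one_lt).1 h1
    have h4 : 1 < k := (Nat.pow_lt_pow_iff_right hp.one_lt).1 (by rwa [pow_one])
    congr 1; omega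
  have hTi : T.relIndex S = p := by
    have := card_mul_relIndex hTS.le
    rw [hTc, hSc, pow_succ p 2] at this
    exact Nat.eq_of_mul_eq_mul_left (pow_pos hp.pos 2) this
  have hTab : IsMulCommutative T := pg_comm_of_card_le_sq (hR.to_le hTR.le) hTc.le
  have hAS : A ≤ 𝐍(S) := norms_omegaOne p hA
  have hAT : A ≤ 𝐍(T) := norms_commutator hAS hA
  set B := R ⊓ 𝐂(T) with hBdef
  have hBR : B ⊴ R := NormalIn.inf_cent hTR.norm
  have hAB : A ≤ 𝐍(B) := norms_inf_cent hA hAT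
  have hAC : A ≤ 𝐍(C) := norms_inf_cent hA hAS
  have hTB : T ≤ B := le_inf hTR.le (le_cent_of_comm hTab)
  have hCB : C ≤ B := inf_le_inf_left R (cent_anti hTS.le)
  have hSB : ¬ S ≤ B := fun h =>
    hSRS (hZ ▸ le_inf hTS.le (cent_symm (h.trans inf_le_right)))
  have hBi : B.relIndex R = p := by
    have h1 := pg_relIndex_cent_dvd hR hTR.norm hTc
    rw [← inf_relIndex_left] at h1
    refine ((Nat.dvd_prime hp).1 h1).resolve_left fun h => hSB (hSR.le.trans (relIndex_eq_one.1 h))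
  have hBS : B ⊔ S = R := sup_eq_of_relIndex_prime hBi hBR.le hSR.le hSB
  have hSBT : ⁅S, B⁆ ≤ T := commutator_mono le_rfl hBR.le
  have hBT : S ⊓ B = T := by
    rcases eq_or_eq_of_relIndex_prime hTi (le_inf hTS.le hTB) inf_le_left with h | h
    · exact h
    · exact absurd (h ▸ inf_le_right) hSB
  have hBe : IsElementaryAbelian p (quot C B) := by
    rw [quot_isElementaryAbelian_iff (hBR.le.trans hCR.norm)]
    have h1 : ⁅⁅S, B⁆, B⁆ = ⊥ :=
      le_bot_iff.1 ((commutator_mono hSBT le_rfl).trans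
        (commutator_eq_bot_iff''.2 inf_le_right).le)
    refine ⟨le_inf ((NormalIn.der B).le.trans hBR.le) (commutator_eq_bot_iff'.1 ?_), ?_⟩
    · exact commutator_commutator_eq_bot_of_rotate (by rwa [commutator_comm B S]) h1
    · intro b hb
      refine ⟨R.pow_mem hb.1 p, mem_cent.2 fun v hv => ?_⟩
      rw [← commutatorElement_eq_one_iff_mul_comm,
        map_pow_of_mul_on (K := B) (f := fun w => ⁅v, w⁆) ?_ hb]
      · exact he _ (hTS.le (hSBT (commutator_mem_commutator hv hb)))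
      · intro w hw w' hw'
        have e : ⁅v, w * w'⁆ = ⁅v, w⁆ * (w * ⁅v, w'⁆ * w⁻¹) := by
          simp only [commutatorElement_def]; group
        rw [e, ← mem_cent.1 hw.2 _ (hSBT (commutator_mem_commutator hv hw')), mul_inv_cancel_right]
  obtain ⟨X, hCX, hXB, hAX, h1, h2⟩ := maschke_section (p := p) (A := A)
    (le_sup_left : C ≤ C ⊔ T) (sup_le hCB hTB) (hBR.le.trans hCR.norm) hBe
    ((piGrp_compl_singleton_iff_coprime hp).1 hp'A) hAC (norms_sup hAC hAT) hAB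
  have hXR : X ≤ R := hXB.trans hBR.le
  have hXc : IsCyclic X := by
    refine pg_isCyclic_of_omegaOne_le (hR.to_le hXR) (odd_card_of_le hodd hXR) hCc ?_
    rw [← h1]
    exact le_inf (omegaOne_le p X) (le_sup_right.trans' (hBT ▸
      le_inf (omegaOne_mono hXR) ((omegaOne_le p X).trans hXB)))
  obtain ⟨x, hx, rfl⟩ := exists_zpowers_of_isCyclic hXc
  have hRS : R = zpowers x ⊔ S := by
    rw [← hBS, ← h2]
    refine le_antisymm (sup_le (sup_le le_sup_left (sup_le (hCX.trans le_sup_left)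
      (hTS.le.trans le_sup_right))) le_sup_right) (sup_le_sup_right le_sup_left _)
  obtain ⟨s, hs, hsx⟩ : ∃ s ∈ S, ⁅s, x⁆ ∉ ⁅S, S⁆ := by
    by_contra! h
    apply hSRS
    have hN : S ≤ 𝐍(⁅S, S⁆) := hSR.le.trans hS'R.norm
    have hxN : x ∈ 𝐍(⁅S, S⁆) := hS'R.norm (hXR hx)
    rw [hTdef, commutator_comm, ← quot_le_centralizer_iff hS'R.norm hN]
    conv_lhs => rw [hRS]
    rw [quot_sup (zpowers_le.2 hxN) hN, quot_zpowers hxN]
    refine sup_le (zpowers_le.2 (mem_cent.2 ?_)) ((quot_le_centralizer_iff hN hN).2 le_rfl)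
    intro y hy
    obtain ⟨v, hv, hvN, rfl⟩ := mem_quot.1 hy
    rw [← commutatorElement_eq_one_iff_mul_comm, ← coset_commutatorElement hvN hxN]
    exact coset_eq_one (h v hv)
  have hSN : S ≤ 𝐍(T) := hSR.le.trans hTR.norm
  have hsT : s ∉ T := fun h => hsx (by
    rw [commutatorElement_eq_one_iff_mul_comm.2 (mem_cent.1 (hXB hx).2 s h)]; exact one_mem _)
  have hTs : T ⊔ zpowers s = S :=
    sup_eq_of_relIndex_prime hTi hTS.le (zpowers_le.2 hs) (fun h => hsT (zpowers_le.1 h))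
  have hSA : ⁅S, A⁆ ≤ T := by
    rw [← quot_le_centralizer_iff hSN hAT, ← hTs, quot_self_sup ((zpowers_le.2 hs).trans hSN),
      quot_zpowers (hSN hs)]
    refine zpowers_le.2 (mem_cent.2 ?_)
    intro y hy
    obtain ⟨a, ha, haN, rfl⟩ := mem_quot.1 hy
    obtain ⟨b, hb, rfl⟩ := exists_sq_eq_of_odd_card hAodd ha
    obtain ⟨j, hj1, hj2⟩ := blackburn_aux hZ hZc hTS.le hTi hTab
      (fun v hv w hw => hSBT (commutator_mem_commutator hv (hXB hw))) (hXB hx).2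
      (hS'C.trans hCX) hs hsx hSN hAS hAX hb
    have hbN := hAT hb
    have e1 : coset T b * coset T s * (coset T b)⁻¹ = coset T s ^ j := by
      rw [← coset_conj hbN (hSN hs), ← coset_pow (hSN hs)]
      exact ((coset_eq_iff (hSN (S.pow_mem hs j))
        (hSN (conj_mem_of_mem_norm (hAS hb) hs))).2 hj1).symm
    have e2 : coset T s ^ (j * j) = coset T s ^ 1 := by
      refine pow_eq_pow_iff_modEq.2 (hj2.of_dvd ?_)
      rw [orderOf_dvd_iff_pow_eq_one, ← coset_pow (hSN hs), he s hs, coset_one]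
    rw [coset_mul hbN hbN]
    calc coset T b * coset T b * coset T s
        = coset T b * (coset T b * coset T s * (coset T b)⁻¹) * (coset T b)⁻¹ *
          (coset T b * coset T b) := by group
      _ = coset T s * (coset T b * coset T b) := by
          rw [e1, ← conj_pow, e1, ← pow_mul, e2, pow_one]
  have : ⁅R, A⁆ ≤ B := by
    rw [← quot_le_centralizer_iff hBR.norm hAB, ← hBS, quot_self_sup (hSR.le.trans hBR.norm),
      quot_le_centralizer_iff (hSR.le.trans hBR.norm) hAB]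
    exact hSA.trans hTB
  rw [hRA] at this
  exact hSB (hSR.le.trans this)

end CL.BG
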