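import Cfsg.Agent.BG.T10_6
import Cfsg.Agent.BG.T4_16
import Cfsg.Agent.BG.PAmb

/-! BG Corollary 10.7 -/

namespace CL.BG

open Cfsg

variable {G : Type*} [Group G] [Finite G]

/-- a maximal subgroup containing the normaliser of a nontrivial Sylow subgroup -/
theorem exists_mmax_sigma_of_sylow (hG : IsMinSimpleOddOrder G) {p : ℕ} [Fact p.Prime]
    {P : Subgroup G} (hP : SylowOf p P ⊤) (h1 : P ≠ ⊥) :
    ∃ M : Subgroup G, IsCoatom M ∧ 𝐍(P) ≤ M ∧ SylowOf p P M ∧ p ∈ sigma M := by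
  obtain ⟨M, hM, hN⟩ := mmax_exists (mFT_norm_pgroup_ne_top hG hP.isPGroup h1)
  have hPM : SylowOf p P M := Hall.restrict hP ((le_norm_self P).trans hN) le_top
  exact ⟨M, hM, hN, hPM, mem_sigma_of_norm_le hM.1 hPM hN⟩

/-- BG 10.7(a), second part -/
theorem t10_7a (hG : IsMinSimpleOddOrder G) {p : ℕ} [Fact p.Prime] {P : Subgroup G}
    (hP : SylowOf p P ⊤) : P ≤ ⁅𝐍(P), 𝐍(P)⁆ := by
  by_cases h1 : P = ⊥
  · rw [h1]; exact bot_le
  obtain ⟨M, hM, hN, hPM, hp⟩ := exists_mmax_sigma_of_sylow hG hP h1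
  exact (t6_6b hPM (t10_6 hG p hM.1) (sigma_sylow_le_der hG hM hp hPM)).trans
    (Subgroup.commutator_mono inf_le_right inf_le_right)

/-- BG 10.7(a), first part -/
theorem t10_7a' (hG : IsMinSimpleOddOrder G) {p : ℕ} [Fact p.Prime] {P : Subgroup G}
    (hP : SylowOf p P ⊤) {V : Subgroup G} (hV : SDP P V 𝐍(P)) : ⁅P, V⁆ = P :=
  (t6_3a hV (hV.coprime_of_isHall_left (Hall.restrict hP (le_norm_self P) le_top).isHall)
    (solvable_of_isPGroup hP.isPGroup) (t10_7a hG hP)).1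

/-- the centre of a nonabelian group of order `p ^ 3` has order `p` -/
theorem card_center_of_card_cube {p : ℕ} [Fact p.Prime] {S : Subgroup G}
    (hc : Nat.card S = p ^ 3) (hnc : ¬ IsMulCommutative S) : Nat.card ↥𝐙(S) = p := by
  have pp : p.Prime := Fact.out
  have hS : IsPGroup p S := IsPGroup.of_card hc
  have hS1 : S ≠ ⊥ := by
    rintro rfl
    exact hnc (comm_of_isCyclic inferInstance)
  have hn := (NormalIn.center S).norm
  have hq : ¬ IsCyclic (quot 𝐙(S) S) := fun h =>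
    hnc (isMulCommutative_of_isCyclic_quot hn (inf_le_left.trans inf_le_right) h)
  have hmul := card_mul_card_quot hn inf_le_left
  obtain ⟨a, ha⟩ := pg_card_eq_pow (hS.to_inf_left (K := 𝐂(S)))
  obtain ⟨b, hb⟩ := pg_card_eq_pow (quot_isPGroup 𝐙(S) hS)
  have hab : a + b = 3 := by
    rw [ha, hb, hc, ← pow_add] at hmul
    exact Nat.pow_right_injective pp.two_le hmul
  have ha0 : a ≠ 0 := by
    rintro rfl
    exact center_ne_bot_of_isPGroup pp hS hS1 (Subgroup.card_eq_one.1 (by rw [ha, pow_zero]))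
  have hb1 : ¬ b ≤ 1 := fun h => hq (pg_isCyclic_of_card_le (quot_isPGroup _ hS)
    (by rw [hb]; exact (Nat.pow_le_pow_right pp.pos h).trans_eq (pow_one p)))
  rw [ha, show a = 1 by omega, pow_one]

/-- BG 10.7(b) -/
theorem t10_7b (hG : IsMinSimpleOddOrder G) {p : ℕ} [Fact p.Prime] {P : Subgroup G}
    (hP : SylowOf p P ⊤) (hr : pRank p P ≤ 2) (hnc : ¬ IsMulCommutative P) :
    ∃ S C : Subgroup G, ¬ IsMulCommutative S ∧ Nat.card S = p ^ 3 ∧ (∀ x ∈ S, x ^ p = 1) ∧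
      IsCyclic C ∧ CP S C P ∧ omegaOne p C = 𝐙(S) := by
  have pp : p.Prime := Fact.out
  have h1 : P ≠ ⊥ := by
    rintro rfl
    exact hnc (comm_of_isCyclic inferInstance)
  have hPN : Hall {p} P 𝐍(P) := Hall.restrict hP (le_norm_self P) le_top
  obtain ⟨V, hV⟩ := hPN.exists_sdp le_rfl
  rcases (t4_16 hP.isPGroup (mFT_odd hG P) h1 hr (t10_7a' hG hP hV)
    (hV.hall_left_iff.1 hPN).2 (mFT_odd hG V)).2 with h | ⟨S, C, hS, hc, he, hcp, hC, hΩ⟩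
  · exact absurd h hnc
  refine ⟨S, C, hS, hc, he, hC, hcp, ?_⟩
  refine eq_of_le_of_prime (by rwa [card_center_of_card_cube hc hS])
    (le_inf (hΩ ▸ (NormalIn.der S).le) ((omegaOne_le p C).trans hcp.cent)) ?_
  rw [hΩ, Ne, commutator_eq_bot_iff', ← comm_iff_le_cent]
  exact hS

/-- BG 10.7(c) -/
theorem t10_7c (hG : IsMinSimpleOddOrder G) {p : ℕ} [Fact p.Prime] {P : Subgroup G}
    (hP : SylowOf p P ⊤) {Q : Subgroup G} {x : G} (hQ : Q ≤ P) (hx : cj x Q ≤ P) :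
    ∃ y ∈ 𝐍(P), cj x Q = cj y Q := by
  by_cases h1 : P = ⊥
  · rw [h1, le_bot_iff] at hQ
    exact ⟨1, one_mem _, by rw [hQ, cj_bot, cj_bot]⟩
  obtain ⟨M, hM, -, hPM, hp⟩ := exists_mmax_sigma_of_sylow hG hP h1
  obtain ⟨m, hm, c, hc, rfl⟩ := t10_1a hG hM hp (hP.isPGroup.to_le hQ) (hQ.trans hPM.le)
    (hx.trans hPM.le)
  rw [cj_mul, cj_eq_of_mem_cent hc] at hx ⊢
  obtain ⟨u, hu, d, hd, rfl⟩ := t6_6c hPM (t10_6 hG p hM.1) (Y := Q) hQ hm (cj_le_iff.1 hx)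
  exact ⟨u, hu.2, by rw [cj_mul, cj_eq_of_mem_cent hd.2]⟩

/-- BG 10.7(d) -/
theorem t10_7d (hG : IsMinSimpleOddOrder G) {p : ℕ} [Fact p.Prime] {P : Subgroup G}
    (hP : SylowOf p P ⊤) {Q : Subgroup G} (hQ : Q ≤ P) : SylowOf p (P ⊓ 𝐍(Q)) 𝐍(Q) := by
  obtain ⟨S, hS, hQS⟩ := sylow_superset (hP.isPGroup.to_le hQ) (le_norm_self Q)
  obtain ⟨g, -, hg⟩ := sylow_conj_le hP hS.isPGroup le_top
  obtain ⟨y, hy, e⟩ := t10_7c hG hP hQ ((cj_mono g hQS).trans hg)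
  have hN : y⁻¹ * g ∈ 𝐍(Q) := by rw [← cj_eq_iff_mem_norm, cj_mul, e, cj_inv_cj]
  have hS' : SylowOf p (cj (y⁻¹ * g) S) 𝐍(Q) := Hall.cj_of_mem hS hN
  refine hS'.of_ge' hP.isPGroup.to_inf_left (le_inf ?_ hS'.le) inf_le_right
  rw [cj_mul]
  exact cj_le_of_mem_norm (inv_mem hy) hg

/-- BG 10.7(e) -/
theorem t10_7e (hG : IsMinSimpleOddOrder G) {p : ℕ} [Fact p.Prime] {P : Subgroup G}
    (hP : SylowOf p P ⊤) {Q R : Subgroup G} (hR : IsPGroup p R) (hQ : Q ≤ P ⊓ R)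
    (hN : 𝐍(P) ≤ 𝐍(Q)) : 𝐍(R) ≤ 𝐍(Q) := by
  have key : ∀ x : G, cj x Q ≤ P → x ∈ 𝐍(Q) := by
    intro x hx
    obtain ⟨y, hy, e⟩ := t10_7c hG hP (hQ.trans inf_le_left) hx
    rw [← cj_eq_iff_mem_norm, e, cj_eq_of_mem_norm (hN hy)]
  obtain ⟨x, -, hx⟩ := sylow_conj_le hP hR le_top
  have hQR : Q ≤ R := hQ.trans inf_le_right
  intro y hy
  refine (Subgroup.mul_mem_cancel_left _ (key x ((cj_mono x hQR).trans hx))).1 (key _ ?_)
  rw [cj_mul]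
  exact (cj_mono x (cj_le_of_mem_norm hy hQR)).trans hx

end CL.BG
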