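import Cfsg.Agent.BG.Prod
import Cfsg.Agent.Solv.Frobenius
import Cfsg.Agent.Solv.Frobenius2

/-!
# Regular and prime actions, Frobenius groups and TI sets (ambient form)
-/

namespace CL.BG

open Cfsg Subgroup

variable {G G' : Type*} [Group G] [Group G'] {K H L M N A B X Y P Q R : Subgroup G} {g x y : G}
  {p q m n : ℕ} {f : G →* G'}

/-- a nonidentity element of finite order has a power of prime order -/
theorem exists_mem_zpowers_orderOf_prime [Finite G] (hx : x ≠ 1) :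
    ∃ y ∈ zpowers x, (orderOf y).Prime := by
  have h1 : orderOf x ≠ 1 := fun h => hx (orderOf_eq_one_iff.1 h)
  obtain ⟨p, hp, hpx⟩ := Nat.exists_prime_and_dvd h1
  refine ⟨x ^ (orderOf x / p), pow_mem (mem_zpowers x) _, ?_⟩
  rwa [orderOf_pow_orderOf_div (orderOf_pos x).ne' hpx]

/-- a nontrivial finite subgroup contains a subgroup of prime order -/
theorem exists_prime_card_le [Finite G] (hA : A ≠ ⊥) :
    ∃ X : Subgroup G, X ≤ A ∧ (Nat.card X).Prime := by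
  obtain ⟨⟨x, hx⟩, hx1⟩ := ne_bot_iff_exists_ne_one.1 hA
  obtain ⟨y, hy, hp⟩ := exists_mem_zpowers_orderOf_prime (x := x) fun h => hx1 (Subtype.ext h)
  exact ⟨zpowers y, zpowers_le.2 (zpowers_le.2 hx hy), by rwa [Nat.card_zpowers]⟩

theorem exists_mem_ne_one_of_ne_bot (hA : A ≠ ⊥) : ∃ x ∈ A, x ≠ 1 := by
  obtain ⟨⟨x, hx⟩, hx1⟩ := ne_bot_iff_exists_ne_one.1 hA
  exact ⟨x, hx, fun h => hx1 (Subtype.ext h)⟩

theorem ne_bot_of_mem_ne_one (hx : x ∈ A) (hx1 : x ≠ 1) : A ≠ ⊥ :=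
  fun h => hx1 (mem_bot.1 (h ▸ hx))

theorem zpowers_eq_of_card_prime (hA : (Nat.card A).Prime) (hx : x ∈ A) (hx1 : x ≠ 1) :
    zpowers x = A := by
  have : Finite A := Nat.finite_of_card_ne_zero hA.ne_zero
  have hle : zpowers x ≤ A := zpowers_le.2 hx
  refine eq_of_le_of_card_ge hle ?_
  rcases (Nat.dvd_prime hA).1 (card_dvd_of_le hle) with h | h
  · exact absurd (orderOf_eq_one_iff.1 (by rwa [Nat.card_zpowers] at h)) hx1
  · exact h.ge

theorem cent1_eq_cent_of_card_prime (hA : (Nat.card A).Prime) (hx : x ∈ A) (hx1 : x ≠ 1) :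
    𝐂₁(x) = 𝐂(A) := by
  rw [← cent_zpowers, zpowers_eq_of_card_prime hA hx hx1]

theorem cent1_le_cent1_of_mem_zpowers (h : y ∈ zpowers x) : 𝐂₁(x) ≤ 𝐂₁(y) := by
  rw [← cent_zpowers x]; exact cent_le_cent1 h

/-! ### regular actions -/

theorem semiregular_iff :
    Semiregular K H ↔ ∀ a ∈ H, ∀ k ∈ K, a * k = k * a → a = 1 ∨ k = 1 := CL.Frob.fpf_iff

theorem semiregular_of_prime [Finite G]
    (h : ∀ X : Subgroup G, X ≤ H → (Nat.card X).Prime → K ⊓ 𝐂(X) = ⊥) : Semiregular K H := by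
  intro x hx hx1
  obtain ⟨y, hy, hp⟩ := exists_mem_zpowers_orderOf_prime hx1
  have := h (zpowers y) (zpowers_le.2 (zpowers_le.2 hx hy)) (by rwa [Nat.card_zpowers])
  rw [cent_zpowers] at this
  exact le_bot_iff.1 ((inf_le_inf_left K (cent1_le_cent1_of_mem_zpowers hy)).trans this.le)

theorem semiregular_of_card_prime (hH : (Nat.card H).Prime) (h : K ⊓ 𝐂(H) = ⊥) :
    Semiregular K H := fun _ hx hx1 => by rw [cent1_eq_cent_of_card_prime hH hx hx1, h]

theorem semiregular_of_forall_ne_bot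
    (h : ∀ X : Subgroup G, X ≤ H → X ≠ ⊥ → K ⊓ 𝐂(X) = ⊥) : Semiregular K H := by
  intro x hx hx1
  rw [← cent_zpowers]
  exact h _ (zpowers_le.2 hx) (zpowers_ne_bot.2 hx1)

theorem semiregular_bot_left (H : Subgroup G) : Semiregular ⊥ H := fun _ _ _ => bot_inf_eq _

theorem semiregular_bot_right (K : Subgroup G) : Semiregular K ⊥ :=
  fun _ hx hx1 => absurd (mem_bot.1 hx) hx1

theorem semiregular_map_iff (hf : Function.Injective f) :
    Semiregular (K.map f) (H.map f) ↔ Semiregular K H := by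
  constructor
  · intro h x hx hx1
    have := h (f x) (mem_map_of_mem f hx) fun e => hx1 (hf (by rw [e, map_one]))
    rwa [← map_inf_cent1 hf, map_eq_bot_iff_of_injective _ hf] at this
  · rintro h _ ⟨x, hx, rfl⟩ hx1
    rw [← map_inf_cent1 hf, h x hx fun e => hx1 (by rw [e, map_one]), Subgroup.map_bot]

theorem semiregular_cj : Semiregular (cj g K) (cj g H) ↔ Semiregular K H :=
  semiregular_map_iff (conj_injective g)

namespace Semiregular

theorem symm (h : Semiregular K H) : Semiregular H K := CL.Frob.fpf_symm h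

theorem mono (h : Semiregular K H) (hA : A ≤ K) (hB : B ≤ H) : Semiregular A B :=
  fun x hx hx1 => le_bot_iff.1 ((inf_le_inf_right _ hA).trans (h x (hB hx) hx1).le)

theorem mono_left (h : Semiregular K H) (hA : A ≤ K) : Semiregular A H := h.mono hA le_rfl

theorem mono_right (h : Semiregular K H) (hB : B ≤ H) : Semiregular K B := h.mono le_rfl hB

theorem eq_one (h : Semiregular K H) (hx : x ∈ H) (hx1 : x ≠ 1) (hy : y ∈ K)
    (hc : y ∈ 𝐂₁(x)) : y = 1 := mem_bot.1 (h x hx hx1 ▸ mem_inf.2 ⟨hy, hc⟩)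

theorem inf_eq_bot (h : Semiregular K H) : K ⊓ H = ⊥ := by
  rw [eq_bot_iff_forall]
  intro x hx
  by_contra hx1
  exact hx1 (h.eq_one hx.2 hx1 hx.1 (mem_cent1_self x))

/-- `C_K(A) = 1` for `1 ≠ A ≤ H` -/
theorem inf_cent_eq_bot (h : Semiregular K H) (hA : A ≤ H) (hA1 : A ≠ ⊥) : K ⊓ 𝐂(A) = ⊥ := by
  obtain ⟨x, hx, hx1⟩ := exists_mem_ne_one_of_ne_bot hA1
  exact le_bot_iff.1 ((inf_le_inf_left K (cent_le_cent1 hx)).trans (h x (hA hx) hx1).le)

/-- `C_H(A) = 1` for `1 ≠ A ≤ K` -/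
theorem inf_cent_eq_bot' (h : Semiregular K H) (hA : A ≤ K) (hA1 : A ≠ ⊥) : H ⊓ 𝐂(A) = ⊥ :=
  h.symm.inf_cent_eq_bot hA hA1

/-- a subgroup of `K` centralised by a nontrivial subgroup of `H` is trivial -/
theorem eq_bot_of_le_cent (h : Semiregular K H) (hA : A ≤ H) (hA1 : A ≠ ⊥) (hX : X ≤ K)
    (hc : X ≤ 𝐂(A)) : X = ⊥ :=
  le_bot_iff.1 ((le_inf hX hc).trans (h.inf_cent_eq_bot hA hA1).le)

theorem semiprime (h : Semiregular K H) : Semiprime K H := fun x hx hx1 => by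
  rw [h x hx hx1, h.inf_cent_eq_bot le_rfl (ne_bot_of_mem_ne_one hx hx1)]

theorem map (h : Semiregular K H) (hf : Function.Injective f) :
    Semiregular (K.map f) (H.map f) := (semiregular_map_iff hf).2 h

theorem cj (h : Semiregular K H) (g : G) : Semiregular (cj g K) (cj g H) := semiregular_cj.2 h

theorem card_modEq [Finite G] (h : Semiregular K H) (hn : H ≤ 𝐍(K)) :
    Nat.card K ≡ 1 [MOD Nat.card H] := CL.Frob.card_modEq_one_of_fpf hn h

theorem card_dvd_pred [Finite G] (h : Semiregular K H) (hn : H ≤ 𝐍(K)) :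
    Nat.card H ∣ Nat.card K - 1 :=
  (Nat.modEq_iff_dvd' Nat.card_pos).1 (h.card_modEq hn).symm

theorem coprime [Finite G] (h : Semiregular K H) (hn : H ≤ 𝐍(K)) :
    (Nat.card K).Coprime (Nat.card H) := (CL.Frob.coprime_of_fpf hn h).symm

theorem card_lt [Finite G] (h : Semiregular K H) (hn : H ≤ 𝐍(K)) (hK : K ≠ ⊥) :
    Nat.card H < Nat.card K := by
  have h1 := (one_lt_card_iff_ne_bot K).2 hK
  have := Nat.le_of_dvd (by omega) (h.card_dvd_pred hn)
  omega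

/-- for groups of odd order `2 |H| ∣ |K| - 1` -/
theorem two_mul_card_dvd_pred [Finite G] (h : Semiregular K H) (hn : H ≤ 𝐍(K))
    (hK : Odd (Nat.card K)) (hH : Odd (Nat.card H)) : 2 * Nat.card H ∣ Nat.card K - 1 :=
  Nat.Coprime.mul_dvd_of_dvd_of_dvd (Nat.coprime_two_left.2 hH)
    (even_iff_two_dvd.1 (Nat.Odd.sub_odd hK odd_one)) (h.card_dvd_pred hn)

theorem two_mul_card_lt [Finite G] (h : Semiregular K H) (hn : H ≤ 𝐍(K)) (hK1 : K ≠ ⊥)
    (hK : Odd (Nat.card K)) (hH : Odd (Nat.card H)) : 2 * Nat.card H < Nat.card K := by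
  have h1 := (one_lt_card_iff_ne_bot K).2 hK1
  have := Nat.le_of_dvd (by omega) (h.two_mul_card_dvd_pred hn hK hH)
  omega

theorem sdp (h : Semiregular K H) (hn : H ≤ 𝐍(K)) : SDP K H (K ⊔ H) := ⟨rfl, hn, h.inf_eq_bot⟩

theorem frob (h : Semiregular K H) (hn : H ≤ 𝐍(K)) (hK : K ≠ ⊥) (hH : H ≠ ⊥) :
    Frob K H (K ⊔ H) := ⟨h.sdp hn, hK, hH, h⟩

end Semiregular

/-! ### prime actions -/

theorem semiprime_iff_le : Semiprime K H ↔ ∀ x ∈ H, x ≠ 1 → K ⊓ 𝐂₁(x) ≤ 𝐂(H) :=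
  ⟨fun h x hx hx1 => (h x hx hx1).le.trans inf_le_right, fun h x hx hx1 =>
    le_antisymm (le_inf inf_le_left (h x hx hx1)) (inf_le_inf_left K (cent_le_cent1 hx))⟩

theorem semiprime_of_prime [Finite G]
    (h : ∀ X : Subgroup G, X ≤ H → (Nat.card X).Prime → K ⊓ 𝐂(X) ≤ 𝐂(H)) : Semiprime K H := by
  rw [semiprime_iff_le]
  intro x hx hx1
  obtain ⟨y, hy, hp⟩ := exists_mem_zpowers_orderOf_prime hx1
  have := h (zpowers y) (zpowers_le.2 (zpowers_le.2 hx hy)) (by rwa [Nat.card_zpowers])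
  rw [cent_zpowers] at this
  exact (inf_le_inf_left K (cent1_le_cent1_of_mem_zpowers hy)).trans this

theorem semiprime_of_card_prime (hH : (Nat.card H).Prime) (K : Subgroup G) : Semiprime K H :=
  fun _ hx hx1 => by rw [cent1_eq_cent_of_card_prime hH hx hx1]

theorem semiprime_of_le_cent (h : K ≤ 𝐂(H)) : Semiprime K H :=
  semiprime_iff_le.2 fun _ _ _ => inf_le_left.trans h

theorem semiprime_bot_left (H : Subgroup G) : Semiprime ⊥ H := semiprime_of_le_cent bot_le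

theorem semiprime_bot_right (K : Subgroup G) : Semiprime K ⊥ :=
  fun _ hx hx1 => absurd (mem_bot.1 hx) hx1

theorem semiprime_map_iff (hf : Function.Injective f) :
    Semiprime (K.map f) (H.map f) ↔ Semiprime K H := by
  constructor
  · intro h x hx hx1
    have := h (f x) (mem_map_of_mem f hx) fun e => hx1 (hf (by rw [e, map_one]))
    rw [← map_inf_cent1 hf, ← map_inf_cent hf] at this
    exact map_injective hf this
  · rintro h _ ⟨x, hx, rfl⟩ hx1
    rw [← map_inf_cent1 hf, h x hx fun e => hx1 (by rw [e, map_one]), map_inf_cent hf]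

theorem semiprime_cj : Semiprime (cj g K) (cj g H) ↔ Semiprime K H :=
  semiprime_map_iff (conj_injective g)

namespace Semiprime

theorem le_cent (h : Semiprime K H) (hx : x ∈ H) (hx1 : x ≠ 1) : K ⊓ 𝐂₁(x) ≤ 𝐂(H) :=
  semiprime_iff_le.1 h x hx hx1

theorem mono (h : Semiprime K H) (hA : A ≤ K) (hB : B ≤ H) : Semiprime A B :=
  semiprime_iff_le.2 fun _ hx hx1 =>
    (inf_le_inf_right _ hA).trans ((h.le_cent (hB hx) hx1).trans (cent_anti hB))

theorem mono_left (h : Semiprime K H) (hA : A ≤ K) : Semiprime A H := h.mono hA le_rfl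

theorem mono_right (h : Semiprime K H) (hB : B ≤ H) : Semiprime K B := h.mono le_rfl hB

/-- `C_K(A) = C_K(H)` for `1 ≠ A ≤ H` -/
theorem inf_cent_eq (h : Semiprime K H) (hA : A ≤ H) (hA1 : A ≠ ⊥) :
    K ⊓ 𝐂(A) = K ⊓ 𝐂(H) := by
  obtain ⟨x, hx, hx1⟩ := exists_mem_ne_one_of_ne_bot hA1
  exact le_antisymm ((inf_le_inf_left K (cent_le_cent1 hx)).trans (h x (hA hx) hx1).le)
    (inf_le_inf_left K (cent_anti hA))

/-- a subgroup of `K` centralised by a nontrivial subgroup of `H` centralises `H` -/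
theorem le_cent_of_le_cent (h : Semiprime K H) (hA : A ≤ H) (hA1 : A ≠ ⊥) (hX : X ≤ K)
    (hc : X ≤ 𝐂(A)) : X ≤ 𝐂(H) :=
  (le_inf hX hc).trans ((h.inf_cent_eq hA hA1).le.trans inf_le_right)

/-- if `X ≤ K` and `C_H(X) ≠ 1` then `X` centralises `H` -/
theorem le_cent_of_inf_cent_ne_bot (h : Semiprime K H) (hX : X ≤ K) (hne : H ⊓ 𝐂(X) ≠ ⊥) :
    X ≤ 𝐂(H) :=
  h.le_cent_of_le_cent inf_le_left hne hX (cent_symm inf_le_right)

theorem semiregular (h : Semiprime K H) (hc : K ⊓ 𝐂(H) = ⊥) : Semiregular K H :=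
  fun x hx hx1 => (h x hx hx1).trans hc

/-- a prime action is regular on every subgroup `A` of `K` with `C_A(B) = 1` for some
nontrivial `B ≤ H` -/
theorem semiregular_of_le (h : Semiprime K H) (hA : A ≤ K) (hB : B ≤ H) (hB1 : B ≠ ⊥)
    (hc : A ⊓ 𝐂(B) = ⊥) : Semiregular A H :=
  (h.mono_left hA).semiregular (((h.mono_left hA).inf_cent_eq hB hB1).symm.trans hc)

theorem map (h : Semiprime K H) (hf : Function.Injective f) :
    Semiprime (K.map f) (H.map f) := (semiprime_map_iff hf).2 h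

theorem cj (h : Semiprime K H) (g : G) : Semiprime (cj g K) (cj g H) := semiprime_cj.2 h

end Semiprime

/-! ### Frobenius groups -/

theorem frob_map_iff (hf : Function.Injective f) :
    Frob (K.map f) (H.map f) (L.map f) ↔ Frob K H L :=
  ⟨fun h => ⟨(sdp_map_iff hf).1 h.sdp, fun e => h.ker_ne (by rw [e, Subgroup.map_bot]),
      fun e => h.compl_ne (by rw [e, Subgroup.map_bot]), (semiregular_map_iff hf).1 h.reg⟩,
    fun h => ⟨h.sdp.map hf, fun e => h.ker_ne ((map_eq_bot_iff_of_injective _ hf).1 e),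
      fun e => h.compl_ne ((map_eq_bot_iff_of_injective _ hf).1 e), h.reg.map hf⟩⟩

theorem frob_cj : Frob (cj g K) (cj g H) (cj g L) ↔ Frob K H L := frob_map_iff (conj_injective g)

theorem frob_subgroupOf_iff (hK : K ≤ L) (hH : H ≤ L) :
    Frob (K.subgroupOf L) (H.subgroupOf L) ⊤ ↔ Frob K H L := by
  rw [← frob_map_iff L.subtype_injective, map_subgroupOf_eq_of_le hK, map_subgroupOf_eq_of_le hH,
    ← MonoidHom.range_eq_map, range_subtype]

/-- the link with the Frobenius groups of the Prelude -/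
theorem frob_top_iff [Finite G] :
    Frob K H ⊤ ↔ IsFrobeniusComplement H ∧ (K : Set G) = frobeniusKernel H := by
  constructor
  · intro h
    have := h.sdp.normalIn.normal_of_top
    have hc := (sdp_top_iff.1 h.sdp).2
    have hF := (CL.Frob.isFrobeniusComplement_iff_fpf hc h.ker_ne h.compl_ne).2 h.reg
    exact ⟨hF, (CL.Frob.isMalnormal_of_isFrobeniusComplement hF).coe_eq_kernel hc⟩
  · rintro ⟨hF, hK⟩
    obtain ⟨hn, hc⟩ :=
      (CL.Frob.isMalnormal_of_isFrobeniusComplement hF).isComplement'_of_coe_eq_kernel hK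
    have hK1 : K ≠ ⊥ := by
      rintro rfl
      exact hF.2.1 (by simpa using hc.sup_eq_top)
    exact ⟨sdp_top_iff.2 ⟨hn, hc⟩, hK1, hF.1,
      (CL.Frob.isFrobeniusComplement_iff_fpf hc hK1 hF.1).1 hF⟩

namespace Frob

theorem left_le (h : Frob K H L) : K ≤ L := h.sdp.left_le

theorem right_le (h : Frob K H L) : H ≤ L := h.sdp.right_le

theorem normalIn (h : Frob K H L) : K ⊴ L := h.sdp.normalIn

theorem norm (h : Frob K H L) : H ≤ 𝐍(K) := h.sdp.norm

theorem sup (h : Frob K H L) : K ⊔ H = L := h.sdp.sup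

theorem disj (h : Frob K H L) : K ⊓ H = ⊥ := h.sdp.disj

theorem reg' (h : Frob K H L) : Semiregular H K := h.reg.symm

theorem left_lt (h : Frob K H L) : K < L :=
  lt_of_le_of_ne h.left_le fun e =>
    h.compl_ne (by rw [← h.disj, e, inf_eq_right.2 h.right_le])

theorem right_lt (h : Frob K H L) : H < L :=
  lt_of_le_of_ne h.right_le fun e =>
    h.ker_ne (by rw [← h.disj, e, inf_eq_left.2 h.left_le])

theorem ne_bot (h : Frob K H L) : L ≠ ⊥ := fun e => h.ker_ne (le_bot_iff.1 (e ▸ h.left_le))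

theorem map (h : Frob K H L) (hf : Function.Injective f) : Frob (K.map f) (H.map f) (L.map f) :=
  (frob_map_iff hf).2 h

theorem cj (h : Frob K H L) (g : G) : Frob (cj g K) (cj g H) (cj g L) := frob_cj.2 h

theorem cj_right (h : Frob K H L) (hg : g ∈ L) : Frob K (BG.cj g H) L := by
  simpa only [h.normalIn.cj_eq hg, cj_eq_of_mem hg] using h.cj g

theorem subgroupOf (h : Frob K H L) : Frob (K.subgroupOf L) (H.subgroupOf L) ⊤ :=
  (frob_subgroupOf_iff h.left_le h.right_le).2 h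

/-- restriction to an invariant subgroup of the kernel and a subgroup of the complement -/
theorem sub (h : Frob K H L) (hA : A ≤ K) (hA1 : A ≠ ⊥) (hB : B ≤ H) (hB1 : B ≠ ⊥)
    (hn : B ≤ 𝐍(A)) : Frob A B (A ⊔ B) := (h.reg.mono hA hB).frob hn hA1 hB1

theorem sub_left (h : Frob K H L) (hA : A ≤ K) (hA1 : A ≠ ⊥) (hn : H ≤ 𝐍(A)) :
    Frob A H (A ⊔ H) := h.sub hA hA1 le_rfl h.compl_ne hn

theorem sub_right (h : Frob K H L) (hB : B ≤ H) (hB1 : B ≠ ⊥) : Frob K B (K ⊔ B) :=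
  h.sub le_rfl h.ker_ne hB hB1 (hB.trans h.norm)

theorem not_le_cent (h : Frob K H L) : ¬ H ≤ 𝐂(K) := fun e =>
  h.compl_ne (h.reg'.eq_bot_of_le_cent le_rfl h.ker_ne le_rfl e)

theorem inf_cent_compl (h : Frob K H L) : K ⊓ 𝐂(H) = ⊥ := h.reg.inf_cent_eq_bot le_rfl h.compl_ne

theorem inf_cent_ker (h : Frob K H L) : H ⊓ 𝐂(K) = ⊥ := h.reg'.inf_cent_eq_bot le_rfl h.ker_ne

/-- the complement is malnormal in `L` -/
theorem mem_of_conj_mem (h : Frob K H L) (hg : g ∈ L) (hx : x ∈ H) (hx1 : x ≠ 1)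
    (hgx : g * x * g⁻¹ ∈ H) : g ∈ H := by
  obtain ⟨y, hy, k, hk, rfl⟩ := h.sdp.exists_mul' hg
  have h1 : k * x * k⁻¹ ∈ H := by
    have := H.mul_mem (H.mul_mem (H.inv_mem hy) hgx) hy
    simpa [mul_assoc] using this
  have h2 : k * (x * k⁻¹ * x⁻¹) ∈ K ⊓ H :=
    mem_inf.2 ⟨K.mul_mem hk (conj_mem_of_mem_norm (h.norm hx) (K.inv_mem hk)),
      by simpa [mul_assoc] using H.mul_mem h1 (H.inv_mem hx)⟩
  rw [h.disj, mem_bot] at h2
  have h3 : k = 1 := h.reg.eq_one hx hx1 hk (mem_cent1.2 (by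
    calc k * x = k * x * (x⁻¹ * (k * (x * k⁻¹ * x⁻¹))⁻¹ * x) := by rw [h2]; group
      _ = k * (k * (x * k⁻¹ * x⁻¹))⁻¹ * x := by group
      _ = (k * (x * k⁻¹ * x⁻¹))⁻¹ * k * x := by rw [h2]; group
      _ = x * k := by group))
  rwa [h3, mul_one]

theorem inf_cj_eq_bot (h : Frob K H L) (hg : g ∈ L) (hgH : g ∉ H) : H ⊓ BG.cj g H = ⊥ := by
  rw [eq_bot_iff_forall]
  rintro _ ⟨h1, x, hx, rfl⟩
  by_contra hx1
  exact hgH (h.mem_of_conj_mem hg hx (fun e => hx1 (by rw [e, map_one])) h1)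

theorem inf_cent1_le_compl (h : Frob K H L) (hx : x ∈ H) (hx1 : x ≠ 1) : L ⊓ 𝐂₁(x) ≤ H :=
  fun g hg => h.mem_of_conj_mem hg.1 hx hx1 (by rwa [mem_cent1.1 hg.2, mul_inv_cancel_right])

theorem inf_norm_le_compl (h : Frob K H L) (hA : A ≤ H) (hA1 : A ≠ ⊥) : L ⊓ 𝐍(A) ≤ H := by
  obtain ⟨x, hx, hx1⟩ := exists_mem_ne_one_of_ne_bot hA1
  exact fun g hg => h.mem_of_conj_mem hg.1 (hA hx) hx1 (hA (conj_mem_of_mem_norm hg.2 hx))

theorem inf_cent_le_compl (h : Frob K H L) (hA : A ≤ H) (hA1 : A ≠ ⊥) : L ⊓ 𝐂(A) ≤ H :=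
  (inf_le_inf_left L (cent_le_norm A)).trans (h.inf_norm_le_compl hA hA1)

theorem inf_norm_compl (h : Frob K H L) : L ⊓ 𝐍(H) = H :=
  le_antisymm (h.inf_norm_le_compl le_rfl h.compl_ne) (le_inf h.right_le le_normalizer)

theorem center_eq_bot (h : Frob K H L) : 𝐙(L) = ⊥ :=
  h.reg'.eq_bot_of_le_cent le_rfl h.ker_ne
    ((inf_le_inf_left L (cent_anti h.right_le)).trans (h.inf_cent_le_compl le_rfl h.compl_ne))
    (inf_le_right.trans (cent_anti h.left_le))

theorem not_comm (h : Frob K H L) : ¬ IsMulCommutative L := fun e =>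
  h.not_le_cent (le_cent_of_comm_of_le e h.right_le h.left_le)

variable [Finite G]

theorem coprime (h : Frob K H L) : (Nat.card K).Coprime (Nat.card H) := h.reg.coprime h.norm

theorem card_dvd_pred (h : Frob K H L) : Nat.card H ∣ Nat.card K - 1 := h.reg.card_dvd_pred h.norm

theorem card_lt (h : Frob K H L) : Nat.card H < Nat.card K := h.reg.card_lt h.norm h.ker_ne

theorem two_mul_card_lt (h : Frob K H L) (hL : Odd (Nat.card L)) :
    2 * Nat.card H < Nat.card K :=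
  h.reg.two_mul_card_lt h.norm h.ker_ne (odd_card_of_le hL h.left_le)
    (odd_card_of_le hL h.right_le)

theorem isHall_ker (h : Frob K H L) : IsHall K L := h.sdp.isHall_left h.coprime

theorem isHall_compl (h : Frob K H L) : IsHall H L := h.sdp.isHall_right h.coprime

theorem isFrobeniusComplement (h : Frob K H L) : IsFrobeniusComplement (H.subgroupOf L) :=
  (frob_top_iff.1 h.subgroupOf).1

theorem isMalnormal (h : Frob K H L) : CL.Frob.IsMalnormal (H.subgroupOf L) :=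
  CL.Frob.isMalnormal_of_isFrobeniusComplement h.isFrobeniusComplement

/-- elements outside the kernel are conjugate under `K` into the complement -/
theorem exists_conj_mem (h : Frob K H L) (hx : x ∈ L) (hxK : x ∉ K) :
    ∃ k ∈ K, k * x * k⁻¹ ∈ H := by
  have := h.normalIn.normal
  obtain ⟨k, hk, hk'⟩ := h.isMalnormal.exists_conj_mem_of_not_mem h.sdp.isComplement'
    (x := ⟨x, hx⟩) hxK
  exact ⟨k, hk, hk'⟩

theorem inf_cent1_le_ker (h : Frob K H L) (hx : x ∈ K) (hx1 : x ≠ 1) : L ⊓ 𝐂₁(x) ≤ K := by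
  rintro y ⟨hy, hc⟩
  by_contra hyK
  obtain ⟨k, hk, hk'⟩ := h.exists_conj_mem hy hyK
  have h1 : k * y * k⁻¹ = 1 := by
    refine h.reg'.eq_one (x := k * x * k⁻¹) (K.mul_mem (K.mul_mem hk hx) (K.inv_mem hk))
      (fun e => hx1 (by simpa using e)) hk' ?_
    rw [← cj_cent1]
    exact conj_mem_cj.2 hc
  have h2 : y = 1 := by simpa using h1
  exact hyK (h2 ▸ K.one_mem)

theorem inf_cent_le_ker (h : Frob K H L) (hA : A ≤ K) (hA1 : A ≠ ⊥) : L ⊓ 𝐂(A) ≤ K := by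
  obtain ⟨x, hx, hx1⟩ := exists_mem_ne_one_of_ne_bot hA1
  exact (inf_le_inf_left L (cent_le_cent1 hx)).trans (h.inf_cent1_le_ker (hA hx) hx1)

/-- every subgroup of `L` meeting the kernel trivially acts regularly on it -/
theorem semiregular_of_disj (h : Frob K H L) (hA : A ≤ L) (hd : K ⊓ A = ⊥) : Semiregular K A :=
  Semiregular.symm fun _ hx hx1 => le_bot_iff.1 ((le_inf
    ((inf_le_inf_right _ hA).trans (h.inf_cent1_le_ker hx hx1)) inf_le_left).trans hd.le)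

/-- all complements to the kernel are Frobenius complements -/
theorem of_sdp (h : Frob K H L) (h' : SDP K A L) : Frob K A L :=
  ⟨h', h.ker_ne, fun e => h.left_lt.ne (by rw [← h'.sup, e, sup_bot_eq]),
    h.semiregular_of_disj h'.right_le h'.disj⟩

/-- a subgroup meeting the kernel trivially is conjugate into the complement -/
theorem exists_cj_le (h : Frob K H L) (hA : A ≤ L) (hd : K ⊓ A = ⊥) :
    ∃ k ∈ K, BG.cj k A ≤ H := by
  have := h.normalIn.normal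
  obtain ⟨⟨g, hg⟩, hle⟩ := h.isMalnormal.exists_conj_smul_le (L := A.subgroupOf L) (by
    intro x hx hxK
    rw [← h.isMalnormal.coe_eq_kernel h.sdp.isComplement'] at hxK
    exact Subtype.ext (mem_bot.1 (hd ▸ mem_inf.2 ⟨hxK, hx⟩)))
  obtain ⟨y, hy, k, hk, rfl⟩ := h.sdp.exists_mul' hg
  refine ⟨k, hk, cj_le_iff.2 fun a ha => ?_⟩
  have h1 : y * k * a * (y * k)⁻¹ ∈ H :=
    hle (smul_mem_pointwise_smul (⟨a, hA ha⟩ : L) _ (A.subgroupOf L) ha)
  simpa [mul_assoc] using H.mul_mem (H.mul_mem (H.inv_mem hy) h1) hy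

end Frob

/-- criterion: `K ⊴ L` has a complement and contains the centralisers of its elements -/
theorem frob_of_cent1_le (h : SDP K H L) (hK : K ≠ ⊥) (hH : H ≠ ⊥)
    (hc : ∀ x ∈ K, x ≠ 1 → L ⊓ 𝐂₁(x) ≤ K) : Frob K H L :=
  ⟨h, hK, hH, Semiregular.symm fun x hx hx1 => le_bot_iff.1 ((le_inf
    ((inf_le_inf_right _ h.right_le).trans (hc x hx hx1)) inf_le_left).trans h.disj.le)⟩

/-! ### TI sets -/

namespace NormedTI

variable {S T : Set G}

theorem conj_mem (h : NormedTI S L) (hg : g ∈ L) (hx : x ∈ S) : g * x * g⁻¹ ∈ S :=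
  (h.mem_iff x hx g).2 hg

theorem mem_of_conj_mem (h : NormedTI S L) (hx : x ∈ S) (hg : g * x * g⁻¹ ∈ S) : g ∈ L :=
  (h.mem_iff x hx g).1 hg

theorem cent1_le (h : NormedTI S L) (hx : x ∈ S) : 𝐂₁(x) ≤ L :=
  fun g hg => h.mem_of_conj_mem hx (by rwa [mem_cent1.1 hg, mul_inv_cancel_right])

theorem subset (h : NormedTI S L) : S ⊆ L := fun x hx => h.cent1_le hx (mem_cent1_self x)

theorem norm_eq (h : NormedTI S L) : normalizer S = L := by
  obtain ⟨a, ha⟩ := h.nonempty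
  ext g
  rw [mem_set_normalizer_iff]
  refine ⟨fun hg => h.mem_of_conj_mem ha ((hg a).1 ha),
    fun hg x => ⟨h.conj_mem hg, fun hx => ?_⟩⟩
  simpa [mul_assoc] using h.conj_mem (L.inv_mem hg) hx

theorem isTI (h : NormedTI S L) : IsTISubset S := fun _ hg _ hx hgx =>
  absurd (h.norm_eq ▸ h.mem_of_conj_mem hx hgx) hg

theorem mono (h : NormedTI S L) (hT : T ⊆ S) (hne : T.Nonempty)
    (hn : ∀ g ∈ L, ∀ x ∈ T, g * x * g⁻¹ ∈ T) : NormedTI T L :=
  ⟨hne, fun a ha g => ⟨fun hg => h.mem_of_conj_mem (hT ha) (hT hg), fun hg => hn g hg a ha⟩⟩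

/-- the normaliser of a subgroup meeting `S` whose elements conjugate to `S` lie in `S` -/
theorem norm_le (h : NormedTI S L) (hA : A ≠ ⊥) (hAS : (A : Set G) \ {1} ⊆ S) : 𝐍(A) ≤ L := by
  obtain ⟨x, hx, hx1⟩ := exists_mem_ne_one_of_ne_bot hA
  exact fun g hg => h.mem_of_conj_mem (hAS ⟨hx, hx1⟩)
    (hAS ⟨conj_mem_of_mem_norm hg hx, fun e => hx1 (by simpa using e)⟩)

theorem cj (h : NormedTI S L) (g : G) :
    NormedTI ((fun x => g * x * g⁻¹) '' S) (cj g L) := by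
  refine ⟨h.nonempty.image _, ?_⟩
  rintro _ ⟨a, ha, rfl⟩ y
  rw [mem_cj, ← h.mem_iff a ha]
  constructor
  · rintro ⟨b, hb, e⟩
    have : g⁻¹ * y * g * a * (g⁻¹ * y * g)⁻¹ = b := by
      rw [← mul_left_inj g⁻¹, ← mul_right_inj g, ← mul_assoc g b]
      simp only at e
      rw [e]; group
    rwa [this]
  · intro hb
    exact ⟨_, hb, by simp only; group⟩

end NormedTI

theorem normedTI_of {S : Set G} (hne : S.Nonempty) (hn : ∀ g ∈ L, ∀ x ∈ S, g * x * g⁻¹ ∈ S)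
    (hti : ∀ x ∈ S, ∀ g : G, g * x * g⁻¹ ∈ S → g ∈ L) : NormedTI S L :=
  ⟨hne, fun a ha g => ⟨hti a ha g, fun hg => hn g hg a ha⟩⟩

theorem normedTI_iff_isTISubset {S : Set G} (hne : S.Nonempty) (h1 : (1 : G) ∉ S) :
    NormedTI S L ↔ IsTISubset S ∧ normalizer S = L := by
  refine ⟨fun h => ⟨h.isTI, h.norm_eq⟩, ?_⟩
  rintro ⟨h, rfl⟩
  refine normedTI_of hne (fun g hg x hx => (mem_set_normalizer_iff.1 hg x).1 hx) ?_
  intro x hx g hg
  by_contra hn
  exact h1 (h g hn x hx hg ▸ hx)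

theorem normalizer_sdiff_one (S : Set G) (h1 : (1 : G) ∈ S) :
    normalizer (S \ {1}) = normalizer S := by
  ext g
  simp only [mem_set_normalizer_iff, Set.mem_sdiff, Set.mem_singleton_iff]
  constructor
  · intro h x
    by_cases hx : x = 1
    · simp [hx, h1]
    · have := h x
      simpa [hx] using this
  · intro h x
    rw [h x]; simp

theorem isTISubset_sdiff_one {S : Set G} (h1 : (1 : G) ∈ S) :
    IsTISubset (S \ {1}) ↔ IsTISubset S := by
  unfold IsTISubset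
  rw [normalizer_sdiff_one S h1]
  refine forall₂_congr fun g _ => ⟨fun h x hx hgx => ?_, fun h x hx hgx => h x hx.1 hgx.1⟩
  by_contra hx1
  exact hx1 (h x ⟨hx, hx1⟩ ⟨hgx, fun e => hx1 (by simpa using e)⟩)

theorem isTISubset_subgroup_iff :
    IsTISubset (A : Set G) ↔ ∀ g, g ∉ 𝐍(A) → A ⊓ cj g A = ⊥ := by
  refine forall₂_congr fun g _ => ⟨fun h => ?_, fun h x hx hgx => ?_⟩
  · rw [eq_bot_iff_forall]
    rintro _ ⟨h1, x, hx, rfl⟩
    rw [h x hx h1, map_one]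
  · have : g * x * g⁻¹ ∈ A ⊓ cj g A := mem_inf.2 ⟨hgx, conj_mem_cj.2 hx⟩
    rw [h, mem_bot] at this
    simpa using this

/-- `A^#` is a TI-set with normaliser `L` -/
theorem normedTI_sharp_iff :
    NormedTI ((A : Set G) \ {1}) L ↔ A ≠ ⊥ ∧ L ≤ 𝐍(A) ∧ ∀ g, g ∉ L → A ⊓ cj g A = ⊥ := by
  constructor
  · intro h
    have e : 𝐍(A) = L := by rw [← h.norm_eq, normalizer_sdiff_one _ A.one_mem]
    obtain ⟨x, hx, hx1⟩ := h.nonempty
    refine ⟨ne_bot_of_mem_ne_one hx hx1, e.ge, fun g hg => ?_⟩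
    exact isTISubset_subgroup_iff.1 ((isTISubset_sdiff_one A.one_mem).1 h.isTI) g (e ▸ hg)
  · rintro ⟨hA, hL, h⟩
    obtain ⟨x, hx, hx1⟩ := exists_mem_ne_one_of_ne_bot hA
    refine normedTI_of ⟨x, hx, hx1⟩ (fun g hg y hy =>
      ⟨conj_mem_of_mem_norm (hL hg) hy.1, fun e => hy.2 (by simpa using e)⟩) ?_
    intro y hy g hg
    by_contra hn
    exact hg.2 (mem_bot.1 (h g hn ▸ mem_inf.2 ⟨hg.1, conj_mem_cj.2 hy.1⟩))

theorem normedTI_sharp_iff_isTISubset (hA : A ≠ ⊥) :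
    NormedTI ((A : Set G) \ {1}) L ↔ IsTISubset (A : Set G) ∧ 𝐍(A) = L := by
  obtain ⟨x, hx, hx1⟩ := exists_mem_ne_one_of_ne_bot hA
  rw [normedTI_iff_isTISubset (S := (A : Set G) \ {1}) ⟨x, hx, hx1⟩ (fun h => h.2 rfl),
    isTISubset_sdiff_one A.one_mem,
    normalizer_sdiff_one _ A.one_mem]

theorem NormedTI.norm_eq_of_sharp (h : NormedTI ((A : Set G) \ {1}) L) : 𝐍(A) = L := by
  rw [← h.norm_eq, normalizer_sdiff_one _ A.one_mem]

theorem NormedTI.inf_cj_eq_bot (h : NormedTI ((A : Set G) \ {1}) L) (hg : g ∉ L) :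
    A ⊓ BG.cj g A = ⊥ := (normedTI_sharp_iff.1 h).2.2 g hg

theorem NormedTI.mem_of_inf_cj_ne_bot (h : NormedTI ((A : Set G) \ {1}) L)
    (hg : A ⊓ BG.cj g A ≠ ⊥) : g ∈ L := by
  by_contra hn; exact hg (h.inf_cj_eq_bot hn)

theorem NormedTI.sharp_mono (h : NormedTI ((A : Set G) \ {1}) L) (hB : B ≤ A) (hB1 : B ≠ ⊥)
    (hn : L ≤ 𝐍(B)) : NormedTI ((B : Set G) \ {1}) L :=
  normedTI_sharp_iff.2 ⟨hB1, hn, fun g hg =>
    le_bot_iff.1 ((inf_le_inf hB (cj_mono g hB)).trans (h.inf_cj_eq_bot hg).le)⟩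

theorem NormedTI.sharp_norm_le (h : NormedTI ((A : Set G) \ {1}) L) (hB : B ≤ A) (hB1 : B ≠ ⊥) :
    𝐍(B) ≤ L := h.norm_le hB1 fun _ hx => ⟨hB hx.1, hx.2⟩

theorem NormedTI.sharp_cj (h : NormedTI ((A : Set G) \ {1}) L) (g : G) :
    NormedTI ((BG.cj g A : Set G) \ {1}) (BG.cj g L) := by
  obtain ⟨h1, h2, h3⟩ := normedTI_sharp_iff.1 h
  refine normedTI_sharp_iff.2 ⟨fun e => h1 (cj_eq_bot_iff.1 e), ?_, fun y hy => ?_⟩
  · rw [← cj_norm]; exact cj_mono g h2
  · have e : BG.cj y (BG.cj g A) = BG.cj g (BG.cj (g⁻¹ * y * g) A) := by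
      rw [cj_cj, cj_cj]; congr 1; group
    rw [e, ← cj_inf, h3 _ (fun h => hy (mem_cj.2 h)), cj_bot]

end CL.BG
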