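import Cfsg.Agent.BG.Prod

set_option autoImplicit false
open Cfsg Subgroup
open scoped commutatorElement

namespace CL.BG
variable {G : Type*} [Group G] [Finite G]

omit [Finite G] in
/-- a commutator `[h, a]` commuting with `a` and of order prime to that of `a` is trivial -/
theorem commutatorElement_eq_one_of_coprime {h a : G} (hc : Commute ⁅h, a⁆ a)
    (hcop : (orderOf ⁅h, a⁆).Coprime (orderOf a)) : ⁅h, a⁆ = 1 := by
  have h1 : ⁅h, a⁆ * a = h * a * h⁻¹ := by simp [commutatorElement_def]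
  have h2 : ⁅h, a⁆ ^ orderOf a = 1 := by
    have h3 := hc.mul_pow (orderOf a)
    rw [h1, conj_pow, pow_orderOf_eq_one] at h3
    simpa using h3.symm
  exact orderOf_eq_one_iff.1 (hcop.eq_one_of_dvd (orderOf_dvd_of_pow_eq_one h2))

/-- BG 1.9, base case (`stable_factor_cent`). -/
theorem t1_9 {A H K : Subgroup G} (hKH : K ≤ H) (hAK : A ≤ 𝐂(K)) (h : ⁅H, A⁆ ≤ K)
    (hcop : (Nat.card H).Coprime (Nat.card A)) : A ≤ 𝐂(H) := by
  refine le_cent_iff.2 fun a ha x hx => ?_
  have hk : ⁅x, a⁆ ∈ K := h (commutator_mem_commutator hx ha)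
  refine commutatorElement_eq_one_iff_mul_comm.1
    (commutatorElement_eq_one_of_coprime (mem_cent.1 (hAK ha) _ hk) ?_)
  exact (hcop.coprime_dvd_left (orderOf_dvd_card' (hKH hk))).coprime_dvd_right
    (orderOf_dvd_card' ha)

/-- BG 1.9 (`stable_series_cent`): `A` stabilises a chain of subgroups from `H` to `1`. -/
theorem t1_9_series {A H : Subgroup G} (c : ℕ → Subgroup G) (n : ℕ) (h0 : c 0 = H) (hn : c n = ⊥)
    (hle : ∀ i < n, c (i + 1) ≤ c i) (h : ∀ i < n, ⁅c i, A⁆ ≤ c (i + 1))
    (hcop : (Nat.card H).Coprime (Nat.card A)) : A ≤ 𝐂(H) := by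
  have h1 : ∀ i ≤ n, c i ≤ H := by
    intro i
    induction i with
    | zero => exact fun _ => h0.le
    | succ i ih => exact fun hi => (hle i hi).trans (ih (Nat.le_of_succ_le hi))
  have h2 : ∀ j ≤ n, A ≤ 𝐂(c (n - j)) := by
    intro j
    induction j with
    | zero => intro _; rw [Nat.sub_zero, hn, cent_bot]; exact le_top
    | succ j ih =>
      intro hj
      have he : n - j = n - (j + 1) + 1 := by omega
      have hlt : n - (j + 1) < n := by omega
      refine t1_9 (hle _ hlt) (he ▸ ih (Nat.le_of_succ_le hj)) (h _ hlt) ?_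
      exact coprime_card_mono hcop (h1 _ hlt.le) le_rfl
  simpa [h0] using h2 n le_rfl

end CL.BG
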