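import Cfsg.Agent.BG.T4_16
import Cfsg.Agent.BG.T4_17
import Cfsg.Agent.BG.T1_9

set_option autoImplicit false

namespace CL.BG

open Cfsg Subgroup
open scoped commutatorElement

variable {G : Type*} [Group G] [Finite G]

/-- the number of conjugates of `v` under `K` is at most the order of a subgroup containing all
commutators `[x, v]`, `x ∈ K` -/
theorem relIndex_cent1_le_card {K W : Subgroup G} {v : G} (h : ∀ x ∈ K, ⁅x, v⁆ ∈ W) :
    𝐂₁(v).relIndex K ≤ Nat.card W := by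
  let f : K ⧸ 𝐂₁(v).subgroupOf K → W := fun y => ⟨⁅(y.out : G), v⁆, h _ y.out.2⟩
  refine Nat.card_le_card_of_injective f fun y z hyz => ?_
  rw [← y.out_eq', ← z.out_eq', QuotientGroup.eq, mem_subgroupOf, mem_cent1]
  have e : ⁅(y.out : G), v⁆ = ⁅(z.out : G), v⁆ := congrArg Subtype.val hyz
  simp only [commutatorElement_def, mul_left_inj] at e
  simp only [coe_mul, coe_inv]
  calc (y.out : G)⁻¹ * z.out * v = (y.out : G)⁻¹ * (z.out * v * (z.out : G)⁻¹) * z.out := by group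
    _ = v * ((y.out : G)⁻¹ * z.out) := by rw [← e]; group

/-- In a narrow `p`-group of rank at least 3, a `p'`-group which centralises all invariant
sections of order `p` acts trivially. -/
theorem narrow_le_cent {p : ℕ} [Fact p.Prime] {R : Subgroup G} (hR : IsPGroup p R)
    (hodd : Odd (Nat.card R)) (hn : Narrow p R) (hr : 2 < pRank p R) {L : Subgroup G}
    (hL : L ≤ 𝐍(R)) (hp'L : PiGrp {p}ᶜ L)
    (h : ∀ V U : Subgroup G, 𝐍(R) ≤ 𝐍(V) → 𝐍(R) ≤ 𝐍(U) → U ≤ 𝐍(V) → Nat.card (quot V U) = p →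
      quot V L ≤ 𝐂(quot V U)) : L ≤ 𝐂(R) := by
  have hp : p.Prime := Fact.out
  have hne : R ≠ ⊥ := by
    rintro rfl
    rw [pRank_bot hp] at hr
    omega
  obtain ⟨E, hE, hEm⟩ := hn hr
  obtain ⟨H, hH, -, hRH, hHe, hHc⟩ := t1_13 (pg_ne_two hR hodd hne) hR hne
  refine hHc L hL ((piGrp_compl_singleton_iff_coprime hp).1 hp'L) ?_
  have hRE : ¬ R ≤ 𝐍(E) := by
    intro hN
    have h1 := Nat.le_of_dvd hp.pos (pg_relIndex_cent_dvd hR hN hE.card)
    obtain ⟨B, hB⟩ := exists_elemN_of_le_pRank hp (show 3 ≤ pRank p R from hr)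
    obtain ⟨m, hm, h2⟩ := hB.exists_inf_of_relIndex_le hp (K := 𝐂(E)) (k := 1) (by rwa [pow_one])
    have h3 : 𝐂(E) ⊓ B ≤ E := hEm.le_of_elemAb h2.elem (h2.le.trans hB.le) inf_le_left
    have h4 : m = 2 := le_antisymm (h2.le_of_le hE hp h3) (by omega)
    subst h4
    have h5 : E ≤ B := h2.eq_of_le hE h3 ▸ inf_le_right
    have h6 := hB.le_of_le hE hp (hEm.max B hB.le hB.elem h5).le
    omega
  have hZE : omegaOne p 𝐙(R) ≤ E := hEm.omegaOne_center_le hE.le le_rfl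
  have hZ : ElemN p 1 E (omegaOne p 𝐙(R)) := hE.one_of_two hp hZE
    (omegaOne_center_ne_bot hp hR hne)
    (fun e => hRE (e ▸ le_norm_of_le_cent (le_cent_omegaOne_center p R)))
  obtain ⟨Y, hY, hYZ⟩ := hE.exists_one_ne hp le_rfl (omegaOne p 𝐙(R))
  obtain ⟨v, hv, -, -, rfl⟩ := hY.exists_zpowers hp
  have hEv := hE.sup_eq_of_ne hp hY hZ hYZ
  have hCv : H ⊓ 𝐂₁(v) ≤ E := fun y hy => hEm.mem (hH.le hy.1) (by
    rw [← hEv, cent_sup, cent_zpowers]
    exact ⟨hy.2, le_cent_omegaOne_center p R (hH.le hy.1)⟩) (hHe y hy.1)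
  have hEH : ¬ E ≤ H := fun hle => hRE (le_norm_of_commutator_le le_rfl (by
    rw [Subgroup.commutator_comm]
    exact ((commutator_mono le_rfl hle).trans hRH).trans
      ((inf_le_inf_left H (cent_le_cent1 (hle (hY.le hv)))).trans hCv)))
  have hc : Nat.card ↥(H ⊓ 𝐂₁(v)) ≤ p := by
    have h1 := pg_mul_card_le_of_lt hE.isPGroup
      (lt_of_le_of_ne hCv fun e => hEH (e ▸ inf_le_left))
    rw [hE.card, pow_two] at h1
    exact Nat.le_of_mul_le_mul_left h1 hp.pos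
  suffices ∀ K : Subgroup G, K ≤ H → 𝐍(R) ≤ 𝐍(K) → L ≤ 𝐂(K) from this H le_rfl hH.norm_le
  intro K
  induction K using subgroup_induction with
  | ih K ih =>
    intro hKH hK
    by_cases hK1 : K = ⊥
    · rw [hK1, cent_bot]; exact le_top
    have hKR : K ≤ R := hKH.trans hH.le
    have hRK : R ≤ 𝐍(K) := (le_norm_self R).trans hK
    have hlt : ⁅K, R⁆ < K := nil_commutator_lt (nil_of_isPGroup hR) hKR le_rfl hRK hK1
    have hN : 𝐍(R) ≤ 𝐍(⁅K, R⁆) := norms_commutator hK le_rfl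
    have hKN : K ≤ 𝐍(⁅K, R⁆) := hKR.trans ((le_norm_self R).trans hN)
    have hKp := hR.to_le hKR
    refine t1_9 hlt.le (ih _ hlt (hlt.le.trans hKH) hN) ?_ (coprime_card_of_isPGroup hp hKp hp'L)
    rw [Subgroup.commutator_comm, ← quot_le_centralizer_iff (hL.trans hN) hKN]
    refine h _ _ hN hK hKN ?_
    have h1 : 𝐂₁(v).relIndex K ≤ Nat.card ↥⁅K, R⁆ :=
      relIndex_cent1_le_card fun x hx => commutator_mem_commutator hx (hE.le (hY.le hv))
    have h2 := card_inf_mul_relIndex 𝐂₁(v) K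
    have h3 : Nat.card ↥(𝐂₁(v) ⊓ K) ≤ p :=
      (card_le_of_le (le_inf (inf_le_right.trans hKH) inf_le_left)).trans hc
    have h4 := card_mul_card_quot hKN hlt.le
    have h5 : Nat.card (quot ⁅K, R⁆ K) ≤ p := by
      refine Nat.le_of_mul_le_mul_left ?_ (card_pos' ⁅K, R⁆)
      rw [h4, ← h2, mul_comm]
      exact Nat.mul_le_mul h1 h3
    refine le_antisymm h5 (Nat.le_of_dvd Nat.card_pos (pg_dvd_card (quot_isPGroup _ hKp) ?_))
    rw [Ne, quot_eq_bot_iff hKN]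
    exact hlt.not_ge

/-- BG 5.5(a), corollary: `p'`-subgroups of `A'` centralise `R`. -/
theorem t5_5a'' {p : ℕ} [Fact p.Prime] {R : Subgroup G} (hR : IsPGroup p R) (hodd : Odd (Nat.card R))
    (hn : Narrow p R) {A : Subgroup G} (hA : A ≤ 𝐍(R)) (hsol : Group.IsSolvable A)
    (hAodd : Odd (Nat.card A))
    {L : Subgroup G} (hL : L ≤ ⁅A, A⁆) (hp'L : PiGrp {p}ᶜ L) : L ≤ 𝐂(R) := by
  have hp : p.Prime := Fact.out
  by_cases hr : pRank p R ≤ 2
  · exact t4_17' hR hodd hr hA hsol hAodd hL hp'L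
  refine narrow_le_cent hR hodd hn (by omega) (hL.trans ((NormalIn.der A).le.trans hA)) hp'L ?_
  intro V U hV hU hUV hc
  refine (quot_mono V hL).trans ?_
  rw [quot_commutator (hA.trans hV) (hA.trans hV)]
  exact cyc_der_le_cent (isCyclic_of_card_prime (hc ▸ hp)) (quot_normalizer V (hA.trans hU))

/-- BG 5.5(a), corollary: `A' / C_{A'}(R)` is a `p`-group. -/
theorem t5_5a' {p : ℕ} [Fact p.Prime] {R : Subgroup G} (hR : IsPGroup p R) (hodd : Odd (Nat.card R))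
    (hn : Narrow p R) {A : Subgroup G} (hA : A ≤ 𝐍(R)) (hsol : Group.IsSolvable A)
    (hAodd : Odd (Nat.card A)) :
    PiNat {p} (𝐂(R).relIndex ⁅A, A⁆) :=
  piNat_relIndex_of_forall_le fun _ hL hp'L => t5_5a'' hR hodd hn hA hsol hAodd hL hp'L

/-- if the derived group is a `π`-group then `O_π` is a Hall subgroup containing it -/
theorem der_le_core_of_piGrp {π : Set ℕ} {A : Subgroup G} (h : PiGrp π ⁅A, A⁆) :
    ⁅A, A⁆ ≤ piCoreOf π A ∧ PiNat πᶜ ((piCoreOf π A).relIndex A) := by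
  have h2 := le_piCoreOf (NormalIn.der A) h
  have hR := piCoreOf_normalIn π A
  have h3 := nil_hall_core (nil_of_comm ((quot_isMulCommutative_iff hR.norm).2 h2)) π
  rw [piCoreOf_quot_piCoreOf, hall_bot_iff, piGrp_quot_iff hR.norm] at h3
  exact ⟨h2, h3⟩

/-- BG 5.5(a), internal action; `quot 𝐂(R) A` is the induced group of automorphisms. -/
theorem t5_5a {p : ℕ} [Fact p.Prime] {R : Subgroup G} (hR : IsPGroup p R) (hodd : Odd (Nat.card R))
    (hn : Narrow p R) {A : Subgroup G} (hA : A ≤ 𝐍(R)) (hsol : Group.IsSolvable A)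
    (hAodd : Odd (Nat.card A)) :
    ⁅quot 𝐂(R) A, quot 𝐂(R) A⁆ ≤ piCoreOf {p} (quot 𝐂(R) A) ∧
      PiNat {p}ᶜ ((piCoreOf {p} (quot 𝐂(R) A)).relIndex (quot 𝐂(R) A)) := by
  have hAC : A ≤ 𝐍(𝐂(R)) := norms_cent hA
  refine der_le_core_of_piGrp ?_
  rw [← quot_commutator hAC hAC, piGrp_quot_iff ((NormalIn.der A).le.trans hAC)]
  exact t5_5a' hR hodd hn hA hsol hAodd

/-- BG 5.5(b), without the oddness of `x`. -/
theorem t5_5b' {p : ℕ} [Fact p.Prime] {R : Subgroup G} (hR : IsPGroup p R)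
    (hodd : Odd (Nat.card R)) (hn : Narrow p R) (hr : 2 < pRank p R) {x : G} (hx : x ∈ 𝐍(R))
    (hp'x : PiElt {p}ᶜ x) : x ^ (p - 1) ∈ 𝐂(R) := by
  have hp : p.Prime := Fact.out
  refine zpowers_le.1 (narrow_le_cent hR hodd hn hr (zpowers_le.2 (pow_mem hx _))
    (piGrp_zpowers.2 (hp'x.pow _)) ?_)
  intro V U hV hU hUV hc
  rw [quot_zpowers (pow_mem (hV hx) _), zpowers_le, coset_pow (hV hx)]
  exact pow_mem_cent_of_card_prime hp hc
    (quot_normalizer V (zpowers_le.2 (hU hx)) (coset_mem_quot (mem_zpowers x)))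

/-- BG 5.5(b), internal action. -/
theorem t5_5b {p : ℕ} [Fact p.Prime] {R : Subgroup G} (hR : IsPGroup p R) (hodd : Odd (Nat.card R))
    (hn : Narrow p R) (hr : 2 < pRank p R) {x : G} (hx : x ∈ 𝐍(R)) (hxodd : Odd (orderOf x))
    (hp'x : PiElt {p}ᶜ x) : x ^ (p - 1) ∈ 𝐂(R) :=
  t5_5b' hR hodd hn hr hx hp'x

/-- BG 5.5(b): primes `q ≠ p` dividing the order of the induced automorphism group divide
`p - 1`. -/
theorem t5_5b_dvd {p : ℕ} [Fact p.Prime] {R : Subgroup G} (hR : IsPGroup p R)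
    (hodd : Odd (Nat.card R)) (hn : Narrow p R) (hr : 2 < pRank p R) {A : Subgroup G}
    (hA : A ≤ 𝐍(R)) {q : ℕ} (hq : q.Prime) (hqp : q ≠ p) (hd : q ∣ 𝐂(R).relIndex A) :
    q ∣ p - 1 := by
  have : Fact q.Prime := ⟨hq⟩
  by_contra hnd
  obtain ⟨Q, hQ⟩ := sylow_exists q A
  refine hQ.not_dvd (hd.trans (relIndex_dvd_of_le_left A fun x hx => ?_))
  have h1 : PiElt {q} x := hQ.hall.pi.piElt hx
  have h2 := t5_5b' hR hodd hn hr (hA (hQ.le hx)) (h1.mono (by simpa using hqp.symm))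
  have h3 : (orderOf x).Coprime (p - 1) := by
    refine Nat.Coprime.symm (Nat.coprime_of_dvd fun r hr h4 h5 => ?_)
    obtain rfl : r = q := h1 r hr h5
    exact hnd h4
  obtain ⟨m, hm⟩ := exists_pow_eq_self_of_coprime h3.symm
  rw [← hm]
  exact pow_mem h2 m

/-- BG 5.5(c), internal action: `A` induces a group of prime order `q` on `R`. -/
theorem t5_5c {p : ℕ} [Fact p.Prime] {R : Subgroup G} (hR : IsPGroup p R) (hodd : Odd (Nat.card R))
    (hn : Narrow p R) {A : Subgroup G} (hA : A ≤ 𝐍(R)) {q : ℕ} (hq : q.Prime)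
    (hi : 𝐂(R).relIndex A = q) (hqp : ¬ q ∣ p * (p - 1)) :
    2 * q ∣ p + 1 ∧ (⁅R, A⁆ = R → ¬ IsMulCommutative R → Nat.card R = p ^ 3) := by
  have hp : p.Prime := Fact.out
  have : Fact q.Prime := ⟨hq⟩
  have hqp1 : q ≠ p := fun h => hqp (h ▸ dvd_mul_right _ _)
  have hqp2 : ¬ q ∣ p - 1 := fun h => hqp (h.mul_left _)
  have hne : R ≠ ⊥ := by
    rintro rfl
    rw [cent_bot, relIndex_top_left] at hi
    exact hq.one_lt.ne hi
  have hp2 := pg_ne_two hR hodd hne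
  obtain ⟨k, hk⟩ := hp.odd_of_ne_two hp2
  have hr : pRank p R ≤ 2 := by
    by_contra hr
    exact hqp2 (t5_5b_dvd hR hodd hn (by omega) hA hq hqp1 (hi ▸ dvd_rfl))
  have hq2 : q ≠ 2 := by
    rintro rfl
    exact hqp2 ⟨k, by omega⟩
  refine ⟨?_, fun hRA hnc => ?_⟩
  · rcases (t4_13 hR hodd hr hA hq hqp1 (hi ▸ dvd_rfl)).2.2 with h | h
    · rw [show p + 1 = 2 * ((p + 1) / 2) by omega]
      exact Nat.mul_dvd_mul_left 2 h
    · exact absurd (h.trans ⟨2, by omega⟩) hqp2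
  obtain ⟨Q, hQ⟩ := sylow_exists q A
  have hQR : Q ≤ 𝐍(R) := hQ.le.trans hA
  have hQp : PiGrp {p}ᶜ Q := piGrp_of_isPGroup hq hQ.isPGroup (by simpa using hqp1)
  have hRQ : ⁅R, Q⁆ = R := by
    have h1 : Q ⊔ 𝐂(R) ⊓ A = A := Hall.sup_eq_of_idx hQ inf_le_right
      (by rw [inf_relIndex_right, hi]; exact (piNat_prime_iff hq).2 rfl)
    have h2 : ⁅R, Q⁆ ≤ R := commutator_le_left_of_norm hQR
    have h3 : Q ≤ 𝐍(⁅R, Q⁆) := normalizer_commutator_ge_right R Q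
    have h4 : 𝐂(R) ⊓ A ≤ 𝐍(⁅R, Q⁆) := le_norm_of_le_cent (inf_le_left.trans (cent_anti h2))
    have h5 : R ≤ 𝐍(⁅R, Q⁆) := normalizer_commutator_ge_left R Q
    refine le_antisymm h2 (hRA.symm.le.trans ?_)
    rw [Subgroup.commutator_comm R A, ← h1, ← quot_le_centralizer_iff (sup_le h3 h4) h5,
      quot_sup h3 h4]
    exact sup_le ((quot_le_centralizer_iff h3 h5).2 (Subgroup.commutator_comm Q R).le)
      (quot_centralizer _ inf_le_left)
  obtain ⟨hp3, h⟩ := t4_16 hR hodd hne hr hRQ hQp (pg_odd hQ.isPGroup hq2)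
  obtain ⟨S, C, hS1, hS2, hS3, hcp, hC1, hC2⟩ := h.resolve_left hnc
  have hSO : S = omegaOne p R := by
    refine eq_of_le_of_card_ge (fun x hx => mem_omegaOne (hcp.left_le hx) (hS3 x hx)) ?_
    rw [hS2]
    exact t4_8a (hR.to_le (omegaOne_le p R)) ((pRank_mono hp (omegaOne_le p R)).trans hr)
      (t4_8b hR hr hp3)
  have hZ : 𝐙(R) = C := by
    rw [← hcp.center.sup, (center_of_card_cube hS2 hS1).2, ← hC2,
      center_eq_self_of_comm (comm_of_isCyclic hC1), sup_eq_right.2 (omegaOne_le p C)]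
  have hQC : Q ≤ 𝐂(C) := by
    have h1 := cyc_relIndex_cent_dvd hC1 (hZ ▸ norms_center hQR : Q ≤ 𝐍(C))
    by_contra h2
    have h3 := (pg_dvd_relIndex hQ.isPGroup h2).trans h1
    obtain ⟨n, hn⟩ := pg_card_eq_pow (hR.to_le hcp.right_le)
    rw [hn] at h3
    rcases n with _ | n
    · exact hq.one_lt.ne' (by simpa using h3)
    · rw [Nat.totient_prime_pow_succ hp] at h3
      rcases (Nat.Prime.dvd_mul hq).1 h3 with h4 | h4
      · exact hqp1 ((Nat.prime_dvd_prime_iff_eq hq hp).1 (hq.dvd_of_dvd_pow h4))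
      · exact hqp2 h4
  have hQS : Q ≤ 𝐍(S) := hSO ▸ norms_omegaOne p hQR
  have hRS : R ≤ 𝐍(S) := hcp.left_normalIn.norm
  have h1 : ⁅R, Q⁆ ≤ S := by
    rw [← quot_le_centralizer_iff hRS hQS, ← hcp.sup, quot_self_sup hcp.norm]
    exact quot_centralizer S (cent_symm hQC)
  rw [← hS2, le_antisymm (hRQ ▸ h1) hcp.left_le]

end CL.BG
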