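import Cfsg.Agent.BG.A7_Core
import Cfsg.Agent.PLocal.ElemAb
import Cfsg.Agent.Solv.CoprimeGen

/-!
# Small facts on ranks and coprime action used in BG sections 7-9
-/

namespace CL.BG

open Cfsg

variable {G : Type*} [Group G] [Finite G] {H K A B Q : Subgroup G}

theorem a7_elemN_lt_card {p n : ℕ} (hp : p.Prime) (h : ElemN p n H A) : n < Nat.card G := by
  have h1 : p ^ n ≤ Nat.card G := h.card ▸ Subgroup.card_le_card_group A
  exact (Nat.lt_pow_self hp.one_lt).trans_le h1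

theorem a7_exists_elem_of_le_rank {n : ℕ} (h : n ≤ rank H) :
    ∃ p, p.Prime ∧ ∃ m, n ≤ m ∧ ∃ A, ElemN p m H A := by
  have hne : ({n | ∃ p, p.Prime ∧ ∃ A, ElemN p n H A} : Set ℕ).Nonempty :=
    ⟨0, 2, Nat.prime_two, ⊥, bot_le, CL.EA.bot, by simp⟩
  have hb : BddAbove ({n | ∃ p, p.Prime ∧ ∃ A, ElemN p n H A} : Set ℕ) :=
    ⟨Nat.card G, fun m ⟨p, hp, A, hA⟩ => (a7_elemN_lt_card hp hA).le⟩
  obtain ⟨p, hp, A, hA⟩ := Nat.sSup_mem hne hb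
  exact ⟨p, hp, _, h, A, hA⟩

theorem a7_le_rank {p n : ℕ} (hp : p.Prime) (h : ElemN p n H A) : n ≤ rank H :=
  le_csSup ⟨Nat.card G, fun _ ⟨_, hp, _, hA⟩ => (a7_elemN_lt_card hp hA).le⟩ ⟨p, hp, A, h⟩

theorem a7_exists_elem_of_le_pRank {p n : ℕ} (hp : p.Prime) (h : n ≤ pRank p H) :
    ∃ m, n ≤ m ∧ ∃ A, ElemN p m H A := by
  have hne : ({n | ∃ A, ElemN p n H A} : Set ℕ).Nonempty :=
    ⟨0, ⊥, bot_le, CL.EA.bot, by simp⟩
  have hb : BddAbove ({n | ∃ A, ElemN p n H A} : Set ℕ) :=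
    ⟨Nat.card G, fun m ⟨A, hA⟩ => (a7_elemN_lt_card hp hA).le⟩
  obtain ⟨A, hA⟩ := Nat.sSup_mem hne hb
  exact ⟨_, h, A, hA⟩

theorem a7_le_pRank {p n : ℕ} (hp : p.Prime) (h : ElemN p n H A) : n ≤ pRank p H :=
  le_csSup ⟨Nat.card G, fun _ ⟨_, hA⟩ => (a7_elemN_lt_card hp hA).le⟩ ⟨A, h⟩

theorem a7_rank_mono (h : H ≤ K) : rank H ≤ rank K := by
  obtain ⟨p, hp, m, hm, A, hA⟩ := a7_exists_elem_of_le_rank (le_refl (rank H))
  exact hm.trans (a7_le_rank hp ⟨hA.le.trans h, hA.elem, hA.card⟩)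

theorem a7_pRank_mono {p : ℕ} (hp : p.Prime) (h : H ≤ K) : pRank p H ≤ pRank p K := by
  obtain ⟨m, hm, A, hA⟩ := a7_exists_elem_of_le_pRank hp (le_refl (pRank p H))
  exact hm.trans (a7_le_pRank hp ⟨hA.le.trans h, hA.elem, hA.card⟩)

theorem a7_pRank_le_rank {p : ℕ} (hp : p.Prime) (H : Subgroup G) : pRank p H ≤ rank H := by
  obtain ⟨m, hm, A, hA⟩ := a7_exists_elem_of_le_pRank hp (le_refl (pRank p H))
  exact hm.trans (a7_le_rank hp hA)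

theorem a7_exists_pRank_of_le_rank {n : ℕ} (h : n ≤ rank H) :
    ∃ p, p.Prime ∧ n ≤ pRank p H := by
  obtain ⟨p, hp, m, hm, A, hA⟩ := a7_exists_elem_of_le_rank h
  exact ⟨p, hp, hm.trans (a7_le_pRank hp hA)⟩

omit [Finite G] in
theorem a7_card_dvd_of_isCyclic {p : ℕ} (hA : IsElementaryAbelian p A) (hc : IsCyclic A) :
    Nat.card A ∣ p := by
  rw [← hc.exponent_eq_card, Monoid.exponent_dvd_iff_forall_pow_eq_one]
  intro g
  exact Subtype.ext (by simpa using hA.2 g.1 g.2)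

omit [Finite G] in
theorem a7_not_isCyclic {p : ℕ} (hp : p.Prime) (hA : IsElementaryAbelian p A)
    (h : p ^ 2 ∣ Nat.card A) : ¬ IsCyclic A := by
  intro hc
  have h1 := Nat.le_of_dvd hp.pos (h.trans (a7_card_dvd_of_isCyclic hA hc))
  have := hp.one_lt
  nlinarith

omit [Finite G] in
theorem ElemN.a7_not_isCyclic {p n : ℕ} (hp : p.Prime) (hA : ElemN p n H A) (hn : 2 ≤ n) :
    ¬ IsCyclic A :=
  BG.a7_not_isCyclic hp hA.elem (hA.card ▸ pow_dvd_pow p hn)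

omit [Finite G] in
theorem ElemN.a7_dvd {p n : ℕ} (hA : ElemN p n H A) (hn : 1 ≤ n) : p ∣ Nat.card A :=
  hA.card ▸ dvd_pow_self p (by omega)

theorem ElemN.a7_ne_bot {p n : ℕ} (hp : p.Prime) (hA : ElemN p n H A) (hn : 1 ≤ n) : A ≠ ⊥ := by
  intro h
  have := hA.a7_dvd hn
  rw [h, Subgroup.card_bot, Nat.dvd_one] at this
  exact hp.ne_one this

omit [Finite G] in
/-- a subgroup of index dividing `p` in an elementary abelian group of rank `n + 1` has rank at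
least `n` -/
theorem a7_pow_dvd_of_relIndex_dvd {p n : ℕ} (hp : p.Prime) (hA : p ^ (n + 1) ∣ Nat.card A)
    (hB : B ≤ A) (h : B.relIndex A ∣ p) : p ^ n ∣ Nat.card B := by
  rw [← CL.EA.card_mul_relIndex hB] at hA
  have := hA.trans (Nat.mul_dvd_mul_left _ h)
  rw [pow_succ] at this
  exact Nat.dvd_of_mul_dvd_mul_right hp.pos this

theorem a7_exists_cent1_ne_bot (hB : IsMulCommutative B) (hnc : ¬ IsCyclic B) (hn : B ≤ 𝐍(Q))
    (hcop : (Nat.card Q).Coprime (Nat.card B)) (hQ : Q ≠ ⊥) :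
    ∃ z ∈ B, z ≠ 1 ∧ Q ⊓ 𝐂₁(z) ≠ ⊥ :=
  haveI := hB
  CL.coprime_exists_centralizer_ne_bot hnc hn hcop.symm hQ

theorem a7_le_of_cent1 (hB : IsMulCommutative B) (hnc : ¬ IsCyclic B) (hn : B ≤ 𝐍(Q))
    (hcop : (Nat.card Q).Coprime (Nat.card B)) (h : ∀ z ∈ B, z ≠ 1 → Q ⊓ 𝐂₁(z) ≤ H) :
    Q ≤ H :=
  haveI := hB
  CL.coprime_le_of_not_isCyclic hnc hn hcop.symm H h

theorem a7_le_of_hyperplanes {p n : ℕ} (hp : p.Prime) (hB : IsElementaryAbelian p B)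
    (hc : p ^ (n + 1) ∣ Nat.card B) (hn : B ≤ 𝐍(Q))
    (hcop : (Nat.card Q).Coprime (Nat.card B))
    (h : ∀ C : Subgroup G, C ≤ B → p ^ n ∣ Nat.card C → Q ⊓ 𝐂(C) ≤ H) : Q ≤ H :=
  haveI := hB.1
  CL.coprime_le_of_hyperplanes hB.2 hn hcop.symm H
    fun C hC hi => h C hC (a7_pow_dvd_of_relIndex_dvd hp hc hC hi)

end CL.BG
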