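import Cfsg.Agent.BG.T7_1
import Cfsg.Agent.BG.A7_Rank

namespace CL.BG

open Cfsg

variable {G : Type*} [Group G] [Finite G]

/-- BG Theorem 7.3 -/
theorem t7_3 (hG : IsMinSimpleOddOrder G) {π : Set ℕ} {A : Subgroup G}
    (hA : NormedConstrained π A) {q : ℕ} [Fact q.Prime] (hq : q ∉ π) (hZ : 2 ≤ rank 𝐙(A))
    (hqC : q ∣ Nat.card 𝐂(A)) :
    TransOn (piCoreOf πᶜ 𝐂(A)) A q := by
  obtain ⟨R, hR⟩ := sylow_exists q 𝐂(A)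
  have hRne : R ≠ ⊥ := hR.ne_bot_iff.2 hqC
  obtain ⟨Q, hQ, hRQ⟩ := maxInv_exists_p hR.isPGroup (le_norm_of_le_cent (cent_symm hR.hall.le))
  obtain ⟨p, hp, m, hm, B, hB⟩ := a7_exists_elem_of_le_rank hZ
  have hBA : B ≤ A := hB.le.trans inf_le_left
  have key : ∀ Q₁ ∈ maxInvSubgroups ⊤ A {q}, ∃ k ∈ piCoreOf πᶜ 𝐂(A), Q₁ = cj k Q := by
    intro Q₁ h₁
    have hb₁ : Q₁ ≠ ⊥ := by
      rintro rfl
      exact ne_bot_of_le hRne hRQ (maxInv_bot h₁ (mem_maxInvSubgroups.1 hQ).1)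
    obtain ⟨z, hz, hz1, hne⟩ := a7_exists_cent1_ne_bot hB.elem.1 (hB.a7_not_isCyclic hp hm)
      (hBA.trans (maxInv_norm h₁))
      ((piGrp_compl_of_isPGroup (maxInv_isPGroup h₁) hq).coprime' (hA.piGrp.of_le hBA)) hb₁
    refine t7_1 hG hA hq hQ h₁ (mFT_cent1_ne_top hG hz1) (le_cent1_iff.2 (hB.le hz).2) ?_ ?_
    · exact ne_bot_of_le hRne (le_inf (hR.hall.le.trans (cent_le_cent1 (hBA hz))) hRQ)
    · rwa [inf_comm]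
  intro Q₁ h₁ Q₂ h₂
  obtain ⟨k₁, hk₁, rfl⟩ := key Q₁ h₁
  obtain ⟨k₂, hk₂, rfl⟩ := key Q₂ h₂
  exact ⟨k₂ * k₁⁻¹, mul_mem hk₂ (inv_mem hk₁), by rw [cj_cj, inv_mul_cancel_right]⟩

end CL.BG
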