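import Cfsg.Agent.BG.Prod
import Cfsg.Agent.Solv.Coprime

set_option autoImplicit false
open Cfsg Subgroup

namespace CL.BG
variable {G : Type*} [Group G] [Finite G]

theorem sylowOf_of_card_eq_pow {p : ℕ} [Fact p.Prime] {P H : Subgroup G} (hle : P ≤ H)
    (hc : Nat.card P = p ^ (Nat.card H).factorization p) : SylowOf p P H := by
  obtain ⟨S, hS⟩ := sylow_exists p H
  exact hS.hall.of_card_eq hle (hc.trans hS.card_eq_pow.symm)

/-- `sol_coprime_Sylow_exists`; `H` or `A` solvable. -/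
theorem t1_5a_sylow (p : ℕ) [Fact p.Prime] {A H : Subgroup G} (hA : A ≤ 𝐍(H))
    (hcop : (Nat.card H).Coprime (Nat.card A))
    (hsol : Group.IsSolvable H ∨ Group.IsSolvable A) :
    ∃ P : Subgroup G, SylowOf p P H ∧ A ≤ 𝐍(P) := by
  obtain ⟨P, h1, h2, h3⟩ := CL.coprime_exists_invariant_sylow hA hcop.symm hsol.symm p
  exact ⟨P, sylowOf_of_card_eq_pow h1 h2, h3⟩

/-- `sol_coprime_Sylow_subset`; `H` or `A` solvable. -/
theorem t1_5b_sylow {p : ℕ} [Fact p.Prime] {A H X : Subgroup G} (hA : A ≤ 𝐍(H))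
    (hcop : (Nat.card H).Coprime (Nat.card A))
    (hsol : Group.IsSolvable H ∨ Group.IsSolvable A)
    (hXH : X ≤ H) (hX : IsPGroup p X) (hAX : A ≤ 𝐍(X)) :
    ∃ P : Subgroup G, SylowOf p P H ∧ A ≤ 𝐍(P) ∧ X ≤ P := by
  obtain ⟨P, h0, h1, h2, h3⟩ :=
    CL.coprime_exists_invariant_sylow_ge hA hcop.symm hsol.symm X hXH hX hAX
  exact ⟨P, sylowOf_of_card_eq_pow h1 h2, h3, h0⟩

/-- `sol_coprime_Sylow_trans`; `H` or `A` solvable. -/
theorem t1_5c_sylow {p : ℕ} [Fact p.Prime] {A H P Q : Subgroup G} (hA : A ≤ 𝐍(H))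
    (hcop : (Nat.card H).Coprime (Nat.card A))
    (hsol : Group.IsSolvable H ∨ Group.IsSolvable A)
    (hP : SylowOf p P H) (hAP : A ≤ 𝐍(P)) (hQ : SylowOf p Q H) (hAQ : A ≤ 𝐍(Q)) :
    ∃ c ∈ H ⊓ 𝐂(A), cj c P = Q := CL.coprime_invariant_sylow_conj hA hcop.symm hsol.symm hP.hall.le hP.card_eq_pow hQ.hall.le
    hQ.card_eq_pow hAP hAQ

end CL.BG
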