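import Cfsg.Agent.BG.T1_14
import Cfsg.Agent.BG.QuotPi

set_option autoImplicit false
open Cfsg Subgroup

namespace CL.BG
variable {G : Type*} [Group G] [Finite G]

omit [Finite G] in
/-- `(K U)' ≤ K U'` for `K` normalised by `U`. -/
theorem der_sup_le_of_norm {K U : Subgroup G} (h : U ≤ 𝐍(K)) : ⁅K ⊔ U, K ⊔ U⁆ ≤ K ⊔ ⁅U, U⁆ := by
  have h1 : K ⊔ U ≤ 𝐍(K) := sup_le (le_norm_self K) h
  have h2 : ⁅U, U⁆ ≤ 𝐍(K) := (NormalIn.der U).le.trans h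
  rw [sup_comm K ⁅U, U⁆, ← quot_le_quot_iff ((NormalIn.der _).le.trans h1) h2, quot_commutator h1 h1,
    quot_self_sup h, quot_commutator h h]

/-- BG 6.5(a) (`pprod_focal_coprime`). -/
theorem t6_5a {K U H L : Subgroup G} (hL : K ⊔ U = L) (hK : L ≤ 𝐍(K)) (hH : H ≤ U)
    (hcop : (Nat.card K).Coprime (Nat.card H)) : H ⊓ ⁅L, L⁆ = H ⊓ ⁅U, U⁆ := by
  have hU : U ≤ L := hL ▸ le_sup_right
  refine le_antisymm (fun x hx => ⟨hx.1, ?_⟩) (inf_le_inf_left _ (commutator_mono hU hU))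
  have h1 : x ∈ K ⊔ ⁅U, U⁆ := der_sup_le_of_norm (hU.trans hK) (hL ▸ hx.2)
  obtain ⟨k, hk, y, hy, rfl⟩ := (mem_sup_iff_of_norm ((NormalIn.der U).le.trans (hU.trans hK))).1 h1
  have hn := (NormalIn.der U).norm
  have hxU := hH hx.1
  have hyU := (NormalIn.der U).le hy
  have hkU : k ∈ U := by simpa using U.mul_mem hxU (U.inv_mem hyU)
  have h2 : coset ⁅U, U⁆ (k * y) = coset ⁅U, U⁆ k := by
    rw [coset_mul (hn hkU) (hn hyU), coset_eq_one hy, mul_one]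
  refine (coset_eq_one_iff (hn hxU)).1 (orderOf_eq_one_iff.1 (Nat.eq_one_of_dvd_coprimes hcop ?_ ?_))
  · rw [h2]
    exact (orderOf_coset_dvd (hn hkU)).trans (orderOf_dvd_card' hk)
  · exact (orderOf_coset_dvd (hn hxU)).trans (orderOf_dvd_card' hx.1)

/-- BG 6.5(c) (`pprod_trans_coprime`). -/
theorem t6_5c {K U H L : Subgroup G} (hL : K ⊔ U = L) (hK : L ≤ 𝐍(K)) (hH : H ≤ U)
    (hcop : (Nat.card K).Coprime (Nat.card H)) (hsol : Group.IsSolvable K ∨ Group.IsSolvable H)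
    {g : G} (hg : g ∈ L)
    (h : cj g H ≤ U) : ∃ u ∈ U, ∃ c ∈ K ⊓ 𝐂(H), g = u * c := by
  have hU : U ≤ L := hL ▸ le_sup_right
  have hUK := hU.trans hK
  rw [← hL, sup_comm] at hg
  obtain ⟨u, hu, k, hk, rfl⟩ := (mem_sup_iff_of_norm' hUK).1 hg
  have h1 : cj k H ≤ U := by
    rw [cj_mul, cj_le_iff_le_cj_inv, cj_eq_of_mem (U.inv_mem hu)] at h
    exact h
  obtain ⟨m, hm, hc⟩ := t1_14_cent (T := H) (M := K ⊓ U) (g := k)
    (norms_inf (hH.trans hUK) (le_norm_of_le hH)) (coprime_card_mono hcop inf_le_left le_rfl)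
    (hsol.imp_left fun h => solvable_of_le h inf_le_left) fun t ht => by
      refine ⟨?_, U.mul_mem (cj_le_iff.1 h1 t ht) (U.inv_mem (hH ht))⟩
      have h2 := K.mul_mem hk (conj_mem_of_mem_norm (hUK (hH ht)) (K.inv_mem hk))
      simpa [mul_assoc] using h2
  exact ⟨u * m⁻¹, U.mul_mem hu (U.inv_mem hm.2), m * k, ⟨K.mul_mem hm.1 hk, hc⟩, by group⟩

/-- BG 6.5(b) (`pprod_norm_coprime_prod`). -/
theorem t6_5b {K U H L : Subgroup G} (hL : K ⊔ U = L) (hK : L ≤ 𝐍(K)) (hH : H ≤ U)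
    (hcop : (Nat.card K).Coprime (Nat.card H)) (hsol : Group.IsSolvable K ∨ Group.IsSolvable H) :
    (K ⊓ 𝐂(H)) ⊔ (U ⊓ 𝐍(H)) = L ⊓ 𝐍(H) := by
  have hU : U ≤ L := hL ▸ le_sup_right
  have hKL : K ≤ L := hL ▸ le_sup_left
  refine le_antisymm (sup_le (inf_le_inf hKL (cent_le_norm H)) (inf_le_inf_right _ hU))
    fun g hg => ?_
  obtain ⟨u, hu, c, hc, rfl⟩ := t6_5c hL hK hH hcop hsol hg.1 ((cj_eq_of_mem_norm hg.2).le.trans hH)
  rw [sup_comm]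
  refine mul_mem_sup ⟨hu, ?_⟩ hc
  simpa using (𝐍(H)).mul_mem hg.2 ((𝐍(H)).inv_mem (cent_le_norm H hc.2))

end CL.BG
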