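import Cfsg.Agent.BG.A7_Core
import Cfsg.Agent.BG.T1_5s
import Cfsg.Agent.BG.T6_5
import Cfsg.Agent.Solv.Glauberman
import Cfsg.Agent.Solv.Subnormal

namespace CL.BG

open Cfsg

variable {G : Type*} [Group G] [Finite G]

omit [Finite G] in
/-- Hypothesis 7.1 passes to proper `π`-overgroups. -/
theorem NormedConstrained.mono {π : Set ℕ} {A B : Subgroup G} (hA : NormedConstrained π A)
    (hAB : A ≤ B) (hB : B ≠ ⊤) (hπ : PiGrp π B) : NormedConstrained π B :=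
  ⟨ne_bot_of_le hA.ne_bot hAB, hB, hπ, fun X Y hX hX' hY hY' hn =>
    hA.le_core X Y (hAB.trans hX) hX' hY hY' (hAB.trans hn)⟩

theorem NormedConstrained.core_cent_inf (hG : IsMinSimpleOddOrder G) {π : Set ℕ}
    {A B : Subgroup G} (hA : NormedConstrained π A) (hAB : A ≤ B) :
    piCoreOf πᶜ 𝐂(A) ⊓ 𝐂(B) = piCoreOf πᶜ 𝐂(B) :=
  le_antisymm (pco_inf_le _ (cent_anti hAB)) (le_inf
    (hA.le_core_cent hG ((pco_le _ _).trans (cent_anti hAB)) (pco_pi _ _)) (pco_le _ _))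

theorem a7_glauberman_fixed {A L : Subgroup G} (hAL : A ≤ 𝐍(L))
    (hcop : (Nat.card L).Coprime (Nat.card A)) (hsol : Group.IsSolvable A ∨ Group.IsSolvable L)
    (X : Subgroup G) (h : ∀ a ∈ A, ∃ l ∈ L, cj a X = cj l X) :
    ∃ l ∈ L, A ≤ 𝐍(cj l X) := by
  letI : MulAction G (Subgroup G) := { smul := cj, one_smul := cj_one, mul_smul := cj_mul }
  obtain ⟨l, hl, h'⟩ := CL.glauberman_fixed (X := Subgroup G) hAL hcop.symm hsol X h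
  exact ⟨l, hl, fun a ha => cj_eq_iff_mem_norm.1 (h' a ha)⟩

theorem a7_glauberman_conj {A L : Subgroup G} (hAL : A ≤ 𝐍(L))
    (hcop : (Nat.card L).Coprime (Nat.card A)) (hsol : Group.IsSolvable A ∨ Group.IsSolvable L)
    {X Y : Subgroup G} (hX : A ≤ 𝐍(X)) (hY : A ≤ 𝐍(Y)) {l : G} (hl : l ∈ L) (h : cj l X = Y) :
    ∃ c ∈ L ⊓ 𝐂(A), cj c X = Y := by
  letI : MulAction G (Subgroup G) := { smul := cj, one_smul := cj_one, mul_smul := cj_mul }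
  exact CL.glauberman_conj (X := Subgroup G) hAL hcop.symm hsol
    (fun a ha => cj_eq_of_mem_norm (hX ha)) (fun a ha => cj_eq_of_mem_norm (hY ha)) hl h

theorem t7_4_step (hG : IsMinSimpleOddOrder G) {π : Set ℕ} {A : Subgroup G}
    (hA : NormedConstrained π A) {q : ℕ} [Fact q.Prime] (hq : q ∉ π) {P : Subgroup G}
    (hAP : A ≤ P) (hn : P ≤ 𝐍(A)) (hP : PiGrp π P)
    (htr : TransOn (piCoreOf πᶜ 𝐂(A)) A q) :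
    TransOn (piCoreOf πᶜ 𝐂(P)) P q ∧ maxInvSubgroups ⊤ P {q} ⊆ maxInvSubgroups ⊤ A {q} := by
  have hPtop : P ≠ ⊤ := mFT_ne_top_of_le_norm hG hA.ne_bot hA.ne_top hn
  have hPsol := mFT_sol hG hPtop
  have hPK : P ≤ 𝐍(piCoreOf πᶜ 𝐂(A)) := pco_norms _ (norms_cent hn)
  have hcop : (Nat.card (piCoreOf πᶜ 𝐂(A))).Coprime (Nat.card P) := (pco_pi _ _).coprime' hP
  have hsub : maxInvSubgroups ⊤ P {q} ⊆ maxInvSubgroups ⊤ A {q} := by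
    intro Q₁ h₁
    have hp₁ := maxInv_isPGroup h₁
    obtain ⟨Q₂, h₂, hle⟩ := maxInv_exists_p hp₁ (hAP.trans (maxInv_norm h₁))
    by_cases hb : Q₁ = ⊥
    · obtain ⟨l, hl, hl'⟩ := a7_glauberman_fixed hPK hcop (Or.inl hPsol) Q₂ fun a ha => by
        obtain ⟨k, hk, e⟩ := htr Q₂ h₂ _ (maxInv_top_cj_of_mem_norm (hn ha) h₂)
        exact ⟨k, hk, e⟩
      subst hb
      have : cj l Q₂ = ⊥ := maxInv_bot h₁
        (mem_invSubgroups_top_p.2 ⟨isPGroup_cj.2 (maxInv_isPGroup h₂), hl'⟩)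
      rwa [cj_eq_bot_iff.1 this] at h₂
    rcases hle.eq_or_lt with rfl | hlt
    · exact h₂
    exfalso
    have hp₂ := maxInv_isPGroup h₂
    have hR := lt_inf_norm_of_isPGroup hp₂ hlt
    have hRp : IsPGroup q ↥(Q₂ ⊓ 𝐍(Q₁)) := hp₂.to_le inf_le_left
    have hRL : Q₂ ⊓ 𝐍(Q₁) ≤ piCoreOf πᶜ 𝐍(Q₁) :=
      hA.le_core _ _ (hAP.trans (maxInv_norm h₁)) (mFT_norm_pgroup_ne_top hG hp₁ hb) inf_le_right
        (piGrp_compl_of_isPGroup hRp hq)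
        (norms_inf_norm (maxInv_norm h₂) (hAP.trans (maxInv_norm h₁)))
    obtain ⟨T, hT, hPT, hQT⟩ := t1_5b_sylow (pco_norms πᶜ (le_norm_of_le (maxInv_norm h₁)))
      ((pco_pi _ _).coprime' hP) (Or.inr hPsol) (hR.le.trans hRL) hp₁ (maxInv_norm h₁)
    have hTQ : T = Q₁ := maxInv_max h₁ hT.isPGroup hPT hQT
    have := hT.card_le hRp hRL
    rw [hTQ] at this
    exact absurd (card_lt_of_lt hR) (not_lt.2 this)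
  refine ⟨fun Q₁ h₁ Q₂ h₂ => ?_, hsub⟩
  obtain ⟨k, hk, e⟩ := htr Q₁ (hsub h₁) Q₂ (hsub h₂)
  obtain ⟨c, hc, e'⟩ := a7_glauberman_conj hPK hcop (Or.inl hPsol) (maxInv_norm h₁)
    (maxInv_norm h₂) hk e.symm
  exact ⟨c, hA.core_cent_inf hG hAP ▸ hc, e'.symm⟩

theorem t7_4_subn (hG : IsMinSimpleOddOrder G) {π : Set ℕ} {A : Subgroup G}
    (hA : NormedConstrained π A) {q : ℕ} [Fact q.Prime] (hq : q ∉ π) {P : Subgroup G}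
    (hsn : CL.SubnIn A P) (hP : PiGrp π P) (htr : TransOn (piCoreOf πᶜ 𝐂(A)) A q) :
    P ≠ ⊤ ∧ TransOn (piCoreOf πᶜ 𝐂(P)) P q ∧
      maxInvSubgroups ⊤ P {q} ⊆ maxInvSubgroups ⊤ A {q} := by
  revert hP
  refine hsn.tail_induction (P := fun P => PiGrp π P → P ≠ ⊤ ∧ TransOn (piCoreOf πᶜ 𝐂(P)) P q ∧
      maxInvSubgroups ⊤ P {q} ⊆ maxInvSubgroups ⊤ A {q}) (fun _ => ⟨hA.ne_top, htr, le_rfl⟩) ?_
  intro B P hAB hBP ih hP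
  obtain ⟨hB, htrB, hsub⟩ := ih (hP.of_le hBP.le)
  have hB' := hA.mono hAB.le hB (hP.of_le hBP.le)
  obtain ⟨h1, h2⟩ := t7_4_step hG hB' hq hBP.le hBP.le_normalizer hP htrB
  exact ⟨mFT_ne_top_of_le_norm hG hB'.ne_bot hB hBP.le_normalizer, h1, h2.trans hsub⟩

/-- Frattini argument for a transitive action on `И*(P; q)`. -/
theorem TransOn.norm_eq {π : Set ℕ} {P Q : Subgroup G} {q : ℕ}
    (htr : TransOn (piCoreOf πᶜ 𝐂(P)) P q) (hP : PiGrp π P) (hQ : Q ∈ maxInvSubgroups ⊤ P {q}) :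
    P ⊓ ⁅𝐍(P), 𝐍(P)⁆ ≤ ⁅𝐍(Q), 𝐍(Q)⁆ ∧ 𝐍(P) = piCoreOf πᶜ 𝐂(P) ⊔ (𝐍(P) ⊓ 𝐍(Q)) := by
  have hKN : piCoreOf πᶜ 𝐂(P) ≤ 𝐍(P) := (pco_le _ _).trans (cent_le_norm P)
  have h2 : 𝐍(P) = piCoreOf πᶜ 𝐂(P) ⊔ (𝐍(P) ⊓ 𝐍(Q)) := by
    refine le_antisymm (fun g hg => ?_) (sup_le hKN inf_le_left)
    obtain ⟨k, hk, e⟩ := htr Q hQ _ (maxInv_top_cj_of_mem_norm hg hQ)
    have : k⁻¹ * g ∈ 𝐍(Q) := by
      rw [← cj_eq_iff_mem_norm, cj_mul, e, cj_inv_cj]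
    rw [← mul_inv_cancel_left k g]
    exact Subgroup.mul_mem_sup hk (Subgroup.mem_inf.2 ⟨mul_mem (inv_mem (hKN hk)) hg, this⟩)
  refine ⟨?_, h2⟩
  rw [t6_5a h2.symm (pco_norms _ (norm_le_norm_cent P)) (le_inf (le_norm_self P) (maxInv_norm hQ))
    ((pco_pi _ _).coprime' hP)]
  exact inf_le_right.trans (Subgroup.commutator_mono inf_le_right inf_le_right)

/-- BG Theorem 7.4 -/
theorem t7_4 (hG : IsMinSimpleOddOrder G) {π : Set ℕ} {A : Subgroup G}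
    (hA : NormedConstrained π A) {q : ℕ} [Fact q.Prime] (hq : q ∉ π) {P : Subgroup G}
    (hAP : A ≤ P) (hsn : (A.subgroupOf P).IsSubnormal) (hP : PiGrp π P)
    (htr : TransOn (piCoreOf πᶜ 𝐂(A)) A q) :
    piCoreOf πᶜ 𝐂(A) ⊓ 𝐂(P) = piCoreOf πᶜ 𝐂(P) ∧
      TransOn (piCoreOf πᶜ 𝐂(P)) P q ∧
      maxInvSubgroups ⊤ P {q} ⊆ maxInvSubgroups ⊤ A {q} ∧
      ∀ Q ∈ maxInvSubgroups ⊤ P {q},
        P ⊓ ⁅𝐍(P), 𝐍(P)⁆ ≤ ⁅𝐍(Q), 𝐍(Q)⁆ ∧ 𝐍(P) = piCoreOf πᶜ 𝐂(P) ⊔ (𝐍(P) ⊓ 𝐍(Q)) := by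
  obtain ⟨-, h1, h2⟩ := t7_4_subn hG hA hq (CL.SubnIn.iff_subgroupOf.2 ⟨hAP, hsn⟩) hP htr
  exact ⟨hA.core_cent_inf hG hAP, h1, h2, fun Q hQ => h1.norm_eq hP hQ⟩

/-- BG Theorem 7.4 for a nilpotent overgroup `P` (subnormality is automatic) -/
theorem t7_4_nil (hG : IsMinSimpleOddOrder G) {π : Set ℕ} {A : Subgroup G}
    (hA : NormedConstrained π A) {q : ℕ} [Fact q.Prime] (hq : q ∉ π) {P : Subgroup G}
    (hAP : A ≤ P) (hnil : Group.IsNilpotent P) (hP : PiGrp π P)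
    (htr : TransOn (piCoreOf πᶜ 𝐂(A)) A q) :
    piCoreOf πᶜ 𝐂(A) ⊓ 𝐂(P) = piCoreOf πᶜ 𝐂(P) ∧
      TransOn (piCoreOf πᶜ 𝐂(P)) P q ∧
      maxInvSubgroups ⊤ P {q} ⊆ maxInvSubgroups ⊤ A {q} ∧
      ∀ Q ∈ maxInvSubgroups ⊤ P {q},
        P ⊓ ⁅𝐍(P), 𝐍(P)⁆ ≤ ⁅𝐍(Q), 𝐍(Q)⁆ ∧ 𝐍(P) = piCoreOf πᶜ 𝐂(P) ⊔ (𝐍(P) ⊓ 𝐍(Q)) :=
  t7_4 hG hA hq hAP (CL.SubnIn.iff_subgroupOf.1 (CL.SubnIn.of_isNilpotent hnil hAP)).2 hP htr

end CL.BG
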