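import Cfsg.Agent.BG.HallSyl
import Cfsg.Agent.Auto.ACL_BG_pPrimePCoreOf_c7c80b

/-!
# `π`-cores `O_π(H)` and `O_{p',p}(H)` of ambient subgroups, normal `p`-complements
-/

namespace CL.BG

open Cfsg Subgroup

variable {G G' : Type*} [Group G] [Group G'] {H K L M N A B X Y P Q R : Subgroup G} {g x y : G}
  {π ρ : Set ℕ} {p q m n : ℕ}

/-! ### `O_π(H)` -/

theorem piCoreOf_le (π : Set ℕ) (H : Subgroup G) : piCoreOf π H ≤ H := map_subtype_le _

theorem piCoreOf_normalIn (π : Set ℕ) (H : Subgroup G) : piCoreOf π H ⊴ H :=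
  NormalIn.map_subtype _

theorem le_norm_piCoreOf (π : Set ℕ) (H : Subgroup G) : H ≤ 𝐍(piCoreOf π H) :=
  (piCoreOf_normalIn π H).norm

theorem piCoreOf_subgroupOf (π : Set ℕ) (H : Subgroup G) :
    (piCoreOf π H).subgroupOf H = piCore π H :=
  comap_map_eq_self_of_injective H.subtype_injective _

theorem le_piCoreOf (hN : N ⊴ H) (hπ : PiGrp π N) : N ≤ piCoreOf π H :=
  PiCore.le_map_subtype hN.le hN.norm hπ

theorem piCoreOf_congr (h : ∀ p : ℕ, p.Prime → p ∣ Nat.card H → (p ∈ π ↔ p ∈ ρ)) :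
    piCoreOf π H = piCoreOf ρ H := by
  unfold piCoreOf piCore
  congr 2
  ext N
  exact and_congr_right fun _ => piNat_congr fun p hp hd =>
    h p hp (hd.trans (card_subgroup_dvd_card N))

theorem piCoreOf_primesNotDvd (n : ℕ) (H : Subgroup G) :
    piCoreOf (primesNotDvd n) H = piCoreOf (primesOfNat n)ᶜ H :=
  piCoreOf_congr fun p hp _ => by simp [primesNotDvd, primesOfNat, hp]

theorem piCoreOf_primesNotDvd_prime (hp : p.Prime) (H : Subgroup G) :
    piCoreOf (primesNotDvd p) H = piCoreOf {p}ᶜ H :=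
  piCoreOf_congr fun q hq _ => by
    simp [primesNotDvd, hq, Nat.prime_dvd_prime_iff_eq hq hp]

theorem piCoreOf_compl_singleton (hp : p.Prime) (H : Subgroup G) :
    piCoreOf {p}ᶜ H = (pPrimeCore p H).map H.subtype := by
  rw [piCoreOf, PiCore.piCore_compl_singleton hp]

variable [Finite G]

theorem piCoreOf_singleton (hp : p.Prime) (H : Subgroup G) :
    piCoreOf {p} H = (pCore p H).map H.subtype := by
  rw [piCoreOf, PiCore.piCore_singleton hp]

theorem piGrp_piCoreOf (π : Set ℕ) (H : Subgroup G) : PiGrp π (piCoreOf π H) :=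
  PiCore.isPiNum_card_map_subtype π H

theorem isPGroup_piCoreOf (hp : p.Prime) (H : Subgroup G) : IsPGroup p (piCoreOf {p} H) :=
  (piGrp_piCoreOf _ H).isPGroup hp

theorem le_piCoreOf_iff (hN : N ⊴ H) : N ≤ piCoreOf π H ↔ PiGrp π N :=
  ⟨(piGrp_piCoreOf π H).of_le, le_piCoreOf hN⟩

theorem le_piCoreOf_of_isPGroup (hp : p.Prime) (hN : N ⊴ H) (h : IsPGroup p N) :
    N ≤ piCoreOf {p} H := le_piCoreOf hN ((piGrp_singleton_iff hp).2 h)

theorem piCoreOf_charIn (π : Set ℕ) (H : Subgroup G) : CharIn (piCoreOf π H) H :=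
  haveI := PiCore.characteristic (G := H) π
  CharIn.map_subtype _

theorem piCoreOf_top (π : Set ℕ) : piCoreOf π (⊤ : Subgroup G) = piCore π G :=
  le_antisymm (haveI := (piCoreOf_normalIn π (⊤ : Subgroup G)).normal_of_top
      PiCore.le_piCore (piGrp_piCoreOf π ⊤))
    (le_piCoreOf (NormalIn.of_normal _) (PiCore.isPiNum_card π))

theorem piCoreOf_singleton_top (hp : p.Prime) : piCoreOf {p} (⊤ : Subgroup G) = pCore p G := by
  rw [piCoreOf_top, PiCore.piCore_singleton hp]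

theorem piCoreOf_compl_singleton_top (hp : p.Prime) :
    piCoreOf {p}ᶜ (⊤ : Subgroup G) = pPrimeCore p G := by
  rw [piCoreOf_top, PiCore.piCore_compl_singleton hp]

theorem map_piCoreOf_le (f : G →* G') (π : Set ℕ) (H : Subgroup G) :
    (piCoreOf π H).map f ≤ piCoreOf π (H.map f) :=
  le_piCoreOf ((piCoreOf_normalIn π H).map f) ((piGrp_piCoreOf π H).map f)

theorem map_piCoreOf {f : G →* G'} (hf : Function.Injective f) (π : Set ℕ) (H : Subgroup G) :
    (piCoreOf π H).map f = piCoreOf π (H.map f) :=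
  map_map_subtype_of_equiv hf H _ _ (PiCore.map_equiv _)

theorem cj_piCoreOf (g : G) (π : Set ℕ) (H : Subgroup G) :
    cj g (piCoreOf π H) = piCoreOf π (cj g H) := map_piCoreOf (conj_injective g) π H

theorem norm_le_norm_piCoreOf (π : Set ℕ) (H : Subgroup G) : 𝐍(H) ≤ 𝐍(piCoreOf π H) :=
  (piCoreOf_charIn π H).norm_le

theorem norms_piCoreOf (π : Set ℕ) (h : A ≤ 𝐍(H)) : A ≤ 𝐍(piCoreOf π H) :=
  h.trans (norm_le_norm_piCoreOf π H)

theorem NormalIn.piCoreOf_trans (h : N ⊴ H) (π : Set ℕ) : piCoreOf π N ⊴ H :=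
  (piCoreOf_charIn π N).trans_normalIn h

theorem NormalIn.piCoreOf_le (h : N ⊴ H) (π : Set ℕ) : piCoreOf π N ≤ piCoreOf π H :=
  le_piCoreOf (h.piCoreOf_trans π) (piGrp_piCoreOf π N)

theorem piCoreOf_inf_le (hK : K ≤ H) (π : Set ℕ) : piCoreOf π H ⊓ K ≤ piCoreOf π K :=
  le_piCoreOf ((piCoreOf_normalIn π H).inf_right hK) ((piGrp_piCoreOf π H).inf_left K)

theorem piCoreOf_le_piCoreOf (hK : K ≤ H) (h : piCoreOf π H ≤ K) : piCoreOf π H ≤ piCoreOf π K :=
  (le_inf le_rfl h).trans (piCoreOf_inf_le hK π)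

theorem NormalIn.piCoreOf_eq_inf (h : N ⊴ H) (π : Set ℕ) : piCoreOf π N = piCoreOf π H ⊓ N :=
  le_antisymm (le_inf (h.piCoreOf_le π) (BG.piCoreOf_le π N)) (piCoreOf_inf_le h.le π)

theorem piCoreOf_mono (h : π ⊆ ρ) (H : Subgroup G) : piCoreOf π H ≤ piCoreOf ρ H :=
  le_piCoreOf (piCoreOf_normalIn π H) ((piGrp_piCoreOf π H).mono h)

theorem piCoreOf_eq_self_iff : piCoreOf π H = H ↔ PiGrp π H :=
  ⟨fun h => h ▸ piGrp_piCoreOf π H,
    fun h => le_antisymm (piCoreOf_le π H) (le_piCoreOf (NormalIn.refl H) h)⟩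

theorem piCoreOf_eq_self (h : PiGrp π H) : piCoreOf π H = H := piCoreOf_eq_self_iff.2 h

theorem piCoreOf_eq_bot (h : PiGrp πᶜ H) : piCoreOf π H = ⊥ :=
  (piGrp_piCoreOf π H).eq_bot (h.of_le (piCoreOf_le π H))

theorem piCoreOf_compl_eq_bot (h : PiGrp π H) : piCoreOf πᶜ H = ⊥ :=
  piCoreOf_eq_bot (piGrp_compl_compl.2 h)

theorem piCoreOf_eq_bot_iff : piCoreOf π H = ⊥ ↔ ∀ N, N ⊴ H → PiGrp π N → N = ⊥ :=
  ⟨fun h _ hN hπ => le_bot_iff.1 (h ▸ le_piCoreOf hN hπ),
    fun h => h _ (piCoreOf_normalIn π H) (piGrp_piCoreOf π H)⟩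

omit [Finite G] in
theorem piCoreOf_bot (π : Set ℕ) : piCoreOf π (⊥ : Subgroup G) = ⊥ :=
  le_bot_iff.1 (piCoreOf_le π ⊥)

theorem piCoreOf_piCoreOf (π ρ : Set ℕ) (H : Subgroup G) :
    piCoreOf π (piCoreOf ρ H) = piCoreOf (π ∩ ρ) H := by
  apply le_antisymm
  · exact le_piCoreOf ((piCoreOf_normalIn ρ H).piCoreOf_trans π)
      ((piGrp_piCoreOf π _).inter ((piGrp_piCoreOf ρ H).of_le (piCoreOf_le π _)))
  · exact le_piCoreOf ((piCoreOf_normalIn _ H).of_le (piCoreOf_mono Set.inter_subset_right H)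
      (piCoreOf_le ρ H)) ((piGrp_piCoreOf _ H).mono Set.inter_subset_left)

theorem piCoreOf_piCoreOf_of_subset (h : π ⊆ ρ) (H : Subgroup G) :
    piCoreOf π (piCoreOf ρ H) = piCoreOf π H := by
  rw [piCoreOf_piCoreOf, Set.inter_eq_left.2 h]

theorem piCoreOf_inf_piCoreOf (π ρ : Set ℕ) (H : Subgroup G) :
    piCoreOf π H ⊓ piCoreOf ρ H = piCoreOf (π ∩ ρ) H := by
  rw [← piCoreOf_piCoreOf, (piCoreOf_normalIn ρ H).piCoreOf_eq_inf]

theorem piCoreOf_inf_compl (π : Set ℕ) (H K : Subgroup G) : piCoreOf π H ⊓ piCoreOf πᶜ K = ⊥ :=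
  (piGrp_piCoreOf π H).inf_eq_bot (piGrp_piCoreOf πᶜ K)

theorem piCoreOf_le_cent_compl (π : Set ℕ) (H : Subgroup G) :
    piCoreOf π H ≤ 𝐂(piCoreOf πᶜ H) :=
  (piGrp_piCoreOf π H).le_cent (piGrp_piCoreOf πᶜ H)
    ((piCoreOf_le π H).trans (le_norm_piCoreOf _ H)) ((piCoreOf_le _ H).trans (le_norm_piCoreOf π H))

theorem piCoreOf_le_cent_of_disjoint (h : Disjoint π ρ) (H : Subgroup G) :
    piCoreOf π H ≤ 𝐂(piCoreOf ρ H) :=
  (piCoreOf_le_cent_compl π H).trans (cent_anti (piCoreOf_mono h.subset_compl_left H))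

/-- a normal `π'`-subgroup centralises `O_π(H)` -/
theorem le_cent_piCoreOf (hN : N ⊴ H) (h : PiGrp πᶜ N) : N ≤ 𝐂(piCoreOf π H) :=
  cent_symm ((piCoreOf_le_cent_compl π H).trans (cent_anti (le_piCoreOf hN h)))

theorem Hall.piCoreOf_le (h : Hall π X H) : piCoreOf π H ≤ X :=
  h.normal_le (piCoreOf_normalIn π H) (piGrp_piCoreOf π H)

theorem Hall.eq_piCoreOf (h : Hall π X H) (hn : H ≤ 𝐍(X)) : X = piCoreOf π H :=
  le_antisymm (le_piCoreOf ⟨h.le, hn⟩ h.pi) h.piCoreOf_le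

theorem Hall.hall_piCoreOf (h : Hall π X H) (hn : H ≤ 𝐍(X)) : Hall π (piCoreOf π H) H :=
  h.eq_piCoreOf hn ▸ h

theorem Hall.charIn (h : Hall π X H) (hn : H ≤ 𝐍(X)) : CharIn X H :=
  h.eq_piCoreOf hn ▸ piCoreOf_charIn π H

/-- whatever normalises `H` normalises its normal Hall subgroups -/
theorem Hall.norm_le (h : Hall π X H) (hn : H ≤ 𝐍(X)) : 𝐍(H) ≤ 𝐍(X) := (h.charIn hn).norm_le

theorem Hall.normalIn_trans (h : Hall π X N) (hn : N ≤ 𝐍(X)) (hN : N ⊴ H) : X ⊴ H :=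
  (h.charIn hn).trans_normalIn hN

/-- if `O_π(H)` is Hall in `H`, then `O_π(K) = O_π(H) ∩ K` is Hall in every `K ≤ H` -/
theorem piCoreOf_eq_inf_of_hall (h : Hall π (piCoreOf π H) H) (hK : K ≤ H) :
    piCoreOf π K = piCoreOf π H ⊓ K :=
  le_antisymm (le_inf (h.le_of_normal (le_norm_piCoreOf π H) ((piCoreOf_le π K).trans hK)
    (piGrp_piCoreOf π K)) (piCoreOf_le π K)) (piCoreOf_inf_le hK π)

theorem hall_piCoreOf_of_le (h : Hall π (piCoreOf π H) H) (hK : K ≤ H) :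
    Hall π (piCoreOf π K) K := by
  rw [piCoreOf_eq_inf_of_hall h hK]
  exact h.inf_of_normal (le_norm_piCoreOf π H) hK

omit [Finite G] in
theorem le_piCoreOf_of_hall (h : Hall π (piCoreOf π H) H) (hK : K ≤ H) (hπ : PiGrp π K) :
    K ≤ piCoreOf π H := h.le_of_normal (le_norm_piCoreOf π H) hK hπ

omit [Finite G] in
theorem hall_piCoreOf_map (h : Hall π (piCoreOf π H) H) (f : G →* G') [Finite G'] :
    Hall π (piCoreOf π (H.map f)) (H.map f) :=
  (h.map f).hall_piCoreOf (map_le_norm_map (le_norm_piCoreOf π H) f)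

omit [Finite G] in
theorem map_piCoreOf_of_hall (h : Hall π (piCoreOf π H) H) (f : G →* G') [Finite G'] :
    (piCoreOf π H).map f = piCoreOf π (H.map f) :=
  (h.map f).eq_piCoreOf (map_le_norm_map (le_norm_piCoreOf π H) f)

theorem piCoreOf_subgroupOf_of_le (hH : H ≤ K) (π : Set ℕ) :
    piCoreOf π (H.subgroupOf K) = (piCoreOf π H).subgroupOf K := by
  apply map_injective K.subtype_injective
  rw [map_piCoreOf K.subtype_injective, map_subgroupOf_eq_of_le hH,
    map_subgroupOf_eq_of_le ((piCoreOf_le π H).trans hH)]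

/-- `O_π` of the image under a homomorphism whose kernel meets `H` in a `π`-group -/
theorem map_piCoreOf_of_ker (f : G →* G') (hker : PiGrp π (f.ker ⊓ H)) :
    (piCoreOf π H).map f = piCoreOf π (H.map f) := by
  have : Finite (H.map f) := Finite.of_surjective _ (f.subgroupMap_surjective H)
  have hk : IsPiNum π (Nat.card (f.subgroupMap H).ker) := by
    have : (f.subgroupMap H).ker = f.ker.subgroupOf H := by
      ext x; simp [MonoidHom.mem_ker, mem_subgroupOf, Subtype.ext_iff]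
    rw [this, Pi.card_subgroupOf]; exact hker
  have h1 := PiCore.comap_of_surjective (f.subgroupMap_surjective H) hk
  rw [piCoreOf, piCoreOf, ← h1, map_map]
  conv_rhs => rw [← map_comap_eq_self_of_surjective (f.subgroupMap_surjective H)
    (piCore π (H.map f)), map_map]
  rfl

/-! ### normal `p`-complements -/

theorem hasNormalPComplement_iff_hall [hp : Fact p.Prime] :
    HasNormalPComplement p H ↔ Hall {p}ᶜ (piCoreOf {p}ᶜ H) H := by
  rw [CL.Transfer.hasNormalPComplement_iff_exists_normal]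
  constructor
  · rintro ⟨N, hN, h1, k, h2⟩
    have : Hall {p}ᶜ (N.map H.subtype) H := hall_map_subtype_iff.2 (PiHall.mk
      ((IsPiNum.compl_singleton_iff hp.out).2 h1)
      (by rw [compl_compl, h2]; exact IsPiNum.prime_pow hp.out (Set.mem_singleton p) k))
    exact this.hall_piCoreOf (NormalIn.map_subtype N).norm
  · intro h
    have h1 := h.subgroupOf_self
    rw [piCoreOf_subgroupOf] at h1
    refine ⟨_, inferInstance, (IsPiNum.compl_singleton_iff hp.out).1 (PiHall.card_pi h1), ?_⟩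
    have h2 := PiHall.index_pi h1
    rw [compl_compl] at h2
    exact (IsPiNum.singleton_iff hp.out index_ne_zero_of_finite).1 h2

/-! ### `O_{p',p}(H)` -/

section pPrimeP
variable [hp : Fact p.Prime]

omit [Finite G] hp in
theorem pPrimePCoreOf_le (p : ℕ) (H : Subgroup G) : pPrimePCoreOf p H ≤ H := map_subtype_le _

omit [Finite G] hp in
theorem pPrimePCoreOf_normalIn (p : ℕ) (H : Subgroup G) : pPrimePCoreOf p H ⊴ H :=
  haveI : (pPrimePCore p H).Normal := by unfold pPrimePCore; infer_instance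
  NormalIn.map_subtype _

omit [Finite G] in
theorem piCoreOf_le_pPrimePCoreOf (H : Subgroup G) : piCoreOf {p}ᶜ H ≤ pPrimePCoreOf p H := by
  rw [piCoreOf_compl_singleton hp.out]
  apply map_mono
  intro x hx
  rw [pPrimePCore, mem_comap, QuotientGroup.mk'_apply, (QuotientGroup.eq_one_iff x).2 hx]
  exact one_mem _

/-- `O_{p',p}(H) / O_{p'}(H)` is a `p`-group -/
theorem pPrimePCoreOf_relIndex_piNat (H : Subgroup G) :
    PiNat {p} ((piCoreOf {p}ᶜ H).relIndex (pPrimePCoreOf p H)) := by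
  rw [piCoreOf_compl_singleton hp.out, pPrimePCoreOf,
    relIndex_map_map_of_injective _ _ H.subtype_injective]
  conv_rhs => rw [← QuotientGroup.ker_mk' (pPrimeCore p H)]
  rw [relIndex_ker, pPrimePCore, map_comap_eq_self_of_surjective (QuotientGroup.mk'_surjective _),
    ← PiCore.piCore_singleton hp.out]
  exact PiCore.isPiNum_card _

/-- a normal subgroup whose image modulo `O_{p'}(H)` is a `p`-group lies in `O_{p',p}(H)` -/
theorem le_pPrimePCoreOf (hN : N ⊴ H) (h : PiNat {p} ((piCoreOf {p}ᶜ H).relIndex N)) :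
    N ≤ pPrimePCoreOf p H := by
  have hn := hN.normal
  rw [← map_subgroupOf_eq_of_le hN.le]
  apply map_mono
  rw [pPrimePCore, ← map_le_iff_le_comap, ← PiCore.piCore_singleton hp.out]
  have := hn.map _ (QuotientGroup.mk'_surjective (pPrimeCore p H))
  apply PiCore.le_piCore
  rw [← relIndex_ker, QuotientGroup.ker_mk', ← PiCore.piCore_compl_singleton hp.out,
    ← piCoreOf_subgroupOf, relIndex_subgroupOf hN.le]
  exact h

theorem le_pPrimePCoreOf_iff (hN : N ⊴ H) :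
    N ≤ pPrimePCoreOf p H ↔ PiNat {p} ((piCoreOf {p}ᶜ H).relIndex N) :=
  ⟨fun h => IsPiNum.of_dvd (pPrimePCoreOf_relIndex_piNat H) (relIndex_dvd_of_normalIn
    ((piCoreOf_normalIn _ H).of_le (piCoreOf_le_pPrimePCoreOf H) (pPrimePCoreOf_le p H)) h),
    le_pPrimePCoreOf hN⟩

/-- if `O_{p'}(H) P` is normal in `H` for a `p`-subgroup `P`, then `P ≤ O_{p',p}(H)` -/
theorem le_pPrimePCoreOf_of_sup (hP : IsPGroup p P) (hN : piCoreOf {p}ᶜ H ⊔ P ⊴ H) :
    P ≤ pPrimePCoreOf p H := by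
  refine le_sup_right.trans (le_pPrimePCoreOf hN ?_)
  rw [relIndex_sup_of_norm ((le_sup_right.trans hN.le).trans (le_norm_piCoreOf _ H))]
  exact ((piGrp_singleton_iff hp.out).2 hP).relIndex _

theorem piCoreOf_singleton_le_pPrimePCoreOf (H : Subgroup G) :
    piCoreOf {p} H ≤ pPrimePCoreOf p H :=
  le_pPrimePCoreOf (piCoreOf_normalIn _ H) ((piGrp_piCoreOf _ H).relIndex _)

theorem hall_piCoreOf_pPrimePCoreOf (H : Subgroup G) :
    Hall {p}ᶜ (piCoreOf {p}ᶜ H) (pPrimePCoreOf p H) :=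
  Hall.mk' (piCoreOf_le_pPrimePCoreOf H) (piGrp_piCoreOf _ H)
    (by rw [compl_compl]; exact pPrimePCoreOf_relIndex_piNat H)

theorem piCoreOf_pPrimePCoreOf (H : Subgroup G) :
    piCoreOf {p}ᶜ (pPrimePCoreOf p H) = piCoreOf {p}ᶜ H :=
  ((hall_piCoreOf_pPrimePCoreOf H).eq_piCoreOf
    ((pPrimePCoreOf_le p H).trans (le_norm_piCoreOf _ H))).symm

/-- `O_{p',p}(H) = O_{p'}(H) P` for a Sylow `p`-subgroup `P` of `O_{p',p}(H)` -/
theorem piCoreOf_sup_sylow (hP : SylowOf p P (pPrimePCoreOf p H)) :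
    piCoreOf {p}ᶜ H ⊔ P = pPrimePCoreOf p H :=
  (hall_piCoreOf_pPrimePCoreOf H).sup_eq (by rw [compl_compl]; exact hP)

theorem pPrimePCoreOf_eq_of_core_bot (h : piCoreOf {p}ᶜ H = ⊥) :
    pPrimePCoreOf p H = piCoreOf {p} H := by
  refine le_antisymm (le_piCoreOf (pPrimePCoreOf_normalIn p H) ?_)
    (piCoreOf_singleton_le_pPrimePCoreOf H)
  have := pPrimePCoreOf_relIndex_piNat (p := p) H
  rwa [h, relIndex_bot_left] at this

theorem pPrimePCoreOf_eq_self_iff : pPrimePCoreOf p H = H ↔ Hall {p}ᶜ (piCoreOf {p}ᶜ H) H :=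
  ⟨fun h => by simpa only [h] using hall_piCoreOf_pPrimePCoreOf (p := p) H,
    fun h => le_antisymm (pPrimePCoreOf_le p H)
      (le_pPrimePCoreOf (NormalIn.refl H) (by simpa only [compl_compl] using h.idx))⟩

theorem map_pPrimePCoreOf [Finite G'] {f : G →* G'} (hf : Function.Injective f) (H : Subgroup G) :
    (pPrimePCoreOf p H).map f = pPrimePCoreOf p (H.map f) := by
  apply le_antisymm
  · refine le_pPrimePCoreOf ((pPrimePCoreOf_normalIn p H).map f) ?_
    rw [← map_piCoreOf hf, relIndex_map_map_of_injective _ _ hf]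
    exact pPrimePCoreOf_relIndex_piNat H
  · have h1 : pPrimePCoreOf p (H.map f) ≤ f.range :=
      (pPrimePCoreOf_le p _).trans (map_le_range f H)
    rw [← map_comap_eq_self h1]
    apply map_mono
    apply le_pPrimePCoreOf
    · rw [← normalIn_map_iff hf, map_comap_eq_self h1]
      exact pPrimePCoreOf_normalIn p _
    · rw [← relIndex_map_map_of_injective _ _ hf, map_comap_eq_self h1, map_piCoreOf hf]
      exact pPrimePCoreOf_relIndex_piNat _

theorem cj_pPrimePCoreOf (g : G) (H : Subgroup G) :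
    cj g (pPrimePCoreOf p H) = pPrimePCoreOf p (cj g H) := map_pPrimePCoreOf (conj_injective g) H

theorem norm_le_norm_pPrimePCoreOf (H : Subgroup G) : 𝐍(H) ≤ 𝐍(pPrimePCoreOf p H) :=
  norm_le_norm_of_cj (F := pPrimePCoreOf p) cj_pPrimePCoreOf H

theorem NormalIn.pPrimePCoreOf_trans (h : N ⊴ H) : pPrimePCoreOf p N ⊴ H :=
  h.trans_of_norm_le (pPrimePCoreOf_le p N) (norm_le_norm_pPrimePCoreOf N)

theorem NormalIn.pPrimePCoreOf_le (h : N ⊴ H) : pPrimePCoreOf p N ≤ pPrimePCoreOf p H := by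
  refine le_pPrimePCoreOf h.pPrimePCoreOf_trans ?_
  have h1 := pPrimePCoreOf_relIndex_piNat (p := p) N
  exact IsPiNum.of_dvd h1 (relIndex_dvd_of_le_left _ (h.piCoreOf_le _))

theorem pPrimePCoreOf_inf_le (hK : K ≤ H) : pPrimePCoreOf p H ⊓ K ≤ pPrimePCoreOf p K := by
  refine le_pPrimePCoreOf ((pPrimePCoreOf_normalIn p H).inf_right hK) ?_
  have h1 := (le_pPrimePCoreOf_iff (p := p) (N := pPrimePCoreOf p H) (H := H)
    (pPrimePCoreOf_normalIn p H)).1 le_rfl
  have h2 : (piCoreOf {p}ᶜ H).relIndex (pPrimePCoreOf p H ⊓ K) ∣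
      (piCoreOf {p}ᶜ H).relIndex (pPrimePCoreOf p H) :=
    relIndex_dvd_of_normalIn ((piCoreOf_normalIn _ H).of_le (piCoreOf_le_pPrimePCoreOf H)
      (BG.pPrimePCoreOf_le p H)) inf_le_left
  refine IsPiNum.of_dvd (IsPiNum.of_dvd h1 h2) ?_
  rw [← inf_relIndex_right (piCoreOf {p}ᶜ H)]
  exact relIndex_dvd_of_le_left _
    ((inf_le_inf_left _ inf_le_right).trans (piCoreOf_inf_le hK _))

theorem pPrimePCoreOf_top : pPrimePCoreOf p (⊤ : Subgroup G) = pPrimePCore p G := by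
  have hn : (pPrimePCore p G).Normal := by unfold pPrimePCore; infer_instance
  apply le_antisymm
  · have := (pPrimePCoreOf_normalIn p (⊤ : Subgroup G)).normal_of_top
    rw [pPrimePCore, ← map_le_iff_le_comap, ← PiCore.piCore_singleton hp.out]
    have := this.map _ (QuotientGroup.mk'_surjective (pPrimeCore p G))
    apply PiCore.le_piCore
    rw [← relIndex_ker, QuotientGroup.ker_mk', ← piCoreOf_compl_singleton_top hp.out]
    exact pPrimePCoreOf_relIndex_piNat ⊤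
  · apply le_pPrimePCoreOf (NormalIn.of_normal _)
    rw [piCoreOf_compl_singleton_top hp.out]
    conv_rhs => rw [← QuotientGroup.ker_mk' (pPrimeCore p G)]
    rw [relIndex_ker, pPrimePCore,
      map_comap_eq_self_of_surjective (QuotientGroup.mk'_surjective _),
      ← PiCore.piCore_singleton hp.out]
    exact PiCore.isPiNum_card _

end pPrimeP

end CL.BG
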