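import Cfsg.Agent.BG.A7_Core
import Cfsg.Agent.BG.Rank
import Cfsg.Agent.BG.Core
import Cfsg.Agent.PLocal.Constraint
import Cfsg.Agent.S1302

namespace CL.BG

open Cfsg

variable {G : Type*} [Group G] [Finite G]

/-- The Thompson-Bender lemma in ambient form. -/
theorem thompson_bender_in {p : ℕ} [hp : Fact p.Prime] (hp2 : p ≠ 2) {X A Y : Subgroup G}
    (hX : IsPConstrained p X) (hAX : A ≤ X) (hAp : IsPGroup p A) (hAc : IsMulCommutative A)
    (hΩ : ∀ x ∈ X, x ∈ 𝐂(A) → orderOf x = p → x ∈ A) (hY : Y ≤ X) (hπ : PiGrp {p}ᶜ Y)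
    (hn : A ≤ 𝐍(Y)) : Y ≤ piCoreOf {p}ᶜ X := by
  have hinj := X.subtype_injective
  have eA : (A.subgroupOf X).map X.subtype = A := Subgroup.map_subgroupOf_eq_of_le hAX
  have eY : (Y.subgroupOf X).map X.subtype = Y := Subgroup.map_subgroupOf_eq_of_le hY
  have := Cfsg.Agent.S1302.result p hp2 hX (A.subgroupOf X)
    ((comm_map_iff hinj).1 (eA.symm ▸ hAc)) ((isPGroup_map_iff hinj).1 (eA.symm ▸ hAp))
    (fun x hx ho => by
      rw [Subgroup.mem_subgroupOf]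
      refine hΩ x x.2 (mem_cent.2 fun a ha => ?_) (by rwa [Subgroup.orderOf_coe])
      exact congrArg Subtype.val (mem_cent.1 hx ⟨a, hAX ha⟩ ha))
    (Y.subgroupOf X) ((hπ.subgroupOf X).not_dvd hp.out (by simp))
    ((map_le_norm_map_iff hinj).1 (by rwa [eA, eY]))
  rw [piCoreOf_compl_singleton hp.out, ← eY]
  exact Subgroup.map_mono this

/-- BG Proposition 7.5, common generalisation of both cases -/
theorem t7_5 (hG : IsMinSimpleOddOrder G) {p : ℕ} [Fact p.Prime] {A : Subgroup G}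
    (h1 : A ≠ ⊥) (hAp : IsPGroup p A) (hAc : IsMulCommutative A)
    (hΩ : ∀ x ∈ 𝐂(A), orderOf x = p → x ∈ A) : NormedConstrained {p} A := by
  refine ⟨h1, mFT_pgroup_ne_top hG hAp, (piGrp_singleton_iff Fact.out).2 hAp,
    fun X Y hAX hX hY hπ hn => ?_⟩
  haveI := mFT_sol hG hX
  exact thompson_bender_in (mFT_ne_two_of_pgroup hG hAp h1)
    (CL.PL.isPConstrained_of_isPSolvable CL.PL.isPSolvable_of_isSolvable) hAX hAp hAc
    (fun x _ hx ho => hΩ x hx ho) hY hπ hn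

/-- BG Proposition 7.5(a) (the `p`-length hypothesis of the book is not needed) -/
theorem t7_5a (hG : IsMinSimpleOddOrder G) {p : ℕ} [Fact p.Prime] {A : Subgroup G}
    (h1 : A ≠ ⊥) (hA : MaxElem p ⊤ A) : NormedConstrained {p} A :=
  t7_5 hG h1 hA.isPGroup hA.elem.1 fun x hx ho =>
    hA.mem (Subgroup.mem_top x) hx (ho ▸ pow_orderOf_eq_one x)

/-- for `A ∈ SCN(P)` with `P` Sylow in `H`, `A` is a normal Sylow subgroup of `C_H(A)` -/
theorem scn_sylow_cent {p : ℕ} [hp : Fact p.Prime] {H P A : Subgroup G}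
    (hP : SylowOf p P H) (hA : IsSCN P A) : SylowOf p A (H ⊓ 𝐂(A)) := by
  have hPN : SylowOf p P (H ⊓ 𝐍(A)) :=
    hP.hall.restrict (le_inf hP.hall.le (scn_normalIn hA).norm) inf_le_left
  have hn : H ⊓ 𝐂(A) ⊴ H ⊓ 𝐍(A) :=
    ⟨inf_le_inf_left _ (cent_le_norm A),
      norms_inf (le_norm_of_le inf_le_left) (norms_cent inf_le_right)⟩
  have := hPN.hall.inf_normal hn
  rwa [← inf_assoc, inf_eq_left.2 hP.hall.le, scn_cent hA] at this

theorem scn_le_of_isPGroup {p : ℕ} [hp : Fact p.Prime] {H P A Q : Subgroup G}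
    (hP : SylowOf p P H) (hA : IsSCN P A) (hQ : IsPGroup p Q) (hQH : Q ≤ H) (hc : Q ≤ 𝐂(A)) :
    Q ≤ A :=
  (scn_sylow_cent hP hA).le_of_le_norm' hQ (le_inf hQH hc) (le_norm_of_le_cent hc)

/-- BG Proposition 7.5(b) (rank at least 2 is not needed) -/
theorem t7_5b (hG : IsMinSimpleOddOrder G) {p : ℕ} [Fact p.Prime] {P A : Subgroup G}
    (hP : SylowOf p P ⊤) (hA : IsSCN P A) (h1 : A ≠ ⊥) : NormedConstrained {p} A :=
  t7_5 hG h1 (hP.isPGroup.to_le (scn_le hA)) (scn_comm hA) fun x hx ho =>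
    scn_le_of_isPGroup hP hA (Q := Subgroup.zpowers x)
      (isPGroup_of_card_prime (by rw [Nat.card_zpowers, ho])) le_top
      (Subgroup.zpowers_le.2 hx) (Subgroup.mem_zpowers x)

end CL.BG
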