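import Cfsg.Agent.BG.T10_7
import Cfsg.Agent.BG.T7_3
import Cfsg.Agent.BG.T7_4
import Cfsg.Agent.BG.T7_5
import Cfsg.Agent.BG.T5_5

/-! BG Proposition 10.10 -/

namespace CL.BG

open Cfsg

variable {G : Type*} [Group G] [Finite G]

/-- BG 10.10 -/
theorem t10_10 (hG : IsMinSimpleOddOrder G) {p q : ℕ} [Fact p.Prime] [Fact q.Prime] (hpq : p ≠ q)
    {A Q : Subgroup G} (hA : ElemN p 2 ⊤ A) (hAm : MaxElem p ⊤ A)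
    (hQ : Q ∈ maxInvSubgroups ⊤ A {q}) (hq : q ∣ Nat.card 𝐂(A)) :
    ∃ P : Subgroup G, SylowOf p P ⊤ ∧ A ≤ P ∧
      piCoreOf {p}ᶜ 𝐂(P) ⊔ (𝐍(P) ⊓ 𝐍(Q)) = 𝐍(P) ∧ P ≤ ⁅𝐍(Q), 𝐍(Q)⁆ ∧
      (Narrow q Q → P ≤ 𝐂(Q)) := by
  have pp : p.Prime := Fact.out
  have hc := t7_5a hG (hA.ne_bot pp two_pos) hAm
  have hqp : q ∉ ({p} : Set ℕ) := fun e => hpq (Eq.symm e)
  have htr := t7_3 hG hc hqp (by rw [center_eq_self_of_comm hA.comm, hA.rank_eq pp]) hq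
  obtain ⟨P₀, hP₀, hAP₀⟩ := sylow_superset hA.isPGroup le_top
  obtain ⟨Q₁, hQ₁⟩ := maxInv_nonempty ⊤ P₀ {q}
  obtain ⟨k, hk, rfl⟩ := htr Q₁ ((t7_4_nil hG hc hqp hAP₀ (nil_of_isPGroup hP₀.isPGroup)
    hP₀.pi htr).2.2.1 hQ₁) Q hQ
  have hP : SylowOf p (cj k P₀) ⊤ := Hall.cj_of_mem hP₀ (Subgroup.mem_top k)
  have hAP : A ≤ cj k P₀ := by
    rw [← cj_eq_of_mem_cent (piCoreOf_le _ _ hk)]
    exact cj_mono k hAP₀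
  obtain ⟨h1, h2⟩ := (t7_4_nil hG hc hqp hAP (nil_of_isPGroup hP.isPGroup) hP.pi htr).2.2.2 _
    (maxInv_top_cj k hQ₁)
  rw [inf_eq_left.2 (t10_7a hG hP)] at h1
  refine ⟨_, hP, hAP, h2.symm, h1, fun hn => ?_⟩
  by_cases h0 : cj k Q₁ = ⊥
  · rw [h0, cent_bot]; exact le_top
  have hQq := maxInv_isPGroup hQ
  exact t5_5a'' hQq (mFT_odd hG _) hn le_rfl (mFT_sol hG (mFT_norm_pgroup_ne_top hG hQq h0))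
    (mFT_odd hG _) h1 (piGrp_of_isPGroup pp hP.isPGroup hpq)

end CL.BG
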