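import Cfsg.Agent.BG.PAmb
import Cfsg.Agent.BG.Z2
import Cfsg.Agent.PGrp.RankTwo2

set_option autoImplicit false

namespace CL.BG

open Cfsg Subgroup

variable {G : Type*} [Group G] [Finite G]

/-- a normal subgroup of order at most `p ^ 2` lies in the second centre -/
theorem le_z2Of_of_card_le_sq {p : ℕ} [Fact p.Prime] {R S : Subgroup G} (hR : IsPGroup p R)
    (hS : S ⊴ R) (h : Nat.card S ≤ p ^ 2) : S ≤ z2Of R := by
  have := hS.normal
  have h1 := PGrp.RankTwo.le_upperCentralSeries_two_of_card_le hR (S.subgroupOf R)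
    (by rwa [card_subgroupOf_of_le' hS.le])
  rw [← map_subgroupOf_eq_of_le hS.le]
  exact map_mono h1

/-- BG 4.5(a), hidden part: an odd `p`-group of rank at most one is cyclic. -/
theorem t4_5_cyclic_iff {p : ℕ} [Fact p.Prime] {R : Subgroup G} (hR : IsPGroup p R) (hodd : Odd (Nat.card R)) :
    IsCyclic R ↔ pRank p R ≤ 1 := by
  exact isCyclic_iff_pRank_le_one Fact.out hR hodd

/-- BG 4.5(a), hidden part, elementwise form. -/
theorem t4_5_cyclic_of_card_omega {p : ℕ} [Fact p.Prime] {R : Subgroup G} (hR : IsPGroup p R) (hodd : Odd (Nat.card R))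
    (h : Nat.card (omegaOne p R) ≤ p) : IsCyclic R := by
  exact (pg_isCyclic_iff_omegaOne hR hodd).2
    (pg_isCyclic_of_card_le (hR.to_le (omegaOne_le p R)) h)

/-- BG 4.5(a). -/
theorem t4_5a {p : ℕ} [Fact p.Prime] {R : Subgroup G} (hR : IsPGroup p R) (hodd : Odd (Nat.card R)) (hnc : ¬ IsCyclic R) :
    ∃ S : Subgroup G, ElemN p 2 R S ∧ S ⊴ R := by
  obtain ⟨A, hA, h1, h2⟩ := PGrp.RankTwo.exists_normal_elementary
    (pg_ne_two_of_not_isCyclic hR hodd hnc) hR hnc
  exact ⟨A.map R.subtype, ⟨map_subtype_le _, EA.map h1 _, by rw [card_map_subtype', h2]⟩,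
    NormalIn.map_subtype A⟩

/-- BG 4.5(b). -/
theorem t4_5b {p : ℕ} [Fact p.Prime] {R : Subgroup G} (hR : IsPGroup p R) (hodd : Odd (Nat.card R)) (hnc : ¬ IsCyclic R)
    {C : Subgroup G} (hCR : C ≤ R) (hC : IsCyclic C) (hi : C.relIndex R = p) :
    ElemN p 2 R (omegaOne p R) := by
  obtain ⟨h1, h2⟩ := PGrp.CycMax.omega_of_cyclic_index (pg_ne_two_of_not_isCyclic hR hodd hnc)
    hR hnc (C.subgroupOf R) ((isCyclic_subgroupOf_iff hCR).2 hC) hi
  rw [← omegaOne_closure_map_subtype]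
  exact ⟨map_subtype_le _, EA.map h1 _, by rw [card_map_subtype', h2]⟩

/-- BG 4.5(c). -/
theorem t4_5c {p : ℕ} [Fact p.Prime] {R : Subgroup G} (hR : IsPGroup p R) (hodd : Odd (Nat.card R)) (hnc : ¬ IsCyclic R) :
    ¬ IsCyclic (omegaOne p (z2Of R)) ∧ ∀ x ∈ omegaOne p (z2Of R), x ^ p = 1 := by
  have hp2 := pg_ne_two_of_not_isCyclic hR hodd hnc
  constructor
  · obtain ⟨S, hS, hSn⟩ := t4_5a hR hodd hnc
    exact (hS.of_le ((hS.of_le (le_z2Of_of_card_le_sq hR hSn hS.card.le)).le_omegaOne)).not_isCyclic'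
      Fact.out le_rfl
  · intro x hx
    induction hx using closure_induction with
    | mem x hx => exact hx.2
    | one => simp
    | mul x y hx hy ihx ihy =>
      have hx' := z2Of_le R (omegaOne_le p _ hx)
      obtain ⟨y', hy', rfl⟩ := omegaOne_le p _ hy
      have := PGrp.RankTwo.mul_pow_eq_one_of_mem_upperCentralSeries_two hp2
        (x := (⟨x, hx'⟩ : R)) hy' (Subtype.ext ihx) (Subtype.ext ihy)
      simpa using congrArg Subtype.val this
    | inv x hx ih => rw [inv_pow, ih, inv_one]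

end CL.BG
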