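import Cfsg.Agent.BG.T5_1
import Cfsg.Agent.BG.T4_5
import Cfsg.Agent.BG.PAmb
import Cfsg.Agent.BG.Prod

set_option autoImplicit false

namespace CL.BG

open Cfsg Subgroup
open scoped commutatorElement

variable {G : Type*} [Group G] [Finite G]

/-- BG 5.2, with `Z = Ω₁(Z(R))`, `W = Ω₁(Z₂(R))`, `T = C_R(W)`. -/
theorem t5_2 {p : ℕ} [Fact p.Prime] {R : Subgroup G} (hR : IsPGroup p R) (hodd : Odd (Nat.card R))
    (hr : 2 < pRank p R) {E : Subgroup G} (hE : ElemN p 2 R E) (hmax : MaxElem p R E) :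
    ¬ E ≤ R ⊓ 𝐂(omegaOne p (z2Of R)) ∧ Nat.card (omegaOne p 𝐙(R)) = p ∧
      ElemN p 2 R (omegaOne p (z2Of R)) ∧ CharIn (R ⊓ 𝐂(omegaOne p (z2Of R))) R ∧
      (R ⊓ 𝐂(omegaOne p (z2Of R))).relIndex R = p := by
  have hp : p.Prime := Fact.out
  set W := omegaOne p (z2Of R) with hW
  set Z := omegaOne p 𝐙(R) with hZ
  have hWc : CharIn W R := (omegaOne_charIn p _).trans (z2Of_charIn R)
  have hWR : W ≤ R := hWc.le
  have hnn : ¬ E ⊴ R := by
    intro hn
    obtain ⟨B, hB, hEB⟩ := t5_1b hR hodd hr hE hn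
    have h3 := hB.le_pRank hp hR
    have := hmax.pRank_le_of_cent hp hE (scn_le hB.scn)
      (le_cent_of_comm_of_le (scn_comm hB.scn) le_rfl hEB)
    omega
  have hne : R ≠ ⊥ := ne_bot_of_le (hE.ne_bot hp two_pos) hE.le
  have hZE : Z ≤ E := hmax.omegaOne_center_le hE.le le_rfl
  have hZn : Z ⊴ R := (NormalIn.center R).omegaOne p
  have hZ1 : ElemN p 1 E Z :=
    hE.one_of_two hp hZE (omegaOne_center_ne_bot hp hR hne) fun e => hnn (e ▸ hZn)
  obtain ⟨hWnc, hWe⟩ := t4_5c hR hodd (hE.not_isCyclic' hp le_rfl)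
  have hWZ : ⁅W, R⁆ ≤ Z := by
    refine Subgroup.commutator_le.2 fun w hw x hx => ?_
    have hc : ⁅w, x⁆ ∈ 𝐙(R) := (mem_z2Of.1 (omegaOne_le p _ hw)).2 x hx
    refine mem_omegaOne hc ?_
    have hcw : Commute w ⁅w, x⁆ := mem_cent.1 hc.2 w (hWR hw)
    have key : ∀ n : ℕ, ⁅w, x⁆ ^ n = ⁅w ^ n, x⁆ := by
      intro n
      induction n with
      | zero => simp
      | succ n ih =>
        have h1 : ⁅w ^ (n + 1), x⁆ = w * ⁅w ^ n, x⁆ * w⁻¹ * ⁅w, x⁆ := by
          simp only [commutatorElement_def, pow_succ']; group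
        rw [h1, ← ih, (hcw.pow_right n).eq, mul_inv_cancel_right, pow_succ]
    rw [key, hWe w hw, commutatorElement_one_left]
  have hZW : Z ≤ W := omegaOne_mono (center_le_z2Of R)
  have hEW : ¬ E ≤ W := fun h => hnn ⟨hE.le, le_norm_of_commutator_le le_rfl
    ((Subgroup.commutator_mono h le_rfl).trans (hWZ.trans hZE))⟩
  have hWN : W ≤ 𝐍(E) := le_norm_of_commutator_le le_rfl (by
    rw [Subgroup.commutator_comm]
    exact (Subgroup.commutator_mono le_rfl hE.le).trans (hWZ.trans hZE))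
  have hCE : W ⊓ 𝐂(E) ≤ E := fun x hx => hmax.mem (hWR hx.1) hx.2 (hWe x hx.1)
  have hC1 : ElemN p 1 E (W ⊓ 𝐂(E)) := hE.one_of_two hp hCE
    (ne_bot_of_le (hZ1.ne_bot hp one_pos)
      (le_inf hZW ((omegaOne_center_le_cent p R).trans (cent_anti hE.le))))
    fun e => hEW (e.ge.trans inf_le_left)
  have hWp : IsPGroup p W := hR.to_le hWR
  have hWcard : Nat.card W = p ^ 2 := by
    have h1 := card_inf_mul_relIndex 𝐂(E) W
    rw [inf_comm, hC1.card_one] at h1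
    rcases (Nat.dvd_prime hp).1 (pg_relIndex_cent_dvd hWp hWN hE.card) with h | h
    · exact absurd (isCyclic_of_card_prime (by rwa [← h1, h, mul_one])) hWnc
    · rw [← h1, h, sq]
  have hW2 : ElemN p 2 R W := ⟨hWR, elem_of_card_sq hWcard hWnc, hWcard⟩
  have hET : ¬ E ≤ R ⊓ 𝐂(W) := fun h => by
    have hle : W ≤ E := (le_inf le_rfl (cent_symm (h.trans inf_le_right))).trans hCE
    exact hEW (hW2.eq_of_le hE hle).ge
  refine ⟨hET, hZ1.card_one, hW2, hWc.inf_cent, ?_⟩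
  rw [inf_relIndex_left]
  rcases (Nat.dvd_prime hp).1 (pg_relIndex_cent_dvd hR hWc.normalIn.norm hWcard) with h | h
  · exact absurd (le_inf hE.le (hE.le.trans (relIndex_eq_one.1 h))) hET
  · exact h

end CL.BG
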