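import Cfsg.Agent.BG.T5_2
import Cfsg.Agent.BG.PAmb
import Cfsg.Agent.BG.Prod

set_option autoImplicit false

namespace CL.BG

open Cfsg Subgroup

variable {G : Type*} [Group G] [Finite G]

/-- BG 5.3(d), with `T = C_R(Ω₁(Z₂(R)))`. -/
theorem t5_3d {p : ℕ} [Fact p.Prime] {R : Subgroup G} (hR : IsPGroup p R) (hodd : Odd (Nat.card R))
    (hr : 2 < pRank p R) (hn : Narrow p R) {S : Subgroup G} (hS : Nat.card S = p) (hSR : S ≤ R)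
    (hrS : pRank p (R ⊓ 𝐂(S)) ≤ 2) :
    IsCyclic ↥(R ⊓ 𝐂(omegaOne p (z2Of R)) ⊓ 𝐂(S)) ∧ S ⊓ ⁅R, R⁆ = ⊥ ∧
      S ⊓ (R ⊓ 𝐂(omegaOne p (z2Of R))) = ⊥ ∧
      DP S (R ⊓ 𝐂(omegaOne p (z2Of R)) ⊓ 𝐂(S)) (R ⊓ 𝐂(S)) := by
  have hp : p.Prime := Fact.out
  obtain ⟨E, hE, hEm⟩ := hn hr
  obtain ⟨-, hZc, -, hTc, hTi⟩ := t5_2 hR hodd hr hE hEm
  set T := R ⊓ 𝐂(omegaOne p (z2Of R)) with hT
  have hTn : T ⊴ R := hTc.normalIn
  have hS1 : ElemN p 1 R S := elemN_one_of_card hp hSR hS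
  have hZ : ElemN p 1 R (omegaOne p 𝐙(R)) := elemN_one_of_card hp (omegaOne_center_le p R) hZc
  have hZR : omegaOne p 𝐙(R) ≤ 𝐂(R) := omegaOne_center_le_cent p R
  have hSZ : S ≠ omegaOne p 𝐙(R) := by
    intro e
    rw [inf_eq_left.2 (cent_symm (e ▸ hZR))] at hrS
    omega
  have hA := hS1.sup_of_ne hZ hp hSZ (hZR.trans (cent_anti hSR))
  have hAT := (t5_2 hR hodd hr hA (hA.maxElem_of_pRank_le hp
    ((pRank_mono hp (inf_le_inf_left R (cent_anti le_sup_left))).trans hrS))).1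
  have hST : ¬ S ≤ T := fun h => hAT (sup_le h (le_inf hZ.le
    (hZR.trans (cent_anti ((omegaOne_le p _).trans (z2Of_le R))))))
  have hdisj : S ⊓ T = ⊥ := (hS1.le_or_inf_eq_bot hp T).resolve_left hST
  have hsup : T ⊔ S = R := sup_eq_of_relIndex_prime hTi hTn.le hSR hST
  have hdp : DP S (T ⊓ 𝐂(S)) (R ⊓ 𝐂(S)) := by
    refine ⟨?_, inf_le_right, by rw [← inf_assoc, hdisj, bot_inf_eq]⟩
    rw [← hsup, sup_inf_modular' (Or.inl (hSR.trans hTn.norm)) hS1.le_cent, sup_comm]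
  have hder : ⁅R, R⁆ ≤ T := pg_der_le_of_relIndex_le_sq hR hTn.norm
    (by rw [hTi]; exact Nat.le_self_pow two_ne_zero p)
  refine ⟨isCyclic_of_pRank_le_one hp (hR.to_le (inf_le_left.trans hTn.le))
    (odd_card_of_le hodd (inf_le_left.trans hTn.le)) ?_,
    le_bot_iff.1 (hdisj ▸ inf_le_inf_left S hder), hdisj, hdp⟩
  rw [hdp.pRank_eq hp, hS1.pRank_eq hp] at hrS
  omega

end CL.BG
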