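import Cfsg.Agent.BG.T10_7
import Cfsg.Agent.BG.T5_2
import Cfsg.Agent.BG.T5_3
import Cfsg.Agent.BG.Max
import Cfsg.Agent.BG.PAmb
import Cfsg.Agent.BG.Rank

/-! BG Lemma 10.13 -/

namespace CL.BG

open Cfsg

variable {G : Type*} [Group G] [Finite G]

/-- BG 10.13(a, b) for a Sylow subgroup of `G`. -/
theorem t10_13_sylow (hG : IsMinSimpleOddOrder G) {p : ℕ} [Fact p.Prime] {A S : Subgroup G}
    (hA : ElemN p 2 ⊤ A) (hAm : MaxElem p ⊤ A) (hS : SylowOf p S ⊤) (hAS : A ≤ S)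
    (hnc : ¬ IsMulCommutative S) :
    ∃ Z : Subgroup G, IsCyclic Z ∧ omegaOne p 𝐙(S) ≤ Z ∧
      ∀ A₀ : Subgroup G, ElemN p 1 A A₀ → A₀ ≠ omegaOne p 𝐙(S) → DP A₀ Z (S ⊓ 𝐂(A)) := by
  have pp : p.Prime := Fact.out
  have hZA : omegaOne p 𝐙(S) ≤ A := hAm.omegaOne_center_le hAS le_top
  rcases le_or_gt (pRank p S) 2 with hr | hr
  · obtain ⟨S₁, C, hS₁c, hS₁, -, hC, hcp, hO⟩ := t10_7b hG hS hr hnc
    have hS₁p : IsPGroup p S₁ := hS.isPGroup.to_le hcp.left_le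
    have hCp : IsPGroup p C := hS.isPGroup.to_le hcp.right_le
    have hZC : 𝐙(S) = C := by
      rw [← hcp.center.sup, center_eq_self_of_comm (comm_of_isCyclic hC), ← hO]
      exact sup_eq_right.2 (omegaOne_le p C)
    have hC1 : C ≠ ⊥ := hZC ▸ center_ne_bot_of_isPGroup pp hS.isPGroup
      (ne_bot_of_le (hA.ne_bot pp two_pos) hAS)
    have hO1 := elemN_omegaOne_of_isCyclic_pgroup pp hC hCp hC1
    have hCS : C ≤ 𝐂(S) := hZC ▸ inf_le_right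
    have hi : C.relIndex S = p ^ 2 := by
      have h1 : S₁ ⊓ C = omegaOne p C := by
        refine le_antisymm (hO ▸ le_inf inf_le_left (inf_le_right.trans hcp.cent)) ?_
        exact le_inf (hO ▸ inf_le_left) (omegaOne_le p C)
      have h2 := card_sup_mul_card_inf hcp.norm
      rw [h1, hcp.sup, hO1.card_one, hS₁, ← card_mul_relIndex hcp.right_le] at h2
      have h3 := card_pos' C
      have h4 := pp.pos
      apply Nat.eq_of_mul_eq_mul_left (Nat.mul_pos h3 h4)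
      calc Nat.card C * p * C.relIndex S = Nat.card C * C.relIndex S * p := by ring
        _ = _ := by rw [h2]; ring
    rw [hZC] at hZA ⊢
    refine ⟨C, hC, omegaOne_le p C, fun A₀ hA₀ hne => ?_⟩
    have hd : A₀ ⊓ C = ⊥ := (hA₀.le_or_inf_eq_bot pp C).resolve_left fun h =>
      hne ((hA₀.of_le h).eq_omegaOne_of_isCyclic pp hC)
    have hc : C ≤ 𝐂(A₀) := hCS.trans (cent_anti (hA₀.le.trans hAS))
    have hdp := DP.mk_sup hc hd
    have hle : A₀ ⊔ C ≤ S ⊓ 𝐂(A) := sup_le (le_inf (hA₀.le.trans hAS) (hA.le_cent_of_le hA₀.le le_rfl))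
      (le_inf hcp.right_le (hCS.trans (cent_anti hAS)))
    have hi' : (A₀ ⊔ C).relIndex S = p := by
      have h1 := Subgroup.relIndex_mul_relIndex C (A₀ ⊔ C) S le_sup_right (hle.trans inf_le_left)
      rw [hdp.symm.sdp.relIndex_left, hA₀.card_one, hi, sq] at h1
      exact Nat.eq_of_mul_eq_mul_left pp.pos h1
    rcases eq_or_eq_of_relIndex_prime hi' hle inf_le_left with h | h
    · rwa [h]
    · have h1 : A ≤ C := hZC ▸ le_inf hAS (cent_symm (inf_eq_left.1 h))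
      exact absurd (isCyclic_of_le hC h1) (hA.not_isCyclic pp le_rfl)
  · obtain ⟨-, hZp, -, -, -⟩ := t5_2 hS.isPGroup (mFT_odd hG S) hr (hA.of_le hAS) (hAm.of_top hAS)
    have hZ1 : ElemN p 1 A (omegaOne p 𝐙(S)) := elemN_one_of_card pp hZA hZp
    have hn : Narrow p S := narrow_of_maxElem (hA.of_le hAS) (hAm.of_top hAS)
    have key : ∀ A₀ : Subgroup G, ElemN p 1 A A₀ → A₀ ≠ omegaOne p 𝐙(S) →
        IsCyclic ↥(S ⊓ 𝐂(omegaOne p (z2Of S)) ⊓ 𝐂(A)) ∧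
          DP A₀ (S ⊓ 𝐂(omegaOne p (z2Of S)) ⊓ 𝐂(A)) (S ⊓ 𝐂(A)) := by
      intro A₀ hA₀ hne
      have h1 : ∀ T : Subgroup G, T ≤ S → T ⊓ 𝐂(A₀) = T ⊓ 𝐂(A) := by
        intro T hT
        rw [← hA.sup_eq_of_ne pp hA₀ hZ1 hne, cent_sup, inf_comm 𝐂(A₀), ← inf_assoc,
          inf_eq_left.2 (hT.trans (le_cent_omegaOne_center p S))]
      obtain ⟨h2, -, -, h3⟩ := t5_3d hS.isPGroup (mFT_odd hG S) hr hn hA₀.card_one (hA₀.le.trans hAS)
        (by rw [h1 S le_rfl]; exact hAm.pRank_le_of_cent pp hA le_top inf_le_right)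
      rw [h1 _ inf_le_left] at h2 h3
      rw [h1 S le_rfl] at h3
      exact ⟨h2, h3⟩
    obtain ⟨A₁, hA₁, hne₁⟩ := hA.exists_one_ne pp le_rfl (omegaOne p 𝐙(S))
    refine ⟨_, (key A₁ hA₁ hne₁).1, ?_, fun A₀ hA₀ hne => (key A₀ hA₀ hne).2⟩
    have h1 := omegaOne_center_le_cent p S
    refine le_inf (le_inf (omegaOne_center_le p S) (h1.trans (cent_anti ?_))) (h1.trans (cent_anti hAS))
    exact (omegaOne_le _ _).trans (z2Of_le S)

/-- A `p`-element normalizing `A ∈ ℰ_p^2` and centralizing a subgroup `Z` of order `p` of `A` but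
not `A` generates a group transitive on the other subgroups of order `p`. -/
theorem exists_cj_pow_of_not_cent {p : ℕ} [Fact p.Prime] {A Z A₁ A₂ P : Subgroup G}
    (hA : ElemN p 2 ⊤ A) (hZ : ElemN p 1 A Z) (hP : IsPGroup p P) (hPA : P ≤ 𝐍(A))
    (hPZ : P ≤ 𝐂(Z)) (hnc : ¬ P ≤ 𝐂(A)) (h₁ : ElemN p 1 A A₁) (hne₁ : A₁ ≠ Z)
    (h₂ : ElemN p 1 A A₂) (hne₂ : A₂ ≠ Z) : ∃ x ∈ P, A₂ = cj x A₁ := by
  have pp : p.Prime := Fact.out
  obtain ⟨a, ha, ha1, -, rfl⟩ := h₁.exists_zpowers pp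
  have haA := h₁.le ha
  obtain ⟨x, hx, hxa⟩ : ∃ x ∈ P, x ∉ 𝐂₁(a) := by
    by_contra h
    push Not at h
    apply hnc
    rw [← hA.sup_eq_of_ne pp h₁ hZ hne₁, cent_sup, cent_zpowers]
    exact le_inf h hPZ
  have hi : Z.relIndex A ∣ p := by
    have h1 := card_mul_relIndex hZ.le
    rw [hZ.card_one, hA.card, sq] at h1
    rw [Nat.eq_of_mul_eq_mul_left pp.pos h1]
  have hc : x * a * x⁻¹ * a⁻¹ ∈ Z :=
    pg_commutator_le_of_relIndex hP (le_norm_of_le_cent hPZ) hPA (hA.le_norm_of_le hZ.le) hi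
      (Subgroup.commutator_mem_commutator hx haA)
  set c := x * a * x⁻¹ * a⁻¹ with hcdef
  have hc1 : c ≠ 1 := fun h => hxa (mem_cent1.2 (by
    rw [hcdef, mul_inv_eq_one, mul_inv_eq_iff_eq_mul] at h; exact h))
  have hxc : c * x = x * c := hPZ hx c hc
  have hpow : ∀ n : ℕ, x ^ n * a * (x ^ n)⁻¹ = c ^ n * a := by
    intro n
    induction n with
    | zero => simp
    | succ n ih =>
      have h1 : x * c ^ n = c ^ n * x := ((Commute.pow_left hxc n).eq).symm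
      calc x ^ (n + 1) * a * (x ^ (n + 1))⁻¹ = x * (x ^ n * a * (x ^ n)⁻¹) * x⁻¹ := by
            rw [pow_succ']; group
        _ = (x * c ^ n) * a * x⁻¹ := by rw [ih]; group
        _ = c ^ n * (x * a * x⁻¹ * a⁻¹) * a := by rw [h1]; group
        _ = c ^ (n + 1) * a := by rw [← hcdef, pow_succ]
  obtain ⟨z, hz, b, hb, hzb⟩ := (hA.dp_of_ne pp hZ h₂ hne₂.symm).exists_mul haA
  have hz' := inv_mem hz
  rw [hZ.eq_zpowers pp hc hc1, ← mem_powers_iff_mem_zpowers] at hz'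
  obtain ⟨n, hn⟩ := hz'
  have hb' : x ^ n * a * (x ^ n)⁻¹ = b := by
    rw [hpow, show c ^ n = z⁻¹ from hn, ← hzb, inv_mul_cancel_left]
  refine ⟨x ^ n, pow_mem hx n, ?_⟩
  rw [cj_zpowers, hb']
  refine h₂.eq_zpowers pp hb fun h => ha1 ?_
  rw [h] at hb'
  simpa using hb'

/-- BG 10.13, with `Z₀ = Ω₁(Z(P))` -/
theorem t10_13 (hG : IsMinSimpleOddOrder G) {p : ℕ} [Fact p.Prime] {A P : Subgroup G}
    (hA : ElemN p 2 ⊤ A) (hAm : MaxElem p ⊤ A) (hP : IsPGroup p P) (hAP : A ≤ P)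
    (hnc : ¬ IsMulCommutative P) :
    ElemN p 1 A (omegaOne p 𝐙(P)) ∧
      (∃ Z : Subgroup G, IsCyclic Z ∧ omegaOne p 𝐙(P) ≤ Z ∧
        ∀ A₀ : Subgroup G, ElemN p 1 A A₀ → A₀ ≠ omegaOne p 𝐙(P) → DP A₀ Z (P ⊓ 𝐂(A))) ∧
      ∀ A₁ A₂ : Subgroup G, ElemN p 1 A A₁ → A₁ ≠ omegaOne p 𝐙(P) →
        ElemN p 1 A A₂ → A₂ ≠ omegaOne p 𝐙(P) → ∃ x ∈ P ⊓ 𝐍(A), A₂ = cj x A₁ := by
  have pp : p.Prime := Fact.out
  obtain ⟨S, hS, hPS⟩ := sylow_superset hP (le_top (a := P))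
  have hAS := hAP.trans hPS
  obtain ⟨Z, hZc, hZ, hdp⟩ := t10_13_sylow hG hA hAm hS hAS fun h => hnc (comm_of_le h hPS)
  have hdp' : ∀ A₀ : Subgroup G, ElemN p 1 A A₀ → A₀ ≠ omegaOne p 𝐙(S) →
      DP A₀ (Z ⊓ P) (P ⊓ 𝐂(A)) := by
    intro A₀ hA₀ hne
    have h := (hdp A₀ hA₀ hne).modl (hA₀.le.trans hAP)
    rwa [inf_right_comm, inf_eq_right.2 hPS] at h
  obtain ⟨B, hB, hBne⟩ := hA.exists_one_ne pp le_rfl (omegaOne p 𝐙(S))
  have hCc : IsMulCommutative ↥(P ⊓ 𝐂(A)) :=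
    (hdp' B hB hBne).comm hB.comm (comm_of_isCyclic (isCyclic_of_le hZc inf_le_left))
  have hlt : P ⊓ 𝐂(A) < P := lt_of_le_of_ne inf_le_left fun h => hnc (h ▸ hCc)
  have hZS1 := omegaOne_center_ne_bot pp hS.isPGroup (ne_bot_of_le (hA.ne_bot pp two_pos) hAS)
  have hZSA : omegaOne p 𝐙(S) ≤ A := hAm.omegaOne_center_le hAS le_top
  have hZSP : omegaOne p 𝐙(S) ≤ omegaOne p 𝐙(P) := by
    rw [← omegaOne_idem]
    exact omegaOne_mono (le_inf (hZSA.trans hAP)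
      ((omegaOne_center_le_cent p S).trans (cent_anti hPS)))
  have hZ₀ : ElemN p 1 A (omegaOne p 𝐙(P)) :=
    hA.one_of_two pp (hAm.omegaOne_center_le hAP le_top) (ne_bot_of_le hZS1 hZSP) fun h =>
      hlt.ne (inf_eq_left.2 (h ▸ le_cent_omegaOne_center p P))
  have he : omegaOne p 𝐙(S) = omegaOne p 𝐙(P) := eq_of_le_of_prime (hZ₀.card_prime pp) hZSP hZS1
  rw [he] at hdp' hZ
  refine ⟨hZ₀, ⟨Z ⊓ P, isCyclic_of_le hZc inf_le_left, le_inf hZ (omegaOne_center_le p P), hdp'⟩,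
    fun A₁ A₂ h₁ hne₁ h₂ hne₂ => ?_⟩
  refine exists_cj_pow_of_not_cent hA hZ₀ hP.to_inf_left inf_le_right
    (inf_le_left.trans (le_cent_omegaOne_center p P)) (fun h => ?_) h₁ hne₁ h₂ hne₂
  have h1 := lt_inf_norm_of_isPGroup hP hlt
  have h2 : 𝐍(P ⊓ 𝐂(A)) ≤ 𝐍(A) := by
    have h3 := norm_le_norm_omegaOne p (P ⊓ 𝐂(A))
    rwa [(hAm.of_top hAP).omegaOne_cent] at h3
  exact h1.not_ge (le_inf inf_le_left ((inf_le_inf_left P h2).trans h))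

end CL.BG
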