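import Cfsg.Agent.Base
import Cfsg.Agent.BG.Prod
import Cfsg.Agent.BG.Max
import Cfsg.Agent.BG.Rank

/-!
# The sets of primes `σ(M)`, `α(M)`, `β(M)`, `τ_i(M)`, `κ(M)` and the cores `M_σ`, `M_α`, `M_β`
-/

namespace CL.BG

open Cfsg

variable {G : Type*} [Group G] {M P X : Subgroup G} {p : ℕ} {g : G}

theorem sigmaCore_def (M : Subgroup G) : sigmaCore M = piCoreOf (sigma M) M := rfl

theorem alphaCore_def (M : Subgroup G) : alphaCore M = piCoreOf (alpha M) M := rfl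

theorem betaCore_def (M : Subgroup G) : betaCore M = piCoreOf (beta M) M := rfl

theorem prime_of_mem_sigma (h : p ∈ sigma M) : p.Prime := h.1

theorem dvd_card_of_mem_sigma (h : p ∈ sigma M) : p ∣ Nat.card M := h.2.1

theorem sigma_sub_primesOf (M : Subgroup G) : sigma M ⊆ primesOf M := fun _ h => ⟨h.1, h.2.1⟩

theorem prime_of_mem_alpha (h : p ∈ alpha M) : p.Prime := h.1

theorem prime_of_mem_beta (h : p ∈ beta M) : p.Prime := h.1.1

theorem mem_beta_iff : p ∈ beta M ↔ p ∈ alpha M ∧ IsIdealPrime p G := Iff.rfl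

theorem beta_sub_alpha (M : Subgroup G) : beta M ⊆ alpha M := fun _ h => h.1

theorem ideal_of_mem_beta (h : p ∈ beta M) : IsIdealPrime p G := h.2

variable [Finite G]

theorem mem_sigma_iff [hp : Fact p.Prime] :
    p ∈ sigma M ↔ p ∣ Nat.card M ∧ ∃ P, SylowOf p P M ∧ 𝐍(P) ≤ M := by
  constructor
  · rintro ⟨-, h, S, hS⟩
    exact ⟨h, _, sylowOf_map_subtype S, hS⟩
  · rintro ⟨h, P, hP, hN⟩
    obtain ⟨S, rfl⟩ := sylowOf_iff_exists.1 hP
    exact ⟨hp.out, h, S, hN⟩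

/-- for a proper subgroup `M` the divisibility condition in the definition of `σ(M)` is
automatic -/
theorem mem_sigma_of_norm_le [Fact p.Prime] (hM : M ≠ ⊤) (hP : SylowOf p P M) (hN : 𝐍(P) ≤ M) :
    p ∈ sigma M := by
  refine mem_sigma_iff.2 ⟨hP.ne_bot_iff.1 ?_, P, hP, hN⟩
  rintro rfl
  rw [norm_bot] at hN
  exact hM (top_le_iff.1 hN)

theorem norm_sigma_sylow [Fact p.Prime] (h : p ∈ sigma M) (hP : SylowOf p P M) : 𝐍(P) ≤ M := by
  obtain ⟨-, Q, hQ, hN⟩ := mem_sigma_iff.1 h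
  obtain ⟨g, hg, rfl⟩ := sylow_conj hQ hP
  rw [← cj_norm]
  exact cj_le_of_mem hg hN

theorem not_norm_le_of_not_mem_sigma [Fact p.Prime] (hM : M ≠ ⊤) (h : p ∉ sigma M)
    (hP : SylowOf p P M) : ¬ 𝐍(P) ≤ M := fun hN => h (mem_sigma_of_norm_le hM hP hN)

theorem mem_sigma_iff_norm_le [Fact p.Prime] (hM : M ≠ ⊤) (hP : SylowOf p P M) :
    p ∈ sigma M ↔ 𝐍(P) ≤ M :=
  ⟨fun h => norm_sigma_sylow h hP, mem_sigma_of_norm_le hM hP⟩

theorem sigma_sylow_top [Fact p.Prime] (h : p ∈ sigma M) (hP : SylowOf p P M) : SylowOf p P ⊤ :=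
  hP.top_of_norm_le (norm_sigma_sylow h hP)

omit [Finite G] in
theorem sigma_sylow_ne_bot [Fact p.Prime] (h : p ∈ sigma M) (hP : SylowOf p P M) : P ≠ ⊥ :=
  hP.ne_bot_iff.2 h.2.1

theorem sigma_not_dvd_index (h : p ∈ sigma M) : ¬ p ∣ M.index := by
  have := Fact.mk h.1
  obtain ⟨P, hP⟩ := sylow_exists p M
  intro hd
  apply (sigma_sylow_top h hP).not_dvd
  rw [Subgroup.relIndex_top_right]
  exact hd.trans (Subgroup.index_dvd_of_le hP.le)

theorem piNat_sigma_compl_relIndex_top (M : Subgroup G) : PiNat (sigma M)ᶜ (M.relIndex ⊤) := by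
  intro p _ hd h
  rw [Subgroup.relIndex_top_right] at hd
  exact sigma_not_dvd_index h hd

/-- a Hall `π`-subgroup of `M` with `π ⊆ σ(M)` is a Hall subgroup of `G` -/
theorem Hall.top_of_sub_sigma {π : Set ℕ} (h : Hall π X M) (hπ : π ⊆ sigma M) : Hall π X ⊤ :=
  h.trans_idx le_top ((piNat_sigma_compl_relIndex_top M).mono (Set.compl_subset_compl.2 hπ))

/-- BG 10.1(d) -/
theorem t10_1d [Fact p.Prime] (h : p ∈ sigma M) (hX : SylowOf p X M) (hg : cj g X ≤ M) :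
    g ∈ M := by
  have h1 : SylowOf p (cj g X) M := Hall.of_card_eq hX hg (card_cj g X)
  obtain ⟨m, hm, e⟩ := sylow_conj h1 hX
  rw [cj_cj, cj_eq_iff_mem_norm] at e
  exact (M.mul_mem_cancel_left hm).1 (norm_sigma_sylow h hX e)

/-- BG 10.1(d), other form -/
theorem t10_1d' [Fact p.Prime] (h : p ∈ sigma M) (hX : SylowOf p X M) (hg : X ≤ cj g M) :
    g ∈ M :=
  (M.inv_mem_iff).1 (t10_1d h hX (le_cj_iff_cj_inv_le.1 hg))

theorem sigma_cj (g : G) (M : Subgroup G) : sigma (cj g M) = sigma M := by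
  have key : ∀ (g : G) (M : Subgroup G), sigma M ⊆ sigma (cj g M) := by
    intro g M p h
    have := Fact.mk h.1
    obtain ⟨hd, P, hP, hN⟩ := mem_sigma_iff.1 h
    refine mem_sigma_iff.2 ⟨by rwa [card_cj], cj g P, Hall.cj hP g, ?_⟩
    rw [← cj_norm]; exact cj_mono g hN
  refine (key g M).antisymm' ?_
  have := key g⁻¹ (cj g M)
  rwa [cj_inv_cj] at this

/-! ### `α`, `β`, ideal primes -/

theorem mem_alpha_iff : p ∈ alpha M ↔ p.Prime ∧ 2 < pRank p M :=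
  and_congr_right fun hp => by rw [← pRank_le_iff hp, not_le]

theorem mem_alpha_iff' (hp : p.Prime) : p ∈ alpha M ↔ 2 < pRank p M := by
  rw [mem_alpha_iff, and_iff_right hp]

theorem not_mem_alpha_iff (hp : p.Prime) : p ∉ alpha M ↔ pRank p M ≤ 2 := by
  rw [mem_alpha_iff' hp, not_lt]

theorem alpha_mono {H : Subgroup G} (h : H ≤ M) : alpha H ⊆ alpha M := fun _ hp =>
  (mem_alpha_iff' hp.1).2 ((mem_alpha_iff.1 hp).2.trans_le (pRank_mono hp.1 h))

theorem alpha_sub_primesOf (M : Subgroup G) : alpha M ⊆ primesOf M := fun p hp => by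
  refine ⟨hp.1, ?_⟩
  by_contra h
  have := (pRank_eq_zero_iff hp.1).2 h
  have := (mem_alpha_iff.1 hp).2
  omega

theorem beta_sub_primesOf (M : Subgroup G) : beta M ⊆ primesOf M :=
  (beta_sub_alpha M).trans (alpha_sub_primesOf M)

theorem mem_alpha_iff_sylow [hp : Fact p.Prime] (hP : SylowOf p P M) :
    p ∈ alpha M ↔ 2 < rank P := by
  rw [mem_alpha_iff' hp.out, hP.rank_eq hp.out]

theorem alpha_cj (g : G) (M : Subgroup G) : alpha (cj g M) = alpha M := by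
  ext p; rw [mem_alpha_iff, mem_alpha_iff, pRank_cj]

theorem beta_cj (g : G) (M : Subgroup G) : beta (cj g M) = beta M := by
  ext p; rw [mem_beta_iff, mem_beta_iff, alpha_cj]

/-- an `α(M)'`-subgroup of `M` has rank at most two -/
theorem rank_le_two_of_alpha_compl (hX : X ≤ M) (h : PiGrp (alpha M)ᶜ X) : rank X ≤ 2 := by
  refine rank_le_iff_forall.2 fun p hp => ?_
  by_cases hd : p ∣ Nat.card X
  · exact (pRank_mono hp hX).trans ((not_mem_alpha_iff hp).1 (h p hp hd))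
  · rw [(pRank_eq_zero_iff hp).2 hd]; omega

theorem alpha_eq_empty_iff : alpha M = ∅ ↔ rank M ≤ 2 := by
  rw [rank_le_iff_forall, Set.eq_empty_iff_forall_notMem]
  exact ⟨fun h p hp => (not_mem_alpha_iff hp).1 (h p),
    fun h p hp => (not_mem_alpha_iff hp.1).2 (h p hp.1) hp⟩

theorem isIdealPrime_iff : IsIdealPrime p G ↔ p.Prime ∧ 2 < pRank p (⊤ : Subgroup G) ∧
    ∀ P : Subgroup G, SylowOf p P ⊤ → ∀ A : Subgroup G, ElemN p 2 P A → ¬ MaxElem p P A := by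
  refine and_congr_right fun hp => ?_
  have := Fact.mk hp
  refine and_congr (by rw [← pRank_top_le_iff hp, not_le]) ⟨fun h P hP A hA hm => ?_, ?_⟩
  · obtain ⟨S, rfl⟩ := sylowOf_top_iff.1 hP
    obtain ⟨B, hB, hBe, hlt⟩ := h S A hA.le hA.elem hA.card
    exact hlt.ne' (hm.max B hB hBe hlt.le)
  · intro h S A hle he hc
    by_contra hne
    refine h S (sylowOf_top S) A ⟨hle, he, hc⟩ ⟨hle, he, fun B hB hBe hAB => ?_⟩
    by_contra hBA
    exact hne ⟨B, hB, hBe, lt_of_le_of_ne hAB (Ne.symm hBA)⟩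

omit [Finite G] in
theorem prime_of_ideal (h : IsIdealPrime p G) : p.Prime := h.1

theorem mem_alpha_top_of_ideal (h : IsIdealPrime p G) : p ∈ alpha (⊤ : Subgroup G) :=
  (mem_alpha_iff' h.1).2 (isIdealPrime_iff.1 h).2.1

theorem mem_beta_top_iff : p ∈ beta (⊤ : Subgroup G) ↔ IsIdealPrime p G :=
  ⟨fun h => h.2, fun h => ⟨mem_alpha_top_of_ideal h, h⟩⟩

/-- `p` is ideal iff the Sylow `p`-subgroups of `G` are not narrow -/
theorem isIdealPrime_iff_not_narrow [hp : Fact p.Prime] (hP : SylowOf p P ⊤) :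
    IsIdealPrime p G ↔ ¬ Narrow p P := by
  rw [isIdealPrime_iff, and_iff_right hp.out, ← hP.pRank_eq hp.out]
  constructor
  · rintro ⟨h1, h2⟩ hn
    obtain ⟨A, hA, hm⟩ := hn h1
    exact h2 P hP A hA hm
  · intro hn
    refine ⟨by by_contra h; exact hn fun h' => absurd h' h, fun Q hQ A hA hm => hn ?_⟩
    obtain ⟨g, -, rfl⟩ := sylow_conj hQ hP
    exact fun _ => ⟨_, hA.cj g, hm.cj g⟩

theorem ideal_two_lt_rank [Fact p.Prime] (h : IsIdealPrime p G) (hP : SylowOf p P ⊤) :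
    2 < rank P := (mem_alpha_iff_sylow hP).1 (mem_alpha_top_of_ideal h)

/-! ### the cores `M_σ`, `M_α`, `M_β` -/

omit [Finite G] in
theorem sigmaCore_le (M : Subgroup G) : sigmaCore M ≤ M := piCoreOf_le _ _

omit [Finite G] in
theorem alphaCore_le (M : Subgroup G) : alphaCore M ≤ M := piCoreOf_le _ _

omit [Finite G] in
theorem betaCore_le (M : Subgroup G) : betaCore M ≤ M := piCoreOf_le _ _

omit [Finite G] in
theorem sigmaCore_normal (M : Subgroup G) : sigmaCore M ⊴ M := piCoreOf_normalIn _ _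

omit [Finite G] in
theorem alphaCore_normal (M : Subgroup G) : alphaCore M ⊴ M := piCoreOf_normalIn _ _

omit [Finite G] in
theorem betaCore_normal (M : Subgroup G) : betaCore M ⊴ M := piCoreOf_normalIn _ _

omit [Finite G] in
theorem le_norm_sigmaCore (h : X ≤ M) : X ≤ 𝐍(sigmaCore M) := h.trans (sigmaCore_normal M).norm

omit [Finite G] in
theorem le_norm_alphaCore (h : X ≤ M) : X ≤ 𝐍(alphaCore M) := h.trans (alphaCore_normal M).norm

omit [Finite G] in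
theorem le_norm_betaCore (h : X ≤ M) : X ≤ 𝐍(betaCore M) := h.trans (betaCore_normal M).norm

theorem piGrp_sigmaCore (M : Subgroup G) : PiGrp (sigma M) (sigmaCore M) := piGrp_piCoreOf _ _

theorem piGrp_alphaCore (M : Subgroup G) : PiGrp (alpha M) (alphaCore M) := piGrp_piCoreOf _ _

theorem piGrp_betaCore (M : Subgroup G) : PiGrp (beta M) (betaCore M) := piGrp_piCoreOf _ _

theorem betaCore_le_alphaCore (M : Subgroup G) : betaCore M ≤ alphaCore M :=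
  piCoreOf_mono (beta_sub_alpha M) M

theorem sigmaCore_cj (g : G) (M : Subgroup G) : sigmaCore (cj g M) = cj g (sigmaCore M) := by
  rw [sigmaCore_def, sigmaCore_def, cj_piCoreOf, sigma_cj]

theorem alphaCore_cj (g : G) (M : Subgroup G) : alphaCore (cj g M) = cj g (alphaCore M) := by
  rw [alphaCore_def, alphaCore_def, cj_piCoreOf, alpha_cj]

theorem betaCore_cj (g : G) (M : Subgroup G) : betaCore (cj g M) = cj g (betaCore M) := by
  rw [betaCore_def, betaCore_def, cj_piCoreOf, beta_cj]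

theorem coprime_sigmaCore (h : PiGrp (sigma M)ᶜ X) :
    (Nat.card (sigmaCore M)).Coprime (Nat.card X) := (piGrp_sigmaCore M).coprime h

theorem coprime_alphaCore (h : PiGrp (alpha M)ᶜ X) :
    (Nat.card (alphaCore M)).Coprime (Nat.card X) := (piGrp_alphaCore M).coprime h

theorem coprime_betaCore (h : PiGrp (beta M)ᶜ X) :
    (Nat.card (betaCore M)).Coprime (Nat.card X) := (piGrp_betaCore M).coprime h

theorem sigmaCore_inf_eq_bot (h : PiGrp (sigma M)ᶜ X) : sigmaCore M ⊓ X = ⊥ :=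
  (piGrp_sigmaCore M).inf_eq_bot h

theorem alphaCore_inf_eq_bot (h : PiGrp (alpha M)ᶜ X) : alphaCore M ⊓ X = ⊥ :=
  (piGrp_alphaCore M).inf_eq_bot h

theorem betaCore_inf_eq_bot (h : PiGrp (beta M)ᶜ X) : betaCore M ⊓ X = ⊥ :=
  (piGrp_betaCore M).inf_eq_bot h

theorem piGrp_compl_sigmaCore (hp : p.Prime) (h : p ∉ sigma M) : PiGrp {p}ᶜ (sigmaCore M) :=
  (piGrp_compl_singleton_iff hp).2 ((piGrp_sigmaCore M).not_dvd hp h)

theorem piGrp_compl_alphaCore (hp : p.Prime) (h : p ∉ alpha M) : PiGrp {p}ᶜ (alphaCore M) :=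
  (piGrp_compl_singleton_iff hp).2 ((piGrp_alphaCore M).not_dvd hp h)

theorem piGrp_compl_betaCore (hp : p.Prime) (h : p ∉ beta M) : PiGrp {p}ᶜ (betaCore M) :=
  (piGrp_compl_singleton_iff hp).2 ((piGrp_betaCore M).not_dvd hp h)

/-! ### `τ₁`, `τ₂`, `τ₃` -/

private theorem pRank_eq_one_iff (hp : p.Prime) :
    pRank p M = 1 ↔ p ∣ Nat.card M ∧ PRankLE p 1 M := by
  rw [← pRank_le_iff hp, ← not_not (a := p ∣ Nat.card M), ← pRank_eq_zero_iff hp]
  omega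

theorem mem_tau1_iff : p ∈ tau1 M ↔
    p.Prime ∧ p ∉ sigma M ∧ pRank p M = 1 ∧ ¬ p ∣ Nat.card ↥⁅M, M⁆ := by
  refine and_congr_right fun hp => and_congr_right fun _ => ?_
  rw [pRank_eq_one_iff hp]; tauto

theorem mem_tau2_iff : p ∈ tau2 M ↔ p.Prime ∧ p ∉ sigma M ∧ pRank p M = 2 := by
  refine and_congr_right fun hp => and_congr_right fun _ => ?_
  rw [← pRank_le_iff hp, ← pRank_le_iff hp]; omega

theorem mem_tau3_iff : p ∈ tau3 M ↔
    p.Prime ∧ p ∉ sigma M ∧ pRank p M = 1 ∧ p ∣ Nat.card ↥⁅M, M⁆ := by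
  refine and_congr_right fun hp => and_congr_right fun _ => ?_
  rw [pRank_eq_one_iff hp]
  exact ⟨fun h => ⟨⟨h.1.trans (Subgroup.card_dvd_of_le (NormalIn.der M).le), h.2⟩, h.1⟩,
    fun h => ⟨h.2, h.1.2⟩⟩

omit [Finite G] in
theorem not_mem_sigma_of_tau1 (h : p ∈ tau1 M) : p ∉ sigma M := h.2.1

omit [Finite G] in
theorem not_mem_sigma_of_tau2 (h : p ∈ tau2 M) : p ∉ sigma M := h.2.1

omit [Finite G] in
theorem not_mem_sigma_of_tau3 (h : p ∈ tau3 M) : p ∉ sigma M := h.2.1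

omit [Finite G] in
theorem tau1_sub_sigma_compl (M : Subgroup G) : tau1 M ⊆ (sigma M)ᶜ := fun _ h => h.2.1

omit [Finite G] in
theorem tau2_sub_sigma_compl (M : Subgroup G) : tau2 M ⊆ (sigma M)ᶜ := fun _ h => h.2.1

omit [Finite G] in
theorem tau3_sub_sigma_compl (M : Subgroup G) : tau3 M ⊆ (sigma M)ᶜ := fun _ h => h.2.1

omit [Finite G] in
theorem prime_of_mem_tau1 (h : p ∈ tau1 M) : p.Prime := h.1

omit [Finite G] in
theorem prime_of_mem_tau2 (h : p ∈ tau2 M) : p.Prime := h.1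

omit [Finite G] in
theorem prime_of_mem_tau3 (h : p ∈ tau3 M) : p.Prime := h.1

theorem pRank_of_mem_tau1 (h : p ∈ tau1 M) : pRank p M = 1 := (mem_tau1_iff.1 h).2.2.1

theorem pRank_of_mem_tau2 (h : p ∈ tau2 M) : pRank p M = 2 := (mem_tau2_iff.1 h).2.2

theorem pRank_of_mem_tau3 (h : p ∈ tau3 M) : pRank p M = 1 := (mem_tau3_iff.1 h).2.2.1

omit [Finite G] in
theorem not_mem_tau2_of_tau1 (h : p ∈ tau1 M) : p ∉ tau2 M := fun h' => h'.2.2.2 h.2.2.2.2

omit [Finite G] in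
theorem not_mem_tau3_of_tau1 (h : p ∈ tau1 M) : p ∉ tau3 M := fun h' => h.2.2.2.1 h'.2.2.1

omit [Finite G] in
theorem not_mem_tau1_of_tau2 (h : p ∈ tau2 M) : p ∉ tau1 M := fun h' => not_mem_tau2_of_tau1 h' h

omit [Finite G] in
theorem not_mem_tau3_of_tau2 (h : p ∈ tau2 M) : p ∉ tau3 M := fun h' => h.2.2.2 h'.2.2.2

omit [Finite G] in
theorem not_mem_tau1_of_tau3 (h : p ∈ tau3 M) : p ∉ tau1 M := fun h' => not_mem_tau3_of_tau1 h' h

omit [Finite G] in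
theorem not_mem_tau2_of_tau3 (h : p ∈ tau3 M) : p ∉ tau2 M := fun h' => not_mem_tau3_of_tau2 h' h

omit [Finite G] in
theorem tau1_sub_primesOf (M : Subgroup G) : tau1 M ⊆ primesOf M := fun _ h => ⟨h.1, h.2.2.1⟩

theorem tau2_sub_primesOf (M : Subgroup G) : tau2 M ⊆ primesOf M := fun p h => by
  refine ⟨h.1, ?_⟩
  by_contra hd
  have := (pRank_eq_zero_iff h.1).2 hd
  have := pRank_of_mem_tau2 h
  omega

omit [Finite G] in
theorem tau3_sub_primesOf (M : Subgroup G) : tau3 M ⊆ primesOf M := fun _ h =>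
  ⟨h.1, h.2.2.1.trans (Subgroup.card_dvd_of_le (NormalIn.der M).le)⟩

theorem tau1_cj (g : G) (M : Subgroup G) : tau1 (cj g M) = tau1 M := by
  ext p; rw [mem_tau1_iff, mem_tau1_iff, sigma_cj, pRank_cj, ← cj_commutator, card_cj]

theorem tau2_cj (g : G) (M : Subgroup G) : tau2 (cj g M) = tau2 M := by
  ext p; rw [mem_tau2_iff, mem_tau2_iff, sigma_cj, pRank_cj]

theorem tau3_cj (g : G) (M : Subgroup G) : tau3 (cj g M) = tau3 M := by
  ext p; rw [mem_tau3_iff, mem_tau3_iff, sigma_cj, pRank_cj, ← cj_commutator, card_cj]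

/-- every prime divisor of `|M|` outside `σ(M)` of rank one lies in `τ₁(M) ∪ τ₃(M)` -/
theorem mem_tau1_or_tau3_iff :
    p ∈ tau1 M ∨ p ∈ tau3 M ↔ p.Prime ∧ p ∉ sigma M ∧ pRank p M = 1 := by
  rw [mem_tau1_iff, mem_tau3_iff]; tauto

theorem mem_tau_of_pRank_le (hp : p ∈ primesOf M) (hs : p ∉ sigma M) (hr : pRank p M ≤ 2) :
    p ∈ tau1 M ∨ p ∈ tau2 M ∨ p ∈ tau3 M := by
  have h0 := (pRank_pos_iff hp.1).2 hp.2
  rcases (by omega : pRank p M = 1 ∨ pRank p M = 2) with h | h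
  · rcases mem_tau1_or_tau3_iff.2 ⟨hp.1, hs, h⟩ with h | h
    · exact Or.inl h
    · exact Or.inr (Or.inr h)
  · exact Or.inr (Or.inl (mem_tau2_iff.2 ⟨hp.1, hs, h⟩))

/-! ### `κ` -/

omit [Finite G] in
theorem prime_of_mem_kappa (h : p ∈ kappa M) : p.Prime := h.1

omit [Finite G] in
theorem not_mem_sigma_of_kappa (h : p ∈ kappa M) : p ∉ sigma M := h.2.2.1

omit [Finite G] in
theorem kappa_sub_sigma_compl (M : Subgroup G) : kappa M ⊆ (sigma M)ᶜ := fun _ h => h.2.2.1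

omit [Finite G] in
theorem kappa_sub_primesOf (M : Subgroup G) : kappa M ⊆ primesOf M := fun _ h => ⟨h.1, h.2.1⟩

omit [Finite G] in
private theorem inf_cent1_ne_bot_iff {K : Subgroup G} {x : G} :
    K ⊓ 𝐂₁(x) ≠ ⊥ ↔ ∃ y ∈ K, y ≠ 1 ∧ x * y = y * x := by
  rw [Subgroup.ne_bot_iff_exists_ne_one]
  constructor
  · rintro ⟨⟨y, hy⟩, h1⟩
    exact ⟨y, hy.1, fun h => h1 (Subtype.ext h), (mem_cent1.1 hy.2).symm⟩
  · rintro ⟨y, hy, h1, hc⟩
    exact ⟨⟨y, hy, mem_cent1.2 hc.symm⟩, fun h => h1 (congrArg Subtype.val h)⟩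

theorem mem_kappa_iff_forall [hp : Fact p.Prime] :
    p ∈ kappa M ↔ p ∣ Nat.card M ∧ p ∉ sigma M ∧ ∀ P, SylowOf p P M →
      IsCyclic P ∧ ∃ x ∈ P, x ≠ 1 ∧ sigmaCore M ⊓ 𝐂₁(x) ≠ ⊥ := by
  refine (and_iff_right hp.out).trans (and_congr_right fun _ => and_congr_right fun _ => ?_)
  have e : ∀ S : Sylow p M, IsCyclic S ↔ IsCyclic ((S : Subgroup M).map M.subtype) := fun S =>
    (Subgroup.equivMapOfInjective _ _ M.subtype_injective).isCyclic
  constructor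
  · intro h P hP
    obtain ⟨S, rfl⟩ := sylowOf_iff_exists.1 hP
    obtain ⟨hc, x, hx, h1, hy⟩ := h S
    exact ⟨(e S).1 hc, x, ⟨x, hx, rfl⟩, fun h => h1 (Subtype.ext h), inf_cent1_ne_bot_iff.2 hy⟩
  · intro h S
    obtain ⟨hc, _, ⟨x, hx, rfl⟩, h1, hy⟩ := h _ (sylowOf_map_subtype S)
    exact ⟨(e S).2 hc, x, hx, fun h => h1 (congrArg Subtype.val h), inf_cent1_ne_bot_iff.1 hy⟩

theorem mem_kappa_iff_sylow [Fact p.Prime] (hP : SylowOf p P M) :
    p ∈ kappa M ↔ p ∉ sigma M ∧ IsCyclic P ∧ ∃ x ∈ P, x ≠ 1 ∧ sigmaCore M ⊓ 𝐂₁(x) ≠ ⊥ := by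
  rw [mem_kappa_iff_forall]
  refine ⟨fun h => ⟨h.2.1, h.2.2 P hP⟩, ?_⟩
  rintro ⟨hs, hc, x, hx, h1, hy⟩
  refine ⟨hP.ne_bot_iff.1 ?_, hs, fun Q hQ => ?_⟩
  · rintro rfl
    exact h1 (Subgroup.mem_bot.1 hx)
  · obtain ⟨g, hg, rfl⟩ := sylow_conj hP hQ
    refine ⟨isCyclic_cj.2 hc, g * x * g⁻¹, conj_mem_cj.2 hx, by simpa using h1, ?_⟩
    rw [← cj_eq_of_mem_norm ((sigmaCore_normal M).norm hg), ← cj_cent1, ← cj_inf]
    exact fun h => hy (cj_eq_bot_iff.1 h)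

theorem pRank_of_mem_kappa (h : p ∈ kappa M) : pRank p M = 1 := by
  have := Fact.mk h.1
  obtain ⟨P, hP⟩ := sylow_exists p M
  rw [← hP.pRank_eq h.1]
  exact pRank_eq_one_of_isCyclic h.1 ((mem_kappa_iff_sylow hP).1 h).2.1
    (dvd_card_of_isPGroup h.1 hP.isPGroup (hP.ne_bot_iff.2 h.2.1))

theorem tau13_of_mem_kappa (h : p ∈ kappa M) : p ∈ tau1 M ∨ p ∈ tau3 M :=
  mem_tau1_or_tau3_iff.2 ⟨h.1, h.2.2.1, pRank_of_mem_kappa h⟩

theorem not_mem_tau2_of_kappa (h : p ∈ kappa M) : p ∉ tau2 M := fun h' => by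
  have := pRank_of_mem_kappa h
  have := pRank_of_mem_tau2 h'
  omega

theorem kappa_cj (g : G) (M : Subgroup G) : kappa (cj g M) = kappa M := by
  ext p
  by_cases hp : p.Prime
  swap
  · exact ⟨fun h => absurd h.1 hp, fun h => absurd h.1 hp⟩
  have := Fact.mk hp
  obtain ⟨P, hP⟩ := sylow_exists p M
  rw [mem_kappa_iff_sylow hP, mem_kappa_iff_sylow (Hall.cj hP g), sigma_cj, isCyclic_cj,
    sigmaCore_cj]
  refine and_congr_right fun _ => and_congr_right fun _ => ⟨?_, ?_⟩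
  · rintro ⟨x, hx, h1, hy⟩
    obtain ⟨y, hy', rfl⟩ := mem_cj'.1 hx
    refine ⟨y, hy', by simpa using h1, ?_⟩
    rw [← cj_cent1, ← cj_inf] at hy
    exact fun h => hy (cj_eq_bot_iff.2 h)
  · rintro ⟨x, hx, h1, hy⟩
    refine ⟨g * x * g⁻¹, conj_mem_cj.2 hx, by simpa using h1, ?_⟩
    rw [← cj_cent1, ← cj_inf]
    exact fun h => hy (cj_eq_bot_iff.1 h)

/-- BG's definition of `κ(M)`, for `M` of odd order -/
theorem mem_kappa_iff (hodd : Odd (Nat.card M)) : p ∈ kappa M ↔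
    (p ∈ tau1 M ∨ p ∈ tau3 M) ∧ ∃ X, ElemN p 1 M X ∧ sigmaCore M ⊓ 𝐂(X) ≠ ⊥ := by
  by_cases hp : p.Prime
  swap
  · exact ⟨fun h => absurd h.1 hp, fun h => absurd (mem_tau1_or_tau3_iff.1 h.1).1 hp⟩
  have := Fact.mk hp
  constructor
  · intro h
    refine ⟨tau13_of_mem_kappa h, ?_⟩
    obtain ⟨P, hP⟩ := sylow_exists p M
    obtain ⟨-, hc, x, hx, h1, hy⟩ := (mem_kappa_iff_sylow hP).1 h
    have hxP : Subgroup.zpowers x ≤ P := Subgroup.zpowers_le.2 hx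
    obtain ⟨X, hX⟩ := exists_elemN_one_of_isPGroup hp (hP.isPGroup.to_le hxP)
      (Subgroup.zpowers_ne_bot.2 h1)
    refine ⟨X, hX.mono (hxP.trans hP.le), fun h0 => hy (le_bot_iff.1 (h0 ▸ inf_le_inf_left _ ?_))⟩
    rw [← cent_zpowers]
    exact cent_anti hX.le
  · rintro ⟨h13, X, hX, hc⟩
    obtain ⟨-, hs, hr⟩ := mem_tau1_or_tau3_iff.1 h13
    obtain ⟨P, hP, hXP⟩ := sylow_superset hX.isPGroup hX.le
    obtain ⟨x, hx, h1, -, rfl⟩ := hX.exists_zpowers hp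
    refine (mem_kappa_iff_sylow hP).2 ⟨hs, ?_, x, hXP hx, h1, by rwa [← cent_zpowers]⟩
    exact isCyclic_of_le_of_pRank_le_one hp hodd hr.le hP.isPGroup hP.le

/-- for `p ∈ κ(M)` every subgroup of order `p` of `M` centralizes a nontrivial element
of `M_σ` -/
theorem kappa_cent_ne_bot (h : p ∈ kappa M) (hX : ElemN p 1 M X) : sigmaCore M ⊓ 𝐂(X) ≠ ⊥ := by
  have := Fact.mk h.1
  obtain ⟨P, hP, hXP⟩ := sylow_superset hX.isPGroup hX.le
  obtain ⟨-, hc, x, hx, h1, hy⟩ := (mem_kappa_iff_sylow hP).1 h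
  have hxP : Subgroup.zpowers x ≤ P := Subgroup.zpowers_le.2 hx
  have hle : X ≤ Subgroup.zpowers x := by
    rw [(hX.of_le hXP).eq_omegaOne_of_isCyclic h.1 hc]
    exact omegaOne_le_of_isCyclic h.1 hc hP.isPGroup hxP (Subgroup.zpowers_ne_bot.2 h1)
  refine fun h0 => hy (le_bot_iff.1 (h0 ▸ inf_le_inf_left _ ?_))
  rw [← cent_zpowers]
  exact cent_anti hle

end CL.BG
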