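import Cfsg.Agent.BG.T11_1
import Cfsg.Agent.BG.T1_5s

/-! BG Corollary 11.2 -/

namespace CL.BG

open Cfsg

variable {G : Type*} [Group G] [Finite G]

/-- BG 11.2 -/
theorem t11_2 (hG : IsMinSimpleOddOrder G) {p : ℕ} [hp : Fact p.Prime] {M A₀ A : Subgroup G}
    (h : Exceptional p M A₀ A) {g : G} (hg : g ∉ M) (hAg : A ≤ cj g M) :
    sigmaCore M ⊓ cj g M = ⊥ ∧ sigmaCore M ⊓ 𝐂(cj g A₀) = ⊥ := by
  have hM := h.coatom
  have ha : sigmaCore M ⊓ cj g M = ⊥ := by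
    by_contra hne
    obtain ⟨q, hq⟩ := primesOf_nonempty hne
    have := Fact.mk hq.1
    have hcop : (Nat.card (sigmaCore M)).Coprime (Nat.card A) :=
      coprime_sigmaCore (h.elem.piGrp hp.out h.not_sigma)
    have hAs : A ≤ 𝐍(sigmaCore M) := le_norm_sigmaCore h.elem.le
    obtain ⟨Q, hQ, hAQ⟩ := t1_5a_sylow q (norms_inf hAs (le_norm_of_le hAg))
      (coprime_card_mono hcop inf_le_left le_rfl) (Or.inr h.elem.solvable)
    have hQ1 : Q ≠ ⊥ := hQ.ne_bot_iff.2 hq.2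
    have hQs : Q ≤ sigmaCore M := hQ.le.trans inf_le_left
    have hQs' : Q ≤ cj g (sigmaCore M) := by
      rw [← sigmaCore_cj]
      refine le_sigmaCore hG (mmax_cj g hM) (hQ.le.trans inf_le_right) ?_
      rw [sigma_cj]
      exact (piGrp_sigmaCore M).of_le hQs
    obtain ⟨Q₁, h₁, hA₁, hl₁⟩ := t1_5b_sylow hAs hcop (Or.inr h.elem.solvable) hQs hQ.isPGroup hAQ
    obtain ⟨Q₂, h₂, hA₂, hl₂⟩ := t1_5b_sylow (A := A) (H := cj g (sigmaCore M))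
      (by rw [← sigmaCore_cj]; exact le_norm_sigmaCore hAg) (by rwa [card_cj])
      (Or.inr h.elem.solvable) hQs' hQ.isPGroup hAQ
    exact hQ1 (le_bot_iff.1 ((t11_1 hG h hg hAg h₁ hA₁ h₂ hA₂).1 ▸ le_inf hl₁ hl₂))
  refine ⟨ha, ?_⟩
  rw [eq_bot_iff, ← ha, ← cj_cent]
  exact inf_le_inf_left _ (cj_mono g ((cent_le_norm A₀).trans h.norm₀))

end CL.BG
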