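import Cfsg.Agent.Base
import Cfsg.Agent.BG.Defs
import Cfsg.Agent.BG.Prod
import Cfsg.Agent.Solv.FpfAction

set_option autoImplicit false

namespace CL.BG

open Cfsg Subgroup

variable {G : Type*} [Group G] [Finite G]

/-- BG 3.3, contrapositive form without nontriviality assumptions. -/
theorem t3_3_cent {K R V : Subgroup G} (hRK : R ≤ 𝐍(K)) (hreg : Semiregular K R)
    (hV : IsMulCommutative V) (hKV : K ≤ 𝐍(V)) (hRV : R ≤ 𝐍(V))
    (hcop : (Nat.card V).Coprime (Nat.card K)) (hC : V ⊓ 𝐂(R) = ⊥) : K ≤ 𝐂(V) :=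
  CL.Frob.le_centralizer_of_frobenius hRK hreg hKV hRV hcop hC

/-- BG 3.3, internal form: a Frobenius group `L = K R` acts on an abelian group `V` of order prime
to `|K|`, and `K` acts nontrivially.  Then `C_V(R) ≠ 1`. -/
theorem t3_3 {K R L V : Subgroup G} (hF : Frob K R L) (hV : IsMulCommutative V)
    (hLV : L ≤ 𝐍(V)) (hcop : (Nat.card V).Coprime (Nat.card K)) (hKV : ¬ K ≤ 𝐂(V)) :
    V ⊓ 𝐂(R) ≠ ⊥ := fun h =>
  hKV (t3_3_cent hF.sdp.norm hF.reg hV (hF.sdp.left_le.trans hLV) (hF.sdp.right_le.trans hLV)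
    hcop h)

end CL.BG
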