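import Cfsg.Agent.Base
import Cfsg.Agent.BG.Frob
import Cfsg.Agent.BG.Fit
import Cfsg.Agent.BG.QuotPi
import Cfsg.Agent.BG.T1_5s
import Cfsg.Agent.BG.T1_8
import Cfsg.Agent.BG.T3_3

/-!
# Reduction of coprime centralisation statements to elementary abelian sections
-/

set_option autoImplicit false

namespace CL.BG

open Cfsg Subgroup

variable {G : Type*} [Group G] [Finite G]

/-- To show that `A ≤ L` centralises `V` (coprime action of `L` on `V`) it suffices to show that it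
centralises the Frattini quotients of the `L`-invariant `p`-subgroups of `V`. -/
theorem red_cent_of_phi_quot {L V A : Subgroup G} (hLV : L ≤ 𝐍(V)) (hA : A ≤ L)
    (hcop : (Nat.card V).Coprime (Nat.card L))
    (hsol : Group.IsSolvable V ∨ Group.IsSolvable L)
    (h : ∀ p : ℕ, p.Prime → ∀ P : Subgroup G, P ≤ V → IsPGroup p P → p ∣ Nat.card P → L ≤ 𝐍(P) →
      quot (frattiniOf P) A ≤ 𝐂(quot (frattiniOf P) P)) : A ≤ 𝐂(V) := by
  refine cent_symm (le_of_forall_exists_sylow_le fun p hp hd => ?_)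
  have : Fact p.Prime := ⟨hp⟩
  obtain ⟨P, hP, hLP⟩ := t1_5a_sylow p hLV hcop hsol
  refine ⟨P, hP, cent_symm (t1_8 (coprime_card_mono hcop hP.hall.le hA) ?_)⟩
  have h1 := h p hp P hP.hall.le hP.isPGroup
    ((hP.hall.dvd_card_iff hp (Set.mem_singleton p)).2 hd) hLP
  rw [quot_le_centralizer_iff (hA.trans (norms_phi hLP)) (phi_normal P).norm] at h1
  rwa [commutator_comm]

/-- fixed points in the Frattini quotient of an invariant subgroup -/
theorem red_quot_phi_cent_eq_bot {R V P : Subgroup G} (hP : P ≤ V) (hRP : R ≤ 𝐍(P))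
    (hcop : (Nat.card V).Coprime (Nat.card R)) (hC : V ⊓ 𝐂(R) = ⊥) :
    quot (frattiniOf P) P ⊓ 𝐂(quot (frattiniOf P) R) = ⊥ := by
  rw [← quot_inf_cent_of_coprime' (phi_normal P).norm (norms_phi hRP) hRP
    (coprime_card_mono hcop ((phi_le P).trans hP) le_rfl) (Or.inl (solvable_of_nil (phi_nil P)))]
  have : P ⊓ 𝐂(R) = ⊥ := le_bot_iff.1 (hC ▸ inf_le_inf_right _ hP)
  rw [this, quot_bot]

/-- BG 3.3 for a not necessarily abelian `V`: if `R` acts regularly on `K`, `K R` acts coprimely on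
`V` and `C_V(R) = 1`, then `K` centralises `V`. -/
theorem t3_3_sol {K R V : Subgroup G} (hRK : R ≤ 𝐍(K)) (hreg : Semiregular K R)
    (hKV : K ≤ 𝐍(V)) (hRV : R ≤ 𝐍(V)) (hcK : (Nat.card V).Coprime (Nat.card K))
    (hcR : (Nat.card V).Coprime (Nat.card R))
    (hsol : Group.IsSolvable V ∨ Group.IsSolvable ↥(K ⊔ R)) (hC : V ⊓ 𝐂(R) = ⊥) : K ≤ 𝐂(V) := by
  have hcop : (Nat.card V).Coprime (Nat.card ↥(K ⊔ R)) :=
    (Nat.Coprime.mul_right hcK hcR).coprime_dvd_right (card_sup_dvd hRK)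
  refine red_cent_of_phi_quot (sup_le hKV hRV) le_sup_left hcop hsol fun p hp P hP hPp _ hLP => ?_
  have : Fact p.Prime := ⟨hp⟩
  have hKP : K ≤ 𝐍(P) := le_sup_left.trans hLP
  have hRP : R ≤ 𝐍(P) := le_sup_right.trans hLP
  refine t3_3_cent (quot_normalizer _ hRK) (hreg.quot (norms_phi hKP) hRK ?_)
    (quot_phi_elem hPp).1 (quot_normalizer _ hKP) (quot_normalizer _ hRP)
    (quot_coprime _ (coprime_card_mono hcK hP le_rfl)) (red_quot_phi_cent_eq_bot hP hRP hcR hC)
  exact coprime_card_mono hcR (inf_le_left.trans ((phi_le P).trans hP)) le_rfl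

/-- a nontrivial group acted on coprimely by a solvable group has a nontrivial invariant
elementary abelian subgroup -/
theorem red_exists_inv_elem {H R : Subgroup G} (hH : H ≠ ⊥) (hRH : R ≤ 𝐍(H))
    (hcop : (Nat.card H).Coprime (Nat.card R))
    (hsol : Group.IsSolvable H ∨ Group.IsSolvable R) :
    ∃ V : Subgroup G, V ≤ H ∧ V ≠ ⊥ ∧ IsMulCommutative V ∧ R ≤ 𝐍(V) := by
  obtain ⟨p, hp, hd⟩ := exists_prime_dvd_card hH
  have : Fact p.Prime := ⟨hp⟩
  obtain ⟨P, hP, hRP⟩ := t1_5a_sylow p hRH hcop hsol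
  exact ⟨𝐙(P), inf_le_left.trans hP.hall.le,
    nil_center_ne_bot (nil_of_isPGroup hP.isPGroup) (hP.ne_bot_iff.2 hd), comm_center P,
    norms_center hRP⟩

end CL.BG
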