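import Cfsg.Agent.BG.Defs
import Cfsg.Agent.Solv.HallInv

set_option autoImplicit false
open Cfsg Subgroup

namespace CL.BG
variable {G : Type*} [Group G] [Finite G]

/-- BG 1.5(a) (`coprime_Hall_exists`). -/
theorem t1_5a (π : Set ℕ) {A H : Subgroup G} (hA : A ≤ 𝐍(H))
    (hcop : (Nat.card H).Coprime (Nat.card A)) (hsol : Group.IsSolvable H) :
    ∃ X : Subgroup G, Hall π X H ∧ A ≤ 𝐍(X) :=
  CL.Hall.exists_invariant π hA hcop.symm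

/-- BG 1.5(b) (`coprime_Hall_subset`). -/
theorem t1_5b {π : Set ℕ} {A H X : Subgroup G} (hA : A ≤ 𝐍(H))
    (hcop : (Nat.card H).Coprime (Nat.card A)) (hsol : Group.IsSolvable H)
    (hXH : X ≤ H) (hX : PiGrp π X) (hAX : A ≤ 𝐍(X)) :
    ∃ Y : Subgroup G, Hall π Y H ∧ A ≤ 𝐍(Y) ∧ X ≤ Y :=
  CL.Hall.exists_invariant_ge hA hcop.symm hXH hX hAX

/-- BG 1.5(c) (`coprime_Hall_trans`). -/
theorem t1_5c {π : Set ℕ} {A H X Y : Subgroup G} (hA : A ≤ 𝐍(H))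
    (hcop : (Nat.card H).Coprime (Nat.card A)) (hsol : Group.IsSolvable H)
    (hX : Hall π X H) (hAX : A ≤ 𝐍(X)) (hY : Hall π Y H) (hAY : A ≤ 𝐍(Y)) :
    ∃ c ∈ H ⊓ 𝐂(A), cj c X = Y :=
  CL.Hall.invariant_conj hA hcop.symm hX hAX hY hAY

/-- BG 1.5(e) (`coprime_comm_pcore`). -/
theorem t1_5e {π : Set ℕ} {A H K : Subgroup G} (hA : A ≤ 𝐍(H))
    (hcop : (Nat.card H).Coprime (Nat.card A)) (hsol : Group.IsSolvable H)
    (hK : Hall πᶜ K H) (hKA : K ≤ 𝐂(A)) : ⁅H, A⁆ ≤ piCoreOf π H :=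
  CL.Hall.commutator_le_piCore hA hcop.symm hK hKA

end CL.BG
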