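import Cfsg.Agent.Base
import Cfsg.Agent.BG.Defs
import Cfsg.Agent.BG.A3_Red
import Cfsg.Agent.BG.T1_5

set_option autoImplicit false

namespace CL.BG

open Cfsg Subgroup
open scoped commutatorElement

variable {G : Type*} [Group G] [Finite G]

/-- Criterion used in BG 3.7 and 3.8: if `K = H Q` with `Q` a `q`-group centralising
`O_{q'}(F(K))` and `H` centralising `O_q(K)`, then `Q ≤ F(K)`. -/
theorem t3_le_fit_of_cent {q : ℕ} [hq : Fact q.Prime] {K H Q : Subgroup G}
    (hsol : Group.IsSolvable K) (hs : H ⊔ Q = K) (hQ : IsPGroup q Q)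
    (hQc : Q ≤ 𝐂(piCoreOf {q}ᶜ (fittingOf K))) (hHc : H ≤ 𝐂(piCoreOf {q} (fittingOf K))) :
    Q ≤ fittingOf K := by
  have hH : H ≤ K := hs ▸ le_sup_left
  have hQK : Q ≤ K := hs ▸ le_sup_right
  have hdp := nil_core_dp (fit_nil K) {q}
  have n1 : K ≤ 𝐍(piCoreOf {q} (fittingOf K)) := (core_fit_normal _ K).norm
  have n2 : K ≤ 𝐍(piCoreOf {q}ᶜ (fittingOf K)) := (core_fit_normal _ K).norm
  have h1 : ⁅H, Q⁆ ≤ fittingOf K := by
    refine le_fit_of_le_cent hsol ((commutator_mono hH hQK).trans (NormalIn.der K).le) ?_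
    rw [← hdp.sup, cent_sup]
    refine le_inf ?_ ?_
    · exact (commutator_mono hHc le_rfl).trans
        (commutator_le_left_of_norm (norms_cent (hQK.trans n1)))
    · exact (commutator_mono le_rfl hQc).trans
        (commutator_le_right_of_norm (norms_cent (hH.trans n2)))
  have hQF : Q ≤ 𝐍(fittingOf K) := hQK.trans (fit_normal K).norm
  have h2 : fittingOf K ⊔ Q ⊴ K := by
    refine ⟨sup_le (fit_le K) hQK, ?_⟩
    rw [← hs]
    refine sup_le ?_ (le_norm_of_le le_sup_right)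
    rw [hs]
    rw [le_normalizer_iff_commutator_le_left]
    intro x hx
    refine closure_induction (fun y hy => ?_) (one_mem _) (fun _ _ _ _ => mul_mem)
      (fun _ _ => inv_mem) hx
    obtain ⟨a, ha, b, hb, rfl⟩ := hy
    obtain ⟨f, hf, u, hu, rfl⟩ := (mem_sup_iff_of_norm hQF).1 ha
    have e : ⁅f * u, b⁆ = f * (u * b * u⁻¹ * b⁻¹) * (b * f⁻¹ * b⁻¹) := by
      simp only [commutatorElement_def]; group
    rw [e]
    refine mem_sup_left (mul_mem (mul_mem hf (h1 ?_)) ((fit_normal K).conj_mem (hH hb) (inv_mem hf)))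
    rw [commutator_comm]
    exact commutator_mem_commutator hu hb
  have h3 : Group.IsNilpotent ↥(fittingOf K ⊔ Q) := by
    have e : fittingOf K ⊔ Q = piCoreOf {q}ᶜ (fittingOf K) ⊔ (piCoreOf {q} (fittingOf K) ⊔ Q) := by
      rw [← sup_assoc, sup_comm (piCoreOf {q}ᶜ _), hdp.sup]
    rw [e]
    refine nil_sup_of_cent (nilpotent_of_le (fit_nil K) (piCoreOf_le _ _))
      (nil_of_isPGroup (isPGroup_sup_of_norm (isPGroup_piCoreOf hq.out _) hQ
        (Or.inl (hQK.trans n1)))) (sup_le (cent_symm hdp.cent) hQc)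
  exact le_sup_right.trans (le_fit h2 h3)

/-- A solvable group on which a nontrivial group acts regularly is nilpotent. -/
theorem t3_7_semireg {K R : Subgroup G} (hRK : R ≤ 𝐍(K)) (hsol : Group.IsSolvable K)
    (hR : R ≠ ⊥) (hreg : Semiregular K R) : Group.IsNilpotent K := by
  have hcop := hreg.coprime hRK
  have hC : K ⊓ 𝐂(R) = ⊥ := hreg.inf_cent_eq_bot le_rfl hR
  have key : ∀ (π : Set ℕ) (X : Subgroup G), X ≤ K → R ≤ 𝐍(X) → PiGrp πᶜ X →
      X ≤ 𝐂(piCoreOf π (fittingOf K)) := by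
    intro π X hX hRX hπ
    have hle : piCoreOf π (fittingOf K) ≤ K := (core_fit_normal π K).le
    exact t3_3_sol hRX (hreg.mono_left hX) (hX.trans (core_fit_normal π K).norm)
      (norms_piCoreOf π (norms_fit hRK)) ((piGrp_piCoreOf π _).coprime hπ)
      (coprime_card_mono hcop hle le_rfl) (Or.inl (solvable_of_le hsol hle))
      (le_bot_iff.1 (hC ▸ inf_le_inf_right _ hle))
  refine nil_of_le_fit (H := K) (le_of_forall_exists_sylow_le fun q hq _ => ?_)
  have : Fact q.Prime := ⟨hq⟩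
  obtain ⟨Q, hQ, hRQ⟩ := t1_5a {q} hRK hcop hsol
  obtain ⟨H, hH, hRH⟩ := t1_5a {q}ᶜ hRK hcop hsol
  refine ⟨Q, hQ, t3_le_fit_of_cent (H := H) hsol ?_ (hQ.pi.isPGroup hq)
    (key _ Q hQ.le hRQ (piGrp_compl_compl.2 hQ.pi)) (key _ H hH.le hRH hH.pi)⟩
  rw [sup_comm]
  exact hQ.sup_eq hH

/-- BG 3.7 (Coq `prime_Frobenius_sol_kernel_nil`): a solvable group with a fixed-point-free
operator group of prime order is nilpotent. -/
theorem t3_7 {K R : Subgroup G} (hRK : R ≤ 𝐍(K)) (hsol : Group.IsSolvable K)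
    (hR : (Nat.card R).Prime) (hKR : K ⊓ 𝐂(R) = ⊥) : Group.IsNilpotent K :=
  t3_7_semireg hRK hsol (ne_bot_of_card_prime hR) (semiregular_of_card_prime hR hKR)

/-- Coq `Frobenius_sol_kernel_nil`. -/
theorem t3_7_frob {K R L : Subgroup G} (hF : Frob K R L) (hsol : Group.IsSolvable K) :
    Group.IsNilpotent K := t3_7_semireg hF.norm hsol hF.compl_ne hF.reg

end CL.BG
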