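import Cfsg.Agent.BG.T11_0
import Cfsg.Agent.BG.T11_2
import Cfsg.Agent.BG.T3_7
import Cfsg.Agent.BG.Sigma

/-! BG Theorem 11.3 -/

namespace CL.BG

open Cfsg

variable {G : Type*} [Group G] [Finite G]

/-- an element outside `M` normalising a Sylow `p`-subgroup of `M` -/
theorem Exceptional.exists_norm_not_mem {p : ℕ} [Fact p.Prime] {M A₀ A : Subgroup G}
    (h : Exceptional p M A₀ A) {P : Subgroup G} (hP : SylowOf p P M) :
    ∃ g ∈ 𝐍(P), g ∉ M := by
  by_contra hcon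
  push Not at hcon
  exact h.not_norm_le hP hcon

omit [Finite G] in
theorem le_cj_of_mem_norm {P M A : Subgroup G} {g : G} (hg : g ∈ 𝐍(P)) (hAP : A ≤ P)
    (hPM : P ≤ M) : A ≤ cj g M :=
  hAP.trans ((cj_eq_of_mem_norm hg).symm.le.trans (cj_mono g hPM))

/-- BG 11.3 -/
theorem t11_3 (hG : IsMinSimpleOddOrder G) {p : ℕ} [hp : Fact p.Prime] {M A₀ A : Subgroup G}
    (h : Exceptional p M A₀ A) : Group.IsNilpotent (sigmaCore M) := by
  obtain ⟨P, hP, hAP⟩ := sylow_superset h.elem.isPGroup h.elem.le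
  obtain ⟨g, hg, hgM⟩ := h.exists_norm_not_mem hP
  have h2 := (t11_2 hG h hgM (le_cj_of_mem_norm hg hAP hP.le)).2
  refine t3_7 (le_norm_sigmaCore ((cj_le_of_mem_norm hg (h.le.trans hAP)).trans hP.le))
    (mmax_sub_sol hG h.coatom (sigmaCore_le M)) ?_ h2
  rw [card_cj]
  exact h.elem₀.card_prime hp.out

end CL.BG
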