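import Cfsg.Agent.BG.Prod
import Cfsg.Agent.Solv.CoprimeGen

set_option autoImplicit false
open Cfsg Subgroup

namespace CL.BG
variable {G : Type*} [Group G] [Finite G]

/-- BG 1.16, first assertion (`coprime_abelian_gen_cent1`), as an induction principle: a subgroup
containing all the `C_H(a)`, `a ∈ A^#`, contains `H`. -/
theorem t1_16a {A H : Subgroup G} (hab : IsMulCommutative A) (hnc : ¬ IsCyclic A) (hA : A ≤ 𝐍(H))
    (hcop : (Nat.card H).Coprime (Nat.card A)) {L : Subgroup G}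
    (h : ∀ a ∈ A, a ≠ 1 → H ⊓ 𝐂₁(a) ≤ L) : H ≤ L := CL.coprime_le_of_not_isCyclic hnc hA hcop.symm L h

/-- BG 1.16, second assertion (`coprime_abelian_gen_cent`): a subgroup containing `C_H(B)` for
all `B ≤ A` with `A / B` cyclic contains `H`. -/
theorem t1_16b {A H : Subgroup G} (hab : IsMulCommutative A) (hA : A ≤ 𝐍(H))
    (hcop : (Nat.card H).Coprime (Nat.card A)) {L : Subgroup G}
    (h : ∀ B : Subgroup G, B ≤ A → (∃ a ∈ A, B ⊔ zpowers a = A) → H ⊓ 𝐂(B) ≤ L) : H ≤ L := CL.coprime_le_of_cocyclic hA hcop.symm L h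

end CL.BG
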