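import Cfsg.Agent.BG.T11_1
import Cfsg.Agent.BG.T11_3
import Cfsg.Agent.BG.T10_2
import Cfsg.Agent.BG.T10_13
import Cfsg.Agent.BG.T1_5s
import Cfsg.Agent.BG.T1_16

/-! BG Theorem 11.5 -/

namespace CL.BG

open Cfsg

variable {G : Type*} [Group G] [Finite G]

/-- a noncyclic elementary abelian group does not act regularly on a nontrivial coprime group -/
theorem exists_elemN_inf_cent_ne_bot {p n : ℕ} (hp : p.Prime) {H A Q : Subgroup G}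
    (hA : ElemN p n H A) (hn : 2 ≤ n) (hQ : Q ≠ ⊥) (hAQ : A ≤ 𝐍(Q))
    (hcop : (Nat.card Q).Coprime (Nat.card A)) : ∃ X, ElemN p 1 A X ∧ Q ⊓ 𝐂(X) ≠ ⊥ := by
  by_contra hcon
  push Not at hcon
  refine hQ (le_bot_iff.1 (t1_16a hA.comm (hA.not_isCyclic hp hn) hAQ hcop fun a ha ha1 => ?_))
  rw [← cent_zpowers, hcon _ (hA.zpowers hp ha ha1)]

/-- BG 11.5 -/
theorem t11_5 (hG : IsMinSimpleOddOrder G) {p : ℕ} [hp : Fact p.Prime] {M A₀ A : Subgroup G}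
    (h : Exceptional p M A₀ A) {P : Subgroup G} (hP : SylowOf p P M) : IsMulCommutative P := by
  -- reduce to a Sylow subgroup containing `A`
  obtain ⟨S, hS, hAS⟩ := sylow_superset h.elem.isPGroup h.elem.le
  obtain ⟨m, -, rfl⟩ := sylow_conj hS hP
  rw [comm_cj]
  clear hP
  by_contra hnc
  obtain ⟨g, hg, hgM⟩ := h.exists_norm_not_mem hS
  obtain ⟨q, hq⟩ := sigma_nonempty hG h.coatom
  have := Fact.mk (prime_of_mem_sigma hq)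
  have hcop : (Nat.card (sigmaCore M)).Coprime (Nat.card S) :=
    coprime_sigmaCore (piGrp_of_isPGroup hp.out hS.isPGroup h.not_sigma)
  obtain ⟨Q, hQ, hSQ⟩ := t1_5a_sylow q (le_norm_sigmaCore hS.le) hcop
    (Or.inl (mmax_sub_sol hG h.coatom (sigmaCore_le M)))
  have hQ1 : Q ≠ ⊥ := sigma_sylow_ne_bot hq ((sylowOf_sigmaCore_iff hG h.coatom hq).1 hQ)
  have hSQ' : S ≤ 𝐍(cj g Q) := by
    rw [← cj_norm]; exact le_cj_of_mem_norm hg le_rfl hSQ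
  have hcopQ : (Nat.card Q).Coprime (Nat.card A) := coprime_card_mono hcop hQ.le hAS
  obtain ⟨X₁, hX₁, hC₁⟩ := exists_elemN_inf_cent_ne_bot hp.out h.elem le_rfl hQ1
    (hAS.trans hSQ) hcopQ
  obtain ⟨X₂, hX₂, hC₂⟩ := exists_elemN_inf_cent_ne_bot (Q := cj g Q) hp.out h.elem le_rfl
    (by rwa [Ne, cj_eq_bot_iff]) (hAS.trans hSQ') (by rwa [card_cj])
  have h1 := (t11_1 hG h hgM (le_cj_of_mem_norm hg hAS hS.le) hQ (hAS.trans hSQ)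
    (hQ.hall.cj g) (hAS.trans hSQ')).2
  have r₁ : cj g Q ⊓ 𝐂(X₁) = ⊥ := (h1 X₁ hX₁).resolve_left hC₁
  have r₂ : Q ⊓ 𝐂(X₂) = ⊥ := (h1 X₂ hX₂).resolve_right hC₂
  obtain ⟨-, -, htr⟩ := t10_13 hG h.elem.top (h.maxElem hG) hS.isPGroup hAS hnc
  have hZ : cj g (omegaOne p 𝐙(S)) = omegaOne p 𝐙(S) :=
    cj_eq_of_mem_norm (norm_le_norm_omegaOne_center p S hg)
  have hZ' : cj g Q ⊓ 𝐂(omegaOne p 𝐙(S)) = cj g (Q ⊓ 𝐂(omegaOne p 𝐙(S))) := by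
    rw [cj_inf, cj_cent, hZ]
  have n₁ : X₁ ≠ omegaOne p 𝐙(S) := by
    rintro rfl
    rw [hZ', cj_eq_bot_iff] at r₁
    exact hC₁ r₁
  have n₂ : X₂ ≠ omegaOne p 𝐙(S) := by
    rintro rfl
    rw [hZ', r₂, cj_bot] at hC₂
    exact hC₂ rfl
  obtain ⟨x, hx, rfl⟩ := htr X₁ X₂ hX₁ n₁ hX₂ n₂
  rw [← cj_eq_of_mem_norm (hSQ hx.1), ← cj_cent, ← cj_inf, cj_eq_bot_iff] at r₂
  exact hC₁ r₂

end CL.BG
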