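import Cfsg.Agent.BG.T11_5

/-! BG Corollary 11.6 -/

namespace CL.BG

open Cfsg

variable {G : Type*} [Group G] [Finite G]

/-- BG 11.6(a) -/
theorem t11_6a (hG : IsMinSimpleOddOrder G) {p : ℕ} [hp : Fact p.Prime] {M A₀ A : Subgroup G}
    (h : Exceptional p M A₀ A) {P : Subgroup G} (hP : SylowOf p P M) (hAP : A ≤ P) :
    A = omegaOne p P :=
  (h.elem.of_le hAP).eq_omegaOne_of_comm hp.out (t11_5 hG h hP)
    ((pRank_mono hp.out hP.le).trans (h.pRank_eq hG).le)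

/-- BG 11.6(c) -/
theorem t11_6c (hG : IsMinSimpleOddOrder G) {p : ℕ} [Fact p.Prime] {M A₀ A : Subgroup G}
    (h : Exceptional p M A₀ A) :
    ∃ A₁ A₂ : Subgroup G, ElemN p 1 A A₁ ∧ ElemN p 1 A A₂ ∧ A₁ ≠ A₂ ∧
      sigmaCore M ⊓ 𝐂(A₁) = ⊥ ∧ sigmaCore M ⊓ 𝐂(A₂) = ⊥ := by
  obtain ⟨P, hP, hAP⟩ := sylow_superset h.elem.isPGroup h.elem.le
  obtain ⟨g, hg, hgM⟩ := h.exists_norm_not_mem hP
  have hNA : 𝐍(P) ≤ 𝐍(A) := by
    rw [t11_6a hG h hP hAP]; exact norm_le_norm_omegaOne p P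
  have hA₀ : ElemN p 1 A A₀ := h.elem₀.of_le h.le
  refine ⟨cj g A₀, cj g⁻¹ A₀, hA₀.cj_of_mem_norm (hNA hg), hA₀.cj_of_mem_norm (hNA (inv_mem hg)),
    fun he => hgM ?_, (t11_2 hG h hgM (le_cj_of_mem_norm hg hAP hP.le)).2,
    (t11_2 hG h (fun hi => hgM (by simpa using inv_mem hi))
      (le_cj_of_mem_norm (inv_mem hg) hAP hP.le)).2⟩
  have h2 : g * g ∈ M := by
    refine h.norm₀ (cj_eq_iff_mem_norm.1 ?_)
    rw [cj_mul, he, cj_cj_inv]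
  obtain ⟨k, hk⟩ := mFT_odd_orderOf hG g
  have : g = (g * g) ^ (k + 1) := by
    rw [← sq, ← pow_mul, show 2 * (k + 1) = orderOf g + 1 by omega, pow_succ, pow_orderOf_eq_one,
      one_mul]
  rw [this]
  exact pow_mem h2 _

/-- BG 11.6(b) -/
theorem t11_6b (hG : IsMinSimpleOddOrder G) {p : ℕ} [Fact p.Prime] {M A₀ A : Subgroup G}
    (h : Exceptional p M A₀ A) : sigmaCore M ⊓ 𝐂(A) = ⊥ := by
  obtain ⟨A₁, -, h₁, -, -, hc, -⟩ := t11_6c hG h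
  rw [eq_bot_iff, ← hc]
  exact inf_le_inf_left _ (cent_anti h₁.le)

end CL.BG
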