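import Cfsg.Agent.BG.Prod
import Cfsg.Agent.Solv.Coprime

set_option autoImplicit false
open Cfsg Subgroup

namespace CL.BG
variable {G : Type*} [Group G] [Finite G]

/-- BG 1.5(d), subgroup form of `strongest_coprime_quotient_cent`: a subgroup `X` of `H`
centralised by `A` modulo `K` lies in `C_H(A) (K ∩ H)`. -/
theorem t1_5d {A H K X : Subgroup G} (hAH : A ≤ 𝐍(H)) (hAK : A ≤ 𝐍(K))
    (hcop : (Nat.card ↥(K ⊓ ⁅H, A⁆)).Coprime (Nat.card A))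
    (hsol : Group.IsSolvable ↥(K ⊓ ⁅H, A⁆) ∨ Group.IsSolvable A)
    (hXH : X ≤ H) (hXK : X ≤ 𝐍(K)) (hX : ⁅X, A⁆ ≤ K) :
    ∀ x ∈ X, ∃ k ∈ K ⊓ ⁅H, A⁆, ∃ c ∈ H ⊓ 𝐂(A), x = k * c := by
  intro x hx
  refine CL.coprime_fixed_mod (norms_inf hAK (norms_commutator hAH (le_norm_self A))) hcop.symm
    hsol.symm (inf_le_right.trans (commutator_le_left_of_norm hAH)) (hXH hx) fun a ha => ?_
  have h1 : a * x * a⁻¹ * x⁻¹ ∈ ⁅X, A⁆ := by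
    rw [commutator_comm]
    exact commutator_mem_commutator ha hx
  exact ⟨hX h1, commutator_mono hXH le_rfl h1⟩

/-- `coprime_cent_mulG`: `C_{KH}(A) = C_K(A) C_H(A)`. -/
theorem coprime_cent_sup {A H K : Subgroup G} (hAH : A ≤ 𝐍(H)) (hAK : A ≤ 𝐍(K)) (hHK : H ≤ 𝐍(K))
    (hcop : (Nat.card K).Coprime (Nat.card A))
    (hsol : Group.IsSolvable K ∨ Group.IsSolvable A) :
    (K ⊔ H) ⊓ 𝐂(A) = (K ⊓ 𝐂(A)) ⊔ (H ⊓ 𝐂(A)) := by
  refine le_antisymm ?_ (sup_le (inf_le_inf_right _ le_sup_left) (inf_le_inf_right _ le_sup_right))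
  rintro x ⟨hx, hc⟩
  obtain ⟨k, hk, y, hy, rfl⟩ := (mem_sup_iff_of_norm hHK).1 hx
  obtain ⟨k', hk', y', hy', he⟩ :=
    CL.coprime_centralizer_mul hcop.symm hsol.symm le_rfl hAK hAH hk hy hc
  rw [he]
  exact mul_mem_sup hk' hy'

end CL.BG
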