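import Cfsg.Agent.BG.T10_2
import Cfsg.Agent.BG.T10_10
import Cfsg.Agent.BG.T3_7
import Cfsg.Agent.BG.T1_6
import Cfsg.Agent.BG.T1_5d
import Cfsg.Agent.BG.PAmb

/-! BG Proposition 10.11 -/

namespace CL.BG

open Cfsg

variable {G : Type*} [Group G] [Finite G]

/-- BG 10.11(a) -/
theorem t10_11a (hG : IsMinSimpleOddOrder G) {M : Subgroup G} (hM : IsCoatom M) {K : Subgroup G}
    (hKM : K ≤ M) (hK : PiGrp (sigma M)ᶜ K) : ¬ InUniqueMaximal K := by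
  intro hU
  obtain ⟨E, hE, hKE⟩ := hall_superset (mmax_sol hG hM) hKM hK
  have hE1 : E ≠ ⊥ := ne_bot_of_le (inU_ne_bot hG hU) hKE
  obtain ⟨p, pp, hpE, hmax⟩ := exists_max_prime_dvd_card hE1
  have := Fact.mk pp
  have hr : rank (fittingOf E) ≤ 2 :=
    (rank_mono (fit_le E)).trans (rank_le_two_of_sigma_compl hG hM hE.le hE.pi)
  have hP := t4_20c_max (mmax_sub_sol hG hM hE.le) (mFT_odd hG E) hr hmax
  have hpσ : p ∈ (sigma M)ᶜ := hE.pi.mem ⟨pp, hpE⟩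
  refine not_norm_le_of_not_mem_sigma hM.1 hpσ (hP.trans_hall hE hpσ) ?_
  exact (inU_uniqMax hU hM hKM).le_of_le (hKE.trans (le_norm_piCoreOf _ _))
    (mFT_norm_pgroup_ne_top hG hP.isPGroup (hP.ne_bot_iff.2 hpE))

/-- An `A`-invariant Sylow `q`-subgroup of `G` is a maximal `A`-invariant `q`-subgroup. -/
theorem sylow_mem_maxInv {q : ℕ} [hq : Fact q.Prime] {A Q : Subgroup G} (hQ : SylowOf q Q ⊤)
    (hA : A ≤ 𝐍(Q)) : Q ∈ maxInvSubgroups ⊤ A {q} :=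
  mem_maxInvSubgroups.2 ⟨mem_invSubgroups.2 ⟨le_top, hQ.hall.pi, hA⟩, fun _ hR hQR =>
    hQ.eq_of_le' ((mem_invSubgroups.1 hR).2.1.isPGroup hq.out) hQR le_top⟩

/-- BG 10.11(b) -/
theorem t10_11b (hG : IsMinSimpleOddOrder G) {M : Subgroup G} (hM : IsCoatom M) {K : Subgroup G}
    (hKM : K ≤ M) (hK : PiGrp (sigma M)ᶜ K) : rank (K ⊓ 𝐂(sigmaCore M)) ≤ 1 := by
  by_contra hr
  obtain ⟨p, pp, A, hA⟩ := (le_rank_iff (n := 2)).1 (not_le.1 hr)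
  have := Fact.mk pp
  have hAK : A ≤ K := hA.le.trans inf_le_left
  have hAC : A ≤ 𝐂(sigmaCore M) := hA.le.trans inf_le_right
  have hpσ : p ∉ sigma M := hK.mem ((hA.of_le hAK).mem_primesOf pp two_pos)
  have hAU : ¬ InUniqueMaximal A := t10_11a hG hM (hAK.trans hKM) (hK.of_le hAK)
  have hrC : rank 𝐂(A) ≤ 2 := by
    by_contra h
    exact hAU (t9_6b hG (hA.rank_eq pp).ge (not_le.1 h))
  have hAm : MaxElem p ⊤ A := by
    by_contra h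
    exact hAU (t9_6c hG hA.top h)
  have hα : alpha M = ∅ := by
    rw [Set.eq_empty_iff_forall_notMem]
    intro r hrα
    have rr := prime_of_mem_alpha hrα
    have h1 := (mem_alpha_iff' rr).1 hrα
    rw [← (t10_2b hG hM).pRank_eq rr (alpha_sub_sigma hG hM hrα)] at h1
    have h2 := (pRank_le_rank rr _).trans ((rank_mono (cent_symm hAC)).trans hrC)
    omega
  have hnil : Group.IsNilpotent ↥⁅M, M⁆ :=
    t10_2d hG hM le_rfl (by rw [hα, Set.compl_empty]; exact fun _ _ _ => Set.mem_univ _)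
  obtain ⟨q, hqσ⟩ := sigma_nonempty hG hM
  have := Fact.mk (prime_of_mem_sigma hqσ)
  obtain ⟨Q, hQ⟩ := sylow_exists q M
  have hQσ : SylowOf q Q (sigmaCore M) := (sylowOf_sigmaCore_iff hG hM hqσ).2 hQ
  have hQC : Q ≤ 𝐂(A) := hQσ.le.trans (cent_symm hAC)
  have hQ1 := sigma_sylow_ne_bot hqσ hQ
  have hQd : SylowOf q Q ⁅M, M⁆ := hQ.restrict (sigma_sylow_le_der hG hM hqσ hQ) (NormalIn.der M).le
  have hNQ : 𝐍(Q) = M :=
    mmax_normal hG hM ⟨hQ.le, (NormalIn.der M).norm.trans (nil_sylow_norm_le hnil hQd)⟩ hQ1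
  obtain ⟨P, hP, hAP, -, hPd, -⟩ := t10_10 hG (p := p) (q := q) (fun h => hpσ (h ▸ hqσ)) hA.top hAm
    (sylow_mem_maxInv (sigma_sylow_top hqσ hQ) (le_norm_of_le_cent (cent_symm hQC)))
    ((dvd_card_of_isPGroup Fact.out hQ.isPGroup hQ1).trans (Subgroup.card_dvd_of_le hQC))
  rw [hNQ] at hPd
  have hPd' : SylowOf p P ⁅M, M⁆ := hP.restrict hPd le_top
  have hPM : P ≤ M := hPd.trans (NormalIn.der M).le
  have hNP : 𝐍(P) = M :=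
    mmax_normal hG hM ⟨hPM, (NormalIn.der M).norm.trans (nil_sylow_norm_le hnil hPd')⟩
      (ne_bot_of_le (hA.ne_bot pp two_pos) hAP)
  exact hpσ (mem_sigma_of_norm_le hM.1 (hP.restrict hPM le_top) hNP.le)

/-- BG 10.11(c) -/
theorem t10_11c (hG : IsMinSimpleOddOrder G) {M : Subgroup G} (hM : IsCoatom M) {K : Subgroup G}
    (hKM : K ≤ M) (hK : PiGrp (sigma M)ᶜ K) :
    IsCyclic ↥(K ⊓ 𝐂(sigmaCore M) ⊓ ⁅M, M⁆) ∧ (K ⊓ 𝐂(sigmaCore M) ⊓ ⁅M, M⁆) ⊴ M := by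
  set Z := piCoreOf (sigma M)ᶜ (fittingOf M) with hZ
  have hZM : Z ⊴ M := core_fit_normal _ M
  have hZσ : PiGrp (sigma M)ᶜ Z := piGrp_piCoreOf _ _
  have hZC : Z ≤ 𝐂(sigmaCore M) := le_cent_piCoreOf hZM hZσ
  have hr := t10_11b hG hM hZM.le hZσ
  rw [inf_eq_left.2 hZC] at hr
  have hZc : IsCyclic Z :=
    (isCyclic_iff_rank_le_one_of_nilpotent (nil_of_le_fit (piCoreOf_le _ _)) (mFT_odd hG Z)).2 hr
  have h1 : ⁅M, M⁆ ≤ 𝐂(Z) := cyc_der_le_cent hZc hZM.norm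
  have h2 : K ⊓ 𝐂(sigmaCore M) ⊓ ⁅M, M⁆ ≤ fittingOf M := by
    refine le_fit_of_le_cent (mmax_sol hG hM) (inf_le_left.trans (inf_le_left.trans hKM)) ?_
    rw [← (nil_core_dp (fit_nil M) (sigma M)).sup, cent_sup]
    exact le_inf (inf_le_left.trans (inf_le_right.trans (cent_anti (core_fit_le _ _))))
      (inf_le_right.trans h1)
  have h3 : K ⊓ 𝐂(sigmaCore M) ⊓ ⁅M, M⁆ ≤ Z :=
    nil_le_core (fit_nil M) h2 ((hK.inf_left _).inf_left _)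
  exact ⟨isCyclic_of_le hZc h3, hZM.of_isCyclic hZc h3⟩

/-- BG 10.11(d) -/
theorem t10_11d (hG : IsMinSimpleOddOrder G) {M : Subgroup G} (hM : IsCoatom M) {K : Subgroup G}
    (hKM : K ≤ M) (hK : PiGrp (sigma M)ᶜ K) {p : ℕ} [Fact p.Prime] (hp : p ∉ sigma M)
    {P : Subgroup G} (hP : ElemN p 1 (M ⊓ 𝐍(K)) P) (hC : sigmaCore M ⊓ 𝐂(P) = ⊥)
    (hKp : PiGrp {p}ᶜ K) (hKc : IsMulCommutative K) :
    ⁅K, P⁆ ≤ 𝐂(sigmaCore M) ∧ IsCyclic ↥⁅K, P⁆ ∧ ⁅K, P⁆ ⊴ M := by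
  have pp : p.Prime := Fact.out
  have hPM : P ≤ M := hP.le.trans inf_le_left
  have hPK : P ≤ 𝐍(K) := hP.le.trans inf_le_right
  have hK₀ : ⁅K, P⁆ ≤ K := commutator_le_left_of_norm hPK
  have hK₀M : ⁅K, P⁆ ≤ M := hK₀.trans hKM
  have hPK₀ : P ≤ 𝐍(⁅K, P⁆) := norms_commutator hPK (le_norm_self P)
  have hTI : ⁅K, P⁆ ⊓ 𝐂(P) = ⊥ :=
    t1_6d_TI hPK (coprime_card_of_isPGroup pp hP.isPGroup hKp).symm hKc
  have hcop := coprime_sigmaCore (M := M) (hP.piGrp pp (π := (sigma M)ᶜ) hp)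
  have hreg : (sigmaCore M ⊔ ⁅K, P⁆) ⊓ 𝐂(P) = ⊥ := by
    rw [coprime_cent_sup hPK₀ (le_norm_sigmaCore hPM) (le_norm_sigmaCore hK₀M) hcop
      (Or.inr hP.solvable), hC, hTI, bot_sup_eq]
  have hnil : Group.IsNilpotent ↥(sigmaCore M ⊔ ⁅K, P⁆) :=
    t3_7 (norms_sup (le_norm_sigmaCore hPM) hPK₀)
      (mmax_sub_sol hG hM (sup_le (sigmaCore_le M) hK₀M)) (hP.card_prime pp) hreg
  have h1 : ⁅K, P⁆ ≤ 𝐂(sigmaCore M) :=
    cent_symm (nil_cent_of_pi hnil le_sup_left le_sup_right (piGrp_sigmaCore M) (hK.of_le hK₀))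
  obtain ⟨h2, h3⟩ := t10_11c hG hM hKM hK
  have h4 : ⁅K, P⁆ ≤ K ⊓ 𝐂(sigmaCore M) ⊓ ⁅M, M⁆ :=
    le_inf (le_inf hK₀ h1) (Subgroup.commutator_mono hKM hPM)
  exact ⟨h1, isCyclic_of_le h2 h4, h3.of_isCyclic h2 h4⟩

end CL.BG
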