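import Cfsg.Agent.BG.T10_2
import Cfsg.Agent.BG.T9_6

/-! BG Lemma 10.12 -/

namespace CL.BG

open Cfsg

variable {G : Type*} [Group G] [Finite G]

/-- A prime in `σ(M) ∩ σ(H)` gives a common Sylow subgroup of `M` and a conjugate of `H`. -/
theorem exists_sylow_sigma_common {M H : Subgroup G} {p : ℕ} [Fact p.Prime] (hpM : p ∈ sigma M)
    (hpH : p ∈ sigma H) : ∃ (S : Subgroup G) (g : G), SylowOf p S M ∧ 𝐍(S) ≤ cj g H := by
  obtain ⟨S, hS⟩ := sylow_exists p M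
  obtain ⟨T, hT⟩ := sylow_exists p H
  obtain ⟨g, -, hg⟩ := sylow_conj (sigma_sylow_top hpH hT) (sigma_sylow_top hpM hS)
  refine ⟨S, g, hS, ?_⟩
  rw [← hg, ← cj_norm]
  exact cj_mono g (norm_sigma_sylow hpH hT)

/-- BG 10.12(a) -/
theorem t10_12a (hG : IsMinSimpleOddOrder G) {M H : Subgroup G} (hM : IsCoatom M)
    (hH : IsCoatom H) (hne : ∀ g : G, H ≠ cj g M) :
    alphaCore M ⊓ sigmaCore H = ⊥ ∧ Disjoint (alpha M) (sigma H) := by
  have hd : Disjoint (alpha M) (sigma H) := by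
    rw [Set.disjoint_left]
    intro p hpM hpH
    have := Fact.mk (prime_of_mem_alpha hpM)
    obtain ⟨S, g, hS, hg⟩ := exists_sylow_sigma_common (alpha_sub_sigma hG hM hpM) hpH
    have hU : InUniqueMaximal S :=
      t9_6a hG (mmax_sub_ne_top hM hS.le) ((mem_alpha_iff_sylow hS).1 hpM)
    have h1 := inU_eq hU (mmax_cj g hH) hM ((le_norm_self S).trans hg) hS.le
    exact hne g⁻¹ (cj_eq_iff_eq_cj_inv.1 h1)
  exact ⟨disj_of_coprime ((piGrp_alphaCore M).coprime_of_disjoint (piGrp_sigmaCore H) hd), hd⟩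

/-- BG 10.12(b) -/
theorem t10_12b (hG : IsMinSimpleOddOrder G) {M H : Subgroup G} (hM : IsCoatom M)
    (hH : IsCoatom H) (hne : ∀ g : G, H ≠ cj g M) (hnil : Group.IsNilpotent (sigmaCore M)) :
    sigmaCore M ⊓ sigmaCore H = ⊥ ∧ Disjoint (sigma M) (sigma H) := by
  have hd : Disjoint (sigma M) (sigma H) := by
    rw [Set.disjoint_left]
    intro p hpM hpH
    have := Fact.mk (prime_of_mem_sigma hpM)
    obtain ⟨S, g, hS, hg⟩ := exists_sylow_sigma_common hpM hpH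
    have hS' : SylowOf p S (sigmaCore M) := (sylowOf_sigmaCore_iff hG hM hpM).2 hS
    have h1 : M ≤ 𝐍(S) := (le_norm_sigmaCore le_rfl).trans (nil_sylow_norm_le hnil hS')
    have h2 := mmax_eq hM (mmax_cj g hH) (h1.trans hg)
    exact hne g⁻¹ (cj_eq_iff_eq_cj_inv.1 h2.symm)
  exact ⟨disj_of_coprime ((piGrp_sigmaCore M).coprime_of_disjoint (piGrp_sigmaCore H) hd), hd⟩

end CL.BG
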