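import Cfsg.Agent.BG.T11_3
import Cfsg.Agent.BG.T10_12

/-! BG Corollary 11.4 -/

namespace CL.BG

open Cfsg

variable {G : Type*} [Group G] [Finite G]

/-- BG 11.4 -/
theorem t11_4 (hG : IsMinSimpleOddOrder G) {p : ℕ} [Fact p.Prime] {M A₀ A : Subgroup G}
    (h : Exceptional p M A₀ A) {H : Subgroup G} (hH : IsCoatom H) (hAH : A ≤ H)
    (hne : sigmaCore H ⊓ sigmaCore M ≠ ⊥) : H = M := by
  obtain ⟨g, rfl⟩ : ∃ g : G, H = cj g M := by
    by_contra hcon
    push Not at hcon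
    exact hne (by rw [inf_comm]; exact (t10_12b hG h.coatom hH hcon (t11_3 hG h)).1)
  by_cases hg : g ∈ M
  · exact cj_eq_of_mem hg
  · refine absurd (le_bot_iff.1 ?_) hne
    rw [← (t11_2 hG h hg hAH).1]
    exact le_inf inf_le_right (inf_le_left.trans (sigmaCore_le _))

end CL.BG
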