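import Cfsg.Agent.BG.T11_6
import Cfsg.Agent.BG.T10_0
import Cfsg.Agent.BG.T10_4
import Cfsg.Agent.BG.T10_10
import Cfsg.Agent.BG.T10_11
import Cfsg.Agent.BG.T4_20
import Cfsg.Agent.BG.T1_6

/-! BG Theorem 11.7 -/

namespace CL.BG

open Cfsg Subgroup

variable {G : Type*} [Group G] [Finite G]

omit [Finite G] in
theorem commutator_sup_le_of_norm {V B A₁ A₂ : Subgroup G} (hB : B ≤ 𝐍(V)) (h₁ : A₁ ≤ 𝐍(V))
    (h₂ : A₂ ≤ 𝐍(V)) (c₁ : ⁅B, A₁⁆ ≤ V) (c₂ : ⁅B, A₂⁆ ≤ V) : ⁅B, A₁ ⊔ A₂⁆ ≤ V := by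
  rw [← quot_le_centralizer_iff hB (sup_le h₁ h₂), quot_sup h₁ h₂]
  have e := cent_sup (quot V A₁) (quot V A₂)
  exact (le_inf ((quot_le_centralizer_iff hB h₁).2 c₁) ((quot_le_centralizer_iff hB h₂).2 c₂)).trans
    e.ge

/-- an `A`-invariant Sylow `q`-subgroup of `M`, `q ∉ σ(M) ∪ {p}`, is centralised by `A` -/
theorem Exceptional.le_cent_sylow (hG : IsMinSimpleOddOrder G) {p : ℕ} [hp : Fact p.Prime]
    {M A₀ A : Subgroup G} (h : Exceptional p M A₀ A) {q : ℕ} [hq : Fact q.Prime] (hpq : p ≠ q)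
    (hqs : q ∉ sigma M) {Q : Subgroup G} (hQ : SylowOf q Q M) (hAQ : A ≤ 𝐍(Q)) : A ≤ 𝐂(Q) := by
  by_contra hnc
  have hM := h.coatom
  have hcop : (Nat.card Q).Coprime (Nat.card A) :=
    coprime_card_of_isPGroup_of_ne hq.out hp.out hpq.symm hQ.isPGroup h.elem.isPGroup
  have hQ1 : Q ≠ ⊥ := by
    rintro rfl
    exact hnc (by rw [cent_bot]; exact le_top)
  have hreg : Q ⊓ 𝐂(A) = ⊥ := by
    by_contra hne
    obtain ⟨R, hR, hQR⟩ := maxInv_exists (H := ⊤) (A := A) (π := {q})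
      (mem_invSubgroups.2 ⟨le_top, hQ.hall.pi, hAQ⟩)
    have hd : q ∣ Nat.card 𝐂(A) :=
      (dvd_card_of_isPGroup hq.out hQ.isPGroup.to_inf_left hne).trans (card_dvd_of_le inf_le_right)
    obtain ⟨P, -, hAP, -, -, hnar⟩ := t10_10 hG hpq h.elem.top (h.maxElem hG) hR hd
    have hncyc : ¬ IsCyclic Q := fun hc =>
      hnc (t1_6e_p hQ.isPGroup hAQ hcop (comm_of_isCyclic hc) (cent_symm
        ((omegaOne_le_of_isCyclic hq.out hc hQ.isPGroup inf_le_left hne).trans inf_le_right)))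
    obtain ⟨B, hB⟩ := exists_elemN_two_of_not_isCyclic hq.out hQ.isPGroup (mFT_odd hG Q) hncyc
    have hmax := t10_4c hG hM hqs (hB.mono hQ.le)
    exact hnc (hAP.trans ((hnar (narrow_of_maxElem (hB.mono hQR)
      (hmax.of_top (hB.le.trans hQR)))).trans (cent_anti hQR)))
  obtain ⟨A₁, A₂, h₁, h₂, hne, c₁, c₂⟩ := t11_6c hG h
  have hZQ : 𝐙(Q) ≤ Q := inf_le_left
  have hAZ : A ≤ 𝐍(𝐙(Q)) := norms_center hAQ
  have hnorm : ∀ X : Subgroup G, ElemN p 1 A X → sigmaCore M ⊓ 𝐂(X) = ⊥ → ⁅𝐙(Q), X⁆ ⊴ M :=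
    fun X hX hc => (t10_11d hG hM (hZQ.trans hQ.le)
      ((piGrp_of_isPGroup hq.out hQ.isPGroup hqs).of_le hZQ) h.not_sigma
      (hX.mono (le_inf h.elem.le hAZ)) hc
      ((piGrp_of_isPGroup (π := {p}ᶜ) hq.out hQ.isPGroup hpq.symm).of_le hZQ)
      (comm_center Q)).2.2
  have hV : ⁅𝐙(Q), A₁⁆ ⊔ ⁅𝐙(Q), A₂⁆ ⊴ M := (hnorm A₁ h₁ c₁).sup (hnorm A₂ h₂ c₂)
  have hZeq : ⁅𝐙(Q), A₁⁆ ⊔ ⁅𝐙(Q), A₂⁆ = 𝐙(Q) := by
    refine le_antisymm (sup_le (commutator_le_left_of_norm (h₁.le.trans hAZ))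
      (commutator_le_left_of_norm (h₂.le.trans hAZ))) ?_
    have h6 := t1_6a hAZ (coprime_card_mono hcop hZQ le_rfl) (Or.inr h.elem.solvable)
    have hb : 𝐙(Q) ⊓ 𝐂(A) = ⊥ := le_bot_iff.1 (hreg ▸ inf_le_inf_right _ hZQ)
    rw [hb, sup_bot_eq] at h6
    conv_lhs => rw [← h6, ← h.elem.sup_eq_of_ne hp.out h₁ h₂ hne]
    exact commutator_sup_le_of_norm ((hZQ.trans hQ.le).trans hV.norm)
      ((h₁.le.trans h.elem.le).trans hV.norm) ((h₂.le.trans h.elem.le).trans hV.norm)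
      le_sup_left le_sup_right
  rw [hZeq] at hV
  refine not_norm_le_of_not_mem_sigma hM.1 hqs hQ ?_
  rw [← mmax_normal hG hM hV (center_ne_bot_of_isPGroup hq.out hQ.isPGroup hQ1)]
  exact norm_le_norm_center Q

/-- BG 11.7 -/
theorem t11_7 (hG : IsMinSimpleOddOrder G) {p : ℕ} [hp : Fact p.Prime] {M A₀ A : Subgroup G}
    (h : Exceptional p M A₀ A) : (sigmaCore M ⊔ A) ⊴ M := by
  have hM := h.coatom
  obtain ⟨P, hP, hAP⟩ := sylow_superset h.elem.isPGroup h.elem.le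
  obtain ⟨E, hE, hPE⟩ := hall_superset (mmax_sol hG hM) hP.le
    (piGrp_of_isPGroup (π := (sigma M)ᶜ) hp.out hP.isPGroup h.not_sigma)
  have hAE : A ≤ E := hAP.trans hPE
  have hsolE := mmax_sub_sol hG hM hE.le
  have hr : rank (fittingOf E) ≤ 2 :=
    (rank_mono (fit_le E)).trans (rank_le_two_of_sigma_compl hG hM hE.le hE.pi)
  have hK := t4_20c hsolE (mFT_odd hG E) hr (p + 1)
  have hL := t4_20c hsolE (mFT_odd hG E) hr p
  have hKn := piCoreOf_normalIn {q | p + 1 ≤ q} E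
  have hLn := piCoreOf_normalIn {q | p ≤ q} E
  generalize piCoreOf {q | p + 1 ≤ q} E = K at hK hKn
  generalize piCoreOf {q | p ≤ q} E = L at hL hLn
  have hPE' : SylowOf p P E := hP.hall.restrict hPE hE.le
  have hKp : PiGrp {p}ᶜ K := hK.pi.mono fun q hq he => by
    rw [Set.mem_singleton_iff.1 he] at hq
    exact Nat.not_succ_le_self p hq
  have hAK : A ≤ 𝐂(K) := by
    refine cent_symm (le_of_forall_exists_sylow_le fun q hq hd => ?_)
    have := Fact.mk hq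
    have hqK : q ∈ {q | p + 1 ≤ q} := hK.pi.mem ⟨hq, hd⟩
    have hqs : q ∈ (sigma M)ᶜ := hE.pi.mem (primesOf_mono hK.le ⟨hq, hd⟩)
    obtain ⟨Q, hQ, hAQ⟩ := t1_5a_sylow q (hAE.trans hKn.norm)
      (coprime_card_of_isPGroup hp.out h.elem.isPGroup hKp).symm (Or.inr h.elem.solvable)
    refine ⟨Q, hQ, cent_symm (h.le_cent_sylow hG (q := q) ?_ hqs
      ((hQ.trans_hall hK hqK).trans_hall hE hqs) hAQ)⟩
    rintro rfl
    exact Nat.not_succ_le_self p hqK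
  have hKP : K ⊔ P = L := by
    have h1 : Hall {q | p ≤ q} (K ⊔ P) E :=
      (hK.sup_union hPE'.hall (Or.inl (hPE.trans hKn.norm))).congr fun q _ _ => by
        simp only [Set.mem_union, Set.mem_setOf_eq, Set.mem_singleton_iff]
        omega
    exact hL.eq_of_normal hLn.norm h1
  have hAL : A ⊴ L := by
    refine NormalIn.of_le_center (le_inf (hAP.trans (hKP ▸ le_sup_right)) ?_)
    rw [← hKP, cent_sup]
    exact le_inf hAK (le_cent_of_comm_of_le (t11_5 hG h hP) hAP le_rfl)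
  have hO : omegaOne p (piCoreOf {p} L) = A := by
    have h1 : A ≤ piCoreOf {p} L := le_piCoreOf_of_isPGroup hp.out hAL h.elem.isPGroup
    have h2 : piCoreOf {p} L ≤ P :=
      (hPE'.hall.restrict (hKP ▸ le_sup_right) hL.le).piCoreOf_le
    have h3 := t11_6a hG h hP hAP
    rw [omegaOne_eq_of_le (h3 ▸ h1) h2, ← h3]
  have hEA : E ≤ 𝐍(A) := hO ▸ ((hLn.piCoreOf_trans {p}).omegaOne p).norm
  refine ⟨sup_le (sigmaCore_le M) h.elem.le, ?_⟩
  conv_lhs => rw [← (t10_2b hG hM).sup_eq hE]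
  exact sup_le (le_norm_of_le le_sup_left) (norms_sup (le_norm_sigmaCore hE.le) hEA)

end CL.BG
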