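import Cfsg.Agent.BG.T10_0

/-! BG Lemma 10.5 -/

namespace CL.BG

open Cfsg

variable {G : Type*} [Group G] [Finite G]

/-- BG 10.5, first part (for an arbitrary `p`-group `X`) -/
theorem t10_5a (hG : IsMinSimpleOddOrder G) {M : Subgroup G} (hM : IsCoatom M) {p : ℕ}
    [Fact p.Prime] (hp : p ∉ sigma M) {X : Subgroup G} (hX : IsPGroup p X) (hN : 𝐍(X) ≤ M) :
    pRank p M = 2 := by
  refine le_antisymm (pRank_le_two_of_not_mem_sigma hG hM hp) ?_
  by_contra hr
  obtain ⟨P, hP, hXP⟩ := sylow_superset hX ((le_norm_self X).trans hN)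
  have hc : IsCyclic P :=
    isCyclic_of_le_of_pRank_le_one Fact.out (mFT_odd hG M) (by omega) hP.isPGroup hP.le
  exact not_norm_le_of_not_mem_sigma hM.1 hp hP ((norm_le_norm_of_isCyclic hc hXP).trans hN)

/-- BG 10.5, second part -/
theorem t10_5b (hG : IsMinSimpleOddOrder G) {M : Subgroup G} (hM : IsCoatom M) {p : ℕ}
    [Fact p.Prime] (hp : p ∉ sigma M) {X : Subgroup G} (hX : ElemN p 1 ⊤ X) (hN : 𝐍(X) ≤ M) :
    ∃ A : Subgroup G, ElemN p 2 M A ∧ X ≤ A := by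
  have pp : p.Prime := Fact.out
  obtain ⟨P, hP, hXP⟩ := sylow_superset hX.isPGroup ((le_norm_self X).trans hN)
  have hP1 : P ≠ ⊥ := ne_bot_of_le (hX.ne_bot pp one_pos) hXP
  obtain ⟨n, hT⟩ := exists_elemN_of_elemAb pp (elemAb_omegaOne_center p P)
    (omegaOne_center_le p P)
  obtain ⟨Y, hY, hne⟩ : ∃ Y, ElemN p 1 (omegaOne p 𝐙(P)) Y ∧ X ≠ Y := by
    by_contra hall
    push Not at hall
    have hle : omegaOne p 𝐙(P) ≤ X := hT.le_of_forall_one pp fun Y hY => (hall Y hY).ge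
    have e := eq_of_le_of_prime (hX.card_prime pp) hle
      (omegaOne_center_ne_bot pp hP.isPGroup hP1)
    refine not_norm_le_of_not_mem_sigma hM.1 hp hP
      ((norm_le_norm_omegaOne_center p P).trans ?_)
    rwa [e]
  exact ⟨X ⊔ Y, (hX.of_le (hXP.trans hP.le)).sup_of_ne (hY.mono (hT.le.trans hP.le)) pp hne
    (hY.le.trans ((omegaOne_center_le_cent p P).trans (cent_anti hXP))), le_sup_left⟩

end CL.BG
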