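import Cfsg.Agent.Base
import Cfsg.Agent.BG.A12_Basic
import Cfsg.Agent.BG.T10_1
import Cfsg.Agent.BG.T10_5

/-!
# BG Lemma 12.2
-/

namespace CL.BG

open Cfsg Subgroup

variable {G : Type*} [Group G] [Finite G]

/-- BG 12.2(a) -/
theorem t12_2a (hG : IsMinSimpleOddOrder G) {M X : Subgroup G} (hM : IsCoatom M) {p : ℕ}
    [Fact p.Prime] (hX : IsPGroup p X) (hN : 𝐍(X) ≤ M) : p ∈ sigma M ∨ p ∈ tau2 M := by
  by_cases hs : p ∈ sigma M
  · exact Or.inl hs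
  · exact Or.inr (s12_mem_tau2.2 ⟨Fact.out, hs, t10_5a hG hM hs hX hN⟩)

/-- BG 12.2(b) -/
theorem t12_2b (hG : IsMinSimpleOddOrder G) {M Mstar X : Subgroup G} (hM : IsCoatom M)
    (hMs : IsCoatom Mstar) {p : ℕ} [Fact p.Prime] (hX : IsPGroup p X) (hXM : X ≤ M)
    (hN : 𝐍(X) ≤ Mstar) (h : (p ∈ sigma M ∧ M ≠ Mstar) ∨ p ∈ tau1 M ∨ p ∈ tau3 M) :
    ∀ g : G, Mstar ≠ cj g M := by
  rintro g rfl
  rcases h with ⟨hs, hne⟩ | h
  · obtain ⟨c, hc, e⟩ := t10_1b hG hM hs hX (g₁ := 1) (g₂ := g) (by rwa [cj_one])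
      ((le_norm_self X).trans hN)
    rw [cj_one] at e
    have h1 : c ∈ cj c M := e ▸ hN (cent_le_norm X hc)
    rw [mem_cj, inv_mul_cancel, one_mul] at h1
    exact hne (by rw [e, cj_eq_of_mem h1])
  · rcases t12_2a hG hMs hX hN with h' | h'
    · rw [s12_sigma_cj] at h'
      exact h.elim (fun h => h.2.1 h') (fun h => h.2.1 h')
    · rw [s12_tau2_cj] at h'
      exact h.elim (fun h => s12_tau1_not2 h h') (fun h => s12_tau3_not2 h h')

omit [Finite G] in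
/-- non-conjugacy is symmetric -/
theorem s12_nconj_symm {M L : Subgroup G} (h : ∀ g : G, L ≠ cj g M) : ∀ g : G, M ≠ cj g L := by
  rintro g rfl
  exact h g⁻¹ (cj_inv_cj g L).symm

/-- maximal subgroups with different `σ` are not conjugate -/
theorem s12_nconj_of_sigma {M L : Subgroup G} {p : ℕ} (h : p ∈ sigma L) (h' : p ∉ sigma M) :
    ∀ g : G, L ≠ cj g M := by
  rintro g rfl
  rw [s12_sigma_cj] at h
  exact h' h

end CL.BG
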