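import Cfsg.Agent.Base
import Cfsg.Agent.BG.T12_2
import Cfsg.Agent.BG.T10_12
import Cfsg.Agent.BG.T11_4
import Cfsg.Agent.BG.T11_7

/-!
# BG Lemma 12.3
-/

namespace CL.BG

open Cfsg Subgroup

variable {G : Type*} [Group G] [Finite G]

/-- If `N P ⊴ L` with `N` a `p'`-group and `P` a `p`-group, then a subgroup `A` of `P` centralises
every `A`-invariant `p'`-subgroup of `L` modulo `N`. -/
theorem s12_commutator_le {N P L K A : Subgroup G} {p : ℕ} (hp : p.Prime) (hn : (N ⊔ P) ⊴ L)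
    (hPN : P ≤ 𝐍(N)) (hN : PiGrp {p}ᶜ N) (hP : IsPGroup p P) (hA : A ≤ P) (hKL : K ≤ L)
    (hK : PiGrp {p}ᶜ K) (hAK : A ≤ 𝐍(K)) : ⁅K, A⁆ ≤ N := by
  have h1 : Hall {p}ᶜ N (N ⊔ P) :=
    (Hall.self hN).sup_of_compl (piGrp_compl_compl.2 ((piGrp_singleton_iff hp).2 hP)) hPN
  refine h1.le_of_normal (NormalIn.sup_left hPN).norm ?_
    (hK.of_le (commutator_le_left_of_norm hAK))
  exact (commutator_mono hKL (hA.trans le_sup_right)).trans hn.commutator_le'

/-- BG 12.3 -/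
theorem t12_3 (hG : IsMinSimpleOddOrder G) {M Mstar A A₀ : Subgroup G} (hM : IsCoatom M)
    (hMs : IsCoatom Mstar) (hne : Mstar ≠ M) {p : ℕ} [Fact p.Prime] (hA : ElemN p 2 M A)
    (hA₀ : ElemN p 1 A A₀) (hN : 𝐍(A₀) ≤ Mstar) :
    (p ∉ sigma M → A ≤ 𝐂(sigmaCore M ⊓ Mstar)) ∧
      (p ∉ alpha M → A ≤ 𝐂(alphaCore M ⊓ Mstar)) := by
  have hp : p.Prime := Fact.out
  have hAs : A ≤ Mstar := (hA.le_norm_of_le hA₀.le).trans hN
  have nσ : A ≤ 𝐍(sigmaCore M ⊓ Mstar) :=
    norms_inf (s12_norm_sigmaCore hA.le) (le_norm_of_le hAs)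
  have nα : A ≤ 𝐍(alphaCore M ⊓ Mstar) :=
    norms_inf (hA.le.trans (s12_alphaCore_normal M).norm) (le_norm_of_le hAs)
  have pσ : p ∉ sigma M → PiGrp {p}ᶜ (sigmaCore M ⊓ Mstar) := fun h =>
    (piGrp_compl_singleton_iff hp).2 (((s12_sigmaCore_pi M).inf_left _).not_dvd hp h)
  have pα : p ∉ alpha M → PiGrp {p}ᶜ (alphaCore M ⊓ Mstar) := fun h =>
    (piGrp_compl_singleton_iff hp).2 (((s12_alphaCore_pi M).inf_left _).not_dvd hp h)
  by_cases hs : p ∈ sigma Mstar
  · have hnc : ∀ g : G, Mstar ≠ cj g M := by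
      by_cases hsM : p ∈ sigma M
      · exact t12_2b hG hM hMs hA₀.isPGroup (hA₀.le.trans hA.le) hN (Or.inl ⟨hsM, hne.symm⟩)
      · exact s12_nconj_of_sigma hs hsM
    have hAσ : A ≤ sigmaCore Mstar := le_sigmaCore hG hMs hAs (hA.piGrp hp hs)
    constructor
    · intro h
      refine commutator_eq_bot_iff''.1 (eq_bot_iff.2 ?_)
      rw [← (t10_12a hG hMs hM (s12_nconj_symm hnc)).1]
      refine le_inf ?_ ((commutator_le_left_of_norm nσ).trans inf_le_left)
      by_cases ha : p ∈ alpha Mstar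
      · exact (commutator_mono inf_le_right (le_alphaCore hG hMs hAs (hA.piGrp hp ha))).trans
          (s12_alphaCore_normal Mstar).commutator_le'
      · obtain ⟨P, hP, hAP⟩ := sylow_superset hA.isPGroup (hAσ.trans (t10_2c hG hMs))
        exact s12_commutator_le hp (t10_2d_normal hG hMs hP.hall)
          ((hP.hall.le.trans (NormalIn.der Mstar).le).trans (s12_alphaCore_normal Mstar).norm)
          ((piGrp_compl_singleton_iff hp).2 ((s12_alphaCore_pi Mstar).not_dvd hp ha))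
          hP.isPGroup hAP inf_le_right (pσ h) nσ
    · intro _
      refine commutator_eq_bot_iff''.1 (eq_bot_iff.2 ?_)
      rw [← (t10_12a hG hM hMs hnc).1]
      exact le_inf ((commutator_le_left_of_norm nα).trans inf_le_left)
        ((commutator_mono inf_le_right hAσ).trans (s12_sigmaCore_normal Mstar).commutator_le')
  · have hex : Exceptional p Mstar A₀ A :=
      ⟨hMs, hs, hA₀.of_le (hA₀.le.trans hAs), hN, hA.of_le hAs, hA₀.le⟩
    have hTI : sigmaCore M ⊓ sigmaCore Mstar = ⊥ := by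
      by_contra h
      exact hne (t11_4 hG hex hM hA.le h).symm
    have key : ∀ K : Subgroup G, K ≤ sigmaCore M → K ≤ Mstar → PiGrp {p}ᶜ K → A ≤ 𝐍(K) →
        A ≤ 𝐂(K) := by
      intro K h1 h2 h3 h4
      refine commutator_eq_bot_iff''.1 (eq_bot_iff.2 ?_)
      rw [← hTI]
      exact le_inf ((commutator_le_left_of_norm h4).trans h1)
        (s12_commutator_le hp (t11_7 hG hex) (s12_norm_sigmaCore hAs)
          ((piGrp_compl_singleton_iff hp).2 ((s12_sigmaCore_pi Mstar).not_dvd hp hs))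
          hA.isPGroup le_rfl h2 h3 h4)
    exact ⟨fun h => key _ inf_le_left inf_le_right (pσ h) nσ,
      fun h => key _ (inf_le_left.trans (alphaCore_le_sigmaCore hG hM)) inf_le_right (pα h) nα⟩

end CL.BG
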