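import Cfsg.Agent.Base
import Cfsg.Agent.BG.T12_3
import Cfsg.Agent.BG.T10_11
import Cfsg.Agent.BG.T9_6
import Cfsg.Agent.BG.T1_16

/-!
# BG Proposition 12.4
-/

namespace CL.BG

open Cfsg Subgroup

variable {G : Type*} [Group G] [Finite G]

theorem s12_exists_ne_of_not_uniqMax {X M : Subgroup G} (hX : X ≠ ⊤) (h : ¬ UniqMax X M) :
    ∃ H : Subgroup G, IsCoatom H ∧ X ≤ H ∧ H ≠ M := by
  by_contra hc
  push Not at hc
  obtain ⟨H, hH, hle⟩ := mmax_exists hX
  have e := hc H hH hle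
  subst e
  exact h ⟨hH, hle, hc⟩

theorem s12_4_aux (hG : IsMinSimpleOddOrder G) {M A : Subgroup G} (hM : IsCoatom M) {p : ℕ}
    [Fact p.Prime] (hA : ElemN p 2 M A)
    (h : ∀ A₀ : Subgroup G, ElemN p 1 A A₀ → ¬ UniqMax 𝐍(A₀) M) :
    (p ∈ sigma M ∧ alphaCore M = ⊥ ∧ Group.IsNilpotent (sigmaCore M)) ∧ 𝐂(A) ≤ M := by
  have hp : p.Prime := Fact.out
  have hex : ∀ X : Subgroup G, ElemN p 1 A X →
      ∃ H : Subgroup G, IsCoatom H ∧ 𝐍(X) ≤ H ∧ H ≠ M := fun X hX =>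
    s12_exists_ne_of_not_uniqMax (mFT_norm_pgroup_ne_top hG hX.isPGroup (hX.ne_bot hp one_pos))
      (h X hX)
  have hrk : ∀ X : Subgroup G, ElemN p 1 A X → rank (M ⊓ 𝐂(X)) ≤ 2 := by
    intro X hX
    obtain ⟨H, hH, hN, hne⟩ := hex X hX
    by_contra hc
    exact hne (inU_eq (t9_6a hG (mmax_sub_ne_top hM inf_le_left) (by omega)) hH hM
      (inf_le_right.trans ((cent_le_norm X).trans hN)) inf_le_left)
  -- a normal `p'`-subgroup whose intersections with the `H` are centralised is centralised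
  have hgen : ∀ K : Subgroup G, K ⊴ M → (Nat.card K).Coprime (Nat.card A) →
      (∀ X H : Subgroup G, ElemN p 1 A X → IsCoatom H → H ≠ M → 𝐍(X) ≤ H → A ≤ 𝐂(K ⊓ H)) →
      K ≤ 𝐂(A) := by
    intro K hK hcop hc
    refine t1_16a hA.comm (hA.not_isCyclic hp le_rfl) (hA.le.trans hK.norm) hcop
      fun a ha h1 => ?_
    have hX := hA.zpowers hp ha h1
    obtain ⟨H, hH, hN, hne⟩ := hex _ hX
    refine le_trans (inf_le_inf_left K ?_) (cent_symm (hc _ H hX hH hne hN))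
    rw [← cent_zpowers]
    exact (cent_le_norm _).trans hN
  have hs : p ∈ sigma M := by
    by_contra hs
    have h1 := hgen _ (s12_sigmaCore_normal M) (s12_coprime (hA.piGrp hp hs))
      fun X H hX hH hne hN => (t12_3 hG hM hH hne hA hX hN).1 hs
    have h2 := t10_11b hG hM hA.le (hA.piGrp hp hs)
    rw [inf_eq_left.2 (cent_symm h1), hA.rank_eq hp] at h2
    omega
  obtain ⟨P, hP, hAP⟩ := sylow_superset hA.isPGroup hA.le
  have hPne : P ≠ ⊥ := ne_bot_of_le (hA.ne_bot hp two_pos) hAP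
  obtain ⟨X₀, hX₀⟩ := hA.exists_one hp two_pos
  have hrA : rank (M ⊓ 𝐂(A)) ≤ 2 :=
    (rank_mono (inf_le_inf_left M (cent_anti hX₀.le))).trans (hrk X₀ hX₀)
  have hmax : MaxElem p M A := hA.maxElem_of_pRank_le hp ((pRank_le_rank hp _).trans hrA)
  have hZA : omegaOne p 𝐙(P) ≤ A := hmax.omegaOne_center_le hAP hP.hall.le
  have hZne := omegaOne_center_ne_bot hp hP.isPGroup hPne
  have ha : p ∉ alpha M := by
    intro ha
    obtain ⟨X, hX⟩ := exists_elemN_one_of_isPGroup hp (hA.isPGroup.to_le hZA) hZne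
    have h1 := hrk X (hX.mono hZA)
    have h2 : P ≤ M ⊓ 𝐂(X) :=
      le_inf hP.hall.le ((le_cent_omegaOne_center p P).trans (cent_anti hX.le))
    have h3 := (rank_mono h2).trans h1
    rw [hP.rank_eq hp] at h3
    have := (s12_mem_alpha.1 ha).2
    omega
  have hα : alphaCore M = ⊥ := by
    have h1 := hgen _ (s12_alphaCore_normal M) ((s12_alphaCore_pi M).coprime (hA.piGrp hp ha))
      fun X H hX hH hne hN => (t12_3 hG hM hH hne hA hX hN).2 ha
    by_contra hne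
    obtain ⟨q, hq, hd⟩ := exists_prime_dvd_card hne
    have hqa : q ∈ alpha M := piGrp_iff.1 (s12_alphaCore_pi M) q hq hd
    have h2 := (s12_mem_alpha.1 hqa).2
    rw [← (t10_2a hG hM).pRank_eq hq hqa] at h2
    have h3 := ((pRank_mono hq (le_inf (s12_alphaCore_normal M).le h1)).trans
      (pRank_le_rank hq _)).trans hrA
    omega
  have hnil : Group.IsNilpotent (sigmaCore M) := by
    refine t10_2d hG hM (t10_2c hG hM) (PiGrp.of_le ?_ (s12_sigmaCore_le M))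
    exact (t10_2a hG hM).eq_bot_iff.1 hα
  refine ⟨⟨hs, hα, hnil⟩, ?_⟩
  have hPn : P ⊴ M :=
    (nil_hall_char hnil ((sylowOf_sigmaCore_iff hG hM hs).2 hP).hall).trans_normalIn
      (s12_sigmaCore_normal M)
  rw [← mmax_normal hG hM (hPn.center_trans.omegaOne p) hZne]
  exact (cent_anti hZA).trans (cent_le_norm _)

/-- BG 12.4(a) -/
theorem t12_4a (hG : IsMinSimpleOddOrder G) {M A : Subgroup G} (hM : IsCoatom M) {p : ℕ}
    [Fact p.Prime] (hA : ElemN p 2 M A) : 𝐂(A) ≤ M := by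
  by_cases h : ∀ A₀ : Subgroup G, ElemN p 1 A A₀ → ¬ UniqMax 𝐍(A₀) M
  · exact (s12_4_aux hG hM hA h).2
  · push Not at h
    obtain ⟨A₀, hA₀, hu⟩ := h
    exact ((cent_anti hA₀.le).trans (cent_le_norm _)).trans hu.le

/-- BG 12.4(b) -/
theorem t12_4b (hG : IsMinSimpleOddOrder G) {M A : Subgroup G} (hM : IsCoatom M) {p : ℕ}
    [Fact p.Prime] (hA : ElemN p 2 M A)
    (h : ∀ A₀ : Subgroup G, ElemN p 1 A A₀ → ¬ UniqMax 𝐍(A₀) M) :
    p ∈ sigma M ∧ alphaCore M = ⊥ ∧ Group.IsNilpotent (sigmaCore M) :=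
  (s12_4_aux hG hM hA h).1

end CL.BG
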