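import Cfsg.Agent.Base
import Cfsg.Agent.BG.T12_4
import Cfsg.Agent.BG.T11_3
import Cfsg.Agent.BG.T11_5
import Cfsg.Agent.BG.T11_6

/-!
# BG Theorem 12.5
-/

namespace CL.BG

open Cfsg Subgroup

variable {G : Type*} [Group G] [Finite G]

/-- for `p ∈ τ₂(M)` the maximal subgroup `M` is exceptional -/
theorem s12_exceptional (hG : IsMinSimpleOddOrder G) {M A : Subgroup G} (hM : IsCoatom M) {p : ℕ}
    (hp : p ∈ tau2 M) (hA : ElemN p 2 M A) :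
    ∃ A₀ : Subgroup G, Exceptional p M A₀ A ∧ UniqMax 𝐍(A₀) M := by
  have : Fact p.Prime := ⟨hp.1⟩
  by_contra hc
  push Not at hc
  refine hp.2.1 (t12_4b hG hM hA fun A₀ hA₀ hu => ?_).1
  exact hc A₀ ⟨hM, hp.2.1, hA₀.mono hA.le, hu.le, hA, hA₀.le⟩ hu

theorem s12_ex_elemN {M : Subgroup G} {p : ℕ} (hp : p ∈ tau2 M) : ∃ A, ElemN p 2 M A :=
  exists_elemN_of_le_pRank hp.1 (s12_tau2_rank hp).ge

/-- BG 12.5(a) -/
theorem t12_5a (hG : IsMinSimpleOddOrder G) {M : Subgroup G} (hM : IsCoatom M) {p : ℕ}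
    (hp : p ∈ tau2 M) : Group.IsNilpotent (sigmaCore M) := by
  have : Fact p.Prime := ⟨hp.1⟩
  obtain ⟨A, hA⟩ := s12_ex_elemN hp
  obtain ⟨A₀, h, -⟩ := s12_exceptional hG hM hp hA
  exact t11_3 hG h

/-- BG 12.5(b), first part: all `p`-subgroups of `M` are abelian -/
theorem t12_5b1 (hG : IsMinSimpleOddOrder G) {M P : Subgroup G} (hM : IsCoatom M) {p : ℕ}
    (hp : p ∈ tau2 M) (hP : IsPGroup p P) (hPM : P ≤ M) : IsMulCommutative P := by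
  have : Fact p.Prime := ⟨hp.1⟩
  obtain ⟨A, hA⟩ := s12_ex_elemN hp
  obtain ⟨A₀, h, -⟩ := s12_exceptional hG hM hp hA
  obtain ⟨S, hS, hle⟩ := sylow_superset hP hPM
  exact comm_of_le (t11_5 hG h hS) hle

/-- BG 12.5(b), second part -/
theorem t12_5b2 (hG : IsMinSimpleOddOrder G) {M A P : Subgroup G} (hM : IsCoatom M) {p : ℕ}
    (hp : p ∈ tau2 M) (hA : ElemN p 2 M A) (hP : IsPGroup p P) (hPM : P ≤ M) (hAP : A ≤ P) :
    omegaOne p P = A :=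
  ((hA.of_le hAP).eq_omegaOne_of_comm hp.1 (t12_5b1 hG hM hp hP hPM)
    ((pRank_mono hp.1 hPM).trans (s12_tau2_rank hp).le)).symm

/-- BG 12.5(b), third part -/
theorem t12_5b3 {M P : Subgroup G} {p : ℕ} (hp : p ∈ tau2 M) (hP : SylowOf p P M) :
    ¬ 𝐍(P) ≤ M := by
  have : Fact p.Prime := ⟨hp.1⟩
  intro h
  refine hp.2.1 (s12_mem_sigma.2 ⟨(pRank_pos_iff hp.1).1 ?_, P, hP, h⟩)
  rw [s12_tau2_rank hp]
  omega

/-- BG 12.5(c) -/
theorem t12_5c (hG : IsMinSimpleOddOrder G) {M A : Subgroup G} (hM : IsCoatom M) {p : ℕ}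
    (hp : p ∈ tau2 M) (hA : ElemN p 2 M A) : (sigmaCore M ⊔ A) ⊴ M := by
  have : Fact p.Prime := ⟨hp.1⟩
  obtain ⟨A₀, h, -⟩ := s12_exceptional hG hM hp hA
  exact t11_7 hG h

/-- BG 12.5(d) -/
theorem t12_5d (hG : IsMinSimpleOddOrder G) {M A : Subgroup G} (hM : IsCoatom M) {p : ℕ}
    (hp : p ∈ tau2 M) (hA : ElemN p 2 M A) : sigmaCore M ⊓ 𝐂(A) = ⊥ := by
  have : Fact p.Prime := ⟨hp.1⟩
  obtain ⟨A₀, h, -⟩ := s12_exceptional hG hM hp hA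
  exact t11_6b hG h

/-- BG 12.5(e) -/
theorem t12_5e (hG : IsMinSimpleOddOrder G) {M A Mstar : Subgroup G} (hM : IsCoatom M) {p : ℕ}
    (hp : p ∈ tau2 M) (hA : ElemN p 2 M A) (hMs : IsCoatom Mstar) (hne : Mstar ≠ M)
    (hAMs : A ≤ Mstar) : sigmaCore M ⊓ Mstar = ⊥ := by
  have : Fact p.Prime := ⟨hp.1⟩
  suffices h : A ≤ 𝐂(sigmaCore M ⊓ Mstar) by
    refine eq_bot_iff.2 ?_
    rw [← t12_5d hG hM hp hA]
    exact le_inf inf_le_left (cent_symm h)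
  by_cases h : ∀ A₀ : Subgroup G, ElemN p 1 A A₀ → ¬ UniqMax 𝐍(A₀) Mstar
  · obtain ⟨hs, -, hnil⟩ := t12_4b hG hMs (hA.of_le hAMs) h
    have h1 : A ≤ piCoreOf {p} (sigmaCore Mstar) :=
      nil_pgroup_le_core hnil (le_sigmaCore hG hMs hAMs (hA.piGrp hp.1 hs)) hA.isPGroup
    have h2 := (s12_sigmaCore_normal Mstar).piCoreOf_trans {p}
    refine commutator_eq_bot_iff''.1 (eq_bot_iff.2 ?_)
    rw [← s12_disj (M := M) (piGrp_of_isPGroup hp.1 (isPGroup_piCoreOf hp.1 (sigmaCore Mstar))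
      hp.2.1)]
    exact le_inf ((commutator_le_left_of_norm
        (norms_inf (s12_norm_sigmaCore hA.le) (le_norm_of_le hAMs))).trans inf_le_left)
      ((commutator_mono inf_le_right h1).trans h2.commutator_le')
  · push Not at h
    obtain ⟨A₀, hA₀, hu⟩ := h
    exact (t12_3 hG hM hMs hne hA hA₀ hu.le).1 hp.2.1

/-- BG 12.5(f) -/
theorem t12_5f (hG : IsMinSimpleOddOrder G) {M A : Subgroup G} (hM : IsCoatom M) {p : ℕ}
    (hp : p ∈ tau2 M) (hA : ElemN p 2 M A) :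
    ∃ A₁ : Subgroup G, ElemN p 1 A A₁ ∧ sigmaCore M ⊓ 𝐂(A₁) = ⊥ := by
  have : Fact p.Prime := ⟨hp.1⟩
  obtain ⟨A₀, h, -⟩ := s12_exceptional hG hM hp hA
  obtain ⟨A₁, -, h₁, -, -, h₂, -⟩ := t11_6c hG h
  exact ⟨A₁, h₁, h₂⟩

end CL.BG
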