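import Cfsg.Agent.Base
import Cfsg.Agent.BG.T12_5
import Cfsg.Agent.BG.T12_1

/-!
# BG Corollary 12.6
-/

namespace CL.BG

open Cfsg Subgroup

variable {G : Type*} [Group G] [Finite G]

/-- BG 12.6(a) -/
theorem t12_6a (hG : IsMinSimpleOddOrder G) {M E A : Subgroup G} (hM : IsCoatom M)
    (hE : Hall (sigma M)ᶜ E M) {p : ℕ} (hp : p ∈ tau2 M) (hA : ElemN p 2 E A) :
    A ⊴ E ∧ ∀ X : Subgroup G, ElemN p 1 E X ↔ ElemN p 1 A X := by
  have hAM := hA.mono hE.le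
  have hn : A ⊴ E := by
    have h1 := (t12_5c hG hM hp hAM).inf_right hE.le
    rwa [sup_inf_modular' (Or.inl (s12_norm_sigmaCore hAM.le)) hA.le, s12_disj hE.pi,
      bot_sup_eq] at h1
  refine ⟨hn, fun X => ⟨fun hX => hX.of_le ?_, fun hX => hX.mono hA.le⟩⟩
  have h1 := t12_5b2 hG hM hp hAM
    (isPGroup_sup_of_norm hA.isPGroup hX.isPGroup (Or.inl (hX.le.trans hn.norm)))
    (sup_le hAM.le (hX.le.trans hE.le)) le_sup_left
  rw [← h1]
  exact (hX.of_le le_sup_right).le_omegaOne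

/-- the member of `ℰ_p^2(E)` is unique and contains all elements of order `p` of `E` -/
theorem s12_elemAb_le (hG : IsMinSimpleOddOrder G) {M E A B : Subgroup G} (hM : IsCoatom M)
    (hE : Hall (sigma M)ᶜ E M) {p n : ℕ} (hp : p ∈ tau2 M) (hA : ElemN p 2 E A)
    (hB : ElemN p n E B) : B ≤ A :=
  hB.le_of_forall_one hp.1 fun X hX => (((t12_6a hG hM hE hp hA).2 X).1 (hX.mono hB.le)).le

/-- BG 12.6(b) -/
theorem t12_6b (hG : IsMinSimpleOddOrder G) {M E A : Subgroup G} (hM : IsCoatom M)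
    (hE : Hall (sigma M)ᶜ E M) {p : ℕ} (hp : p ∈ tau2 M) (hA : ElemN p 2 E A) :
    𝐂(A) ≤ E ∧ M ⊓ 𝐍(A) = E ∧ ¬ 𝐍(A) ≤ M := by
  have : Fact p.Prime := ⟨hp.1⟩
  have hAM := hA.mono hE.le
  have hn := (t12_6a hG hM hE hp hA).1
  have h1 : sigmaCore M ⊓ 𝐍(A) = ⊥ := by
    refine eq_bot_iff.2 ?_
    rw [← t12_5d hG hM hp hAM]
    refine le_inf inf_le_left (le_cent_of_norm_of_disj inf_le_right
      (norms_inf (s12_norm_sigmaCore hAM.le) (le_norm_of_le (le_norm_self A))) ?_)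
    refine eq_bot_iff.2 ?_
    rw [← s12_disj (M := M) (hA.piGrp hp.1 hp.2.1)]
    exact inf_le_inf_right _ inf_le_left
  have h2 : M ⊓ 𝐍(A) = E := by
    have h3 := (sdprod_sigma hG hM hE).modr hn.norm
    rw [h1] at h3
    exact h3.right_eq_of_bot.symm
  refine ⟨?_, h2, fun h => ?_⟩
  · rw [← h2]
    exact le_inf (t12_4a hG hM hAM) (cent_le_norm A)
  · obtain ⟨P, hP, hAP⟩ := sylow_superset hA.isPGroup hAM.le
    refine t12_5b3 hp hP (le_trans ?_ h)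
    rw [← t12_5b2 hG hM hp hAM hP.isPGroup hP.hall.le hAP]
    exact norm_le_norm_omegaOne p P

/-- every `p`-subgroup of `M` lies in the centraliser of a member of `ℰ_p^2(M)` containing its
`Ω₁` -/
theorem s12_ex_elemN_cent (hG : IsMinSimpleOddOrder G) {M X : Subgroup G} (hM : IsCoatom M)
    {p : ℕ} (hp : p ∈ tau2 M) (hX : IsPGroup p X) (hXM : X ≤ M) :
    ∃ A : Subgroup G, ElemN p 2 M A ∧ omegaOne p X ≤ A ∧ A ≤ 𝐂(X) := by
  have : Fact p.Prime := ⟨hp.1⟩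
  obtain ⟨P, hP, hXP⟩ := sylow_superset hX hXM
  have hc := t12_5b1 hG hM hp hP.isPGroup hP.hall.le
  have h1 := elemN_omegaOne_of_comm hp.1 hc
  rw [hP.pRank_eq hp.1, s12_tau2_rank hp] at h1
  exact ⟨_, h1.mono hP.hall.le, omegaOne_mono hXP,
    le_cent_of_comm_of_le hc (omegaOne_le p P) hXP⟩

theorem s12_uniqMax (hG : IsMinSimpleOddOrder G) {M A Y : Subgroup G} (hM : IsCoatom M)
    {p : ℕ} (hp : p ∈ tau2 M) (hA : ElemN p 2 M A) (hAY : A ≤ Y) (hY : Y ≠ ⊤)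
    (hC : sigmaCore M ⊓ Y ≠ ⊥) : UniqMax Y M := by
  have key : ∀ L : Subgroup G, IsCoatom L → Y ≤ L → L = M := by
    intro L hL hle
    by_contra hne
    exact hC (eq_bot_iff.2 ((inf_le_inf_left _ hle).trans
      (t12_5e hG hM hp hA hL hne (hAY.trans hle)).le))
  obtain ⟨L, hL, hle⟩ := mmax_exists hY
  exact ⟨hM, key L hL hle ▸ hle, key⟩

/-- BG 12.6(c) -/
theorem t12_6c (hG : IsMinSimpleOddOrder G) {M X : Subgroup G} (hM : IsCoatom M)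
    {p : ℕ} (hp : p ∈ tau2 M) (hX : ElemN p 1 M X) (hC : sigmaCore M ⊓ 𝐂(X) ≠ ⊥) :
    UniqMax 𝐂(X) M := by
  obtain ⟨A, hA, -, hAX⟩ := s12_ex_elemN_cent hG hM hp hX.isPGroup hX.le
  exact s12_uniqMax hG hM hp hA hAX (mFT_cent_ne_top hG (hX.ne_bot hp.1 one_pos)) hC

/-- a `τ₁(M) ∪ τ₃(M)`-element of `M` centralising `A` acts fixed-point-freely on `M_σ` -/
theorem s12_reg (hG : IsMinSimpleOddOrder G) {M A : Subgroup G} (hM : IsCoatom M)
    {p : ℕ} (hp : p ∈ tau2 M) (hA : ElemN p 2 M A) {x : G} (hx : x ∈ M) (h1 : x ≠ 1)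
    (hτ : PiElt (tau1 M ∪ tau3 M) x) (hc : x ∈ 𝐂(A)) : sigmaCore M ⊓ 𝐂₁(x) = ⊥ := by
  obtain ⟨q, hq, hd, y, hy, ho⟩ := exists_prime_order_mem_zpowers h1
  have : Fact q.Prime := ⟨hq⟩
  have hqτ : q ∈ tau1 M ∨ q ∈ tau3 M := piElt_iff.1 hτ q hq hd
  have hX : ElemN q 1 M (zpowers y) := elemN_zpowers hq ((zpowers_le.2 hx) hy) ho
  obtain ⟨L, hL, hN⟩ := mmax_exists (mFT_norm_pgroup_ne_top hG hX.isPGroup (hX.ne_bot hq one_pos))
  have hne : L ≠ M := by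
    have := t12_2b hG hM hL hX.isPGroup hX.le hN (Or.inr hqτ) 1
    rwa [cj_one] at this
  have hAL : A ≤ L := (cent_symm ((zpowers_le.2 hy).trans (zpowers_le.2 hc))).trans
    ((cent_le_norm _).trans hN)
  refine eq_bot_iff.2 (le_trans (inf_le_inf_left _ ?_) (t12_5e hG hM hp hA hL hne hAL).le)
  rw [← cent_zpowers]
  exact (cent_anti (zpowers_le.2 hy)).trans ((cent_le_norm _).trans hN)

/-- `A` centralises every normal `p'`-subgroup of `E` -/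
theorem s12_cent_normal (hG : IsMinSimpleOddOrder G) {M E A K : Subgroup G} (hM : IsCoatom M)
    (hE : Hall (sigma M)ᶜ E M) {p : ℕ} (hp : p ∈ tau2 M) (hA : ElemN p 2 E A) (hK : K ⊴ E)
    (hd : ¬ p ∣ Nat.card K) : A ≤ 𝐂(K) :=
  (hA.piGrp hp.1 (Set.mem_singleton p)).le_cent ((piGrp_compl_singleton_iff hp.1).2 hd)
    (hA.le.trans hK.norm) (hK.le.trans (t12_6a hG hM hE hp hA).1.norm)

/-- BG 12.6(d), (e), and `A` centralises `E₃` -/
theorem t12_6de (hG : IsMinSimpleOddOrder G) {M E E₁ E₃ A : Subgroup G} (hM : IsCoatom M)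
    (hE : Hall (sigma M)ᶜ E M) (h₁ : Hall (tau1 M) E₁ E) (h₃ : Hall (tau3 M) E₃ E)
    {p : ℕ} (hp : p ∈ tau2 M) (hA : ElemN p 2 E A) :
    Semiregular (sigmaCore M) E₃ ∧ Semiregular (sigmaCore M) (E₁ ⊓ 𝐂(A)) ∧ A ≤ 𝐂(E₃) := by
  have hc : A ≤ 𝐂(E₃) := s12_cent_normal hG hM hE hp hA (t12_1b hG hM hE h₃).2
    (h₃.pi.not_dvd hp.1 fun h => s12_tau3_not2 h hp)
  refine ⟨fun x hx h1 => ?_, fun x hx h1 => ?_, hc⟩
  · exact s12_reg hG hM hp (hA.mono hE.le) (hE.le (h₃.le hx)) h1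
      ((h₃.pi.piElt hx).mono Set.subset_union_right) (cent_symm hc hx)
  · exact s12_reg hG hM hp (hA.mono hE.le) (hE.le (h₁.le hx.1)) h1
      ((h₁.pi.piElt hx.1).mono Set.subset_union_left) hx.2

/-- BG 12.6(f) -/
theorem t12_6f (hG : IsMinSimpleOddOrder G) {M Mstar : Subgroup G} (hM : IsCoatom M)
    {p : ℕ} (hp : p ∈ tau2 M) (hMs : IsCoatom Mstar) (hnj : ∀ g : G, Mstar ≠ cj g M) :
    (Nat.card (sigmaCore M)).Coprime (Nat.card (sigmaCore Mstar)) ∧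
      Disjoint (sigma M) (sigma Mstar) := by
  have h := (t10_12b hG hM hMs hnj (t12_5a hG hM hp)).2
  exact ⟨(s12_sigmaCore_pi M).coprime_of_disjoint (s12_sigmaCore_pi Mstar) h, h⟩

end CL.BG
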