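import Cfsg.Agent.Base
import Cfsg.Agent.BG.T12_6
import Cfsg.Agent.BG.T10_10
import Cfsg.Agent.BG.T10_13
import Cfsg.Agent.BG.Frob
import Cfsg.Agent.Solv.Gaschutz

/-!
# BG Theorem 12.7: `p ∈ τ₂(M)` with nonabelian Sylow `p`-subgroups of `G`
-/

namespace CL.BG

open Cfsg Subgroup

variable {G : Type*} [Group G] [Finite G]

/-- Gaschütz's theorem for subgroups of an ambient group -/
theorem s12_gaschutz {K B U L : Subgroup G} (hK : K ⊴ L) (hc : IsMulCommutative K) (hU : U ≤ L)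
    (hcop : (Nat.card K).Coprime (U.relIndex L)) (h : SDP K B U) : ∃ H, SDP K H L := by
  have := hK.normal
  have : IsMulCommutative (K.subgroupOf L) := by
    have := hc
    infer_instance
  have hBL : B ≤ L := h.right_le.trans hU
  obtain ⟨H, hH⟩ := CL.Gaschutz.exists_complement (K := K.subgroupOf L) (U := U.subgroupOf L)
    (A := B.subgroupOf L) (comap_mono h.left_le)
    (by rwa [Nat.card_congr (subgroupOfEquivOfLe hK.le).toEquiv])
    (by rw [← subgroupOf_inf', h.disj', bot_subgroupOf])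
    (by rw [← subgroupOf_sup hK.le hBL, h.sup])
  have h1 := sdp_map_subtype hH
  rw [map_subgroupOf_eq_of_le hK.le] at h1
  exact ⟨_, h1⟩

/-- if a Sylow `p`-subgroup of `G` is abelian, so is every `p`-subgroup -/
theorem s12_comm_of_sylow {S P : Subgroup G} {p : ℕ} (hp : p.Prime) (hS : SylowOf p S ⊤)
    (hc : IsMulCommutative S) (hP : IsPGroup p P) : IsMulCommutative P := by
  have : Fact p.Prime := ⟨hp⟩
  obtain ⟨g, -, hg⟩ := sylow_le_conj hS hP le_top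
  exact comm_of_le (comm_cj.2 hc) hg

/-- BG 12.7(a) -/
theorem s12_7a (hG : IsMinSimpleOddOrder G) {M P : Subgroup G} (hM : IsCoatom M)
    {p : ℕ} (hp : p ∈ tau2 M) (hP : IsPGroup p P) (hPna : ¬ IsMulCommutative P) :
    tau2 M = {p} := by
  have : Fact p.Prime := ⟨hp.1⟩
  obtain ⟨E, hE⟩ := hall_exists (sigma M)ᶜ (mmax_sol hG hM)
  obtain ⟨A, hA⟩ := ex_tau2Elem hG hM hE hp
  refine Set.eq_singleton_iff_unique_mem.2 ⟨hp, fun q hq => ?_⟩
  by_contra hne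
  have : Fact q.Prime := ⟨hq.1⟩
  obtain ⟨B, hB⟩ := ex_tau2Elem hG hM hE hq
  have hBE := (t12_6a hG hM hE hq hB).1
  have hAB : A ≤ 𝐂(B) := s12_cent_normal hG hM hE hp hA hBE
    ((hB.piGrp hq.1 (Set.mem_singleton q)).not_dvd hp.1 fun h => hne h.symm)
  obtain ⟨Q, hQ, hBQ⟩ := maxInv_exists (H := ⊤) (A := A) (Y := B) (π := {q})
    (mem_invSubgroups.2 ⟨le_top, hB.piGrp hq.1 rfl, hA.le.trans hBE.norm⟩)
  obtain ⟨S, hS, -, -, -, hc⟩ := t10_10 hG (fun h => hne h.symm) hA.top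
    ((t12_1g hG hM hp).2 A (hA.mono hE.le)) hQ ((hB.of_le (cent_symm hAB)).dvd_card' two_pos)
  have h1 := hc (narrow_of_maxElem (hB.of_le hBQ)
    (((t12_1g hG hM hq).2 B (hB.mono hE.le)).of_top hBQ))
  have h2 : S ≤ M := ((h1.trans (cent_anti hBQ)).trans (t12_6b hG hM hE hq hB).1).trans hE.le
  exact hPna (s12_comm_of_sylow hp.1 hS (t12_5b1 hG hM hp hS.isPGroup h2) hP)

/-- BG 12.7; `A₀ = C_A(M_σ)`; `P` is any nonabelian `p`-subgroup of `G`. -/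
theorem t12_7 (hG : IsMinSimpleOddOrder G) {M E A P : Subgroup G} (hM : IsCoatom M)
    (hE : Hall (sigma M)ᶜ E M) {p : ℕ} (hp : p ∈ tau2 M) (hA : ElemN p 2 E A)
    (hP : IsPGroup p P) (hPna : ¬ IsMulCommutative P) :
    tau2 M = {p} ∧
      (Nat.card ↥(A ⊓ 𝐂(sigmaCore M)) = p ∧
        DP (sigmaCore M) (A ⊓ 𝐂(sigmaCore M)) (fittingOf M)) ∧
      (∀ X : Subgroup G, ElemN p 1 E X → X ≠ A ⊓ 𝐂(sigmaCore M) →
        sigmaCore M ⊓ 𝐂(X) = ⊥ ∧ ¬ 𝐂(X) ≤ M) ∧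
      ∃ E₀ : Subgroup G, SDP (A ⊓ 𝐂(sigmaCore M)) E₀ E ∧
        ∀ x ∈ sigmaCore M, x ≠ 1 → PiGrp (tau1 M) (E₀ ⊓ 𝐂₁(x)) := by
  have hpp := hp.1
  have : Fact p.Prime := ⟨hpp⟩
  have ha := s12_7a hG hM hp hP hPna
  have hAM := hA.mono hE.le
  obtain ⟨hAE, hE1⟩ := t12_6a hG hM hE hp hA
  obtain ⟨R, hR, hAR⟩ := sylow_superset hA.isPGroup hA.le
  have hRM : SylowOf p R M := hR.trans_hall hE hp.2.1
  have hRc := t12_5b1 hG hM hp hR.isPGroup hRM.hall.le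
  obtain ⟨S, hS, hRS⟩ := sylow_superset hR.isPGroup (le_top : R ≤ ⊤)
  have hAS := hAR.trans hRS
  have hSna : ¬ IsMulCommutative S := fun h => hPna (s12_comm_of_sylow hpp hS h hP)
  have hSM : ¬ S ≤ M := fun h => hSna (t12_5b1 hG hM hp hS.isPGroup h)
  have hSMR : S ⊓ M = R :=
    hRM.eq_of_le' (hS.isPGroup.to_le inf_le_left) (le_inf hRS hRM.hall.le) inf_le_right
  have hCS : S ⊓ 𝐂(A) = R := le_antisymm
    ((inf_le_inf_left S (t12_4a hG hM hAM)).trans hSMR.le)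
    (le_inf hRS (le_cent_of_comm_of_le hRc le_rfl hAR))
  obtain ⟨hZ₀, ⟨Z, hZc, hZ₀Z, hdp⟩, htr⟩ :=
    t10_13 hG hA.top ((t12_1g hG hM hp).2 A hAM) hS.isPGroup hAS hSna
  rw [hCS] at hdp
  have hcop : (Nat.card (sigmaCore M)).Coprime (Nat.card A) := s12_coprime (hA.piGrp hpp hp.2.1)
  have hgen : ∀ L : Subgroup G, (∀ X, ElemN p 1 A X → sigmaCore M ⊓ 𝐂(X) ≤ L) →
      sigmaCore M ≤ L := fun L h =>
    t1_16a hA.comm (hA.not_isCyclic hpp le_rfl) (s12_norm_sigmaCore hAM.le) hcop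
      fun a ha h1 => by
        rw [← cent_zpowers]
        exact h _ (hA.zpowers hpp ha h1)
  obtain ⟨A₀, hA₀, hC₀⟩ : ∃ A₀, ElemN p 1 A A₀ ∧ sigmaCore M ⊓ 𝐂(A₀) ≠ ⊥ := by
    by_contra hc
    push Not at hc
    exact t10_2e hG hM (eq_bot_iff.2 (hgen ⊥ fun X hX => (hc X hX).le))
  have hu₀ := t12_6c hG hM hp (hA₀.mono hAM.le) hC₀
  have hZ₀M : ¬ 𝐂(omegaOne p 𝐙(S)) ≤ M := fun h => hSM ((le_cent_omegaOne_center p S).trans h)
  have hne₀ : A₀ ≠ omegaOne p 𝐙(S) := fun h => hZ₀M (h ▸ hu₀.le)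
  have hreg : ∀ X : Subgroup G, ElemN p 1 A X → X ≠ A₀ →
      sigmaCore M ⊓ 𝐂(X) = ⊥ ∧ ¬ 𝐂(X) ≤ M := by
    intro X hX hne
    suffices h : ¬ 𝐂(X) ≤ M by
      refine ⟨?_, h⟩
      by_contra hc
      exact h (t12_6c hG hM hp (hX.mono hAM.le) hc).le
    by_cases hXZ : X = omegaOne p 𝐙(S)
    · rwa [hXZ]
    obtain ⟨x, hx, rfl⟩ := htr A₀ X hA₀ hne₀ hX hXZ
    intro h
    rw [← cj_cent] at h
    have hxR : x ∈ R := hSMR ▸ (⟨hx.1, hu₀.mem_of_cj_le hG h⟩ : x ∈ S ⊓ M)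
    exact hne (cj_eq_of_mem_cent (le_cent_of_comm_of_le hRc le_rfl (hA₀.le.trans hAR) hxR))
  have hc₀ : sigmaCore M ≤ 𝐂(A₀) := hgen _ fun X hX => by
    by_cases h : X = A₀
    · rw [h]
      exact inf_le_right
    · rw [(hreg X hX h).1]
      exact bot_le
  have e₀ : A ⊓ 𝐂(sigmaCore M) = A₀ := by
    have h1 : A₀ ≤ A ⊓ 𝐂(sigmaCore M) := le_inf hA₀.le (cent_symm hc₀)
    have h2 : A ⊓ 𝐂(sigmaCore M) ≠ A := by
      intro h
      refine t10_2e hG hM ?_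
      rw [← t12_5d hG hM hp hAM]
      exact (inf_eq_left.2 (cent_symm (h.ge.trans inf_le_right))).symm
    exact (hA₀.eq_of_le (hA.one_of_two hpp inf_le_left
      (ne_bot_of_le (hA₀.ne_bot hpp one_pos) h1) h2) h1).symm
  have hn₀E : A₀ ⊴ E := by
    rw [← e₀]
    exact ⟨inf_le_left.trans hA.le, norms_inf_cent hAE.norm (s12_norm_sigmaCore hE.le)⟩
  have hn₀ : A₀ ⊴ M := by
    refine ⟨hA₀.le.trans hAM.le, ?_⟩
    rw [← (sdprod_sigma hG hM hE).sup]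
    exact sup_le (le_norm_of_le_cent hc₀) hn₀E.norm
  have hdpZ := hdp A₀ hA₀ hne₀
  rw [e₀]
  refine ⟨ha, ⟨hA₀.card_one, ?_, cent_symm hc₀, s12_disj (hA₀.piGrp hpp hp.2.1)⟩,
    fun X hX hne => hreg X ((hE1 X).1 hX) hne, ?_⟩
  · refine le_antisymm (sup_le (le_fit (s12_sigmaCore_normal M) (t12_5a hG hM hp))
      (le_fit hn₀ hA₀.nilpotent)) (fit_le_of_forall_pcore_le fun q hq => ?_)
    have : Fact q.Prime := ⟨hq⟩
    by_cases hO : piCoreOf {q} M = ⊥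
    · rw [hO]
      exact bot_le
    rcases t12_2a hG hM (isPGroup_piCoreOf hq M)
      (mmax_normal hG hM (piCoreOf_normalIn {q} M) hO).le with h | h
    · exact (le_sigmaCore hG hM (piCoreOf_le _ M)
        (piGrp_of_isPGroup hq (isPGroup_piCoreOf hq M) h)).trans le_sup_left
    · rw [ha] at h
      obtain rfl : q = p := h
      have h1 : piCoreOf {q} M ≤ R := hRM.hall.piCoreOf_le
      have h2 : piCoreOf {q} M ≤ 𝐂(sigmaCore M) :=
        le_cent_piCoreOf (piCoreOf_normalIn _ M)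
          (piGrp_of_isPGroup hq (isPGroup_piCoreOf hq M) hp.2.1)
      have h3 : piCoreOf {q} M ⊓ Z = ⊥ := by
        by_contra hc
        have h4 := omegaOne_le_of_isCyclic' hq hZc (hR.isPGroup.to_le hdpZ.right_le) hc
        have h5 : omegaOne q 𝐙(S) ≤ 𝐂(sigmaCore M) :=
          ((hZ₀.of_le hZ₀Z).le_omegaOne.trans h4).trans h2
        refine t10_2e hG hM ?_
        rw [← (hreg _ hZ₀ hne₀.symm).1]
        exact (inf_eq_left.2 (cent_symm h5)).symm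
      have h6 := (hdpZ.modl' (le_piCoreOf_of_isPGroup hq hn₀ hA₀.isPGroup) h1).sup
      rw [inf_comm, h3, sup_bot_eq] at h6
      exact h6.ge.trans le_sup_right
  · obtain ⟨E₀, hE₀⟩ := s12_gaschutz hn₀E hA₀.comm hR.hall.le
      (by rw [hA₀.card_one]; exact (Nat.Prime.coprime_iff_not_dvd hpp).2 hR.not_dvd) hdpZ.sdp
    refine ⟨E₀, hE₀, fun x hx h1 => piGrp_iff.2 fun q hq hd => ?_⟩
    obtain ⟨X, hX⟩ := exists_elemN_one_of_dvd hq hd
    have hXE : ElemN q 1 E X := hX.mono (inf_le_left.trans hE₀.right_le)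
    have hCX : sigmaCore M ⊓ 𝐂(X) ≠ ⊥ :=
      ne_bot_of_mem (x := x) ⟨hx, le_cent1_iff.1 (hX.le.trans inf_le_right)⟩ h1
    rcases s12_tau_cases hG hM hE.le hE.pi hq (hXE.dvd_card' one_pos) with h | h | h
    · exact h
    · rw [ha] at h
      obtain rfl : q = p := h
      refine absurd (hreg X ((hE1 X).1 hXE) ?_).1 hCX
      rintro rfl
      exact hX.ne_bot hq one_pos (eq_bot_iff.2
        ((le_inf le_rfl (hX.le.trans inf_le_left)).trans hE₀.disj.le))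
    · obtain ⟨E₁, E₂, E₃, hs⟩ := ex_sigmaCompl hG hM hE
      refine absurd ((t12_6de hG hM hE hs.hall1 hs.hall3 hp hA).1.inf_cent_eq_bot ?_
        (hX.ne_bot hq one_pos)) hCX
      exact hs.hall3.le_of_normal (t12_1b hG hM hE hs.hall3).2.norm hXE.le (hX.piGrp hq h)

end CL.BG
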