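import Cfsg.Agent.Base
import Cfsg.Agent.BG.T12_7
import Cfsg.Agent.BG.T10_7
import Cfsg.Agent.BG.T4_20

/-!
# BG Lemma 12.8: `p ∈ τ₂(M)` with abelian Sylow `p`-subgroups of `G`
-/

namespace CL.BG

open Cfsg Subgroup
open scoped commutatorElement

variable {G : Type*} [Group G] [Finite G]

/-- If `L'` centralises the `L`-invariant subgroup `K`, then `[K, X]` and `C_K(X)` are
`L`-invariant for every `X ≤ L`. -/
theorem s12_norms_of_der_cent {L K X : Subgroup G} (hK : L ≤ 𝐍(K)) (hX : X ≤ L)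
    (hd : ⁅L, L⁆ ≤ 𝐂(K)) : L ≤ 𝐍(K ⊓ 𝐂(X)) ∧ L ≤ 𝐍(⁅K, X⁆) := by
  constructor
  · intro g hg
    refine mem_norm_of_cj_le ?_
    rw [cj_inf, cj_cent, cj_eq_of_mem_norm (hK hg)]
    rintro k ⟨hk, hc⟩
    refine ⟨hk, mem_cent.2 fun x hx => ?_⟩
    have h1 := mem_cent.1 hc _ (conj_mem_cj.2 hx)
    have h2 := mem_cent.1 (hd (commutator_mem_commutator hg (hX hx))) k hk
    have h3 : g * x * g⁻¹ = ⁅g, x⁆ * x := by simp [commutatorElement_def]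
    rw [h3, mul_assoc, ← mul_assoc k, h2, mul_assoc] at h1
    exact mul_left_cancel h1
  · intro g hg
    refine mem_norm_of_cj_le ?_
    rw [cj_commutator, cj_eq_of_mem_norm (hK hg), commutator_le]
    intro k hk y hy
    obtain ⟨x, hx, rfl⟩ := mem_cj'.1 hy
    have hc := hd (commutator_mem_commutator hg (hX hx))
    have hkx : ⁅k, x⁆ ∈ ⁅K, X⁆ := commutator_mem_commutator hk hx
    have h1 := mem_cent.1 hc k hk
    have h2 := mem_cent.1 hc _ (commutator_le_left_of_norm (hX.trans hK) hkx)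
    have h3 : g * x * g⁻¹ = ⁅g, x⁆ * x := by simp [commutatorElement_def]
    have h4 : ⁅k, ⁅g, x⁆ * x⁆ = ⁅g, x⁆ * ⁅k, x⁆ * ⁅g, x⁆⁻¹ := by
      generalize ⁅g, x⁆ = c at h1
      rw [commutatorElement_def, commutatorElement_def, ← mul_assoc k c x, h1]
      group
    rw [h3, h4, ← h2, mul_inv_cancel_right]
    exact hkx

/-- an abelian Hall subgroup of a nilpotent group is central -/
theorem s12_nil_le_cent_hall {N K : Subgroup G} {π : Set ℕ} (hN : Group.IsNilpotent N)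
    (hK : Hall π K N) (hc : IsMulCommutative K) : N ≤ 𝐂(K) := by
  rw [← (nil_core_dp hN π).sup, ← nil_hall_eq_core hN hK]
  exact sup_le (le_cent_of_comm hc)
    (cent_symm (nil_cent_of_pi hN hK.le (piCoreOf_le _ _) hK.pi (piGrp_piCoreOf _ _)))

theorem s12_nil_le_cent {N P S : Subgroup G} {p : ℕ} (hp : p.Prime) (hS : SylowOf p S ⊤)
    (hc : IsMulCommutative S) (hN : Group.IsNilpotent N) (hP : IsPGroup p P) (hle : P ≤ N) :
    N ≤ 𝐂(P) := by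
  have : Fact p.Prime := ⟨hp⟩
  exact (s12_nil_le_cent_hall hN (nil_sylow_core hN p).hall
    (s12_comm_of_sylow hp hS hc (isPGroup_piCoreOf hp N))).trans
    (cent_anti (nil_pgroup_le_core hN hle hP))

theorem s12_fit_eq {A H S : Subgroup G} {p : ℕ} (hp : p.Prime) (hS : SylowOf p S ⊤)
    (hc : IsMulCommutative S) (hA : IsPGroup p A) (hn : A ⊴ H) (hC : 𝐂(A) ≤ H) :
    fittingOf 𝐂(A) = fittingOf H := by
  have : Fact p.Prime := ⟨hp⟩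
  exact fit_eq_of_le_of_normal ⟨hC, norms_cent hn.norm⟩
    (s12_nil_le_cent hp hS hc (fit_nil H) hA (le_fit_of_isPGroup hn hA))

theorem s12_omega_sylow (hG : IsMinSimpleOddOrder G) {M A S : Subgroup G} (hM : IsCoatom M)
    {p : ℕ} (hp : p ∈ tau2 M) (hA : ElemN p 2 M A) (hAS : A ≤ S) (hSc : IsMulCommutative S) :
    omegaOne p S = A :=
  ((t12_1g hG hM hp).2 A hA).omegaOne_eq hAS le_top (le_cent_of_comm_of_le hSc le_rfl hAS)

/-- BG 12.8(c) -/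
theorem t12_8c (hG : IsMinSimpleOddOrder G) {M E A S : Subgroup G} (hM : IsCoatom M)
    (hE : Hall (sigma M)ᶜ E M) {p : ℕ} (hp : p ∈ tau2 M) (hA : ElemN p 2 E A)
    (hS : SylowOf p S ⊤) (hAS : A ≤ S) (hSc : IsMulCommutative S) :
    S ≤ ⁅𝐍(S), 𝐍(S)⁆ ∧ ⁅𝐍(S), 𝐍(S)⁆ ≤ fittingOf E ∧ fittingOf E ≤ 𝐂(S) ∧ 𝐂(S) ≤ E := by
  have : Fact p.Prime := ⟨hp.1⟩
  have hCE := (t12_6b hG hM hE hp hA).1
  have h1 := t10_7a hG hS
  have e1 := s12_fit_eq hp.1 hS hSc hA.isPGroup (t12_6a hG hM hE hp hA).1 hCE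
  have e2 := s12_fit_eq hp.1 hS hSc hA.isPGroup (NormalIn.norm_self A) (cent_le_norm A)
  have hN : 𝐍(S) ≤ 𝐍(A) := by
    rw [← s12_omega_sylow hG hM hp (hA.mono hE.le) hAS hSc]
    exact norm_le_norm_omegaOne p S
  have h2 : ⁅𝐍(S), 𝐍(S)⁆ ≤ fittingOf E := by
    refine (commutator_mono hN hN).trans ?_
    rw [← e1, e2]
    refine t4_20a (mFT_sol hG (mFT_norm_pgroup_ne_top hG hA.isPGroup (hA.ne_bot hp.1 two_pos)))
      (mFT_odd hG _) ?_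
    rw [← e2, e1]
    exact (rank_mono (fit_le E)).trans (rank_sigma_compl_le hG hM hE.le hE.pi)
  exact ⟨h1, h2, s12_nil_le_cent hp.1 hS hSc (fit_nil E) hS.isPGroup (h1.trans h2),
    (cent_anti hAS).trans hCE⟩

/-- if one prime of `τ₂(M)` has abelian Sylow subgroups, all do -/
theorem s12_tau2_comm (hG : IsMinSimpleOddOrder G) {M S Q : Subgroup G} (hM : IsCoatom M)
    {p q : ℕ} (hp : p ∈ tau2 M) (hS : SylowOf p S ⊤) (hSc : IsMulCommutative S)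
    (hq : q ∈ tau2 M) (hQ : IsPGroup q Q) : IsMulCommutative Q := by
  by_contra h
  have h1 := s12_7a hG hM hq hQ h
  rw [h1] at hp
  obtain rfl : p = q := hp
  exact h (s12_comm_of_sylow hq.1 hS hSc hQ)

/-- BG 12.8(a), (b) -/
theorem t12_8ab (hG : IsMinSimpleOddOrder G) {M E E₂ S : Subgroup G} (hM : IsCoatom M)
    (hE : Hall (sigma M)ᶜ E M) (h₂ : Hall (tau2 M) E₂ E) {p : ℕ} (hp : p ∈ tau2 M)
    (hS : SylowOf p S ⊤) (hSc : IsMulCommutative S) :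
    E₂ ⊴ E ∧ IsMulCommutative E₂ ∧ Hall (tau2 M) E₂ ⊤ := by
  have hidx : PiNat (tau2 M)ᶜ ((fittingOf E).relIndex ⊤) := by
    refine piNat_iff.2 fun q hq hd hq2 => ?_
    have : Fact q.Prime := ⟨hq⟩
    obtain ⟨B, hB⟩ := ex_tau2Elem hG hM hE hq2
    obtain ⟨T, hT, hBT⟩ := sylow_superset hB.isPGroup (le_top : B ≤ ⊤)
    obtain ⟨h1, h2, -, -⟩ := t12_8c hG hM hE hq2 hB hT hBT
      (s12_tau2_comm hG hM hp hS hSc hq2 hT.isPGroup)
    exact hT.not_dvd (hd.trans (relIndex_dvd_of_le_left ⊤ (h1.trans h2)))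
  have hK : Hall (tau2 M) (piCoreOf (tau2 M) (fittingOf E)) ⊤ :=
    (nil_hall_core (fit_nil E) _).trans_idx le_top hidx
  have hn := core_fit_normal (tau2 M) E
  have e : E₂ = piCoreOf (tau2 M) (fittingOf E) :=
    (hK.restrict hn.le le_top).eq_of_normal hn.norm h₂
  refine ⟨e ▸ hn, ?_, e ▸ hK⟩
  refine nil_comm_of_forall_core_comm (nil_of_le_fit (e.le.trans (piCoreOf_le _ _)))
    fun q hq hd => ?_
  exact s12_tau2_comm hG hM hp hS hSc (piGrp_iff.1 h₂.pi q hq hd) (isPGroup_piCoreOf hq _)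

/-- in the abelian case `E₃ E₂` is an abelian subgroup of the centre of `F(E)` -/
theorem s12_hall32_comm (hG : IsMinSimpleOddOrder G) {M E E₂ E₃ S : Subgroup G} (hM : IsCoatom M)
    (hE : Hall (sigma M)ᶜ E M) (h₂ : Hall (tau2 M) E₂ E) (h₃ : Hall (tau3 M) E₃ E)
    {p : ℕ} (hp : p ∈ tau2 M) (hS : SylowOf p S ⊤) (hSc : IsMulCommutative S) :
    IsMulCommutative ↥(E₃ ⊔ E₂) ∧ Hall (tau1 M)ᶜ (E₃ ⊔ E₂) (fittingOf E) ∧
      fittingOf E ≤ 𝐂(E₃ ⊔ E₂) := by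
  obtain ⟨n2, c2, -⟩ := t12_8ab hG hM hE h₂ hp hS hSc
  have n3 := (t12_1b hG hM hE h₃).2
  have c3 := comm_of_isCyclic (t12_1d3 hG hM (h₃.le.trans hE.le) h₃.pi)
  have hc : IsMulCommutative ↥(E₃ ⊔ E₂) := comm_sup c3 c2
    (h₂.pi.le_cent (h₃.pi.mono fun _ h => s12_tau3_not2 h) (h₂.le.trans n3.norm)
      (h₃.le.trans n2.norm))
  have hK : Hall (tau1 M)ᶜ (E₃ ⊔ E₂) (fittingOf E) :=
    (s12_hall32 hG hM hE h₂ h₃).1.restrict (le_fit_of_comm (n3.sup n2) hc) (fit_le E)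
  exact ⟨hc, hK, s12_nil_le_cent_hall (fit_nil E) hK hc⟩

/-- BG 12.8(d) -/
theorem t12_8d (hG : IsMinSimpleOddOrder G) {M E E₂ E₃ A S : Subgroup G} (hM : IsCoatom M)
    (hE : Hall (sigma M)ᶜ E M) (h₂ : Hall (tau2 M) E₂ E) (h₃ : Hall (tau3 M) E₃ E)
    {p : ℕ} (hp : p ∈ tau2 M) (hA : ElemN p 2 E A)
    (hS : SylowOf p S ⊤) (hAS : A ≤ S) (hSc : IsMulCommutative S) :
    𝐍(A) = 𝐍(S) ∧ 𝐍(S) = 𝐍(E₂) ∧ 𝐍(E₂) = 𝐍(E₃ ⊔ E₂) ∧ 𝐍(E₃ ⊔ E₂) = 𝐍(fittingOf E) := by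
  have : Fact p.Prime := ⟨hp.1⟩
  obtain ⟨n2, c2, -⟩ := t12_8ab hG hM hE h₂ hp hS hSc
  obtain ⟨hc, hK, -⟩ := s12_hall32_comm hG hM hE h₂ h₃ hp hS hSc
  have hSE : S ≤ E := (le_cent_of_comm hSc).trans (t12_8c hG hM hE hp hA hS hAS hSc).2.2.2
  have i1 : 𝐍(S) ≤ 𝐍(A) := by
    rw [← s12_omega_sylow hG hM hp (hA.mono hE.le) hAS hSc]
    exact norm_le_norm_omegaOne p S
  have i2 : 𝐍(E₂) ≤ 𝐍(S) := nil_sylow_norm_le (p := p) (nil_of_comm c2)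
    (hS.hall.restrict (h₂.le_of_normal n2.norm hSE (piGrp_of_isPGroup hp.1 hS.isPGroup hp)) le_top)
  have i3 : 𝐍(E₃ ⊔ E₂) ≤ 𝐍(E₂) := nil_hall_norm_le (nil_of_comm hc)
    (h₂.restrict le_sup_right (sup_le h₃.le h₂.le))
  have i4 : 𝐍(fittingOf E) ≤ 𝐍(E₃ ⊔ E₂) := nil_hall_norm_le (fit_nil E) hK
  have i5 : 𝐍(A) ≤ 𝐍(fittingOf E) := by
    rw [← s12_fit_eq hp.1 hS hSc hA.isPGroup (t12_6a hG hM hE hp hA).1 (t12_6b hG hM hE hp hA).1]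
    exact (norm_le_norm_cent A).trans (norm_le_norm_fit _)
  exact ⟨le_antisymm (i5.trans (i4.trans (i3.trans i2))) i1,
    le_antisymm (i1.trans (i5.trans (i4.trans i3))) i2,
    le_antisymm (i2.trans (i1.trans (i5.trans i4))) i3,
    le_antisymm (i3.trans (i2.trans (i1.trans i5))) i4⟩

/-- BG 12.8(e), for any subgroup of prime order `q ∈ τ₁(M)` of `E` -/
theorem t12_8e (hG : IsMinSimpleOddOrder G) {M E S X : Subgroup G} (hM : IsCoatom M)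
    (hE : Hall (sigma M)ᶜ E M) {p : ℕ} (hp : p ∈ tau2 M)
    (hS : SylowOf p S ⊤) (hSc : IsMulCommutative S) {q : ℕ} (hq : q ∈ tau1 M)
    (hX : ElemN q 1 E X) (hC : sigmaCore M ⊓ 𝐂(X) = ⊥) : X ≤ 𝐙(E) := by
  have : Fact p.Prime := ⟨hp.1⟩
  have : Fact q.Prime := ⟨hq.1⟩
  have hsol := mmax_sub_sol hG hM hE.le
  obtain ⟨A, hA⟩ := ex_tau2Elem hG hM hE hp
  obtain ⟨T, hT, hAT⟩ := sylow_superset hA.isPGroup (le_top : A ≤ ⊤)
  have hTc := s12_comm_of_sylow hp.1 hS hSc hT.isPGroup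
  obtain ⟨E₁, h₁, hX₁⟩ := hall_superset hsol hX.le (hX.piGrp hq.1 hq)
  obtain ⟨E₂, h₂⟩ := hall_exists (tau2 M) hsol
  obtain ⟨E₃, h₃⟩ := hall_exists (tau3 M) hsol
  obtain ⟨hK, -, hKn⟩ := s12_hall32 hG hM hE h₂ h₃
  obtain ⟨hc, -, hF⟩ := s12_hall32_comm hG hM hE h₂ h₃ hp hS hSc
  obtain ⟨e1, e2, e3, -⟩ := t12_8d hG hM hE h₂ h₃ hp hA hT hAT hTc
  have hKX : ⁅E₃ ⊔ E₂, X⁆ = ⊥ := by
    by_contra hne
    have h1 := (t10_11d hG hM (hK.le.trans hE.le) (hE.pi.of_le hK.le) hq.2.1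
      (hX.of_le (le_inf (hX.le.trans hE.le) (hX.le.trans hKn.norm))) hC
      (hK.pi.mono (Set.compl_subset_compl.2 (Set.singleton_subset_iff.2 hq))) hc).2.2
    have h2 := (s12_norms_of_der_cent (L := 𝐍(T)) (K := E₃ ⊔ E₂) (X := X) (e2.trans e3).le
      ((hX.le.trans hKn.norm).trans (e2.trans e3).ge)
      ((t12_8c hG hM hE hp hA hT hAT hTc).2.1.trans hF)).2
    rw [mmax_normal hG hM h1 hne, ← e1] at h2
    exact (t12_6b hG hM hE hp hA).2.2 h2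
  refine le_inf hX.le ?_
  rw [← (hK.sdp' hKn.norm h₁).sup, cent_sup]
  exact le_inf (commutator_eq_bot_iff''.1 hKX) (le_cent_of_comm_of_le
    (comm_of_isCyclic (t12_1d1 hG hM (h₁.le.trans hE.le) h₁.pi)) hX₁ le_rfl)

/-- BG 12.8(f) -/
theorem t12_8f (hG : IsMinSimpleOddOrder G) {M E A S X : Subgroup G} (hM : IsCoatom M)
    (hE : Hall (sigma M)ᶜ E M) {p : ℕ} (hp : p ∈ tau2 M) (hA : ElemN p 2 E A)
    (hS : SylowOf p S ⊤) (hAS : A ≤ S) (hSc : IsMulCommutative S) (hX : X ≤ 𝐍(S)) :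
    (S ⊓ 𝐂(X)) ⊴ 𝐍(S) ∧ ⁅S, X⁆ ⊴ 𝐍(S) := by
  obtain ⟨-, h2, h3, -⟩ := t12_8c hG hM hE hp hA hS hAS hSc
  obtain ⟨h4, h5⟩ := s12_norms_of_der_cent le_rfl hX (h2.trans h3)
  exact ⟨⟨inf_le_left.trans (le_norm_self S), h4⟩,
    ⟨(commutator_le_left_of_norm hX).trans (le_norm_self S), h5⟩⟩

end CL.BG
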