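import Cfsg.Agent.Base
import Cfsg.Agent.BG.T12_8

/-!
# BG Corollary 12.10
-/

namespace CL.BG

open Cfsg Subgroup

variable {G : Type*} [Group G] [Finite G]

/-- BG 12.10(a) -/
theorem t12_10a (hG : IsMinSimpleOddOrder G) {M N : Subgroup G} (hM : IsCoatom M)
    (hNM : N ≤ M) (hN : PiGrp (sigma M)ᶜ N) (hnil : Group.IsNilpotent N) :
    IsMulCommutative N := by
  refine nil_comm_of_forall_core_comm hnil fun p hp hd => ?_
  have h1 := isPGroup_piCoreOf hp N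
  have h2 := (piCoreOf_le {p} N).trans hNM
  rcases s12_tau_cases hG hM hNM hN hp hd with h | h | h
  · exact comm_of_isCyclic (tau13_isCyclic hG (Or.inl h) h2 h1)
  · exact t12_5b1 hG hM h h1 h2
  · exact comm_of_isCyclic (tau13_isCyclic hG (Or.inr h) h2 h1)

/-- BG 12.10(b), `E'` is abelian -/
theorem t12_10b1 (hG : IsMinSimpleOddOrder G) {M E : Subgroup G} (hM : IsCoatom M)
    (hE : Hall (sigma M)ᶜ E M) : IsMulCommutative ↥⁅E, E⁆ :=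
  t12_10a hG hM ((NormalIn.der E).le.trans hE.le) (hE.pi.of_le (NormalIn.der E).le)
    (t12_1a hG hM hE)

/-- BG 12.10(b), `E₂` is abelian (stated for any `τ₂(M)`-subgroup of `M`) -/
theorem t12_10b2 (hG : IsMinSimpleOddOrder G) {M E₂ : Subgroup G} (hM : IsCoatom M)
    (hle : E₂ ≤ M) (h₂ : PiGrp (tau2 M) E₂) : IsMulCommutative E₂ := by
  by_cases hne : E₂ = ⊥
  · subst hne
    infer_instance
  obtain ⟨p, hp, hd⟩ := exists_prime_dvd_card hne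
  have : Fact p.Prime := ⟨hp⟩
  have h2 : p ∈ tau2 M := piGrp_iff.1 h₂ p hp hd
  obtain ⟨S, hS⟩ := sylow_exists p (⊤ : Subgroup G)
  by_cases hSc : IsMulCommutative S
  · obtain ⟨E, hE, hE₂⟩ := ex_sigma_compl hG hM hle (h₂.mono s12_tau2_sub)
    obtain ⟨F, hF, hF₂⟩ := hall_superset (mmax_sub_sol hG hM hE.le) hE₂ h₂
    exact comm_of_le (t12_8ab hG hM hE hF h2 hS hSc).2.1 hF₂
  · rw [s12_7a hG hM h2 hS.isPGroup hSc] at h₂
    exact t12_5b1 hG hM h2 (h₂.isPGroup hp) hle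

/-- BG 12.10(c) -/
theorem t12_10c (hG : IsMinSimpleOddOrder G) {M E A : Subgroup G} (hM : IsCoatom M)
    (hE : Hall (sigma M)ᶜ E M) {p : ℕ} (hp : p ∈ tau2 M) (hA : ElemN p 2 E A) :
    (E ⊓ 𝐂(A)) ⊴ E ∧ PiNat (tau1 M) ((E ⊓ 𝐂(A)).relIndex E) ∧
      ∀ X : Subgroup G, X ≤ E → PiGrp (tau1 M)ᶜ X → X ≤ 𝐂(A) := by
  obtain ⟨E₁, E₂, E₃, -, h₁, h₂, h₃, -⟩ := ex_sigmaCompl hG hM hE
  have hn := (t12_6a hG hM hE hp hA).1
  obtain ⟨hK, -, hKn⟩ := s12_hall32 hG hM hE h₂ h₃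
  have hc : E₃ ⊔ E₂ ≤ 𝐂(A) := sup_le (cent_symm (t12_6de hG hM hE h₁ h₃ hp hA).2.2)
    (le_cent_of_comm_of_le (t12_10b2 hG hM (h₂.le.trans hE.le) h₂.pi) le_rfl
      (h₂.normal_le hn (hA.piGrp hp.1 hp)))
  refine ⟨NormalIn.inf_cent hn.norm, piNat_iff.2 fun q hq hd => ?_,
    fun X hX hτ => (hK.le_of_normal hKn.norm hX hτ).trans hc⟩
  have := piNat_iff.1 hK.idx q hq (hd.trans (relIndex_dvd_of_le_left E (le_inf hK.le hc)))
  rwa [compl_compl] at this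

/-- BG 12.10(d) -/
theorem t12_10d (hG : IsMinSimpleOddOrder G) {M P : Subgroup G} (hM : IsCoatom M) {p : ℕ}
    (hp : p ∈ sigma M) (hP : IsPGroup p P) (hPM : P ≤ M) (hnc : ¬ IsCyclic P) : 𝐍(P) ≤ M := by
  have : Fact p.Prime := ⟨hp.1⟩
  obtain ⟨A, hA⟩ := exists_elemN_two_of_not_isCyclic hp.1 hP (mFT_odd hG P) hnc
  rw [← t10_1c hG hM hp hP hPM]
  exact sup_le inf_le_left ((cent_anti hA.le).trans (t12_4a hG hM (hA.mono hPM)))

/-- BG 12.10(e) -/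
theorem t12_10e (hG : IsMinSimpleOddOrder G) {M : Subgroup G} (hM : IsCoatom M) {x : G}
    (hx : x ∈ M) (hx1 : x ≠ 1) (hτ : PiElt (tau2 M) x) (hC : sigmaCore M ⊓ 𝐂₁(x) ≠ ⊥) :
    UniqMax 𝐂₁(x) M := by
  obtain ⟨p, hp, hd, -⟩ := exists_prime_order_mem_zpowers hx1
  have h2 : p ∈ tau2 M := piElt_iff.1 hτ p hp hd
  obtain ⟨F, hF, hxF⟩ := hall_superset (mmax_sol hG hM) (zpowers_le.2 hx) (piGrp_zpowers.2 hτ)
  obtain ⟨A, hA⟩ := exists_elemN_of_le_pRank (n := 2) (H := F) hp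
    (by rw [hF.pRank_eq hp h2, s12_tau2_rank h2])
  refine s12_uniqMax hG hM h2 (hA.mono hF.le) ?_ (mFT_cent1_ne_top hG hx1) hC
  rw [← cent_zpowers]
  exact le_cent_of_comm_of_le (t12_10b2 hG hM hF.le hF.pi) hA.le hxF

end CL.BG
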