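import Cfsg.Agent.BG.T13_10

/-! # Bender-Glauberman Corollary 13.11 -/

namespace CL.BG

open Cfsg Subgroup

variable {G : Type*} [Group G] [Finite G]

/-- BG 13.11 (Coq `tau13_nonregular`). -/
theorem t13_11 (hG : IsMinSimpleOddOrder G) {M E E₁ E₂ E₃ : Subgroup G} (hM : IsCoatom M)
    (hE : SigmaCompl M E E₁ E₂ E₃) (hreg : ¬ Semiregular (sigmaCore M) E₃) :
    E₁ ≠ ⊥ ∧ E₃ ⊔ E₁ = E ∧ Semiprime (sigmaCore M) E ∧
      ∀ X : Subgroup G, X ≤ E → (Nat.card X).Prime → X ⊴ E := by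
  have hE₂ : E₂ = ⊥ := a13_eq_bot_of_tau2 hE.hall2
    (a13_tau2_empty hG hM hE.hallE hE.hall1 hE.hall3 hreg)
  have hE₁ := t12_1c hG hM hE.hallE hE.hall1 hE.hall2 hE₂
  have hsup := hE.a13_sup_eq hG hM hE₂
  have hcent : ∀ p : ℕ, p.Prime → ∀ P, ElemN p 1 E₁ P → P ≤ 𝐂(E₃) := fun p hp P hP => by
    by_contra h
    exact hreg (t13_10 hG hM hE hp hP h).2.1
  obtain ⟨-, hn₃⟩ := t12_1b hG hM hE.hallE hE.hall3
  refine ⟨hE₁, hsup, hsup ▸ t13_7 hG hM hE fun h => ?_, fun X hXE hq => ?_⟩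
  · obtain ⟨p, hp, P, hP⟩ := a13_exists_elem hE₁
    have h1 := h.a13_cent_eq hP.le (hP.ne_bot hp one_pos)
    rw [inf_eq_left.2 (cent_symm (hcent p hp P hP))] at h1
    exact hreg fun x hx hx1 => absurd (h1 ▸ hx : x ∈ (⊥ : Subgroup G)) (by simpa using hx1)
  · have hX := elemN_one_of_card hq hXE rfl
    have hqL := hX.mem_primesOf hq one_pos
    rw [← hsup, primesOf_sup (Or.inl (hE.hall1.le.trans hn₃.norm))] at hqL
    rcases hqL with hq₃ | hq₁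
    · exact hn₃.of_isCyclic (t12_1d3 hG hM (hE.hall3.le.trans hE.hallE.le) hE.hall3.pi)
        (hE.hall3.le_of_normal hn₃.norm hXE (hX.piGrp hq (hE.hall3.pi.mem hq₃)))
    · obtain ⟨g, hg, hgX⟩ := hall_conj_le (mmax_sub_sol hG hM hE.hallE.le) hE.hall1 hXE
        (hX.piGrp hq (hE.hall1.pi.mem hq₁))
      rw [← normalIn_cj (g := g), cj_eq_of_mem hg]
      refine ⟨hgX.trans hE.hall1.le, le_norm_of_le_cent ?_⟩
      rw [← hsup]
      exact sup_le (cent_symm (hcent _ hq _ (hX.cj_of_le hgX))) (le_cent_of_comm_of_le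
        (comm_of_isCyclic (t12_1d1 hG hM (hE.hall1.le.trans hE.hallE.le) hE.hall1.pi)) le_rfl hgX)

end CL.BG
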