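import Cfsg.Agent.BG.T10_2

/-! BG Theorem 10.2(d), quotient forms -/

namespace CL.BG

open Cfsg

variable {G : Type*} [Group G] [Finite G]

/-- BG 10.2(d1): `r(M / M_α) ≤ 2` -/
theorem t10_2d_rank_quot (hG : IsMinSimpleOddOrder G) {M : Subgroup G} (hM : IsCoatom M) :
    rank (quot (alphaCore M) M) ≤ 2 :=
  rank_le_two_of_le_quot_alphaCore le_rfl
    ((piGrp_quot_iff (alphaCore_normal M).norm).2 (t10_2a hG hM).idx)

/-- BG 10.2(d2): `M' / M_α` is nilpotent -/
theorem t10_2d_nil_quot (hG : IsMinSimpleOddOrder G) {M : Subgroup G} (hM : IsCoatom M) :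
    Group.IsNilpotent (quot (alphaCore M) ⁅M, M⁆) :=
  (t10_2_aux hG hM).1

/-- if `V ⊴ K` is a normal Hall subgroup all of whose complements are nilpotent, then `K / V` is
nilpotent -/
theorem nil_quot_of_hall {π : Set ℕ} {V K : Subgroup G} (hV : Hall π V K) (hn : K ≤ 𝐍(V))
    (h : ∀ H, H ≤ K → PiGrp πᶜ H → Group.IsNilpotent H) : Group.IsNilpotent (quot V K) := by
  obtain ⟨H, hH⟩ := hV.exists_sdp hn
  rw [hH.quot_eq]
  exact quot_isNilpotent V (h H hH.right_le (hH.hall_left_iff.1 hV).2)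

/-- `M' / M_σ` is nilpotent -/
theorem t10_2d_nil_quot_sigma (hG : IsMinSimpleOddOrder G) {M : Subgroup G} (hM : IsCoatom M) :
    Group.IsNilpotent (quot (sigmaCore M) ⁅M, M⁆) :=
  nil_quot_of_hall ((t10_2b hG hM).restrict (t10_2c hG hM) (NormalIn.der M).le)
    (le_norm_sigmaCore (NormalIn.der M).le) fun _ hH hσ =>
      t10_2d hG hM hH (hσ.mono (Set.compl_subset_compl.2 (alpha_sub_sigma hG hM)))

end CL.BG
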