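import Cfsg.Agent.BG.T5_5
import Cfsg.Agent.BG.T4_18
import Cfsg.Agent.BG.T1_21

set_option autoImplicit false

namespace CL.BG

open Cfsg Subgroup

variable {G : Type*} [Group G] [Finite G]

omit [Finite G] in
theorem narrow_of_mulEquiv {p : ℕ} {G' : Type*} [Group G'] {P : Subgroup G} {P' : Subgroup G'}
    (e : P ≃* P') (h : Narrow p P) : Narrow p P' := by
  have h1 : Narrow p (⊤ : Subgroup P) := by
    rw [← narrow_map_iff P.subtype_injective, map_subtype_top']; exact h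
  have h2 := (narrow_map_iff (f := P'.subtype.comp e.toMonoidHom)
    (P'.subtype_injective.comp e.injective)).2 h1
  rwa [← map_map, map_top_of_surjective _ e.surjective, map_subtype_top'] at h2

theorem narrow_pcore_quot {p : ℕ} [Fact p.Prime] {H S : Subgroup G} (hS : SylowOf p S H)
    (hn : Narrow p S) (hpl : PLengthLE p 1 H) :
    Narrow p (piCoreOf {p} (quot (piCoreOf {p}ᶜ H) H)) ∧
      pRank p (piCoreOf {p} (quot (piCoreOf {p}ᶜ H) H)) = pRank p S := by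
  have hp : p.Prime := Fact.out
  have hV := piCoreOf_normalIn {p}ᶜ H
  have h1 : quot (piCoreOf {p}ᶜ H) S = piCoreOf {p} (quot (piCoreOf {p}ᶜ H) H) := by
    refine Hall.eq_piCoreOf (hS.quot hV.norm) ?_
    rw [← quot_self_sup (hS.le.trans hV.norm)]
    exact quot_normalizer _ ((pLen1_iff_sylow hS).1 hpl)
  have hd : piCoreOf {p}ᶜ H ⊓ S = ⊥ := (piGrp_piCoreOf _ H).inf_eq_bot' hS.hall.pi
  rw [← h1]
  exact ⟨narrow_of_mulEquiv (quotEquivOfDisjoint (hS.le.trans hV.norm) hd) hn,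
    pRank_quot_of_disj p (hS.le.trans hV.norm) hd⟩

theorem t5_6_aux {p : ℕ} [Fact p.Prime] {H S : Subgroup G} (hsol : Group.IsSolvable H)
    (hodd : Odd (Nat.card H)) (hS : SylowOf p S H) (hn : Narrow p S)
    (hpl : 2 < pRank p S → PLengthLE p 1 H) :
    Hall {p}ᶜ (piCoreOf {p}ᶜ ⁅H, H⁆) ⁅H, H⁆ ∧
      ⁅H, H⁆ ≤ pPrimePCoreOf p H ∧ PiNat {p}ᶜ ((pPrimePCoreOf p H).relIndex H) := by
  by_cases hr : pRank p S ≤ 2
  · exact t4_18_aux hsol hodd (hS.pRank_eq Fact.out ▸ hr)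
  exact der_compl_of_core hsol fun _ hL hp'L => t5_5a'' (isPGroup_piCoreOf Fact.out _)
    (odd_card_of_le (quot_odd _ hodd) (piCoreOf_le _ _))
    (narrow_pcore_quot hS hn (hpl (by omega))).1
    (le_norm_piCoreOf _ _) (quot_isSolvable _ hsol) (quot_odd _ hodd) hL hp'L

/-- BG 5.6(a). -/
theorem t5_6a {p : ℕ} [Fact p.Prime] {H S : Subgroup G} (hsol : Group.IsSolvable H)
    (hodd : Odd (Nat.card H)) (hS : SylowOf p S H) (hn : Narrow p S)
    (hpl : 2 < pRank p S → PLengthLE p 1 H) {q : ℕ} (hq : q.Prime)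
    (hd : q ∣ (piCoreOf {p}ᶜ H).relIndex H) : q ≤ p := by
  have hp : p.Prime := Fact.out
  by_cases hr : pRank p S ≤ 2
  · exact t4_18a hsol hodd (hS.pRank_eq hp ▸ hr) hq hd
  obtain ⟨h1, h2⟩ := narrow_pcore_quot hS hn (hpl (by omega))
  refine max_pdiv_of_core hsol (fun q hq hqp hd => ?_) hq hd
  have := Nat.le_of_dvd (by have := hp.two_le; omega) (t5_5b_dvd (isPGroup_piCoreOf hp _)
    (odd_card_of_le (quot_odd _ hodd) (piCoreOf_le _ _)) h1 (by omega)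
    (le_norm_piCoreOf _ _) hq hqp hd)
  have := hp.pos
  omega

/-- BG 5.6(b). -/
theorem t5_6b {p : ℕ} [Fact p.Prime] {H S : Subgroup G} (hsol : Group.IsSolvable H)
    (hodd : Odd (Nat.card H)) (hS : SylowOf p S H) (hn : Narrow p S)
    (hpl : 2 < pRank p S → PLengthLE p 1 H)
    (hmin : p = 3 ∨ ∀ q : ℕ, q.Prime → q ∣ Nat.card H → p ≤ q) :
    Hall {p}ᶜ (piCoreOf {p}ᶜ H) H :=
  hall_of_max_pdiv hodd (fun _ hq hd => t5_6a hsol hodd hS hn hpl hq hd) hmin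

/-- BG 5.6(c). -/
theorem t5_6c {p : ℕ} [Fact p.Prime] {H S : Subgroup G} (hsol : Group.IsSolvable H)
    (hodd : Odd (Nat.card H)) (hS : SylowOf p S H) (hn : Narrow p S)
    (hpl : 2 < pRank p S → PLengthLE p 1 H) :
    Hall {p}ᶜ (piCoreOf {p}ᶜ ⁅H, H⁆) ⁅H, H⁆ :=
  (t5_6_aux hsol hodd hS hn hpl).1

/-- BG 5.6(d). -/
theorem t5_6d {p : ℕ} [Fact p.Prime] {H S : Subgroup G} (hsol : Group.IsSolvable H)
    (hodd : Odd (Nat.card H)) (hS : SylowOf p S H) (hn : Narrow p S)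
    (hpl : 2 < pRank p S → PLengthLE p 1 H) {L : Subgroup G}
    (hL : L ≤ ⁅H, H⁆) (hp'L : PiGrp {p}ᶜ L) :
    L ≤ piCoreOf {p}ᶜ ⁅H, H⁆ ∧ L ≤ piCoreOf {p}ᶜ H := by
  have h := le_piCoreOf_of_hall (t5_6c hsol hodd hS hn hpl) hL hp'L
  exact ⟨h, h.trans ((NormalIn.der H).piCoreOf_le _)⟩

/-- BG 5.6(e). -/
theorem t5_6e {p : ℕ} [Fact p.Prime] {H S : Subgroup G} (hsol : Group.IsSolvable H)
    (hodd : Odd (Nat.card H)) (hS : SylowOf p S H) (hn : Narrow p S)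
    (hpl : 2 < pRank p S → PLengthLE p 1 H) :
    ⁅H, H⁆ ≤ pPrimePCoreOf p H ∧ PiNat {p}ᶜ ((pPrimePCoreOf p H).relIndex H) :=
  (t5_6_aux hsol hodd hS hn hpl).2

end CL.BG
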