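import Cfsg.Agent.BG.T10_6
import Cfsg.Agent.BG.T10_2q
import Cfsg.Agent.BG.T5_6

/-! BG Lemma 10.8 (the quotient form of part (b) is in `T10_8q`) -/

namespace CL.BG

open Cfsg

variable {G : Type*} [Group G] [Finite G]

/-- outside `β(M)` the Sylow subgroups of `M` are narrow -/
theorem narrow_of_not_mem_beta (hG : IsMinSimpleOddOrder G) {M : Subgroup G} (hM : IsCoatom M)
    {p : ℕ} [Fact p.Prime] (hp : p ∉ beta M) {P : Subgroup G} (hP : SylowOf p P M) :
    Narrow p P := by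
  by_cases hα : p ∈ alpha M
  · by_contra hn
    exact hp ⟨hα, (isIdealPrime_iff_not_narrow
      (sigma_sylow_top (alpha_sub_sigma hG hM hα) hP)).2 hn⟩
  · exact narrow_of_pRank_le ((hP.pRank_eq Fact.out).trans_le ((not_mem_alpha_iff Fact.out).1 hα))

/-- BG 10.8(c) -/
theorem t10_8c (hG : IsMinSimpleOddOrder G) {M : Subgroup G} (hM : IsCoatom M) {p : ℕ}
    [Fact p.Prime] (hp : p ∉ beta M) :
    Hall {p}ᶜ (piCoreOf {p}ᶜ ⁅M, M⁆) ⁅M, M⁆ ∧
      Hall {p}ᶜ (piCoreOf {p}ᶜ (sigmaCore M)) (sigmaCore M) ∧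
      ∀ q : ℕ, q.Prime → q ∣ (piCoreOf {p}ᶜ M).relIndex M → q ≤ p := by
  obtain ⟨P, hP⟩ := sylow_exists p M
  have hn := narrow_of_not_mem_beta hG hM hp hP
  have h := t5_6c (mmax_sol hG hM) (mFT_odd hG M) hP hn fun _ => t10_6 hG p hM.1
  exact ⟨h, hall_piCoreOf_of_le h (t10_2c hG hM), fun q hq hd =>
    t5_6a (mmax_sol hG hM) (mFT_odd hG M) hP hn (fun _ => t10_6 hG p hM.1) hq hd⟩

/-- a Hall `π`-subgroup is normal if there are normal `p`-complements for all `p ∉ π` -/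
theorem Hall.le_norm_of_forall_compl {π : Set ℕ} {X H : Subgroup G} (hX : Hall π X H)
    (h : ∀ p : ℕ, p.Prime → p ∣ Nat.card H → p ∉ π → Hall {p}ᶜ (piCoreOf {p}ᶜ H) H) :
    H ≤ 𝐍(X) := by
  set N : Subgroup G :=
    H ⊓ ⨅ p : {p : ℕ // p.Prime ∧ p ∣ Nat.card H ∧ p ∉ π}, piCoreOf {p.1}ᶜ H with hN
  have hn : H ≤ 𝐍(N) := norms_inf (le_norm_self H) (norms_iInf fun _ => le_norm_piCoreOf _ _)
  have hπ : PiGrp π N := by
    intro p pp hd
    by_contra hp
    have hd' : p ∣ Nat.card H := hd.trans (Subgroup.card_dvd_of_le inf_le_left)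
    have hle : N ≤ piCoreOf {p}ᶜ H := inf_le_right.trans (iInf_le_of_le ⟨p, pp, hd', hp⟩ le_rfl)
    exact (piGrp_compl_singleton_iff pp).1 ((piGrp_piCoreOf _ _).of_le hle) hd
  have hXN : X ≤ N := le_inf hX.le (le_iInf fun p =>
    le_piCoreOf_of_hall (h p.1 p.2.1 p.2.2.1 p.2.2.2) hX.le
      (hX.pi.mono fun q hq (e : q = p.1) => p.2.2.2 (e ▸ hq)))
  have e : N = X := hX.eq_of_le inf_le_left hπ hXN
  exact e ▸ hn

/-- a group with normal `p`-complements for all primes `p` is nilpotent -/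
theorem nil_of_forall_hall_compl {H : Subgroup G}
    (h : ∀ p : ℕ, p.Prime → p ∣ Nat.card H → Hall {p}ᶜ (piCoreOf {p}ᶜ H) H) :
    Group.IsNilpotent H := by
  refine nil_of_forall_exists_normal_sylow fun q qq _ => ?_
  have := Fact.mk qq
  obtain ⟨Q, hQ⟩ := sylow_exists q H
  exact ⟨Q, hQ, Hall.le_norm_of_forall_compl hQ fun p pp hd _ => h p pp hd⟩

/-- BG 10.8(a), first part -/
theorem t10_8a (hG : IsMinSimpleOddOrder G) {M : Subgroup G} (hM : IsCoatom M) :
    Hall (beta M) (betaCore M) M := by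
  obtain ⟨H, hH⟩ := hall_exists (beta M) (mmax_sub_sol hG hM (NormalIn.der M).le)
  have hn : ⁅M, M⁆ ≤ 𝐍(H) := hH.le_norm_of_forall_compl fun p pp _ hp =>
    have := Fact.mk pp
    (t10_8c hG hM hp).1
  exact (hH.trans_idx (NormalIn.der M).le ((piNat_sigma_compl_relIndex_der hG hM).mono
    (Set.compl_subset_compl.2 (beta_sub_sigma hG hM)))).hall_piCoreOf
    (hH.normalIn_trans hn (NormalIn.der M)).norm

/-- BG 10.8(a), second part -/
theorem t10_8a_top (hG : IsMinSimpleOddOrder G) {M : Subgroup G} (hM : IsCoatom M) :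
    Hall (beta M) (betaCore M) ⊤ :=
  (t10_8a hG hM).top_of_sub_sigma (beta_sub_sigma hG hM)

/-- a `β(M)`-subgroup of `M` lies in `M_β` -/
theorem le_betaCore (hG : IsMinSimpleOddOrder G) {M : Subgroup G} (hM : IsCoatom M)
    {X : Subgroup G} (hX : X ≤ M) (hXβ : PiGrp (beta M) X) : X ≤ betaCore M :=
  (t10_8a hG hM).le_of_normal (betaCore_normal M).norm hX hXβ

/-- `π(M_β) = β(M)` -/
theorem primesOf_betaCore (hG : IsMinSimpleOddOrder G) {M : Subgroup G} (hM : IsCoatom M) :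
    primesOf (betaCore M) = beta M := by
  ext p
  rw [(t10_8a hG hM).mem_primesOf_iff]
  exact ⟨fun h => h.1, fun h => ⟨h, beta_sub_primesOf M h⟩⟩

/-- for `p ∈ β(M)`, Sylow `p`-subgroups of `M_β` and of `M` are the same -/
theorem sylowOf_betaCore_iff (hG : IsMinSimpleOddOrder G) {M : Subgroup G} (hM : IsCoatom M)
    {p : ℕ} [Fact p.Prime] (hp : p ∈ beta M) {P : Subgroup G} :
    SylowOf p P (betaCore M) ↔ SylowOf p P M :=
  ⟨fun h => h.trans_hall (t10_8a hG hM) hp, fun h => Hall.restrict h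
    (le_betaCore hG hM h.le (piGrp_of_isPGroup Fact.out h.isPGroup hp)) (betaCore_le M)⟩

/-- BG 10.8(b): `β(M)'`-subgroups of `M'` are nilpotent. -/
theorem t10_8b (hG : IsMinSimpleOddOrder G) {M : Subgroup G} (hM : IsCoatom M) {H : Subgroup G}
    (hH : H ≤ ⁅M, M⁆) (hHβ : PiGrp (beta M)ᶜ H) : Group.IsNilpotent H :=
  nil_of_forall_hall_compl fun p pp hd =>
    have := Fact.mk pp
    hall_piCoreOf_of_le (t10_8c hG hM (hHβ p pp hd)).1 hH

theorem t10_8_aux (hG : IsMinSimpleOddOrder G) {M : Subgroup G} (hM : IsCoatom M) :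
    Group.IsNilpotent (quot (betaCore M) ⁅M, M⁆) :=
  nil_quot_of_hall ((t10_8a hG hM).restrict (betaCore_le_der hG hM) (NormalIn.der M).le)
    (le_norm_betaCore (NormalIn.der M).le) fun _ hH hβ => t10_8b hG hM hH hβ

/-- BG 10.8(b), quotient-free form of "`M'/M_β` is nilpotent": `M_β` times a Hall subgroup of
`M'` is normal in `M`. -/
theorem t10_8b_normal (hG : IsMinSimpleOddOrder G) {M : Subgroup G} (hM : IsCoatom M)
    {π : Set ℕ} {H : Subgroup G} (hH : Hall π H ⁅M, M⁆) : (betaCore M ⊔ H) ⊴ M :=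
  sup_hall_der_normalIn (betaCore_normal M) (t10_8_aux hG hM) hH

end CL.BG
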