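import Cfsg.Agent.Base
import Cfsg.Agent.BG.T12_10
import Cfsg.Agent.BG.T10_8

/-!
# BG Lemma 12.11
-/

namespace CL.BG

open Cfsg Subgroup

variable {G : Type*} [Group G] [Finite G]

theorem s12_sigma_of_norm_le (hG : IsMinSimpleOddOrder G) {L A : Subgroup G} (hL : IsCoatom L)
    {p : ℕ} (hp : p.Prime) (hA : ElemN p 2 ⊤ A) (hN : 𝐍(A) ≤ L) : p ∈ sigma L := by
  have : Fact p.Prime := ⟨hp⟩
  rcases t12_2a hG hL hA.isPGroup hN with h | h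
  · exact h
  · obtain ⟨E, hE, hAE⟩ := s12_ex_compl_elemN hG hL hp h.2.1 (hA.of_le ((le_norm_self A).trans hN))
    exact absurd hN (t12_6b hG hL hE h hAE).2.2

/-- BG 12.11(a) -/
theorem s12_11a (hG : IsMinSimpleOddOrder G) {M E A Mstar : Subgroup G} (hM : IsCoatom M)
    (hE : Hall (sigma M)ᶜ E M) {p : ℕ} (hp : p ∈ tau2 M) (hA : ElemN p 2 E A)
    (hMs : IsCoatom Mstar) (hN : 𝐍(A) ≤ Mstar) :
    ∀ q ∈ tau2 M, q ∈ sigma Mstar ∧ q ∉ beta Mstar := by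
  intro q hq
  refine ⟨?_, fun h => (t12_1g hG hM hq).1 h.2⟩
  by_cases hqp : q = p
  · subst hqp
    exact s12_sigma_of_norm_le hG hMs hp.1 hA.top hN
  have : Fact p.Prime := ⟨hp.1⟩
  have : Fact q.Prime := ⟨hq.1⟩
  obtain ⟨B, hB⟩ := ex_tau2Elem hG hM hE hq
  obtain ⟨S, hS, hAS⟩ := sylow_superset hA.isPGroup (le_top : A ≤ ⊤)
  obtain ⟨T, hT, hBT⟩ := sylow_superset hB.isPGroup (le_top : B ≤ ⊤)
  have hSc : IsMulCommutative S := by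
    by_contra h
    rw [s12_7a hG hM hp hS.isPGroup h] at hq
    exact hqp hq
  obtain ⟨-, E₂, E₃, -, -, h₂, h₃, -⟩ := ex_sigmaCompl hG hM hE
  obtain ⟨e1, e2, -⟩ := t12_8d hG hM hE h₂ h₃ hp hA hS hAS hSc
  obtain ⟨e3, e4, -⟩ := t12_8d hG hM hE h₂ h₃ hq hB hT hBT
    (s12_tau2_comm hG hM hp hS hSc hq hT.isPGroup)
  refine s12_sigma_of_norm_le hG hMs hq.1 hB.top ?_
  rwa [e3, e4, ← e2, ← e1]

/-- a `σ(M) ∪ τ₃(M)`-prime: `q`-subgroups of `M` lie in `M'` -/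
theorem s12_le_der (hG : IsMinSimpleOddOrder G) {M Q : Subgroup G} (hM : IsCoatom M) {q : ℕ}
    (hq : q ∈ tau3 M ∨ q ∈ sigma M) (hQ : IsPGroup q Q) (hle : Q ≤ M) : Q ≤ ⁅M, M⁆ := by
  rcases hq with h | h
  · obtain ⟨E, hE, hQE⟩ := ex_sigma_compl hG hM hle (piGrp_of_isPGroup h.1 hQ h.2.1)
    obtain ⟨F, hF, hQF⟩ := hall_superset (mmax_sub_sol hG hM hE.le) hQE
      (piGrp_of_isPGroup h.1 hQ h)
    exact (hQF.trans (t12_1b hG hM hE hF).1).trans (commutator_mono hE.le hE.le)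
  · exact (le_sigmaCore hG hM hle (piGrp_of_isPGroup h.1 hQ h)).trans (t10_2c hG hM)

theorem s12_not_le_cent {E A Q : Subgroup G} {q : ℕ} [Fact q.Prime] (hQ : SylowOf q Q E)
    (hd : q ∣ (E ⊓ 𝐂(A)).relIndex E) : ¬ Q ≤ 𝐂(A) := fun h =>
  hQ.not_dvd (hd.trans (relIndex_dvd_of_le_left E (le_inf hQ.hall.le h)))

/-- BG 12.11(b) -/
theorem s12_11b (hG : IsMinSimpleOddOrder G) {M E A Mstar : Subgroup G} (hM : IsCoatom M)
    (hE : Hall (sigma M)ᶜ E M) {p : ℕ} (hp : p ∈ tau2 M) (hA : ElemN p 2 E A)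
    (hMs : IsCoatom Mstar) (hN : 𝐍(A) ≤ Mstar) :
    PiNat (tau1 Mstar ∪ tau2 Mstar) ((E ⊓ 𝐂(A)).relIndex E) := by
  refine piNat_iff.2 fun q hq hd => ?_
  have : Fact p.Prime := ⟨hp.1⟩
  have : Fact q.Prime := ⟨hq⟩
  have hAE := (t12_6a hG hM hE hp hA).1
  have hq1 : q ∈ tau1 M := piNat_iff.1 (t12_10c hG hM hE hp hA).2.1 q hq hd
  have hqp : q ≠ p := fun h => s12_tau1_not2 hq1 (h ▸ hp)
  obtain ⟨Q, hQ⟩ := sylow_exists q E
  have hQA := s12_not_le_cent hQ hd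
  have hQM : Q ≤ Mstar := (hQ.hall.le.trans hAE.norm).trans hN
  have hQd : ¬ Q ≤ ⁅Mstar, Mstar⁆ := by
    intro h
    have h1 := le_piCoreOf_of_hall (t10_8c hG hMs (s12_11a hG hM hE hp hA hMs hN p hp).2).1 h
      (piGrp_of_isPGroup hq hQ.isPGroup hqp)
    refine hQA (commutator_eq_bot_iff''.1 (eq_bot_iff.2 ?_))
    rw [← (hA.piGrp hp.1 (Set.mem_singleton p)).inf_eq_bot (piGrp_piCoreOf {p}ᶜ ⁅Mstar, Mstar⁆)]
    exact le_inf (commutator_le_left_of_norm (hQ.hall.le.trans hAE.norm))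
      ((commutator_mono ((le_norm_self A).trans hN) h1).trans
        ((NormalIn.der Mstar).piCoreOf_trans _).commutator_le')
  have hne : Q ≠ ⊥ := fun h => hQA (h ▸ bot_le)
  rcases (partition_pi_mmax hG hMs).1 (mem_primesOf_of_isPGroup hq hQ.isPGroup hne hQM)
    with h | h | h
  · exact Or.inl h
  · exact Or.inr h
  · exact absurd (s12_le_der hG hMs h hQ.isPGroup hQM) hQd

/-- BG 12.11 -/
theorem t12_11 (hG : IsMinSimpleOddOrder G) {M E A Mstar : Subgroup G} (hM : IsCoatom M)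
    (hE : Hall (sigma M)ᶜ E M) {p : ℕ} (hp : p ∈ tau2 M) (hA : ElemN p 2 E A)
    (hMs : IsCoatom Mstar) (hN : 𝐍(A) ≤ Mstar) :
    (∀ q ∈ tau2 M, q ∈ sigma Mstar ∧ q ∉ beta Mstar) ∧
      PiNat (tau1 Mstar ∪ tau2 Mstar) ((E ⊓ 𝐂(A)).relIndex E) ∧
      ∀ q : ℕ, q.Prime → q ∣ (E ⊓ 𝐂(A)).relIndex E → q ∣ Nat.card ↥(E ⊓ 𝐂(A)) →
        q ∈ tau2 Mstar ∧ (∃ P : Subgroup G, SylowOf p P ⊤ ∧ P ⊴ Mstar) ∧
          ∃ Q : Subgroup G, SylowOf q Q ⊤ ∧ Q ≤ Mstar ∧ IsMulCommutative Q := by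
  refine ⟨s12_11a hG hM hE hp hA hMs hN, s12_11b hG hM hE hp hA hMs hN, fun q hq hd hd' => ?_⟩
  have : Fact p.Prime := ⟨hp.1⟩
  have : Fact q.Prime := ⟨hq⟩
  obtain ⟨hCn, hτ, -⟩ := t12_10c hG hM hE hp hA
  have hq1 : q ∈ tau1 M := piNat_iff.1 hτ q hq hd
  have hCE := (t12_6b hG hM hE hp hA).1
  rw [inf_eq_right.2 hCE] at hCn hd'
  obtain ⟨Q, hQ⟩ := sylow_exists q E
  have hQA := s12_not_le_cent hQ hd
  have hQc := tau13_isCyclic hG (Or.inl hq1) (hQ.hall.le.trans hE.le) hQ.isPGroup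
  have hQ₀ : SylowOf q (Q ⊓ 𝐂(A)) 𝐂(A) := hQ.hall.inf_normal hCn
  have hQ₀ne : Q ⊓ 𝐂(A) ≠ ⊥ := hQ₀.ne_bot_iff.2 hd'
  have hQne : Q ≠ ⊥ := ne_bot_of_le hQ₀ne inf_le_left
  have hX := elemN_omegaOne_of_isCyclic_pgroup hq hQc hQ.isPGroup hQne
  have eX : omegaOne q (Q ⊓ 𝐂(A)) = omegaOne q Q := omegaOne_eq_of_isCyclic hq hQc inf_le_left
    (dvd_card_of_isPGroup hq hQ₀.isPGroup hQ₀ne)
  have hXA : omegaOne q Q ≤ 𝐂(A) := eX.ge.trans ((omegaOne_le _ _).trans inf_le_right)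
  obtain ⟨H, hH, hXH⟩ := mmax_exists (mFT_norm_pgroup_ne_top hG hX.isPGroup (hX.ne_bot hq one_pos))
  have hAH : A ≤ H := (cent_symm hXA).trans ((cent_le_norm _).trans hXH)
  have hNH : 𝐍(A) ≤ H := by
    rw [← hQ₀.frattini (NormalIn.cent_norm A)]
    refine sup_le (t12_4a hG hH (hA.of_le hAH)) (inf_le_right.trans (le_trans ?_ hXH))
    rw [← eX]
    exact norm_le_norm_omegaOne q _
  have hq2 : q ∈ tau2 H := by
    rcases t12_2a hG hH hX.isPGroup hXH with h | h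
    · rcases piNat_iff.1 (s12_11b hG hM hE hp hA hH hNH) q hq hd with h' | h'
      · exact absurd h h'.2.1
      · exact h'
    · exact h
  have hpH := (s12_11a hG hM hE hp hA hH hNH p hp).1
  have hnil := t12_5a hG hH hq2
  obtain rfl : H = Mstar := by
    by_contra hne
    exact Set.disjoint_left.1 (t10_12b hG hH hMs
      (t12_2b hG hH hMs hA.isPGroup hAH hN (Or.inl ⟨hpH, hne⟩)) hnil).2 hpH
      (s12_11a hG hM hE hp hA hMs hN p hp).1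
  refine ⟨hq2, ⟨piCoreOf {p} (sigmaCore H), s12_sylow_top hpH
    ((sylowOf_sigmaCore_iff hG hH hpH).1 (nil_sylow_core hnil p)),
    (s12_sigmaCore_normal H).piCoreOf_trans _⟩, ?_⟩
  have hQH : Q ≤ H := (hQ.hall.le.trans (t12_6a hG hM hE hp hA).1.norm).trans hN
  obtain ⟨F, hF, hQF⟩ := ex_sigma_compl hG hH hQH (piGrp_of_isPGroup hq hQ.isPGroup hq2.2.1)
  obtain ⟨T, hT⟩ := sylow_exists q (⊤ : Subgroup G)
  by_cases hTc : IsMulCommutative T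
  · obtain ⟨F₂, hF₂⟩ := hall_exists (tau2 H) (mmax_sub_sol hG hH hF.le)
    obtain ⟨R, hR, hRF⟩ := (t12_8ab hG hH hF hF₂ hq2 hT hTc).2.2.exists_sylow hq2
    exact ⟨R, hR, (hRF.trans hF₂.le).trans hF.le, s12_comm_of_sylow hq hT hTc hR.isPGroup⟩
  · exfalso
    obtain ⟨B, hB⟩ := ex_tau2Elem hG hH hF hq2
    obtain ⟨-, -, h1, F₀, h2, -⟩ := t12_7 hG hH hF hq2 hB hT.isPGroup hTc
    have e : omegaOne q Q = B ⊓ 𝐂(sigmaCore H) := by
      by_contra hne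
      exact (h1 _ (hX.mono hQF) hne).2 ((cent_le_norm _).trans hXH)
    rw [← e] at h2
    have h3 := h2.modl' (omegaOne_le q Q) hQF
    have h4 : F₀ ⊓ Q = ⊥ := by
      by_contra hc
      exact hX.ne_bot hq one_pos (eq_bot_iff.2 ((le_inf le_rfl
        (omegaOne_le_of_isCyclic' hq hQc hQ.isPGroup hc)).trans h2.disj.le))
    rw [h4] at h3
    exact hQA (h3.left_eq_of_bot.ge.trans hXA)

end CL.BG
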