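import Cfsg.Agent.BG.T13_6
import Cfsg.Agent.BG.T12_10
import Cfsg.Agent.BG.T12_11

/-! # Bender-Glauberman Lemma 13.12 -/

namespace CL.BG

open Cfsg Subgroup

variable {G : Type*} [Group G] [Finite G]

/-- if the subgroup `P ≤ E` of order `p` is not contained in `N ⊴ E` then `p ∣ |E : N|` -/
theorem a13_dvd_relIndex {E N P K : Subgroup G} {p : ℕ} (hp : p.Prime) (hP : IsPGroup p P)
    (hPE : P ≤ E) (hN : N ⊴ E) (hNK : N ≤ K) (h : ¬ P ≤ K) : p ∣ N.relIndex E := by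
  by_contra hd
  exact h ((((piGrp_singleton_iff hp).2 hP).le_of_relIndex hN hPE
    ((piNat_compl_singleton_iff hp).2 hd)).trans hNK)

/-- BG 13.12 (Coq `tau12_regular`). -/
theorem t13_12 (hG : IsMinSimpleOddOrder G) {M E P A : Subgroup G} (hM : IsCoatom M)
    (hE : Hall (sigma M)ᶜ E M) {p q : ℕ} (hp : p ∈ tau1 M) (hP : ElemN p 1 E P)
    (hq : q ∈ tau2 M) (hA : ElemN q 2 E A) (hAP : A ⊓ 𝐂(P) ≠ ⊥) :
    sigmaCore M ⊓ 𝐂(P) = ⊥ := by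
  by_contra hC
  have hP1 := hP.ne_bot hp.1 one_pos
  have hsol := mmax_sub_sol hG hM hE.le
  obtain ⟨E₁, hE₁, hP₁⟩ := hall_superset hsol hP.le (hP.piGrp hp.1 hp)
  obtain ⟨E₃, hE₃⟩ := hall_exists (tau3 M) hsol
  have hPA : ¬ P ≤ 𝐂(A) := fun h =>
    hC ((t12_6de hG hM hE hE₁ hE₃ hq hA).2.1.a13_cent_eq (le_inf hP₁ h) hP1)
  have hY : ElemN q 1 A (A ⊓ 𝐂(P)) :=
    hA.one_of_two hq.1 inf_le_left hAP fun h => hPA (cent_symm (inf_eq_left.1 h))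
  have h4 := t13_4 hG hM hE hp hP hq.1 (hY.of_le (inf_le_inf_right _ hA.le))
  have huM := t12_6c hG hM hq (hY.mono (hA.le.trans hE.le)) (ne_bot_of_le hC h4)
  obtain ⟨H, hH, hNH⟩ := a13_exists_mmax_norm hG hM (hA.le.trans hE.le) (hA.ne_bot hq.1 two_pos)
  have hHM : H ≠ M := fun h => (t12_6b hG hM hE hq hA).2.2 (h ▸ hNH)
  have hAH : A ≤ H := le_normalizer.trans hNH
  have hPH : P ≤ H := (hP.le.trans (t12_6a hG hM hE hq hA).1.norm).trans hNH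
  obtain ⟨h1, h2, -⟩ := t12_11 hG hM hE hq hA hH hNH
  have hYσ : ElemN q 1 (sigmaCore H ⊓ 𝐂(P)) (A ⊓ 𝐂(P)) := hY.of_le (inf_le_inf_right _
    (le_sigmaCore hG hH hAH (hA.piGrp hq.1 (h1 q hq).1)))
  rcases h2 p hp.1 (a13_dvd_relIndex hp.1 hP.isPGroup hP.le (t12_10c hG hM hE hq hA).1
    inf_le_right hPA) with h | h
  · exact hHM ((t13_6' hG hH hPH (hP.piGrp hp.1 h) hP1 hq.1 hYσ).1.unique huM)
  · have hu := t12_6c hG hH h (hP.of_le hPH) (ne_bot_of_le (hY.ne_bot hq.1 one_pos) hYσ.le)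
    exact hC (eq_bot_iff.2 (t12_5e hG hM hq (hA.mono hE.le) hH hHM hAH ▸
      inf_le_inf_left _ hu.le))

end CL.BG
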