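import Cfsg.Agent.BG.T13_4

/-! # Bender-Glauberman Theorem 13.5 -/

namespace CL.BG

open Cfsg Subgroup

variable {G : Type*} [Group G] [Finite G]

/-- BG 13.5 (Coq `tau1_primact_Msigma`). -/
theorem t13_5 (hG : IsMinSimpleOddOrder G) {M E E₁ : Subgroup G} (hM : IsCoatom M)
    (hE : Hall (sigma M)ᶜ E M) (hE₁ : Hall (tau1 M) E₁ E) :
    Semiprime (sigmaCore M) E₁ := by
  refine a13_semiprime_of_prime fun q hq X hX => cent_symm
    (le_of_forall_exists_sylow_le fun r hr hd => ?_)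
  have := Fact.mk hr
  have hc := t12_1d1 hG hM (hE₁.le.trans hE.le) hE₁.pi
  obtain ⟨R, hR⟩ := sylow_exists r E₁
  obtain ⟨R₀, hR₀⟩ := exists_elemN_one_of_isPGroup hr hR.isPGroup (hR.ne_bot_iff.2 hd)
  have h3 := t13_3a hG hM hE hr (hR.trans_hall hE₁ (hE₁.pi.mem ⟨hr, hd⟩))
    (isCyclic_of_le hc hR.le)
  have h4 := t13_4 hG hM hE (hE₁.pi.mem (hX.mem_primesOf hq one_pos)) (hX.mono hE₁.le) hr
    (hR₀.of_le (le_inf ((hR₀.le.trans hR.le).trans hE₁.le)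
      (le_cent_of_comm_of_le (comm_of_isCyclic hc) (hR₀.le.trans hR.le) hX.le)))
  rw [h3.a13_cent_eq hR₀.le (hR₀.ne_bot hr one_pos)] at h4
  exact ⟨R, hR, cent_symm (h4.trans inf_le_right)⟩

/-- 13.5 for an arbitrary `τ₁(M)`-subgroup of `M` -/
theorem t13_5' (hG : IsMinSimpleOddOrder G) {M F : Subgroup G} (hM : IsCoatom M)
    (hF : F ≤ M) (hFπ : PiGrp (tau1 M) F) : Semiprime (sigmaCore M) F := by
  obtain ⟨E, hE, hFE⟩ := ex_sigma_compl hG hM hF (hFπ.mono (a13_tau1_sub M))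
  obtain ⟨E₁, hE₁, hF₁⟩ := hall_superset (mmax_sub_sol hG hM hE.le) hFE hFπ
  have h := t13_5 hG hM hE hE₁
  intro x hx hx1
  rw [h x (hF₁ hx) hx1, h.a13_cent_eq hF₁ (ne_bot_of_mem hx hx1)]

end CL.BG
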