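import Cfsg.Agent.BG.T10_8
import Cfsg.Agent.BG.T6_5

/-! BG Corollary 10.9 -/

namespace CL.BG

open Cfsg

variable {G : Type*} [Group G] [Finite G]

/-- the Hall `{p, q}`-subgroups of `X M'` are nilpotent -/
theorem t10_9_aux (hG : IsMinSimpleOddOrder G) {M : Subgroup G} (hM : IsCoatom M) {p q : ℕ}
    [Fact p.Prime] [Fact q.Prime] (hp : p ∉ beta M) (hq : q ∉ beta M) {X : Subgroup G}
    (hX : IsPGroup q X) (h : (p ≠ q ∧ X ≤ ⁅M, M⁆) ∨ (p < q ∧ X ≤ M)) {W : Subgroup G}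
    (hW : Hall {p, q} W (X ⊔ ⁅M, M⁆)) : Group.IsNilpotent W := by
  have pp : p.Prime := Fact.out
  have qq : q.Prime := Fact.out
  have hWβ : PiGrp (beta M)ᶜ W := hW.pi.mono (by rintro r (rfl | rfl) <;> assumption)
  rcases h with ⟨-, hXM⟩ | ⟨hlt, hXM⟩
  · exact t10_8b hG hM (hW.le.trans (sup_le hXM le_rfl)) hWβ
  have hLM : X ⊔ ⁅M, M⁆ ≤ M := sup_le hXM (NormalIn.der M).le
  have hWM : W ≤ M := hW.le.trans hLM
  refine nil_of_forall_exists_normal_sylow fun r rr hd => ?_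
  rcases hW.pi r rr hd with rfl | rfl
  · have hnil : Group.IsNilpotent ↥(⁅M, M⁆ ⊓ W) := t10_8b hG hM inf_le_left (hWβ.inf_right _)
    refine ⟨_, (nil_sylow_core hnil r).trans_not_dvd inf_le_right fun hr => ?_,
      (((NormalIn.der M).inf_right hWM).piCoreOf_trans {r}).norm⟩
    rw [Subgroup.inf_relIndex_right] at hr
    have h1 := hr.trans (relIndex_dvd_of_normalIn
      ((NormalIn.der M).of_le le_sup_right hLM) hW.le)
    rw [relIndex_sup_of_norm' (hXM.trans (NormalIn.der M).norm)] at h1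
    exact hlt.ne (((piGrp_singleton_iff qq).2 hX).relIndex _ r rr h1)
  · refine ⟨piCoreOf {p}ᶜ M ⊓ W, Hall.mk' inf_le_right ?_ ?_,
      ((piCoreOf_normalIn _ _).inf_right hWM).norm⟩
    · refine (((piGrp_piCoreOf {p}ᶜ M).inf_left W).inter (hW.pi.inf_right _)).mono ?_
      rintro s ⟨h1, h2 | h2⟩
      · exact absurd h2 h1
      · exact h2
    · rw [piNat_compl_singleton_iff rr, Subgroup.inf_relIndex_right]
      exact fun hr => hlt.not_ge ((t10_8c hG hM hp).2.2 r rr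
        (hr.trans (relIndex_dvd_of_normalIn (piCoreOf_normalIn _ _) hWM)))

/-- `M = M_β N_M(X)` for a Sylow subgroup `X` of `M'` -/
theorem betaCore_sup_norm_sylow (hG : IsMinSimpleOddOrder G) {M : Subgroup G} (hM : IsCoatom M)
    {q : ℕ} [Fact q.Prime] {X : Subgroup G} (hX : SylowOf q X ⁅M, M⁆) :
    betaCore M ⊔ (M ⊓ 𝐍(X)) = M := by
  have hS : SylowOf q X (betaCore M ⊔ X) :=
    Hall.restrict hX le_sup_right (sup_le (betaCore_le_der hG hM) hX.le)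
  have h := hS.frattini (t10_8b_normal hG hM hX)
  rwa [sup_assoc, sup_eq_right.2 (le_inf (hX.le.trans (NormalIn.der M).le) (le_norm_self X))] at h

/-- BG 10.9(a) -/
theorem t10_9a (hG : IsMinSimpleOddOrder G) {M : Subgroup G} (hM : IsCoatom M) {p q : ℕ}
    [Fact p.Prime] [Fact q.Prime] (hp : p ∉ beta M) (hq : q ∉ beta M) {X : Subgroup G}
    (hX : IsPGroup q X) (h : (p ≠ q ∧ X ≤ ⁅M, M⁆) ∨ (p < q ∧ X ≤ M)) :
    (∃ P : Subgroup G, SylowOf p P (sigmaCore M) ∧ X ≤ 𝐂(P)) ∧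
      (p ∈ alpha M → InUniqueMaximal (M ⊓ 𝐂(X))) ∧
      (SylowOf q X ⁅M, M⁆ →
        ∃ P : Subgroup G, SylowOf p P ⁅M, M⁆ ∧ P ≤ ⁅M ⊓ 𝐍(X), M ⊓ 𝐍(X)⁆) := by
  have pp : p.Prime := Fact.out
  have qq : q.Prime := Fact.out
  have hXM : X ≤ M := h.elim (fun h => h.2.trans (NormalIn.der M).le) fun h => h.2
  have hpq : p ≠ q := h.elim (fun h => h.1) fun h => h.1.ne
  have hLM : X ⊔ ⁅M, M⁆ ≤ M := sup_le hXM (NormalIn.der M).le
  obtain ⟨W, hW, hXW⟩ := hall_superset (π := {p, q}) (mmax_sub_sol hG hM hLM) le_sup_left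
    (piGrp_of_isPGroup qq hX (Or.inr rfl))
  have hnil := t10_9_aux hG hM hp hq hX h hW
  have key : ∀ N : Subgroup G, N ⊴ M → N ≤ ⁅M, M⁆ → ∃ P, SylowOf p P N ∧ X ≤ 𝐂(P) := by
    intro N hN hN'
    obtain ⟨P, hP, hPW⟩ := (hW.inf_normal (hN.of_le (hN'.trans le_sup_right) hLM)).exists_sylow
      (p := p) (Or.inl rfl)
    exact ⟨P, hP, nil_cent_of_coprime hnil hXW (hPW.trans inf_le_left)
      (coprime_card_of_isPGroup_of_ne qq pp hpq.symm hX hP.isPGroup)⟩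
  obtain ⟨P, hP, hXP⟩ := key _ (sigmaCore_normal M) (t10_2c hG hM)
  refine ⟨⟨P, hP, hXP⟩, fun hα => ?_, fun hS => ?_⟩
  · have hPM := (sylowOf_sigmaCore_iff hG hM (alpha_sub_sigma hG hM hα)).1 hP
    exact t9_6a hG (mmax_sub_ne_top hM inf_le_left) (((mem_alpha_iff_sylow hPM).1 hα).trans_le
      (rank_mono (le_inf hPM.le (cent_symm hXP))))
  · obtain ⟨P, hP, hXP⟩ := key _ (NormalIn.der M) le_rfl
    refine ⟨P, hP, ?_⟩
    have e := t6_5a (betaCore_sup_norm_sylow hG hM hS) (betaCore_normal M).norm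
      (le_inf (hP.le.trans (NormalIn.der M).le) (le_norm_of_le_cent (cent_symm hXP)))
      (coprime_betaCore (piGrp_of_isPGroup pp hP.isPGroup hp))
    rw [inf_eq_left.2 hP.le] at e
    exact e.le.trans inf_le_right

/-- BG 10.9(b) -/
theorem t10_9b (hG : IsMinSimpleOddOrder G) {M H : Subgroup G} (hM : IsCoatom M)
    (hH : IsCoatom H) (hne : H ≠ M) {q : ℕ} [Fact q.Prime] {S : Subgroup G} (hS : SylowOf q S ⊤)
    (hN : 𝐍(S) ≤ H ⊓ M) : betaCore M ⊔ (H ⊓ M) = M ∧ alpha M = beta M := by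
  have hNM : 𝐍(S) ≤ M := hN.trans inf_le_right
  have hNH : 𝐍(S) ≤ H := hN.trans inf_le_left
  have hSM : SylowOf q S M := Hall.restrict hS ((le_norm_self S).trans hNM) le_top
  have hSM' : S ≤ ⁅M, M⁆ := sigma_sylow_le_der hG hM (mem_sigma_of_norm_le hM.1 hSM hNM) hSM
  have hqα : q ∉ alpha M := fun h =>
    hne (inU_eq (t9_6a hG (mmax_sub_ne_top hM hSM.le) ((mem_alpha_iff_sylow hSM).1 h)) hH hM
      ((le_norm_self S).trans hNH) hSM.le)
  refine ⟨le_antisymm (sup_le (betaCore_le M) inf_le_right) ?_,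
    (beta_sub_alpha M).antisymm' fun p hp => ?_⟩
  · refine (betaCore_sup_norm_sylow hG hM (q := q)
      (Hall.restrict hSM hSM' (NormalIn.der M).le)).ge.trans ?_
    exact sup_le_sup_left (inf_le_right.trans hN) _
  · by_contra hpβ
    have := Fact.mk hp.1
    have hU := (t10_9a hG hM hpβ (fun h => hqα (beta_sub_alpha M h)) hS.isPGroup
      (Or.inl ⟨fun e => hqα (e ▸ hp), hSM'⟩)).2.1 hp
    exact hne (inU_eq hU hH hM (inf_le_right.trans ((cent_le_norm S).trans hNH)) inf_le_left)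

end CL.BG
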