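import Cfsg.Agent.Base
import Cfsg.Agent.BG.Sigma
import Cfsg.Agent.BG.Max
import Cfsg.Agent.BG.Nil
import Cfsg.Agent.BG.PAmb
import Cfsg.Agent.BG.QuotPi
import Cfsg.Agent.Solv.CoprimeGen
import Cfsg.Agent.BG.T6_5
import Cfsg.Agent.BG.T9_6
import Cfsg.Agent.BG.T10_7
import Cfsg.Agent.BG.T10_9
import Cfsg.Agent.BG.T10_13
import Cfsg.Agent.BG.T12_4
import Cfsg.Agent.BG.T12_10

namespace CL.BG

open Cfsg

variable {G : Type*} [Group G] [Finite G]

/-- BG 1.16 for an operator group `A` whose quotient by a subgroup `D` acting trivially is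
abelian and not cyclic. -/
theorem coprime_le_of_quot_not_isCyclic {A D K L : Subgroup G} (hD : D ⊴ A) (hder : ⁅A, A⁆ ≤ D)
    (hnc : ¬ IsCyclic (quot D A)) (hAK : A ≤ 𝐍(K)) (hKD : K ≤ 𝐂(D))
    (hcop : (Nat.card K).Coprime (Nat.card A)) (h : ∀ a ∈ A, a ∉ D → K ⊓ 𝐂₁(a) ≤ L) : K ≤ L := by
  have hKN : K ≤ 𝐍(D) := le_norm_of_le_cent hKD
  have hdisj : D ⊓ K = ⊥ := disj_of_coprime (hcop.symm.coprime_dvd_left (Subgroup.card_dvd_of_le hD.le))
  have := (quot_isMulCommutative_iff hD.norm).2 hder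
  have h1 : quot D K ≤ quot D (K ⊓ L) := by
    refine coprime_le_of_not_isCyclic hnc (quot_normalizer D hAK) (quot_coprime D hcop.symm) _ ?_
    intro y hy hy1
    obtain ⟨a, ha, haN, rfl⟩ := mem_quot.1 hy
    rw [← quot_inf_cent1_of_coprime hKN haN (hAK ha) (by rw [hdisj]; simp)]
    exact quot_mono D (le_inf inf_le_left (h a ha fun haD => hy1 (coset_eq_one haD)))
  have h2 : K ≤ (K ⊓ L) ⊔ D := (quot_le_quot_iff hKN (inf_le_left.trans hKN)).1 h1
  have h3 : ((K ⊓ L) ⊔ D) ⊓ K = K ⊓ L := by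
    rw [sup_inf_modular (Or.inr (inf_le_left.trans hKN)) inf_le_left, hdisj, sup_bot_eq]
  exact ((le_inf h2 le_rfl).trans h3.le).trans inf_le_right

private theorem t12_13_aux (hG : IsMinSimpleOddOrder G) {M H P : Subgroup G} {p : ℕ} [Fact p.Prime]
    (hM : IsCoatom M) (hH : IsCoatom H) (hne : H ≠ M) (hPs : SylowOf p P (H ⊓ M))
    (hna : ¬ IsMulCommutative P) : False := by
  have hp : p.Prime := Fact.out
  have hP := hPs.isPGroup
  have hPH : P ≤ H := hPs.le.trans inf_le_left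
  have hPM : P ≤ M := hPs.le.trans inf_le_right
  have key1 : ∀ L : Subgroup G, IsCoatom L → P ≤ L → 𝐍(P) ≤ L := by
    intro L hL hPL
    refine t12_10d hG hL (p := p) ?_ hP hPL fun hc => hna (comm_of_isCyclic hc)
    by_contra hσ
    exact hna (t12_10a hG hL hPL (piGrp_of_isPGroup hp hP hσ) (nil_of_isPGroup hP))
  have hPG : SylowOf p P ⊤ := hPs.top_of_norm_le (le_inf (key1 H hH hPH) (key1 M hM hPM))
  have hr : pRank p P ≤ 2 := by
    by_contra hlt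
    exact hne (inU_eq (t9_6a hG (mFT_pgroup_ne_top hG hP)
      (by rw [rank_pgroup hp hP]; omega)) hH hM hPH hPM)
  have hrG : pRank p (⊤ : Subgroup G) ≤ 2 := hPG.pRank_eq hp ▸ hr
  obtain ⟨S, C, hSna, hSc, hSe, hC, hCP, hΩ⟩ := t10_7b hG hPG hr hna
  have hSP : S ≤ P := hCP.left_le
  have hS : IsPGroup p S := hP.to_le hSP
  have hS1 : S ≠ ⊥ := by
    rintro rfl
    exact hSna inferInstance
  have hZ : ElemN p 1 S 𝐙(S) := by
    have h1 : omegaOne p C ≠ ⊥ := hΩ ▸ center_ne_bot_of_isPGroup hp hS hS1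
    have h2 := elemN_omegaOne_of_isCyclic hp hC ((omegaOne_ne_bot_iff hp).1 h1)
    rw [hΩ] at h2
    exact h2.of_le inf_le_left
  have hA2 : ∀ a ∈ S, a ∉ 𝐙(S) → ElemN p 2 S (𝐙(S) ⊔ Subgroup.zpowers a) := fun a ha haZ =>
    hZ.sup_zpowers hp ha haZ (cent_symm inf_le_right ha) (hSe a ha)
  obtain ⟨a, ha, haZ⟩ : ∃ a ∈ S, a ∉ 𝐙(S) := by
    by_contra h
    push Not at h
    exact hSna (comm_iff_le_cent.2 fun x hx => (h x hx).2)
  have hA := hA2 a ha haZ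
  set A := 𝐙(S) ⊔ Subgroup.zpowers a with hAdef
  have hder : ⁅S, S⁆ ≤ 𝐙(S) := by
    refine pg_der_le_of_relIndex_le_sq hS (NormalIn.center S).norm (le_of_eq ?_)
    have h1 := card_mul_relIndex hZ.le
    rw [hZ.card_one, hSc, pow_succ'] at h1
    exact Nat.eq_of_mul_eq_mul_left hp.pos h1
  have hnc : ¬ IsCyclic (quot 𝐙(S) S) := fun h =>
    hSna (isMulCommutative_of_isCyclic_quot (NormalIn.center S).norm
      (inf_le_left.trans inf_le_right) h)
  have key2 : ∀ M H : Subgroup G, IsCoatom M → IsCoatom H → H ≠ M → P ≤ M → P ≤ H →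
      ∃ A₀, ElemN p 1 A A₀ ∧ A₀ ≠ 𝐙(S) ∧ UniqMax 𝐍(A₀) M := by
    intro M H hM hH hne hPM hPH
    obtain ⟨hβ, hαβ⟩ := t10_9b hG hM hH hne hPG (le_inf (key1 H hH hPH) (key1 M hM hPM))
    have hα : alphaCore M ⊔ (H ⊓ M) = M := by rw [alphaCore_def, hαβ]; exact hβ
    have hα1 : alphaCore M ≠ ⊥ := by
      intro h
      rw [h, bot_sup_eq] at hα
      exact hne (mmax_eq hM hH (hα.ge.trans inf_le_left)).symm
    have hex : ∃ A₀, ElemN p 1 A A₀ ∧ UniqMax 𝐍(A₀) M := by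
      by_contra h
      push Not at h
      exact hα1 (t12_4b hG hM (hA.mono (hSP.trans hPM)) h).2.1
    obtain ⟨A₀, hA₀, hU⟩ := hex
    refine ⟨A₀, hA₀, ?_, hU⟩
    rintro rfl
    have hpα : p ∉ alpha M := (not_mem_alpha_iff hp).2 ((pRank_mono hp le_top).trans hrG)
    have hcop : (Nat.card (alphaCore M)).Coprime (Nat.card S) :=
      coprime_alphaCore (piGrp_of_isPGroup hp hS hpα)
    have hK : alphaCore M ⊓ 𝐂(𝐙(S)) ≤ H := by
      refine coprime_le_of_quot_not_isCyclic (NormalIn.center S) hder hnc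
        (norms_inf_cent (le_norm_alphaCore (hSP.trans hPM)) (NormalIn.center S).norm) inf_le_right
        (hcop.coprime_dvd_left (Subgroup.card_dvd_of_le inf_le_left)) fun x hx hxZ => ?_
      refine le_trans ?_ (t12_4a hG hH ((hA2 x hx hxZ).mono (hSP.trans hPH)))
      rw [cent_sup, cent_zpowers]
      exact inf_le_inf_right _ inf_le_right
    have h65 := t6_5b hα (alphaCore_normal M).norm
      (hZ.le.trans (hSP.trans (le_inf hPH hPM)))
      (hcop.coprime_dvd_right (Subgroup.card_dvd_of_le hZ.le)) (Or.inr hZ.solvable)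
    refine hne (hU.uniq H hH ?_)
    calc 𝐍(𝐙(S)) ≤ M ⊓ 𝐍(𝐙(S)) := le_inf hU.le le_rfl
      _ = _ := h65.symm
      _ ≤ H := sup_le hK (inf_le_left.trans inf_le_left)
  obtain ⟨A₁, hA₁, hA₁Z, hU₁⟩ := key2 M H hM hH hne hPM hPH
  obtain ⟨A₂, hA₂, hA₂Z, hU₂⟩ := key2 H M hH hM hne.symm hPH hPM
  have hΩZ : omegaOne p 𝐙(S) = 𝐙(S) := hZ.omegaOne_eq
  obtain ⟨x, hx, rfl⟩ := (t10_13 hG hA.top (hA.top.maxElem_of_pRank_le' hp hrG) hS hA.le hSna).2.2
    A₁ A₂ hA₁ (by rwa [hΩZ]) hA₂ (by rwa [hΩZ])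
  have hU := hU₁.cj x
  rw [cj_norm, cj_eq_of_mem (hPM (hSP hx.1))] at hU
  exact hne (hU₂.unique hU)

/-- BG 12.13 -/
theorem t12_13 (hG : IsMinSimpleOddOrder G) {P : Subgroup G} {p : ℕ} [Fact p.Prime]
    (hP : IsPGroup p P) (hna : ¬ IsMulCommutative P) : InUniqueMaximal P := by
  obtain ⟨M, hM, hPM⟩ := mmax_exists (mFT_pgroup_ne_top hG hP)
  refine inU_of_forall hM hPM fun H hH hPH => ?_
  by_contra hne
  obtain ⟨S, hS, hPS⟩ := sylow_superset hP (le_inf hPH hPM)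
  exact t12_13_aux hG hM hH hne hS fun h => hna (comm_of_le h hPS)

end CL.BG
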