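import Cfsg.Agent.BG.T5_3

set_option autoImplicit false

namespace CL.BG

open Cfsg Subgroup

variable {G : Type*} [Group G] [Finite G]

/-- BG 5.4. -/
theorem t5_4 {p : ℕ} [Fact p.Prime] {R : Subgroup G} (hR : IsPGroup p R) (hodd : Odd (Nat.card R))
    (hr : 2 < pRank p R) :
    Narrow p R ↔ ∃ S : Subgroup G, Nat.card S = p ∧ S ≤ R ∧ pRank p (R ⊓ 𝐂(S)) ≤ 2 := by
  have hp : p.Prime := Fact.out
  have hne : R ≠ ⊥ := by
    rintro rfl
    rw [pRank_bot hp] at hr
    omega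
  obtain ⟨m, hm⟩ := exists_elemN_of_elemAb hp (elemAb_omegaOne_center p R)
    (omegaOne_center_le p R)
  obtain ⟨Z, hZ⟩ := hm.exists_one hp (Nat.pos_of_ne_zero (by
    rintro rfl
    exact omegaOne_center_ne_bot hp hR hne (elemN_zero_iff.1 hm)))
  have hZR : Z ≤ 𝐂(R) := hZ.le.trans (omegaOne_center_le_cent p R)
  constructor
  · intro hn
    obtain ⟨E, hE, hEm⟩ := hn hr
    obtain ⟨S, hS, hdp⟩ := ElemN.exists_compl (n := 1) (m := 1) hE hp
      (hZ.of_le (hZ.le.trans (hEm.omegaOne_center_le hE.le le_rfl)))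
    refine ⟨S, hS.card_one, hS.le.trans hE.le, hEm.pRank_le_of_cent hp hE inf_le_left ?_⟩
    rw [← hdp.sup, cent_sup]
    exact le_inf (inf_le_left.trans (cent_symm hZR)) inf_le_right
  · rintro ⟨S, hSc, hSR, hrk⟩ -
    have hSZ : S ≠ Z := by
      intro e
      rw [inf_eq_left.2 (cent_symm (e ▸ hZR))] at hrk
      omega
    have hE := (elemN_one_of_card hp hSR hSc).sup_of_ne (hZ.mono (omegaOne_center_le p R)) hp hSZ
      (hZR.trans (cent_anti hSR))
    exact ⟨_, hE, hE.maxElem_of_pRank_le hp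
      ((pRank_mono hp (inf_le_inf_left R (cent_anti le_sup_left))).trans hrk)⟩

/-- BG 5.3(a)/5.4: the structure of narrow groups of rank at least 3. -/
theorem t5_4_structure {p : ℕ} [Fact p.Prime] {R : Subgroup G} (hR : IsPGroup p R) (hodd : Odd (Nat.card R))
    (hr : 2 < pRank p R) :
    Narrow p R ↔ ∃ S C : Subgroup G, S ≤ R ∧ Nat.card S = p ∧ IsCyclic C ∧
      DP S C (R ⊓ 𝐂(S)) := by
  have hp : p.Prime := Fact.out
  constructor
  · intro hn
    obtain ⟨S, hSc, hSR, hrk⟩ := (t5_4 hR hodd hr).1 hn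
    obtain ⟨h1, -, -, h2⟩ := t5_3d hR hodd hr hn hSc hSR hrk
    exact ⟨S, _, hSR, hSc, h1, h2⟩
  · rintro ⟨S, C, hSR, hSc, hC, hdp⟩
    refine (t5_4 hR hodd hr).2 ⟨S, hSc, hSR, ?_⟩
    rw [hdp.pRank_eq hp]
    have := pRank_le_one_of_isCyclic hp hC
    have := pRank_le_one_of_isCyclic hp (isCyclic_of_card_prime (hSc ▸ hp))
    omega

/-- `Narrow` agrees with the notion of the statements. -/
theorem narrow_iff_isNarrow {p : ℕ} [Fact p.Prime] {R : Subgroup G} (hR : IsPGroup p R) (hodd : Odd (Nat.card R)) : Narrow p R ↔ IsNarrow p R := by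
  have hp : p.Prime := Fact.out
  by_cases hr : pRank p R ≤ 2
  · exact ⟨fun _ => Or.inl ((pRank_le_iff hp).1 hr), fun _ => narrow_of_pRank_le hr⟩
  rw [t5_4_structure hR hodd (not_le.1 hr)]
  constructor
  · rintro ⟨S, C, hSR, hSc, hC, hdp⟩
    have hCR : C ≤ R := hdp.right_le.trans inf_le_left
    refine Or.inr ⟨S.subgroupOf R, C.subgroupOf R, by rw [card_subgroupOf_of_le' hSR, hSc],
      (isCyclic_subgroupOf_iff hCR).2 hC, ?_, fun a ha b hb => Subtype.ext (hdp.cp.commute ha hb),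
      ?_⟩
    · rw [← subgroupOf_inf', hdp.disj, bot_subgroupOf]
    · rw [← subgroupOf_sup hSR hCR, hdp.sup, inf_subgroupOf_left, subgroupOf_cent hSR]
  · rintro (h | ⟨R₀, R₁, h0, h1, h2, h3, h4⟩)
    · exact absurd ((pRank_le_iff hp).2 h) hr
    have hdp : DP R₀ R₁ (centralizer (R₀ : Set R)) :=
      ⟨h4, le_cent_iff.2 fun b hb a ha => h3 a ha b hb, h2⟩
    have := hdp.map R.subtype_injective
    rw [map_subtype_cent] at this
    exact ⟨_, _, map_subtype_le _, by rw [card_map_subtype', h0],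
      (isCyclic_map_subtype_iff _).2 h1, this⟩

end CL.BG
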