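import Cfsg.Agent.Base
import Cfsg.Agent.BG.T5_3
import Cfsg.Agent.BG.T5_4
import Cfsg.Agent.BG.T10_0
import Cfsg.Agent.BG.T10_2
import Cfsg.Agent.BG.T10_8
import Cfsg.Agent.BG.T12_13

namespace CL.BG

open Cfsg

variable {G : Type*} [Group G] [Finite G]

/-- BG 12.14 -/
theorem t12_14 (hG : IsMinSimpleOddOrder G) {M X : Subgroup G} (hM : IsCoatom M) {p : ℕ}
    [Fact p.Prime] (hX : ElemN p 1 M X)
    (h : p ∈ beta M ∨ X ≤ ⁅sigmaCore M, sigmaCore M⁆) :
    UniqMax 𝐂(X) M ∧ ∀ P : Subgroup G, SylowOf p P (sigmaCore M) → UniqMax P M := by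
  have hp : p.Prime := Fact.out
  have hX1 : X ≠ ⊥ := hX.ne_bot hp one_pos
  have hσ : p ∈ sigma M := by
    rcases h with h | h
    · exact beta_sub_sigma hG hM h
    · exact (piGrp_sigmaCore M).mem_of_isPGroup hp hX.isPGroup hX1 (h.trans (NormalIn.der _).le)
  obtain ⟨P, hP, hXP⟩ := sylow_superset hX.isPGroup (le_sigmaCore hG hM hX.le (hX.piGrp hp hσ))
  have hPM : SylowOf p P M := (sylowOf_sigmaCore_iff hG hM hσ).1 hP
  have hPG : SylowOf p P ⊤ := sigma_sylow_top hσ hPM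
  have hPp := hP.isPGroup
  have hCX : 𝐂(X) ≠ ⊤ := mFT_cent_ne_top hG hX1
  suffices hU : UniqMax 𝐂(X) M ∧ UniqMax P M by
    refine ⟨hU.1, fun Q hQ => ?_⟩
    obtain ⟨g, hg, rfl⟩ := sylow_conj hP hQ
    have := hU.2.cj g
    rwa [cj_eq_of_mem (sigmaCore_le M hg)] at this
  by_cases hr : 2 < pRank p (P ⊓ 𝐂(X))
  · have hU : UniqMax (P ⊓ 𝐂(X)) M := inU_uniqMax (t9_6a hG
      (ne_top_of_le_ne_top hCX inf_le_right)
      (by rw [rank_pgroup hp (hPp.to_le inf_le_left)]; omega)) hM (inf_le_left.trans hPM.le)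
    exact ⟨hU.mono inf_le_right hCX, hU.mono_of_le inf_le_left hPM.le⟩
  push Not at hr
  have hnar : Narrow p P := fun h2 =>
    (t5_4 hPp (mFT_odd hG P) h2).2 ⟨X, hX.card_one, hXP, hr⟩ h2
  have hβ : p ∉ beta M := fun hb =>
    (isIdealPrime_iff_not_narrow hPG).1 (ideal_of_mem_beta hb) hnar
  have hXP' : X ≤ ⁅P, P⁆ := by
    rw [← (sdp_piCoreOf_sylow (t10_8c hG hM hβ).2.1 hP).der_inf_right]
    exact le_inf (h.resolve_left hβ) hXP
  have hrP : pRank p P ≤ 2 := by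
    by_contra h2
    have := (t5_3d hPp (mFT_odd hG P) (not_le.1 h2) hnar hX.card_one hXP hr).2.1
    exact hX1 (by rwa [inf_eq_left.2 hXP'] at this)
  have hna : ¬ IsMulCommutative P := fun hc =>
    hX1 (le_bot_iff.1 (hXP'.trans (commutator_eq_bot_iff'.2 (le_cent_of_comm hc)).le))
  obtain ⟨S, C, hSna, hSc, -, hC, hCP, -⟩ := t10_7b hG hPG hrP hna
  have hS : IsPGroup p S := hPp.to_le hCP.left_le
  have hXZ : P ≤ 𝐂(X) := by
    have h1 : ⁅P, P⁆ = ⁅S, S⁆ := by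
      rw [← hCP.der.sup, commutator_eq_bot_iff'.2 (le_cent_of_comm (comm_of_isCyclic hC)),
        sup_bot_eq]
    have h2 : ⁅S, S⁆ ≤ 𝐙(S) := by
      refine pg_der_le_of_relIndex_le_sq hS (NormalIn.center S).norm ?_
      have h3 := card_mul_relIndex (NormalIn.center S).le
      have h4 : p ∣ Nat.card ↥𝐙(S) := dvd_card_of_isPGroup hp (hS.to_le inf_le_left)
        (center_ne_bot_of_isPGroup hp hS (by rintro rfl; exact hSna inferInstance))
      have h5 := Nat.le_of_dvd (card_pos' _) h4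
      rw [hSc, pow_succ'] at h3
      exact Nat.le_of_mul_le_mul_left ((Nat.mul_le_mul_right _ h5).trans h3.le) hp.pos
    exact cent_symm ((hXP'.trans (h1.le.trans h2)).trans
      (hCP.center.left_le.trans inf_le_right))
  have hU : UniqMax P M := inU_uniqMax (t12_13 hG hPp hna) hM hPM.le
  exact ⟨hU.mono hXZ hCX, hU⟩

end CL.BG
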