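import Cfsg.Agent.Base
import Cfsg.Agent.BG.Sigma
import Cfsg.Agent.BG.Max
import Cfsg.Agent.BG.Nil
import Cfsg.Agent.BG.T6_3
import Cfsg.Agent.BG.T10_1
import Cfsg.Agent.BG.T10_2
import Cfsg.Agent.BG.A12_Basic
import Cfsg.Agent.BG.T12_10
import Cfsg.Agent.BG.T12_14

namespace CL.BG

open Cfsg

variable {G : Type*} [Group G] [Finite G]

/-- BG 12.17, first part -/
theorem t12_17a (hG : IsMinSimpleOddOrder G) {M E : Subgroup G} (hM : IsCoatom M)
    (hE : Hall (sigma M)ᶜ E M) :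
    sigmaCore M ⊓ 𝐂(E) ≤ ⁅sigmaCore M, sigmaCore M⁆ ∧ ⁅sigmaCore M, E⁆ = sigmaCore M :=
  (t6_3a (sdprod_sigma hG hM hE) (coprime_sigmaCore hE.pi)
    (mmax_sub_sol hG hM (sigmaCore_le M)) (t10_2c hG hM)).symm

/-- BG 12.17, second part -/
theorem t12_17b (hG : IsMinSimpleOddOrder G) {M : Subgroup G} (hM : IsCoatom M) {g : G}
    (hg : g ∉ M) :
    IsCyclic ↥(sigmaCore M ⊓ cj g M) ∧ PiGrp (beta M)ᶜ (sigmaCore M ⊓ cj g M) ∧
      sigmaCore M ⊓ cj g M ⊓ ⁅sigmaCore M, sigmaCore M⁆ = ⊥ := by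
  -- no nontrivial `p`-subgroup of `M_σ ∩ M^g` has its centraliser in `M`
  have key : ∀ {p : ℕ} {X : Subgroup G}, p.Prime → IsPGroup p X → X ≠ ⊥ →
      X ≤ sigmaCore M ⊓ cj g M → p ∈ sigma M ∧ ¬ 𝐂(X) ≤ M := by
    intro p X hp hX hX1 hle
    have := Fact.mk hp
    have hσ : p ∈ sigma M :=
      (piGrp_sigmaCore M).mem_of_isPGroup hp hX hX1 (hle.trans inf_le_left)
    refine ⟨hσ, fun hC => hg ?_⟩
    exact M.inv_mem_iff.1 (t10_1e hG hM hσ hX ((hle.trans inf_le_left).trans (sigmaCore_le M)) hC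
      (le_cj_iff_cj_inv_le.1 (hle.trans inf_le_right)))
  have key2 : ∀ {p : ℕ} {X : Subgroup G}, p.Prime → ElemN p 1 (sigmaCore M ⊓ cj g M) X →
      ¬ (p ∈ beta M ∨ X ≤ ⁅sigmaCore M, sigmaCore M⁆) := by
    intro p X hp hX h
    have := Fact.mk hp
    exact (key hp hX.isPGroup (hX.ne_bot hp one_pos) hX.le).2
      (t12_14 hG hM (hX.mono (inf_le_left.trans (sigmaCore_le M))) h).1.le
  have h3 : sigmaCore M ⊓ cj g M ⊓ ⁅sigmaCore M, sigmaCore M⁆ = ⊥ := by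
    by_contra hne
    obtain ⟨p, hp, hd⟩ := exists_prime_dvd_card hne
    obtain ⟨X, hX⟩ := exists_elemN_one_of_dvd hp hd
    exact key2 hp (hX.mono inf_le_left) (Or.inr (hX.le.trans inf_le_right))
  refine ⟨?_, fun p hp hd hβ => ?_, h3⟩
  · by_contra hnc
    have hc : IsMulCommutative ↥(sigmaCore M ⊓ cj g M) := by
      rw [comm_iff_le_cent, ← commutator_eq_bot_iff', ← le_bot_iff, ← h3]
      exact le_inf (NormalIn.der _).le (Subgroup.commutator_mono inf_le_left inf_le_left)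
    obtain ⟨p, hp, A, hA⟩ := exists_elemN_two_of_comm hc hnc
    obtain ⟨hσ, hC⟩ := key hp hA.isPGroup (hA.ne_bot hp two_pos) hA.le
    exact hC ((cent_le_norm A).trans (t12_10d hG hM hσ hA.isPGroup
      ((hA.le.trans inf_le_left).trans (sigmaCore_le M)) (hA.not_isCyclic hp le_rfl)))
  · obtain ⟨X, hX⟩ := exists_elemN_one_of_dvd hp hd
    exact key2 hp hX (Or.inl hβ)

end CL.BG
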