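import Cfsg.Agent.Base
import Cfsg.Agent.BG.Sigma
import Cfsg.Agent.BG.Max
import Cfsg.Agent.BG.Nil
import Cfsg.Agent.BG.T10_0
import Cfsg.Agent.BG.T10_2
import Cfsg.Agent.BG.T10_8

namespace CL.BG

open Cfsg

variable {G : Type*} [Group G] [Finite G]

/-- BG 12.19 -/
theorem t12_19 (hG : IsMinSimpleOddOrder G) {M E : Subgroup G} (hM : IsCoatom M)
    (hE : Hall (sigma M)ᶜ E M) :
    ∃ H : Subgroup G, Hall (beta M)ᶜ H (sigmaCore M) ∧ ⁅E, E⁆ ≤ 𝐂(H) := by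
  have hσ : PiGrp (sigma M)ᶜ ⁅E, E⁆ := hE.pi.of_le (NormalIn.der E).le
  have hβ : PiGrp (beta M)ᶜ ⁅E, E⁆ := hσ.mono (Set.compl_subset_compl.2 (beta_sub_sigma hG hM))
  obtain ⟨W, hW, hEW⟩ := hall_superset (mmax_sub_sol hG hM (NormalIn.der M).le)
    (Subgroup.commutator_mono hE.le hE.le) hβ
  have hN : sigmaCore M ⊴ ⁅M, M⁆ :=
    (sigmaCore_normal M).of_le (t10_2c hG hM) (NormalIn.der M).le
  refine ⟨sigmaCore M ⊓ W, hW.normal_inf hN, ?_⟩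
  exact cent_symm (nil_cent_of_pi (t10_8b hG hM hW.le hW.pi) inf_le_right hEW
    ((piGrp_sigmaCore M).inf_left _) hσ)

end CL.BG
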