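import Cfsg.Agent.BG.T13_5
import Cfsg.Agent.BG.T12_5
import Cfsg.Agent.BG.T12_6
import Cfsg.Agent.BG.T12_14
import Cfsg.Agent.BG.T12_17
import Cfsg.Agent.BG.T12_19

/-! # Bender-Glauberman Lemma 13.6 -/

namespace CL.BG

open Cfsg Subgroup

variable {G : Type*} [Group G] [Finite G]

/-- For `q ∈ σ(M) \ β(M)` there is an `E`-invariant Sylow `q`-subgroup of `M_σ` centralised
by `E'`. -/
theorem a13_exists_sylow_cent_der (hG : IsMinSimpleOddOrder G) {M E : Subgroup G}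
    (hM : IsCoatom M) (hE : Hall (sigma M)ᶜ E M) {q : ℕ} (hq : q.Prime) (hβ : q ∉ beta M) :
    ∃ S : Subgroup G, SylowOf q S (sigmaCore M) ∧ E ≤ 𝐍(S) ∧ S ≤ 𝐂(⁅E, E⁆) := by
  have := Fact.mk hq
  obtain ⟨H, hH, hEH⟩ := t12_19 hG hM hE
  obtain ⟨S₀, hS₀, hS₀H⟩ := hH.exists_sylow (p := q) hβ
  have hn : E ≤ 𝐍(sigmaCore M ⊓ 𝐂(⁅E, E⁆)) :=
    norms_inf_cent (a13_norm_sigma hE.le) (NormalIn.der E).norm
  obtain ⟨S, hS, hES⟩ := t1_5a_sylow q hn (a13_coprime_sigma hE.pi inf_le_left)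
    (Or.inr (mmax_sub_sol hG hM hE.le))
  have h0 : SylowOf q S₀ (sigmaCore M ⊓ 𝐂(⁅E, E⁆)) :=
    Hall.restrict hS₀ (le_inf hS₀.le (hS₀H.trans (cent_symm hEH))) inf_le_left
  exact ⟨S, Hall.of_card_eq hS₀ (hS.le.trans inf_le_left) (Hall.card_eq hS h0), hES,
    hS.le.trans inf_le_right⟩

/-- a Hall `τ₂(M)`-subgroup is trivial iff `τ₂(M)` is empty -/
theorem a13_exists_tau2 {M E E₂ : Subgroup G} (h₂ : Hall (tau2 M) E₂ E) (h : E₂ ≠ ⊥) :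
    ∃ p, p ∈ tau2 M := by
  obtain ⟨p, hp⟩ := primesOf_nonempty h
  exact ⟨p, h₂.pi.mem hp⟩

theorem a13_eq_bot_of_tau2 {M E E₂ : Subgroup G} (h₂ : Hall (tau2 M) E₂ E)
    (h : ∀ p, p ∉ tau2 M) : E₂ = ⊥ := by
  by_contra h1
  obtain ⟨p, hp⟩ := a13_exists_tau2 h₂ h1
  exact h p hp

/-- BG 13.6 (Coq `cent_cent_Msigma_tau1_uniq`). -/
theorem t13_6 (hG : IsMinSimpleOddOrder G) {M E E₁ P X : Subgroup G} (hM : IsCoatom M)
    (hE : Hall (sigma M)ᶜ E M) (hE₁ : Hall (tau1 M) E₁ E) (hPE : P ≤ E₁) (hP : P ≠ ⊥)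
    {q : ℕ} (hq : q.Prime) (hX : ElemN q 1 (sigmaCore M ⊓ 𝐂(P)) X) :
    UniqMax 𝐂(X) M ∧ ∀ S : Subgroup G, SylowOf q S (sigmaCore M) → UniqMax S M := by
  have := Fact.mk hq
  have hXσ : X ≤ sigmaCore M := hX.le.trans inf_le_left
  refine t12_14 hG hM (hX.of_le (hXσ.trans (a13_sigma_normal M).le)) ?_
  by_contra hc
  push Not at hc
  obtain ⟨hβ, hXd⟩ := hc
  have hpr := t13_5 hG hM hE hE₁
  have hX₁ : X ≤ 𝐂(E₁) := (hX.le.trans (hpr.a13_cent_eq hPE hP).le).trans inf_le_right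
  obtain ⟨S, hS, hES, hSE⟩ := a13_exists_sylow_cent_der hG hM hE hq hβ
  have hE₁M := hE₁.le.trans hE.le
  have hn₁ : E₁ ≤ 𝐍(sigmaCore M) := a13_norm_sigma hE₁M
  have hcop := a13_coprime_sigma (hE.pi.of_le hE₁.le) (le_refl (sigmaCore M))
  have hsol : Group.IsSolvable (sigmaCore M) ∨ Group.IsSolvable E₁ :=
    Or.inr (mmax_sub_sol hG hM hE₁M)
  obtain ⟨T, hT, hET, hXT⟩ := t1_5b_sylow hn₁ hcop hsol hXσ hX.isPGroup
    (le_norm_of_le_cent (cent_symm hX₁))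
  obtain ⟨c, hc, hcT⟩ := t1_5c_sylow hn₁ hcop hsol hT hET hS (hE₁.le.trans hES)
  have hYS : cj c X ≤ S := hcT ▸ cj_mono c hXT
  have hYσ : cj c X ≤ sigmaCore M := hYS.trans hS.le
  have hY₁ : cj c X ≤ 𝐂(E₁) := cj_le_of_mem hc.2 hX₁
  have hYd : ¬ cj c X ≤ ⁅sigmaCore M, sigmaCore M⁆ := fun h => hXd (by
    rwa [← (NormalIn.der (sigmaCore M)).cj_eq hc.1, cj_le_cj_iff] at h)
  have hYE : ¬ cj c X ≤ 𝐂(E) := fun h => hYd ((le_inf hYσ h).trans (t12_17a hG hM hE).1)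
  obtain ⟨E₃, hE₃⟩ := hall_exists (tau3 M) (mmax_sub_sol hG hM hE.le)
  obtain ⟨E₂, hcpl⟩ := ex_tau2_compl hG hM hE hE₁ hE₃
  have hE₂ : E₂ ≠ ⊥ := fun h => hYE (by
    have h1 := (t12_1e hG hM hcpl).2.1.sup
    rw [h, bot_sup_eq] at h1
    rw [← h1, cent_sup]
    exact le_inf ((hYS.trans hSE).trans (cent_anti (t12_1b hG hM hE hE₃).1)) hY₁)
  obtain ⟨p, hp⟩ := a13_exists_tau2 hcpl.hall2 hE₂
  obtain ⟨A, hA⟩ := ex_tau2Elem hG hM hE hp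
  have hAE := (t12_6a hG hM hE hp hA).1
  have hdec := t1_6a (hE₁.le.trans hAE.norm)
    ((hA.piGrp hp.1 (π := (tau1 M)ᶜ) (fun h => a13_tau1_not_tau2 h hp)).coprime' hE₁.pi)
    (Or.inl hA.solvable)
  have hAY : A ≤ 𝐂(cj c X) := by
    rw [← hdec]
    refine sup_le ((commutator_mono hA.le hE₁.le).trans (cent_symm (hYS.trans hSE))) ?_
    obtain ⟨m, -, hm⟩ := hA.exists_of_le hp.1 (inf_le_left : A ⊓ 𝐂(E₁) ≤ A)
    refine hm.le_of_forall_one hp.1 fun R hR => cent_symm ?_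
    obtain ⟨r, hr, P₀, hP₀⟩ := a13_exists_elem hP
    have hP₀1 := hP₀.le.trans hPE
    have h4 := t13_4 hG hM hE (hE₁.pi.mem ((hP₀.of_le hP₀1).mem_primesOf hr one_pos))
      (hP₀.of_le (hP₀1.trans hE₁.le)) hp.1
      (hR.mono (inf_le_inf hA.le (cent_anti hP₀1)))
    exact ((le_inf hYσ (hY₁.trans (cent_anti hP₀1))).trans h4).trans inf_le_right
  refine (hX.cj c).ne_bot hq one_pos (eq_bot_iff.2 ?_)
  rw [← t12_5d hG hM hp (hA.mono hE.le)]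
  exact le_inf hYσ (cent_symm hAY)

/-- 13.6 for an arbitrary nontrivial `τ₁(M)`-subgroup `P` of `M` -/
theorem t13_6' (hG : IsMinSimpleOddOrder G) {M P X : Subgroup G} (hM : IsCoatom M)
    (hPM : P ≤ M) (hPπ : PiGrp (tau1 M) P) (hP : P ≠ ⊥)
    {q : ℕ} (hq : q.Prime) (hX : ElemN q 1 (sigmaCore M ⊓ 𝐂(P)) X) :
    UniqMax 𝐂(X) M ∧ ∀ S : Subgroup G, SylowOf q S (sigmaCore M) → UniqMax S M := by
  obtain ⟨E, hE, hFE⟩ := ex_sigma_compl hG hM hPM (hPπ.mono (a13_tau1_sub M))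
  obtain ⟨E₁, hE₁, hF₁⟩ := hall_superset (mmax_sub_sol hG hM hE.le) hFE hPπ
  exact t13_6 hG hM hE hE₁ hF₁ hP hq hX

end CL.BG
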