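import Cfsg.Agent.BG.T13_6

/-! # Bender-Glauberman Lemma 13.7 -/

namespace CL.BG

open Cfsg Subgroup

variable {G : Type*} [Group G] [Finite G]

/-- if `E₃` does not act regularly on `M_σ` then `τ₂(M)` is empty -/
theorem a13_tau2_empty (hG : IsMinSimpleOddOrder G) {M E E₁ E₃ : Subgroup G} (hM : IsCoatom M)
    (hE : Hall (sigma M)ᶜ E M) (h₁ : Hall (tau1 M) E₁ E) (h₃ : Hall (tau3 M) E₃ E)
    (h : ¬ Semiregular (sigmaCore M) E₃) (p : ℕ) : p ∉ tau2 M := fun hp => by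
  obtain ⟨A, hA⟩ := ex_tau2Elem hG hM hE hp
  exact h (t12_6de hG hM hE h₁ h₃ hp hA).1

theorem SigmaCompl.a13_sup_eq {M E E₁ E₂ E₃ : Subgroup G} (hE : SigmaCompl M E E₁ E₂ E₃)
    (hG : IsMinSimpleOddOrder G) (hM : IsCoatom M) (h : E₂ = ⊥) : E₃ ⊔ E₁ = E := by
  have h1 := (t12_1e hG hM hE).2.1.sup
  rwa [h, bot_sup_eq] at h1

/-- BG 13.7 (Coq `tau13_primact_Msigma`). -/
theorem t13_7 (hG : IsMinSimpleOddOrder G) {M E E₁ E₂ E₃ : Subgroup G} (hM : IsCoatom M)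
    (hE : SigmaCompl M E E₁ E₂ E₃) (hreg : ¬ Semiregular E₃ E₁) :
    Semiprime (sigmaCore M) (E₃ ⊔ E₁) := by
  obtain ⟨p, hp, P, hP, hPC⟩ := a13_exists_of_not_semiregular hreg
  obtain ⟨r, hr, R, hR⟩ := a13_exists_elem hPC
  have hR₃ : R ≤ E₃ := hR.le.trans inf_le_left
  have hP1 := hP.ne_bot hp one_pos
  have hR1 := hR.ne_bot hr one_pos
  have hpr₁ := t13_5 hG hM hE.hallE hE.hall1
  have hpr₃ := t13_3b hG hM hE.hallE hE.hall3
  have hE₁M := hE.hall1.le.trans hE.hallE.le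
  have hE₃M := hE.hall3.le.trans hE.hallE.le
  have h4 := t13_4 hG hM hE.hallE (hE.hall1.pi.mem (hP.mem_primesOf hp one_pos))
    (hP.mono hE.hall1.le) hr (hR.mono (inf_le_inf_right _ hE.hall3.le))
  rw [hpr₁.a13_cent_eq hP.le hP1, hpr₃.a13_cent_eq hR₃ hR1] at h4
  obtain ⟨-, hn₃⟩ := t12_1b hG hM hE.hallE hE.hall3
  have hc₃ := t12_1d3 hG hM hE₃M hE.hall3.pi
  by_cases h : sigmaCore M ⊓ 𝐂(E₃) ≤ 𝐂(E₁)
  · have hLE : E₃ ⊔ E₁ ≤ E := sup_le hE.hall3.le hE.hall1.le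
    refine a13_semiprime_of_prime fun q hq X hX => ?_
    have hX1 := hX.ne_bot hq one_pos
    have hqL := hX.mem_primesOf hq one_pos
    rw [primesOf_sup (Or.inl (hE.hall1.le.trans hn₃.norm))] at hqL
    rcases hqL with hq₃ | hq₁
    · have hX₃ : X ≤ E₃ := hE.hall3.le_of_normal hn₃.norm (hX.le.trans hLE)
        (hX.piGrp hq (hE.hall3.pi.mem hq₃))
      rw [hpr₃.a13_cent_eq hX₃ hX1, cent_sup]
      exact le_inf inf_le_right h
    · obtain ⟨g, hg, hgX⟩ := hall_conj_le (mmax_sub_sol hG hM (hLE.trans hE.hallE.le))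
        (hE.hall1.restrict le_sup_right hLE) hX.le (hX.piGrp hq (hE.hall1.pi.mem hq₁))
      rw [← cj_le_cj_iff (g := g), cj_inf, cj_cent, cj_cent, cj_eq_of_mem hg,
        (a13_sigma_normal M).cj_eq (hE.hallE.le (hLE hg)),
        hpr₁.a13_cent_eq hgX (by rwa [Ne, cj_eq_bot_iff]), cent_sup]
      exact le_inf (h4.trans inf_le_right) inf_le_right
  exfalso
  have hC : sigmaCore M ⊓ 𝐂(E₃) ≠ ⊥ := fun e => h (e ▸ bot_le)
  have hE₂ : E₂ = ⊥ := a13_eq_bot_of_tau2 hE.hall2 (a13_tau2_empty hG hM hE.hallE hE.hall1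
    hE.hall3 fun hs => hC (hs.a13_cent_eq le_rfl (ne_bot_of_le hR1 hR₃)))
  have hsup := hE.a13_sup_eq hG hM hE₂
  have hRM := hR₃.trans hE₃M
  obtain ⟨H, hH, hNH⟩ := a13_exists_mmax_norm hG hM hRM hR1
  have hEH : E ≤ H := (hn₃.of_isCyclic hc₃ hR₃).norm.trans hNH
  have hCH : sigmaCore M ⊓ 𝐂(E₃) ≤ sigmaCore M ⊓ H :=
    inf_le_inf_left _ (((cent_anti hR₃).trans (cent_le_norm R)).trans hNH)
  obtain ⟨-, h2b, h2c⟩ := t13_2 hG hM hE.hallE
    (Or.inr (hE.hall3.pi.mem ((hR.of_le hR₃).mem_primesOf hr one_pos))) hRM hR.isPGroup hH hNH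
  have hrσ : r ∈ sigma H := (h2c fun e => h (hCH.trans ((commutator_eq_bot_iff'.1 e).trans
    (cent_anti (le_inf hE₁M (hE.hall1.le.trans hEH)))))).1
  have hπ : PiGrp (tau1 H) E₁ := fun s hs hd => by
    by_contra hs'
    obtain ⟨Y, hY⟩ := exists_elemN_one_of_dvd hs hd
    have h1 := cent_symm (h2b Y (le_inf (hY.le.trans hE.hall1.le)
      ((hY.le.trans hE.hall1.le).trans hEH)) (hY.piGrp hs hs'))
    exact h (((le_inf inf_le_left (hCH.trans h1)).trans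
      (hpr₁.a13_cent_eq hY.le (hY.ne_bot hs one_pos)).le).trans inf_le_right)
  have hRσ : R ≤ sigmaCore H :=
    le_sigmaCore hG hH (le_normalizer.trans hNH) (hR.piGrp hr hrσ)
  have hR₁ : R ≤ 𝐂(E₁) := ((le_inf hRσ (hR.le.trans inf_le_right)).trans
    ((t13_5' hG hH (hE.hall1.le.trans hEH) hπ).a13_cent_eq hP.le hP1).le).trans inf_le_right
  refine hR1 (eq_bot_iff.2 ?_)
  rw [← t12_1f hG hM hE.hallE hE.hall3, ← hsup, cent_sup]
  exact le_inf hR₃ (le_inf (le_cent_of_comm_of_le (comm_of_isCyclic hc₃) hR₃ le_rfl) hR₁)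

end CL.BG
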