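import Cfsg.Agent.BG.T14_1
import Cfsg.Agent.BG.T12_1
import Cfsg.Agent.BG.T12_6
import Cfsg.Agent.BG.T12_10
import Cfsg.Agent.BG.T13_5
import Cfsg.Agent.BG.T13_6
import Cfsg.Agent.BG.T13_7
import Cfsg.Agent.BG.T13_11
import Cfsg.Agent.BG.T13_12

/-! # The structure of a complement of `M_σ` containing a Hall `κ(M)`-subgroup (for BG 14.2) -/

namespace CL.BG

open Cfsg Subgroup

variable {G : Type*} [Group G] [Finite G]

/-- a `τ₁ ∪ τ₃`-subgroup of `M` centralising a nonidentity element of `M_σ` is a `κ`-group -/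
theorem a14_piGrp_kappa (hG : IsMinSimpleOddOrder G) {M F : Subgroup G} (hF : F ≤ M)
    (hπ : PiGrp (tau1 M ∪ tau3 M) F) (hC : sigmaCore M ⊓ 𝐂(F) ≠ ⊥) : PiGrp (kappa M) F := by
  intro r hr hd
  obtain ⟨X, hX, hXc⟩ := exists_card_eq_of_dvd_card hr hd
  exact mem_kappa_of_cent hG (hπ r hr hd) (hX.trans hF) hXc
    (ne_bot_of_le hC (inf_le_inf_left _ (cent_anti hX)))

omit [Finite G] in
theorem a14_tau1_not_tau23 {M : Subgroup G} {p : ℕ} (h : p ∈ tau1 M) :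
    p ∉ tau2 M ∧ p ∉ tau3 M :=
  ⟨fun h2 => h2.2.2.2 h.2.2.2.2, fun h3 => h.2.2.2.1 h3.2.2.1⟩

/-- The core of BG 14.2(a),(b),(c),(e). -/
theorem a14_2_setup (hG : IsMinSimpleOddOrder G) {M K E : Subgroup G} (hM : IsCoatom M)
    (hK : Hall (kappa M) K M) (hK1 : K ≠ ⊥) (hE : Hall (sigma M)ᶜ E M) (hKE : K ≤ E) :
    Semiprime (sigmaCore M) K ∧ (∀ X : Subgroup G, X ≤ K → (Nat.card X).Prime → K ≤ 𝐍(X)) ∧
      (∃ U : Subgroup G, SDP U K E ∧ PiGrp (kappa M)ᶜ U ∧ Semiregular U K ∧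
        IsMulCommutative U) ∧
      ∀ X : Subgroup G, X ≤ kstar M K → (Nat.card X).Prime → UniqMax 𝐂(X) M ∧
        ∀ S : Subgroup G, SylowOf (Nat.card X) S (sigmaCore M) → UniqMax S M := by
  have hsolE := mmax_sub_sol hG hM hE.le
  by_cases h3 : ∃ p ∈ kappa M, p ∈ tau3 M
  · obtain ⟨p, hpκ, hp3⟩ := h3
    obtain ⟨E₁, E₂, E₃, hc⟩ := ex_sigmaCompl hG hM hE
    have hd : p ∣ Nat.card E₃ :=
      (hc.hall3.dvd_card_iff hpκ.1 hp3).2 ((hE.dvd_card_iff hpκ.1 hpκ.2.2.1).2 hpκ.2.1)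
    obtain ⟨Y, hY, hYc⟩ := exists_card_eq_of_dvd_card hpκ.1 hd
    have hY1 : Y ≠ ⊥ := ne_bot_of_card_prime (hYc ▸ hpκ.1)
    have hYM : Y ≤ M := hY.trans (hc.hall3.le.trans hE.le)
    have hCY := kappa_cent_ne hpκ hYM hYc
    obtain ⟨hE1, hsup, hpr, hnorm⟩ := t13_11 hG hM hc fun hreg => hCY (hreg.a14_cent hY hY1)
    rw [hpr.a14_cent (hY.trans hc.hall3.le) hY1] at hCY
    have hEπ : PiGrp (tau1 M ∪ tau3 M) E := by
      rw [← hsup]
      exact (hc.hall3.pi.mono Set.subset_union_right).sup (hc.hall1.pi.mono Set.subset_union_left)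
        (Or.inl (hc.hall1.le.trans (t12_1b hG hM hE hc.hall3).2.norm))
    have hEK : E = K := hK.eq_of_le hE.le (a14_piGrp_kappa hG hE.le hEπ hCY) hKE
    subst hEK
    refine ⟨hpr, fun X hX hXp => (hnorm X hX hXp).norm, ⟨⊥, ⟨bot_sup_eq _, ?_, bot_inf_eq _⟩,
      piGrp_bot _, fun x _ _ => bot_inf_eq _, inferInstance⟩, fun X hX hXp => ?_⟩
    · rw [norm_bot]; exact le_top
    · exact t13_6 hG hM hE hc.hall1 le_rfl hE1 hXp ((elemN_one_iff hXp).2
        ⟨hX.trans (inf_le_inf_left _ (cent_anti hc.hall1.le)), rfl⟩)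
  · push Not at h3
    have hκ1 : kappa M ⊆ tau1 M := fun p hp => (tau13_of_mem_kappa hp).resolve_right (h3 p hp)
    obtain ⟨E₁, h₁, hKE₁⟩ := hall_superset hsolE hKE (hK.pi.mono hκ1)
    obtain ⟨E₃, h₃⟩ := hall_exists (tau3 M) hsolE
    obtain ⟨E₂, hc⟩ := ex_tau2_compl hG hM hE h₁ h₃
    have hpr := t13_5 hG hM hE h₁
    obtain ⟨Y, hY, hYp⟩ := a14_exists_prime_le hK1
    have hY1 := ne_bot_of_card_prime hYp
    have hCY := kappa_cent_ne (hK.pi _ hYp (card_dvd_of_le hY)) (hY.trans hK.le) rfl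
    rw [hpr.a14_cent (hY.trans hKE₁) hY1] at hCY
    have hE₁K : E₁ = K := hK.eq_of_le (h₁.le.trans hE.le)
      (a14_piGrp_kappa hG (h₁.le.trans hE.le) (h₁.pi.mono Set.subset_union_left) hCY) hKE₁
    subst hE₁K
    obtain ⟨-, -, hs32, hsdp, -⟩ := t12_1e hG hM hc
    have hUπ : PiGrp (tau2 M ∪ tau3 M) (E₃ ⊔ E₂) :=
      (h₃.pi.mono Set.subset_union_right).sup (hc.hall2.pi.mono Set.subset_union_left)
        (Or.inl hs32.norm)
    have hUE : E₃ ⊔ E₂ ≤ E := sup_le h₃.le hc.hall2.le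
    have hreg : Semiregular (E₃ ⊔ E₂) E₁ := by
      refine a14_semiregular_of_prime fun X hX hXp => ?_
      by_contra hne
      obtain ⟨R, hR, hRp⟩ := a14_exists_prime_le hne
      have hXκ := hK.pi _ hXp (card_dvd_of_le hX)
      have hCX := kappa_cent_ne hXκ (hX.trans hK.le) rfl
      have hRE : R ≤ E := (hR.trans inf_le_left).trans hUE
      have hR1 := ne_bot_of_card_prime hRp
      have hX1 := ne_bot_of_card_prime hXp
      rcases hUπ _ hRp (card_dvd_of_le (hR.trans inf_le_left)) with h2 | h3'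
      · obtain ⟨A, hA⟩ := ex_tau2Elem hG hM hE h2
        have hRA : R ≤ A :=
          (((t12_6a hG hM hE h2 hA).2 R).1 ((elemN_one_iff hRp).2 ⟨hRE, rfl⟩)).le
        exact hCX (t13_12 hG hM hE (hκ1 hXκ) ((elemN_one_iff hXp).2 ⟨hX.trans h₁.le, rfl⟩) h2 hA
          (ne_bot_of_le hR1 (le_inf hRA (hR.trans inf_le_right))))
      · have hR3 : R ≤ E₃ := h₃.le_of_normal (t12_1b hG hM hE h₃).2.norm hRE
          ((piGrp_iff_of_card_prime hRp rfl).2 h3')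
        have hpr' := t13_7 hG hM hc fun hreg =>
          ne_bot_of_le hR1 (le_inf hR3 (hR.trans inf_le_right)) (hreg.a14_cent hX hX1)
        refine h3 _ (mem_kappa_of_cent hG (Or.inr h3') (hRE.trans hE.le) rfl ?_) h3'
        rwa [hpr'.a14_cent (hR3.trans le_sup_left) hR1,
          ← hpr'.a14_cent (hX.trans le_sup_right) hX1]
    have hcyc := t12_1d1 hG hM (h₁.le.trans hE.le) h₁.pi
    refine ⟨hpr, fun X hX _ => le_norm_of_le_cent
      (le_cent_of_comm_of_le (comm_of_isCyclic hcyc) le_rfl hX),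
      ⟨E₃ ⊔ E₂, hsdp, fun r hr hd hκ => ?_, hreg, ?_⟩, fun X hX hXp => ?_⟩
    · rcases hUπ r hr hd with h | h
      · exact (a14_tau1_not_tau23 (hκ1 hκ)).1 h
      · exact (a14_tau1_not_tau23 (hκ1 hκ)).2 h
    · exact t12_10a hG hM (hUE.trans hE.le) (hE.pi.of_le hUE)
        (t3_7 (hY.trans hsdp.norm) (solvable_of_le hsolE hUE) hYp (hreg.a14_cent hY hY1))
    · exact t13_6 hG hM hE h₁ le_rfl hK1 hXp ((elemN_one_iff hXp).2 ⟨hX, rfl⟩)

end CL.BG
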