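import Cfsg.Agent.BG.T14_6

/-! # BG Theorem 14.7, first half: the family of maximal subgroups attached to `Z = K × K*` -/

namespace CL.BG

open Cfsg Subgroup

theorem a14_sum_ncard_le {α ι : Type*} [Finite α] (s : Finset ι) (A : ι → Set α) (U : Set α)
    (hA : ∀ i ∈ s, A i ⊆ U) (hd : ∀ i ∈ s, ∀ j ∈ s, i ≠ j → Disjoint (A i) (A j)) :
    ∑ i ∈ s, (A i).ncard ≤ U.ncard := by
  classical
  induction s using Finset.induction_on generalizing U with
  | empty => simp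
  | insert i s hi ih =>
    rw [Finset.sum_insert hi, ← Set.ncard_sdiff_add_ncard_of_subset (hA i (by simp)), add_comm]
    refine Nat.add_le_add_right (ih _ (fun j hj => ?_) fun j hj k hk => ?_) _
    · exact Set.subset_sdiff.2 ⟨hA j (by simp [hj]),
        hd j (by simp [hj]) i (by simp) (by rintro rfl; exact hi hj)⟩
    · exact hd j (by simp [hj]) k (by simp [hk])

theorem a14_ncard_le_sum {α ι : Type*} [Finite α] (s : Finset ι) (A : ι → Set α) (U : Set α)
    (hU : ∀ a ∈ U, ∃ i ∈ s, a ∈ A i) : U.ncard ≤ ∑ i ∈ s, (A i).ncard := by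
  classical
  induction s using Finset.induction_on generalizing U with
  | empty =>
    rw [Set.eq_empty_of_forall_notMem (s := U) fun a ha => by simpa using hU a ha]
    simp
  | insert i s hi ih =>
    rw [Finset.sum_insert hi, add_comm]
    refine (Set.ncard_le_ncard_sdiff_add_ncard U (A i)).trans
      (Nat.add_le_add_right (ih _ fun a ha => ?_) _)
    obtain ⟨j, hj, haj⟩ := hU a ha.1
    rcases Finset.mem_insert.1 hj with rfl | hj
    · exact absurd haj ha.2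
    · exact ⟨j, hj, haj⟩

variable {G : Type*} [Group G] [Finite G]

/-- `L` is of type `𝒫` and `Z = J × J*` for the Hall `κ(L)`-subgroup `J`. -/
structure A14Good (Z L J : Subgroup G) : Prop where
  typeP : TypeP L
  hall : Hall (kappa L) J L
  sup : J ⊔ kstar L J = Z

theorem a14_7_A0 (hG : IsMinSimpleOddOrder G) {M K X L : Subgroup G} (hM : TypeP M)
    (hK : Hall (kappa M) K M) (hX : X ≤ K) (hXp : (Nat.card X).Prime) (hL : IsCoatom L)
    (hN : 𝐍(X) ≤ L) :
    (∀ g : G, L ≠ cj g M) ∧ K ⊔ kstar M K ≤ L ∧ PiGrp (kappa L) (kstar M K) := by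
  have hXL := t14_2b2 hG hM.coatom hK hX hXp hL hN
  have hnc : ∀ g : G, L ≠ cj g M := by
    rintro g rfl
    have h1 := piGrp_sigmaCore _ _ hXp (card_dvd_of_le hXL)
    rw [sigma_cj] at h1
    exact hK.pi.kappa_sigma' _ hXp (card_dvd_of_le hX) h1
  have hZ : K ⊔ kstar M K ≤ L := by
    rw [← t14_2b1 hG hM.coatom hK hX hXp]
    exact inf_le_right.trans hN
  refine ⟨hnc, hZ, fun p hp hd => ?_⟩
  obtain ⟨y, hy, rfl⟩ := exists_orderOf_eq_of_dvd_card hp hd
  have hy1 : y ≠ 1 := fun h => by rw [h, orderOf_one] at hp; exact Nat.not_prime_one hp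
  obtain ⟨x, hx, hx1⟩ := exists_ne_one_of_ne_bot (ne_bot_of_card_prime hXp)
  rcases t14_3 hG hL (hXL hx) hx1 ⟨hZ (le_sup_right (a := K) hy), cent_le_cent1 (hX hx) hy.2⟩ hy1
    (((kstar_pi M K).piElt hy).mono (a14_sigma_sub_compl hG hM.coatom hL hnc)) with h | h
  · exact h.1 _ hp dvd_rfl
  · exact absurd (h.2.2.uniq M hM.coatom (t14_2c_elt hG hM hK hy hy1)).symm
      (by simpa only [cj_one] using hnc 1)

theorem a14_7_A (hG : IsMinSimpleOddOrder G) {M K X L : Subgroup G} (hM : TypeP M)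
    (hK : Hall (kappa M) K M) (hX : X ≤ K) (hXp : (Nat.card X).Prime) (hL : IsCoatom L)
    (hN : 𝐍(X) ≤ L) : ∃ J : Subgroup G, A14Good (K ⊔ kstar M K) L J ∧ X ≤ kstar L J := by
  obtain ⟨-, hZ, hκ⟩ := a14_7_A0 hG hM hK hX hXp hL hN
  obtain ⟨J, hJ, hKJ⟩ := hall_superset (mmax_sol hG hL) (le_sup_right.trans hZ) hκ
  have hne := t14_2c_ne hG hM.coatom hK
  obtain ⟨Y, hY, hYp⟩ := a14_exists_prime_le hne
  have hLP : TypeP L := typeP_of_piGrp hL hκ hne
  have h1 := t14_2b1 hG hL hJ (hY.trans hKJ) hYp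
  have hKY : K ≤ 𝐂(Y) := (le_cent_kstar M K).trans (cent_anti hY)
  have hXJ : X ≤ kstar L J := by
    rw [← t14_2a_cent hG hL hJ (hY.trans hKJ) (ne_bot_of_card_prime hYp)]
    exact le_inf (t14_2b2 hG hM.coatom hK hX hXp hL hN) (hX.trans hKY)
  have hYM := t14_2c_norm hG hM hK hY hYp
  refine ⟨J, ⟨hLP, hJ, le_antisymm ?_ (sup_le ?_ (hKJ.trans le_sup_left))⟩, hXJ⟩
  · obtain ⟨-, hZ', hκ'⟩ := a14_7_A0 hG hLP hJ (hY.trans hKJ) hYp hM.coatom hYM
    obtain ⟨K', hK', hJK'⟩ := hall_superset (mmax_sol hG hM.coatom) (le_sup_right.trans hZ') hκ'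
    rw [← t14_2b1 hG hM.coatom hK hX hXp]
    refine sup_le (le_inf (le_sup_left.trans hZ')
      (le_norm_of_le_cent ((le_cent_kstar L J).trans (cent_anti hXJ)))) ?_
    rw [t14_2b1 hG hM.coatom hK' (hXJ.trans hJK') hXp]
    exact hJK'.trans le_sup_left
  · rw [← h1]
    exact le_inf (le_sup_left.trans hZ) (le_norm_of_le_cent hKY)

namespace A14Good

variable {Z L J L' J' : Subgroup G}

theorem dp (h : A14Good Z L J) : DP J (kstar L J) Z := h.sup ▸ dp_kstar h.hall.pi.kappa_sigma'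

theorem hallKs (h : A14Good Z L J) : Hall (sigma L) (kstar L J) Z :=
  h.dp.sdp.hall_right (kstar_pi L J) h.hall.pi.kappa_sigma'

theorem hallJ (h : A14Good Z L J) : Hall (sigma L)ᶜ J Z :=
  h.dp.symm.sdp.hall_right_of_left h.hallKs

theorem le (h : A14Good Z L J) : Z ≤ L := h.sup ▸ sup_le h.hall.le (kstar_le L J)

theorem eq (h : A14Good Z L J) (h' : A14Good Z L J') : J' = J :=
  h.hallJ.eq_of_normal h.dp.left_normalIn.norm h'.hallJ

theorem disj (hG : IsMinSimpleOddOrder G) (h : A14Good Z L J) (h' : A14Good Z L' J')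
    (hne : L' ≠ L) : kstar L J ⊓ kstar L' J' = ⊥ := by
  by_contra hc
  obtain ⟨X, hX, hXp⟩ := a14_exists_prime_le hc
  exact hne ((t14_2c hG h'.typeP h'.hall (hX.trans inf_le_right) hXp).unique
    (t14_2c hG h.typeP h.hall (hX.trans inf_le_left) hXp))

theorem not_conj (hG : IsMinSimpleOddOrder G) (h : A14Good Z L J) (h' : A14Good Z L' J')
    (hne : L' ≠ L) (g : G) : L' ≠ cj g L := by
  intro e
  have h1 := h'.hallKs
  have h2 := h.disj hG h' hne
  rw [show sigma L' = sigma L by rw [e, sigma_cj]] at h1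
  rw [h.hallKs.eq_of_normal h.dp.right_normalIn.norm h1, inf_idem] at h2
  exact t14_2c_ne hG h.typeP.coatom h.hall h2

theorem kstar_le (hG : IsMinSimpleOddOrder G) (h : A14Good Z L J) (h' : A14Good Z L' J')
    (hne : L' ≠ L) : kstar L' J' ≤ J :=
  h.hallJ.le_of_normal h.dp.left_normalIn.norm h'.dp.right_le ((kstar_pi L' J').mono
    (a14_sigma_sub_compl' hG h.typeP.coatom h'.typeP.coatom (h.not_conj hG h' hne)))

theorem piPart_mem (h : A14Good Z L J) {t : G} (ht : t ∈ Z) : piPart (sigma L) t ∈ kstar L J :=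
  h.dp.symm.piPart_mem (kstar_pi L J) h.hall.pi.kappa_sigma' ht

theorem piPart_compl_mem (h : A14Good Z L J) {t : G} (ht : t ∈ Z) : piPart (sigma L)ᶜ t ∈ J :=
  h.dp.piPart_mem h.hall.pi.kappa_sigma' (by rw [compl_compl]; exact kstar_pi L J) ht

theorem ti (hG : IsMinSimpleOddOrder G) (h : A14Good Z L J) {y y' g : G} (hy : y ∈ kstar L J)
    (hy1 : y ≠ 1) (hy' : y' ∈ J) (hy'1 : y' ≠ 1) (hg : g * (y * y') * g⁻¹ ∈ Z) : g ∈ Z := by
  have hc : Commute y y' := h.dp.symm.cp.commute hy hy'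
  have hyσ := (kstar_pi L J).piElt hy
  have hy'σ := h.hall.pi.kappa_sigma'.piElt hy'
  have h1 := h.piPart_mem hg
  have h2 := h.piPart_compl_mem hg
  rw [piPart_conj, piPart_mul_eq hyσ hy'σ hc] at h1
  rw [piPart_conj, hc.eq, piPart_mul_eq hy'σ (by rwa [compl_compl]) hc.symm] at h2
  have hgL : g ∈ L := by
    by_contra hc
    exact ne_bot_of_mem (mem_inf.2 ⟨h1, conj_mem_cj.2 (BG.kstar_le L J hy)⟩)
      (by simpa using hy1) (t14_2d1 hG h.typeP h.hall hc)
  by_contra hc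
  exact ne_bot_of_mem (mem_inf.2 ⟨h2, conj_mem_cj.2 hy'⟩) (by simpa using hy'1)
    (t14_2d2 hG h.typeP.coatom h.hall hgL (h.sup ▸ hc))

theorem exists_le_kstar (hG : IsMinSimpleOddOrder G) (h : A14Good Z L J) {X : Subgroup G}
    (hX : X ≤ Z) (hXp : (Nat.card X).Prime) :
    ∃ L' J' : Subgroup G, A14Good Z L' J' ∧ X ≤ kstar L' J' := by
  by_cases hσ : Nat.card X ∈ sigma L
  · exact ⟨L, J, h, h.hallKs.le_of_normal h.dp.right_normalIn.norm hX
      ((piGrp_iff_of_card_prime hXp rfl).2 hσ)⟩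
  · have := Fact.mk hXp
    obtain ⟨L', hL', hN⟩ := mmax_exists
      (mFT_norm_pgroup_ne_top hG (isPGroup_of_card_prime (X := X) rfl) (ne_bot_of_card_prime hXp))
    obtain ⟨J', h1, h2⟩ := a14_7_A hG h.typeP h.hall (h.hallJ.le_of_normal
      h.dp.left_normalIn.norm hX ((piGrp_iff_of_card_prime hXp rfl).2 hσ)) hXp hL' hN
    exact ⟨L', J', h.sup ▸ h1, h2⟩

theorem exists_ne (hG : IsMinSimpleOddOrder G) (h : A14Good Z L J) :
    ∃ L' J' : Subgroup G, A14Good Z L' J' ∧ L' ≠ L := by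
  obtain ⟨X, hX, hXp⟩ := a14_exists_prime_le (h.typeP.hall_ne_bot h.hall)
  obtain ⟨L', J', h1, h2⟩ := h.exists_le_kstar hG (hX.trans h.dp.left_le) hXp
  refine ⟨L', J', h1, ?_⟩
  rintro rfl
  obtain rfl := h.eq h1
  exact ne_bot_of_card_prime hXp (le_bot_iff.1 (h.dp.disj ▸ le_inf hX h2))

theorem decomp (hG : IsMinSimpleOddOrder G) (h : A14Good Z L J) {t : G} (ht : t ∈ Z)
    (hn : ∀ L' J' : Subgroup G, A14Good Z L' J' → t ∉ kstar L' J') :
    ∃ L' J' : Subgroup G, A14Good Z L' J' ∧ ∃ y ∈ kstar L' J', y ≠ 1 ∧ ∃ y' ∈ J', y' ≠ 1 ∧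
      t = y * y' := by
  have ht1 : t ≠ 1 := fun e => hn L J h (e ▸ one_mem _)
  obtain ⟨X, hX, hXp, hXd⟩ := a14_exists_prime_le_zpowers ht1
  obtain ⟨L', J', h1, h2⟩ := h.exists_le_kstar hG (hX.trans (zpowers_le.2 ht)) hXp
  refine ⟨L', J', h1, _, h1.piPart_mem ht,
    piPart_ne_one hXp hXd (kstar_pi L' J' _ hXp (card_dvd_of_le h2)), _, h1.piPart_compl_mem ht,
    fun e => hn L' J' h1 ?_, (piPart_mul_piPart_compl _ t).symm⟩
  rw [← piPart_mul_piPart_compl (sigma L') t, e, mul_one]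
  exact h1.piPart_mem ht

theorem lt (hG : IsMinSimpleOddOrder G) (h : A14Good Z L J) : Z < L := by
  refine lt_of_le_of_ne h.le fun e => ?_
  obtain ⟨X, hX, hXp⟩ := a14_exists_prime_le (h.typeP.hall_ne_bot h.hall)
  have h1 := t14_2b1 hG h.typeP.coatom h.hall hX hXp
  rw [h.sup, e, inf_eq_left] at h1
  exact a14_2_ne hG h.typeP.coatom h.hall hX hXp (mmax_norm hG h.typeP.coatom
    (ne_bot_of_card_prime hXp) (mmax_sub_ne_top h.typeP.coatom (hX.trans h.hall.le)) h1).le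

theorem card_p1 (hG : IsMinSimpleOddOrder G) (h : A14Good Z L J) (h1 : TypeP1 L) :
    (2 * (Nat.card (kstar L J) - 1) + 1) * Z.index ≤ 2 * (sigmaTilde L).ncard := by
  have hL := h1.coatom
  have hJ : Hall (sigma L)ᶜ J L := h.hall.congr fun p hp hd =>
    ⟨fun hκ => kappa_sub_sigma_compl L hκ, h1.mem_kappa hp hd⟩
  have e1 := (sdprod_sigma hG hL hJ).card
  have e2 := h.dp.card
  have e3 := card_mul_relIndex h.le
  have e4 := relIndex_mul_index h.le
  have e5 : 2 ≤ Z.relIndex L := by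
    have h2 := relIndex_pos Z L
    have h3 : Z.relIndex L ≠ 1 := fun e => (h.lt hG).not_ge (relIndex_eq_one.1 e)
    omega
  have e6 : Nat.card (sigmaCore L) = Nat.card (kstar L J) * Z.relIndex L :=
    Nat.eq_of_mul_eq_mul_right (card_pos' J) (by rw [e1, ← e3, ← e2]; ring)
  rw [t14_5c hG hL, e6, ← e4]
  obtain ⟨k, hk⟩ := Nat.exists_eq_add_one_of_ne_zero (card_pos' (kstar L J)).ne'
  obtain ⟨r, hr⟩ := Nat.exists_eq_add_of_le e5
  rw [hk, hr, show (k + 1) * (2 + r) - 1 = 2 * k + k * r + r + 1 by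
    rw [Nat.sub_eq_iff_eq_add (by nlinarith)]; ring, Nat.add_sub_cancel, ← mul_assoc,
    ← mul_assoc]
  exact Nat.mul_le_mul_right _ (by nlinarith)

/-- the counting argument: some member of the family is of type `𝒫₂` -/
theorem exists_p2 (hG : IsMinSimpleOddOrder G) (h : A14Good Z L J) :
    ∃ L' J' : Subgroup G, A14Good Z L' J' ∧ TypeP2 L' := by
  classical
  by_contra hc
  push Not at hc
  let F : Finset (Subgroup G × Subgroup G) :=
    (Set.toFinite {p : Subgroup G × Subgroup G | A14Good Z p.1 p.2}).toFinset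
  have hF : ∀ p, p ∈ F ↔ A14Good Z p.1 p.2 := fun p => by simp [F]
  let T : Set G := {t | t ∈ Z ∧ ∀ L' J' : Subgroup G, A14Good Z L' J' → t ∉ kstar L' J'}
  have hT : (classSupport T).ncard = T.ncard * Z.index := by
    refine ncard_classSupport fun t ht g => ⟨fun hg => ?_, fun hg => ?_⟩
    · obtain ⟨L', J', h1, y, hy, hy1, y', hy', hy'1, rfl⟩ := h.decomp hG ht.1 ht.2
      exact h1.ti hG hy hy1 hy' hy'1 hg.1
    · refine ⟨mul_mem (mul_mem hg ht.1) (inv_mem hg), fun L' J' h1 h2 => ht.2 L' J' h1 ?_⟩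
      simpa [mul_assoc] using conj_mem_of_mem_norm' (h1.dp.right_normalIn.norm hg) h2
  have h1 : Nat.card Z ≤ T.ncard + 1 + ∑ p ∈ F, (Nat.card (kstar p.1 p.2) - 1) := by
    have h2 := a14_ncard_le_sum F (fun p => (kstar p.1 p.2 : Set G) \ {1}) (((Z : Set G) \ {1}) \ T)
      (fun a ha => by
        have h3 := ha.2
        simp only [T, Set.mem_ofPred_eq, not_and, not_forall, not_not] at h3
        obtain ⟨L', J', h4, h5⟩ := h3 ha.1.1
        exact ⟨(L', J'), (hF _).2 h4, h5, ha.1.2⟩)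
    simp only [a14_ncard_sharp] at h2
    have h3 := Set.ncard_le_ncard_sdiff_add_ncard ((Z : Set G) \ {1}) T
    rw [a14_ncard_sharp] at h3
    omega
  have h2 : ∑ p ∈ F, (sigmaTilde p.1).ncard ≤ ((Set.univ \ {1}) \ classSupport T).ncard := by
    refine a14_sum_ncard_le F (fun p => sigmaTilde p.1) _ (fun p hp a ha => ⟨⟨trivial, ?_⟩, ?_⟩)
      fun p hp q hq hne => ?_
    · rintro rfl
      exact one_not_mem_sigmaTilde hG ((hF p).1 hp).typeP.coatom ha
    · rintro ⟨g, t, ht, rfl⟩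
      obtain ⟨L', J', h1, y, hy, hy1, y', hy', hy'1, rfl⟩ := h.decomp hG ht.1 ht.2
      refine t14_6_not' hG h1.typeP.coatom ((hF p).1 hp).typeP.coatom hy.1 hy1
        ⟨h1.hall.le hy', mem_cent1_comm.1 (cent_le_cent1 hy' hy.2)⟩ hy'1 (h1.hall.pi.piElt hy') ?_
      rw [sigmaTilde_eq] at ha ⊢
      simpa [mul_assoc] using conj_mem_classSupport ha g⁻¹
    · have hp' := (hF p).1 hp
      have hq' := (hF q).1 hq
      refine t14_5b hG hp'.typeP.coatom hq'.typeP.coatom (hp'.not_conj hG hq' fun e => hne ?_)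
      obtain ⟨L₁, J₁⟩ := p
      obtain ⟨L₂, J₂⟩ := q
      obtain rfl : L₂ = L₁ := e
      exact congrArg _ (hp'.eq hq').symm
  have h3 : ((Set.univ \ {1}) \ classSupport T).ncard + (classSupport T).ncard + 1 =
      Nat.card G := by
    rw [Set.ncard_sdiff_add_ncard_of_subset, Set.ncard_sdiff_singleton_add_one (Set.mem_univ _),
      Set.ncard_univ]
    refine fun a ha => ⟨trivial, ?_⟩
    rintro rfl
    exact one_not_mem_classSupport (fun h1 => h1.2 L J h (one_mem _)) ha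
  have h4 : ∑ p ∈ F, (2 * (Nat.card (kstar p.1 p.2) - 1) + 1) * Z.index ≤
      ∑ p ∈ F, 2 * (sigmaTilde p.1).ncard := Finset.sum_le_sum fun p hp =>
    ((hF p).1 hp).card_p1 hG (((hF p).1 hp).typeP.typeP1_of_not_p2 (hc _ _ ((hF p).1 hp)))
  have h5 : 1 < F.card := by
    obtain ⟨L', J', h1, h2⟩ := h.exists_ne hG
    exact Finset.one_lt_card.2 ⟨(L', J'), (hF _).2 h1, (L, J), (hF _).2 h,
      fun e => h2 (congrArg Prod.fst e)⟩
  rw [← Finset.sum_mul, Finset.sum_add_distrib, ← Finset.mul_sum, ← Finset.mul_sum,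
    Finset.sum_const, smul_eq_mul, mul_one] at h4
  have h6 := Z.card_mul_index
  have h7 := Nat.mul_le_mul_right Z.index h1
  have h8 := Nat.mul_le_mul_right Z.index (show 2 ≤ F.card from h5)
  nlinarith

theorem of_prime (hG : IsMinSimpleOddOrder G) (h : A14Good Z L J) (h' : A14Good Z L' J')
    (hne : L' ≠ L) (hp : (Nat.card J).Prime) : kstar L' J' = J ∧ J' = kstar L J := by
  have h1 : kstar L' J' = J :=
    eq_of_le_of_prime hp (h.kstar_le hG h' hne) (t14_2c_ne hG h'.typeP.coatom h'.hall)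
  refine ⟨h1, (eq_of_le_of_card_ge (h'.kstar_le hG h hne.symm) ?_).symm⟩
  have e1 := h.dp.card
  have e2 := h'.dp.card
  rw [h1, ← e1, mul_comm] at e2
  exact (Nat.eq_of_mul_eq_mul_left (card_pos' J) e2).le

theorem isCyclic (hG : IsMinSimpleOddOrder G) (h : A14Good Z L J) (h' : A14Good Z L' J')
    (hne : L' ≠ L) (h2 : TypeP2 L) : IsCyclic Z := by
  obtain ⟨-, hp, hnil, -⟩ := t14_2g hG h2 h.hall
  refine h.dp.isCyclic (isCyclic_of_card_prime hp) (nil_isCyclic_of_isZGroup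
    (nilpotent_of_le hnil (kstar_le_sigmaCore L J)) ?_)
    (h.hall.pi.kappa_sigma'.coprime' (kstar_pi L J))
  rw [← (h.of_prime hG h' hne hp).2]
  exact s12_tau13_isZGroup hG h'.hall.le (h'.hall.pi.mono fun p hp => tau13_of_mem_kappa hp)

end A14Good

/-- the core of BG 14.7 -/
structure A14Core (M K Ms : Subgroup G) : Prop where
  typeP : TypeP M
  hallK : Hall (kappa M) K M
  typePs : TypeP Ms
  ne : Ms ≠ M
  hallKs : Hall (kappa Ms) (kstar M K) Ms
  kstar_kstar : kstar Ms (kstar M K) = K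
  cyclic : IsCyclic ↥(K ⊔ kstar M K)
  typeP2 : (TypeP2 M ∧ (Nat.card K).Prime) ∨ (TypeP2 Ms ∧ (Nat.card (kstar M K)).Prime)

theorem a14_7_core (hG : IsMinSimpleOddOrder G) {M K : Subgroup G} (hM : TypeP M)
    (hK : Hall (kappa M) K M) : ∃ Ms : Subgroup G, A14Core M K Ms := by
  have h : A14Good (K ⊔ kstar M K) M K := ⟨hM, hK, rfl⟩
  obtain ⟨L, J, hL, h2⟩ := h.exists_p2 hG
  have hp := (t14_2g hG h2 hL.hall).2.1
  by_cases e : L = M
  · subst e
    obtain rfl := h.eq hL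
    obtain ⟨Ms, Ks, hs, hne⟩ := h.exists_ne hG
    obtain ⟨h3, rfl⟩ := h.of_prime hG hs hne hp
    exact ⟨Ms, hM, hK, hs.typeP, hne, hs.hall, h3, h.isCyclic hG hs hne h2, Or.inl ⟨h2, hp⟩⟩
  · obtain ⟨rfl, h3⟩ := hL.of_prime hG h (Ne.symm e) hp
    exact ⟨L, hM, hK, hL.typeP, e, hL.hall, h3.symm, hL.isCyclic hG h (Ne.symm e) h2,
      Or.inr ⟨h2, hp⟩⟩

end CL.BG
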