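import Cfsg.Agent.Base
import Cfsg.Agent.BG.Nil
import Cfsg.Agent.BG.Prod
import Cfsg.Agent.Solv.Fitting

/-!
# `M_F`, the largest normal nilpotent Hall subgroup

General facts about `Cfsg.fittingHall` and `Cfsg.fittingHallOf` in an arbitrary finite group.
-/

namespace CL.BG

open Cfsg Subgroup

section abstract

variable {Γ : Type*} [Group Γ]

theorem le_fittingHall {N : Subgroup Γ} [hN : N.Normal] (hnil : Group.IsNilpotent N)
    (hc : (Nat.card N).Coprime N.index) : N ≤ fittingHall Γ := le_sSup ⟨hN, hnil, hc⟩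

theorem fittingHall_spec (Γ : Type*) [Group Γ] [Finite Γ] :
    (fittingHall Γ).Normal ∧ Group.IsNilpotent (fittingHall Γ) ∧
      (Nat.card (fittingHall Γ)).Coprime (fittingHall Γ).index := by
  refine sSup_subgroup_induction _
    (fun N : Subgroup Γ => N.Normal ∧ Group.IsNilpotent N ∧ (Nat.card N).Coprime N.index)
    ⟨inferInstance, inferInstance, by simp⟩ ?_ (fun _ h => h)
  rintro A B ⟨hA, hAn, hAc⟩ ⟨hB, hBn, hBc⟩
  refine ⟨inferInstance, isNilpotent_sup_of_normal A B, ?_⟩
  refine Nat.Coprime.coprime_dvd_left (card_sup_dvd (K := A) (H := B) le_normalizer_of_normal) ?_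
  exact Nat.Coprime.mul_left (hAc.coprime_dvd_right (index_dvd_of_le le_sup_left))
    (hBc.coprime_dvd_right (index_dvd_of_le le_sup_right))

theorem fittingHall_nilpotent (Γ : Type*) [Group Γ] [Finite Γ] :
    Group.IsNilpotent (fittingHall Γ) := (fittingHall_spec Γ).2.1

theorem fittingHall_coprime (Γ : Type*) [Group Γ] [Finite Γ] :
    (Nat.card (fittingHall Γ)).Coprime (fittingHall Γ).index := (fittingHall_spec Γ).2.2

theorem fittingHall_le_fitting (Γ : Type*) [Group Γ] : fittingHall Γ ≤ fittingSubgroup Γ :=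
  sSup_le fun _ h => le_sSup ⟨h.1, h.2.1⟩

theorem map_fittingHall_le [Finite Γ] {Γ' : Type*} [Group Γ'] {f : Γ →* Γ'}
    (hf : Function.Surjective f) : (fittingHall Γ).map f ≤ fittingHall Γ' := by
  have := (fittingHall_normal Γ).map f hf
  refine le_fittingHall (nilpotent_map (fittingHall_nilpotent Γ) f) ?_
  exact ((fittingHall_coprime Γ).coprime_dvd_left (card_map_dvd _ f)).coprime_dvd_right
    (index_map_dvd _ hf)

theorem map_equiv_fittingHall [Finite Γ] {Γ' : Type*} [Group Γ'] (e : Γ ≃* Γ') :
    (fittingHall Γ).map e.toMonoidHom = fittingHall Γ' := by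
  have : Finite Γ' := Finite.of_equiv _ e.toEquiv
  refine le_antisymm (map_fittingHall_le e.surjective) fun x hx => ?_
  exact ⟨e.symm x, map_fittingHall_le (f := e.symm.toMonoidHom) e.symm.surjective ⟨x, hx, rfl⟩,
    e.apply_symm_apply x⟩

theorem fittingHall_characteristic (Γ : Type*) [Group Γ] [Finite Γ] :
    (fittingHall Γ).Characteristic :=
  characteristic_iff_map_eq.2 fun e => map_equiv_fittingHall e

theorem fittingHall_eq_top_iff [Finite Γ] : fittingHall Γ = ⊤ ↔ Group.IsNilpotent Γ := by
  constructor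
  · intro h
    have := fittingHall_nilpotent Γ
    rw [h] at this
    exact Group.nilpotent_of_mulEquiv topEquiv
  · intro h
    exact top_le_iff.1 (le_fittingHall inferInstance (by simp))

end abstract

variable {G : Type*} [Group G] {M N H X P : Subgroup G}

theorem fcore_le (M : Subgroup G) : fittingHallOf M ≤ M := map_subtype_le _

theorem fcore_normal (M : Subgroup G) : fittingHallOf M ⊴ M := NormalIn.map_subtype _

theorem fcore_subgroupOf (M : Subgroup G) : (fittingHallOf M).subgroupOf M = fittingHall M :=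
  comap_map_eq_self_of_injective M.subtype_injective _

theorem card_fcore (M : Subgroup G) : Nat.card (fittingHallOf M) = Nat.card (fittingHall M) :=
  card_map_of_injective M.subtype_injective

theorem relIndex_fcore (M : Subgroup G) :
    (fittingHallOf M).relIndex M = (fittingHall M).index := by
  rw [relIndex, fcore_subgroupOf]

theorem mem_fcore_iff {x : M} : (x : G) ∈ fittingHallOf M ↔ x ∈ fittingHall M := by
  rw [← fcore_subgroupOf, mem_subgroupOf]

theorem fcore_eq_bot_iff : fittingHallOf M = ⊥ ↔ fittingHall M = ⊥ :=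
  map_eq_bot_iff_of_injective _ M.subtype_injective

theorem fcore_eq_self_iff' : fittingHallOf M = M ↔ fittingHall M = ⊤ := by
  rw [← fcore_subgroupOf, subgroupOf_eq_top]
  exact ⟨fun h => h.ge, fun h => le_antisymm (fcore_le M) h⟩

theorem fcore_le_fittingOf (M : Subgroup G) : fittingHallOf M ≤ fittingOf M :=
  map_mono (fittingHall_le_fitting M)

/-- maximality of `M_F` -/
theorem le_fcore (hN : N ⊴ M) (hnil : Group.IsNilpotent N) (hH : IsHall N M) :
    N ≤ fittingHallOf M := by
  have := hN.normal
  have := hnil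
  have h : N.subgroupOf M ≤ fittingHall M := by
    refine le_fittingHall (isNilpotent_subgroupOf N M) ?_
    rw [Nat.card_congr (subgroupOfEquivOfLe hN.le).toEquiv]
    exact hH.coprime
  intro x hx
  exact mem_fcore_iff.2 (h (show (⟨x, hN.le hx⟩ : M) ∈ N.subgroupOf M from hx))

theorem le_fcore_of_hall {π : Set ℕ} (hN : M ≤ 𝐍(N)) (hnil : Group.IsNilpotent N)
    (hH : Hall π N M) : N ≤ fittingHallOf M :=
  le_fcore ⟨hH.le, hN⟩ hnil hH.isHall

variable [Finite G]

theorem fcore_nilpotent (M : Subgroup G) : Group.IsNilpotent (fittingHallOf M) :=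
  nilpotent_map (fittingHall_nilpotent M) _

theorem fcore_isHall (M : Subgroup G) : IsHall (fittingHallOf M) M :=
  ⟨fcore_le M, by rw [card_fcore, relIndex_fcore]; exact fittingHall_coprime M⟩

theorem fcore_hall (M : Subgroup G) : Hall (primesOf (fittingHallOf M)) (fittingHallOf M) M :=
  (fcore_isHall M).hall

theorem fcore_charIn (M : Subgroup G) : CharIn (fittingHallOf M) M :=
  haveI := fittingHall_characteristic M
  CharIn.map_subtype _

theorem norm_le_norm_fcore (M : Subgroup G) : 𝐍(M) ≤ 𝐍(fittingHallOf M) :=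
  (fcore_charIn M).norm_le

theorem norms_fcore (h : X ≤ 𝐍(M)) : X ≤ 𝐍(fittingHallOf M) := h.trans (norm_le_norm_fcore M)

theorem fcore_eq_self_iff : fittingHallOf M = M ↔ Group.IsNilpotent M := by
  rw [fcore_eq_self_iff', fittingHall_eq_top_iff]

/-- a normal Sylow subgroup lies in `M_F` -/
theorem sylow_le_fcore {p : ℕ} [Fact p.Prime] (hP : SylowOf p P M) (hN : M ≤ 𝐍(P)) :
    P ≤ fittingHallOf M :=
  le_fcore_of_hall hN (nil_of_isPGroup hP.isPGroup) hP

theorem map_fcore {G' : Type*} [Group G'] {f : G →* G'} (hf : Function.Injective f)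
    (M : Subgroup G) : (fittingHallOf M).map f = fittingHallOf (M.map f) :=
  map_map_subtype_of_equiv hf M _ _ (map_equiv_fittingHall _)

theorem cj_fcore (g : G) (M : Subgroup G) : cj g (fittingHallOf M) = fittingHallOf (cj g M) :=
  map_fcore (conj_injective g) M

theorem fcore_top : fittingHallOf (⊤ : Subgroup G) = fittingHall G :=
  map_equiv_fittingHall topEquiv

theorem fcore_subgroupOf_of_le (h : H ≤ M) :
    fittingHallOf (H.subgroupOf M) = (fittingHallOf H).subgroupOf M := by
  apply map_injective M.subtype_injective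
  rw [map_fcore M.subtype_injective, subgroupOf_map_subtype, subgroupOf_map_subtype,
    inf_eq_left.2 h, inf_eq_left.2 ((fcore_le H).trans h)]

/-- `M_F ≤ H_F` for `M_F ≤ H ≤ M` -/
theorem fcore_le_fcore (h₁ : fittingHallOf M ≤ H) (h₂ : H ≤ M) :
    fittingHallOf M ≤ fittingHallOf H :=
  le_fcore_of_hall (h₂.trans (fcore_normal M).norm) (fcore_nilpotent M)
    ((fcore_hall M).restrict h₁ h₂)

/-- `H_F ≤ M_F` for a normal Hall subgroup `H` of `M` -/
theorem fcore_le_fcore_of_normal_hall (hN : H ⊴ M) (hH : IsHall H M) :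
    fittingHallOf H ≤ fittingHallOf M := by
  refine le_fcore ((fcore_charIn H).trans_normalIn hN) (fcore_nilpotent H)
    ⟨(fcore_le H).trans hN.le, ?_⟩
  rw [← relIndex_mul_relIndex _ _ _ (fcore_le H) hN.le]
  exact Nat.Coprime.mul_right (fcore_isHall H).coprime
    (hH.coprime.coprime_dvd_left (card_dvd_of_le (fcore_le H)))

/-- `H_F = M_F` for a normal Hall subgroup `H` of `M` containing `M_F` -/
theorem fcore_eq_fcore_of_normal_hall (hN : H ⊴ M) (hH : IsHall H M)
    (h : fittingHallOf M ≤ H) : fittingHallOf H = fittingHallOf M :=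
  le_antisymm (fcore_le_fcore_of_normal_hall hN hH) (fcore_le_fcore h hN.le)

/-- a subgroup of `M` whose order only involves primes of `M_F` lies in `M_F` -/
theorem le_fcore_of_piGrp (hX : X ≤ M) (hπ : PiGrp (primesOf (fittingHallOf M)) X) :
    X ≤ fittingHallOf M :=
  (fcore_hall M).le_of_normal (fcore_normal M).norm hX hπ

end CL.BG
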