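import Cfsg.Agent.BG.A14_Defs
import Cfsg.Agent.BG.Sigma
import Cfsg.Agent.BG.Fcore
import Cfsg.Agent.Auto.ACL_BG_kstar_1b7fe3

/-!
# Elementary facts on `κ(M)`, the types `ℱ, 𝒫, 𝒫₁, 𝒫₂`, `κ`-complements, `K*` and `R(x)`
-/

namespace CL.BG

open Cfsg Subgroup

variable {G : Type*} [Group G] {M N U K X H : Subgroup G} {g x y : G} {p : ℕ}

/-! ### `κ(M)` -/

theorem PiGrp.kappa_sigma' (h : PiGrp (kappa M) X) : PiGrp (sigma M)ᶜ X :=
  h.mono (kappa_sub_sigma_compl M)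

theorem PiElt.kappa_sigma' (h : PiElt (kappa M) x) : PiElt (sigma M)ᶜ x :=
  h.mono (kappa_sub_sigma_compl M)

theorem not_mem_kappa_of_tau2 [Finite G] (h : p ∈ tau2 M) : p ∉ kappa M := fun hk =>
  not_mem_tau2_of_kappa hk h

theorem kappa_cent_ne [Finite G] (h : p ∈ kappa M) (hX : X ≤ M) (hc : Nat.card X = p) :
    sigmaCore M ⊓ 𝐂(X) ≠ ⊥ := kappa_cent_ne_bot h (elemN_one_of_card h.1 hX hc)

theorem mem_kappa_of_cent [Finite G] (hG : IsMinSimpleOddOrder G)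
    (h : p ∈ tau1 M ∨ p ∈ tau3 M) (hX : X ≤ M) (hc : Nat.card X = p)
    (hC : sigmaCore M ⊓ 𝐂(X) ≠ ⊥) : p ∈ kappa M :=
  (mem_kappa_iff (mFT_odd hG M)).2
    ⟨h, X, elemN_one_of_card (mem_tau1_or_tau3_iff.1 h).1 hX hc, hC⟩

theorem PiGrp.sigma_kappa'_sigma' (h : PiGrp (sigma M ∪ kappa M)ᶜ X) : PiGrp (sigma M)ᶜ X :=
  h.mono (Set.compl_subset_compl.2 Set.subset_union_left)

theorem PiGrp.sigma_kappa'_kappa' (h : PiGrp (sigma M ∪ kappa M)ᶜ X) : PiGrp (kappa M)ᶜ X :=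
  h.mono (Set.compl_subset_compl.2 Set.subset_union_right)

/-! ### the types -/

theorem typeF_or_typeP (hM : IsCoatom M) : TypeF M ∨ TypeP M := by
  rcases (kappa M).eq_empty_or_nonempty with h | h
  · exact Or.inl ⟨hM, h⟩
  · exact Or.inr ⟨hM, h⟩

theorem TypeF.not_mem_kappa (h : TypeF M) (p : ℕ) : p ∉ kappa M := by
  rw [h.kappa_eq]; exact Set.notMem_empty p

theorem TypeF.not_typeP (h : TypeF M) : ¬ TypeP M := fun h' =>
  let ⟨p, hp⟩ := h'.nonempty; h.not_mem_kappa p hp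

theorem TypeP.not_typeF (h : TypeP M) : ¬ TypeF M := fun h' => h'.not_typeP h

theorem typeF_of_not_typeP (hM : IsCoatom M) (h : ¬ TypeP M) : TypeF M :=
  (typeF_or_typeP hM).resolve_right h

theorem typeP_of_not_typeF (hM : IsCoatom M) (h : ¬ TypeF M) : TypeP M :=
  (typeF_or_typeP hM).resolve_left h

theorem typeP_of_mem_kappa (hM : IsCoatom M) (h : p ∈ kappa M) : TypeP M := ⟨hM, p, h⟩

theorem TypeP.p1_or_p2 (h : TypeP M) : TypeP1 M ∨ TypeP2 M := by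
  by_cases h' : PiGrp (sigma M ∪ kappa M) M
  · exact Or.inl ⟨h, h'⟩
  · exact Or.inr ⟨h, h'⟩

theorem TypeP1.coatom (h : TypeP1 M) : IsCoatom M := h.typeP.coatom

theorem TypeP2.coatom (h : TypeP2 M) : IsCoatom M := h.typeP.coatom

theorem TypeP1.not_typeP2 (h : TypeP1 M) : ¬ TypeP2 M := fun h' => h'.not_piGrp h.piGrp

theorem TypeP2.not_typeP1 (h : TypeP2 M) : ¬ TypeP1 M := fun h' => h.not_piGrp h'.piGrp

theorem TypeF.not_typeP1 (h : TypeF M) : ¬ TypeP1 M := fun h' => h.not_typeP h'.typeP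

theorem TypeF.not_typeP2 (h : TypeF M) : ¬ TypeP2 M := fun h' => h.not_typeP h'.typeP

theorem TypeP.typeP2_of_not_p1 (h : TypeP M) (h' : ¬ TypeP1 M) : TypeP2 M :=
  h.p1_or_p2.resolve_left h'

theorem TypeP.typeP1_of_not_p2 (h : TypeP M) (h' : ¬ TypeP2 M) : TypeP1 M :=
  h.p1_or_p2.resolve_right h'

theorem not_typeP1_iff (hM : IsCoatom M) : ¬ TypeP1 M ↔ TypeF M ∨ TypeP2 M :=
  ⟨fun h => (typeF_or_typeP hM).imp_right fun h' => h'.typeP2_of_not_p1 h,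
    fun h => h.elim TypeF.not_typeP1 TypeP2.not_typeP1⟩

/-- a prime of `M` outside `σ(M) ∪ κ(M)` excludes type `𝒫₁` -/
theorem not_typeP1_of_prime (hp : p.Prime) (hd : p ∣ Nat.card M) (hσ : p ∉ sigma M)
    (hκ : p ∉ kappa M) : ¬ TypeP1 M := fun h => (h.piGrp p hp hd).elim hσ hκ

theorem TypeP1.mem_kappa (h : TypeP1 M) (hp : p.Prime) (hd : p ∣ Nat.card M) (hσ : p ∉ sigma M) :
    p ∈ kappa M := (h.piGrp p hp hd).resolve_left hσ

theorem TypeP2.exists_prime (h : TypeP2 M) :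
    ∃ p : ℕ, p.Prime ∧ p ∣ Nat.card M ∧ p ∉ sigma M ∧ p ∉ kappa M := by
  have := h.not_piGrp
  rw [piGrp_iff] at this
  push Not at this
  obtain ⟨p, hp, hd, hn⟩ := this
  exact ⟨p, hp, hd, fun h => hn (Or.inl h), fun h => hn (Or.inr h)⟩

theorem hall_kappa_eq_bot_iff (hM : IsCoatom M) (hK : Hall (kappa M) K M) : K = ⊥ ↔ TypeF M := by
  rw [hK.eq_bot_iff]
  refine ⟨fun h => ⟨hM, Set.eq_empty_of_forall_notMem fun p hp => h p hp.1 hp.2.1 hp⟩, fun h => ?_⟩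
  exact fun p _ _ => h.not_mem_kappa p

theorem hall_kappa_ne_bot_iff (hM : IsCoatom M) (hK : Hall (kappa M) K M) : K ≠ ⊥ ↔ TypeP M := by
  rw [Ne, hall_kappa_eq_bot_iff hM hK]
  exact ⟨typeP_of_not_typeF hM, TypeP.not_typeF⟩

theorem TypeP.hall_ne_bot (hM : TypeP M) (hK : Hall (kappa M) K M) : K ≠ ⊥ :=
  (hall_kappa_ne_bot_iff hM.coatom hK).2 hM

theorem TypeF.hall_eq_bot (hM : TypeF M) (hK : Hall (kappa M) K M) : K = ⊥ :=
  (hall_kappa_eq_bot_iff hM.coatom hK).2 hM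

theorem TypeF.hall_bot (hM : TypeF M) : Hall (kappa M) ⊥ M :=
  Hall.bot fun p _ _ => hM.not_mem_kappa p

theorem typeP_of_hall_ne_bot (hM : IsCoatom M) (hK : Hall (kappa M) K M) (h : K ≠ ⊥) : TypeP M :=
  (hall_kappa_ne_bot_iff hM hK).1 h

theorem typeP_of_piGrp [Finite G] (hM : IsCoatom M) (hX : PiGrp (kappa M) X) (h : X ≠ ⊥) :
    TypeP M :=
  let ⟨p, hp, hd⟩ := exists_prime_dvd_card h; ⟨hM, p, hX p hp hd⟩

theorem KappaCompl.eq_bot_iff (h : KappaCompl M U K) : U = ⊥ ↔ PiGrp (sigma M ∪ kappa M) M := by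
  rw [h.hallU.eq_bot_iff, compl_compl]

theorem KappaCompl.typeP1_iff (h : KappaCompl M U K) (hM : TypeP M) : TypeP1 M ↔ U = ⊥ :=
  ⟨fun h' => h.eq_bot_iff.2 h'.piGrp, fun h' => ⟨hM, h.eq_bot_iff.1 h'⟩⟩

theorem KappaCompl.typeP2_iff (h : KappaCompl M U K) (hM : TypeP M) : TypeP2 M ↔ U ≠ ⊥ :=
  ⟨fun h' e => h'.not_piGrp (h.eq_bot_iff.1 e), fun h' => ⟨hM, fun e => h' (h.eq_bot_iff.2 e)⟩⟩

theorem KappaCompl.U_le (h : KappaCompl M U K) : U ≤ M := h.hallU.le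

theorem KappaCompl.K_le (h : KappaCompl M U K) : K ≤ M := h.hallK.le

theorem KappaCompl.coprime (h : KappaCompl M U K) : (Nat.card U).Coprime (Nat.card K) :=
  h.hallU.pi.sigma_kappa'_kappa'.coprime' h.hallK.pi

section cj
variable [Finite G]

theorem TypeF.cj (h : TypeF M) (g : G) : TypeF (cj g M) :=
  ⟨isCoatom_cj g h.coatom, by rw [kappa_cj, h.kappa_eq]⟩

theorem TypeP.cj (h : TypeP M) (g : G) : TypeP (cj g M) :=
  ⟨isCoatom_cj g h.coatom, by rw [kappa_cj]; exact h.nonempty⟩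

theorem TypeP1.cj (h : TypeP1 M) (g : G) : TypeP1 (cj g M) :=
  ⟨h.typeP.cj g, by rw [kappa_cj, sigma_cj, piGrp_cj]; exact h.piGrp⟩

theorem TypeP2.cj (h : TypeP2 M) (g : G) : TypeP2 (cj g M) :=
  ⟨h.typeP.cj g, by rw [kappa_cj, sigma_cj, piGrp_cj]; exact h.not_piGrp⟩

theorem typeF_cj : TypeF (cj g M) ↔ TypeF M :=
  ⟨fun h => by simpa only [cj_inv_cj] using h.cj g⁻¹, fun h => h.cj g⟩

theorem typeP_cj : TypeP (cj g M) ↔ TypeP M :=
  ⟨fun h => by simpa only [cj_inv_cj] using h.cj g⁻¹, fun h => h.cj g⟩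

theorem typeP1_cj : TypeP1 (cj g M) ↔ TypeP1 M :=
  ⟨fun h => by simpa only [cj_inv_cj] using h.cj g⁻¹, fun h => h.cj g⟩

theorem typeP2_cj : TypeP2 (cj g M) ↔ TypeP2 M :=
  ⟨fun h => by simpa only [cj_inv_cj] using h.cj g⁻¹, fun h => h.cj g⟩

theorem hall_kappa_cj (h : Hall (kappa M) K M) (g : G) :
    Hall (kappa (cj g M)) (cj g K) (cj g M) := by
  rw [kappa_cj]; exact h.cj g

theorem KappaCompl.cj (h : KappaCompl M U K) (g : G) : KappaCompl (cj g M) (cj g U) (cj g K) :=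
  ⟨by rw [kappa_cj, sigma_cj]; exact h.hallU.cj g, hall_kappa_cj h.hallK g,
    by rw [← cj_norm]; exact cj_mono g h.norm⟩

theorem kstar_cj (g : G) (M K : Subgroup G) : kstar (cj g M) (cj g K) = cj g (kstar M K) := by
  rw [kstar, kstar, cj_inf, sigmaCore_cj, cj_cent]

end cj

/-! ### `K*` -/

theorem kstar_le_sigmaCore (M K : Subgroup G) : kstar M K ≤ sigmaCore M := inf_le_left

theorem kstar_le_cent (M K : Subgroup G) : kstar M K ≤ 𝐂(K) := inf_le_right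

theorem le_cent_kstar (M K : Subgroup G) : K ≤ 𝐂(kstar M K) := cent_symm inf_le_right

theorem kstar_le [Finite G] (M K : Subgroup G) : kstar M K ≤ M :=
  inf_le_left.trans (sigmaCore_normal M).le

theorem kstar_pi [Finite G] (M K : Subgroup G) : PiGrp (sigma M) (kstar M K) :=
  (piGrp_sigmaCore M).inf_left _

theorem dp_kstar [Finite G] (hK : PiGrp (sigma M)ᶜ K) : DP K (kstar M K) (K ⊔ kstar M K) :=
  ⟨rfl, kstar_le_cent M K, hK.inf_eq_bot' (kstar_pi M K)⟩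

/-! ### comparison with `Cfsg.IsSigmaDecomposition` -/

/-- a complement of a Hall `π`-subgroup is a Hall `π'`-subgroup -/
theorem hall_compl_of_isComplIn [Finite G] {π : Set ℕ} {A B : Subgroup G} (h : IsComplIn A B M)
    (hB : Hall π B M) : Hall πᶜ A M := by
  have h1 := Pi.isComplement'_subgroupOf h.1 (disjoint_iff.2 h.2.2.1) h.2.2.2
  exact (PiHall.isPiHallOf_iff_subgroupOf h.1).2
    (PiHall.compl_of_isComplement' hB.subgroupOf_self h1.symm)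

theorem isComplIn_of_hall [Finite G] {π : Set ℕ} {A B : Subgroup G} (hA : Hall π A M)
    (hB : Hall πᶜ B M) : IsComplIn A B M :=
  ⟨hA.le, hB.le, hA.inf_eq_bot hB, fun _ hm =>
    let ⟨a, ha, b, hb, e⟩ := hA.exists_mul hB hm; ⟨a, ha, b, hb, e.symm⟩⟩

/-! ### `R(x)` -/

theorem supportR_eq_bot (h : 𝐂₁(x) ≤ M) : supportR M x = ⊥ := by
  unfold supportR
  rw [dif_neg fun h' => h'.1 h]

theorem supportR_eq_fcore (h : ¬ 𝐂₁(x) ≤ M) (hN : UniqMax 𝐂₁(x) N) :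
    supportR M x = fittingHallOf N ⊓ 𝐂₁(x) := by
  unfold supportR
  have h' : ¬ 𝐂₁(x) ≤ M ∧ ∃! L : Subgroup G, IsCoatom L ∧ 𝐂₁(x) ≤ L := ⟨h, hN.inU⟩
  rw [dif_pos h']
  have := Classical.choose_spec h'.2.exists
  rw [hN.uniq _ this.1 this.2]

theorem supportR_le_cent1 (M : Subgroup G) (x : G) : supportR M x ≤ 𝐂₁(x) := by
  unfold supportR
  split_ifs
  · exact inf_le_right
  · exact bot_le

theorem supportR_cj [Finite G] (g : G) (M : Subgroup G) (x : G) :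
    supportR (cj g M) (g * x * g⁻¹) = cj g (supportR M x) := by
  by_cases h : 𝐂₁(x) ≤ M
  · rw [supportR_eq_bot h, supportR_eq_bot (by rw [← cj_cent1]; exact cj_mono g h), cj_bot]
  have h' : ¬ 𝐂₁(g * x * g⁻¹) ≤ cj g M := by rwa [← cj_cent1, cj_le_cj_iff]
  by_cases hU : InUniqueMaximal 𝐂₁(x)
  · obtain ⟨N, hN⟩ := inU_iff.1 hU
    have hN' : UniqMax 𝐂₁(g * x * g⁻¹) (cj g N) := by rw [← cj_cent1]; exact hN.cj g
    rw [supportR_eq_fcore h hN, supportR_eq_fcore h' hN', cj_inf, cj_fcore, cj_cent1]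
  · have hU' : ¬ InUniqueMaximal 𝐂₁(g * x * g⁻¹) := by rwa [← cj_cent1, inU_cj_iff]
    unfold supportR
    rw [dif_neg fun h' => hU' h'.2, dif_neg fun h' => hU h'.2, cj_bot]

/-! ### `M_F ≤ M_σ` -/

theorem fcore_piGrp_sigma [Finite G] (hG : IsMinSimpleOddOrder G) (hM : IsCoatom M) :
    PiGrp (sigma M) (fittingHallOf M) := by
  intro p hp hd
  have := Fact.mk hp
  have hP := nil_sylow_core (fcore_nilpotent M) p
  have hN : piCoreOf {p} (fittingHallOf M) ⊴ M := (fcore_normal M).piCoreOf_trans _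
  refine mem_sigma_of_norm_le hM.1 (hP.trans_hall (fcore_hall M) ⟨hp, hd⟩) ?_
  exact (mmax_normal hG hM hN (hP.ne_bot_iff.2 hd)).le

theorem fcore_le_sigmaCore [Finite G] (hG : IsMinSimpleOddOrder G) (hM : IsCoatom M) :
    fittingHallOf M ≤ sigmaCore M :=
  le_piCoreOf (fcore_normal M) (fcore_piGrp_sigma hG hM)

end CL.BG
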