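import Cfsg.Agent.BG.A14_Defs
import Cfsg.Agent.BG.Conj

/-!
# Counting lemmas for BG section 14: class supports of TI-subsets, conjugates of a subgroup
-/

namespace CL.BG

open Cfsg Subgroup

variable {G : Type*} [Group G]

theorem mem_classSupport {A : Set G} {a : G} :
    a ∈ classSupport A ↔ ∃ g : G, ∃ z ∈ A, a = g * z * g⁻¹ := Iff.rfl

theorem subset_classSupport (A : Set G) : A ⊆ classSupport A :=
  fun a ha => ⟨1, a, ha, by simp⟩

theorem conj_mem_classSupport {A : Set G} {a : G} (h : a ∈ classSupport A) (g : G) :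
    g * a * g⁻¹ ∈ classSupport A := by
  obtain ⟨h, z, hz, rfl⟩ := h
  exact ⟨g * h, z, hz, by group⟩

theorem classSupport_mono {A B : Set G} (h : A ⊆ B) : classSupport A ⊆ classSupport B := by
  rintro _ ⟨g, z, hz, rfl⟩
  exact ⟨g, z, h hz, rfl⟩

theorem one_not_mem_classSupport {A : Set G} (h : (1 : G) ∉ A) : (1 : G) ∉ classSupport A := by
  rintro ⟨g, z, hz, e⟩
  have : z = 1 := by
    have := congrArg (fun x => g⁻¹ * x * g) e
    simpa [mul_assoc] using this.symm
  exact h (this ▸ hz)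

theorem sigmaTilde_eq (M : Subgroup G) : sigmaTilde M = classSupport (sigmaCover M) := by
  ext g
  constructor
  · rintro ⟨a, ⟨ha, ha1⟩, r, hr, y, rfl⟩
    exact ⟨y, a * r, ⟨a, ha, ha1, r, hr, rfl⟩, rfl⟩
  · rintro ⟨y, _, ⟨a, ha, ha1, r, hr, rfl⟩, rfl⟩
    exact ⟨a, ⟨ha, ha1⟩, r, hr, y, rfl⟩

/-- the class support of a TI-subset `A` with normaliser `L` has `|A| |G : L|` elements -/
theorem ncard_classSupport [Finite G] {A : Set G} {L : Subgroup G}
    (h : ∀ a ∈ A, ∀ g : G, g * a * g⁻¹ ∈ A ↔ g ∈ L) :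
    (classSupport A).ncard = A.ncard * L.index := by
  classical
  let f : A × (G ⧸ L) → classSupport A := fun p =>
    ⟨p.2.out * p.1 * p.2.out⁻¹, p.2.out, p.1, p.1.2, rfl⟩
  have hf : Function.Bijective f := by
    constructor
    · rintro ⟨⟨a, ha⟩, c⟩ ⟨⟨b, hb⟩, d⟩ e
      have e1 : c.out * a * c.out⁻¹ = d.out * b * d.out⁻¹ := congrArg Subtype.val e
      have e2 : (d.out⁻¹ * c.out) * a * (d.out⁻¹ * c.out)⁻¹ = b := by
        have := congrArg (fun x => d.out⁻¹ * x * d.out) e1
        simpa [mul_assoc] using this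
      have hL : d.out⁻¹ * c.out ∈ L := (h a ha _).1 (e2 ▸ hb)
      have hcd : d = c := by
        rw [← d.out_eq', ← c.out_eq']
        exact QuotientGroup.eq.2 hL
      subst hcd
      have : a = b := by simpa using e2
      subst this
      rfl
    · rintro ⟨_, g, z, hz, rfl⟩
      obtain ⟨l, hl⟩ := QuotientGroup.mk_out_eq_mul L g
      refine ⟨(⟨(l : G)⁻¹ * z * (l : G)⁻¹⁻¹, (h z hz _).2 (inv_mem l.2)⟩, (g : G ⧸ L)), ?_⟩
      apply Subtype.ext
      simp only [f, hl]
      group
  rw [← Nat.card_coe_set_eq, ← Nat.card_eq_of_bijective f hf, Nat.card_prod,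
    Nat.card_coe_set_eq]
  rfl

theorem NormedTI.ncard_classSupport [Finite G] {A : Set G} {L : Subgroup G} (h : NormedTI A L) :
    (classSupport A).ncard = A.ncard * L.index := BG.ncard_classSupport h.mem_iff

/-- the number of conjugates of a subgroup is the index of its normaliser -/
theorem ncard_conjugates (H : Subgroup G) :
    {L : Subgroup G | ∃ g : G, L = cj g H}.ncard = 𝐍(H).index := by
  let f : G ⧸ 𝐍(H) → {L : Subgroup G | ∃ g : G, L = cj g H} := fun c => ⟨cj c.out H, c.out, rfl⟩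
  have hf : Function.Bijective f := by
    constructor
    · intro c d e
      have e1 : cj c.out H = cj d.out H := congrArg Subtype.val e
      rw [← c.out_eq', ← d.out_eq']
      refine QuotientGroup.eq.2 (cj_eq_iff_mem_norm.1 ?_)
      rw [cj_mul, ← e1, cj_inv_cj]
    · rintro ⟨_, g, rfl⟩
      obtain ⟨l, hl⟩ := QuotientGroup.mk_out_eq_mul 𝐍(H) g
      refine ⟨(g : G ⧸ 𝐍(H)), Subtype.ext ?_⟩
      simp only [f, hl]
      rw [cj_mul, cj_eq_of_mem_norm l.2]
  rw [← Nat.card_coe_set_eq, ← Nat.card_eq_of_bijective f hf]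
  rfl

/-- a set `NormedTI` is a TI-subset with the given normaliser -/
theorem NormedTI.normalizer_eq {A : Set G} {L : Subgroup G} (h : NormedTI A L) :
    Subgroup.normalizer A = L := by
  ext g
  rw [Subgroup.mem_set_normalizer_iff]
  constructor
  · intro hg
    obtain ⟨a, ha⟩ := h.nonempty
    exact (h.mem_iff a ha g).1 ((hg a).1 ha)
  · intro hg a
    refine ⟨fun ha => (h.mem_iff a ha g).2 hg, fun ha => ?_⟩
    have := (h.mem_iff _ ha g⁻¹).2 (inv_mem hg)
    simpa [mul_assoc] using this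

theorem NormedTI.isTISubset {A : Set G} {L : Subgroup G} (h : NormedTI A L) : IsTISubset A := by
  intro g hg x hx hgx
  rw [h.normalizer_eq] at hg
  exact absurd ((h.mem_iff x hx g).1 hgx) hg

/-- two subsets each containing more than half of a finite type meet -/
theorem exists_mem_inter_of_two_mul_ncard {α : Type*} [Finite α] {A B : Set α}
    (hA : Nat.card α < 2 * A.ncard) (hB : Nat.card α < 2 * B.ncard) : ∃ x, x ∈ A ∧ x ∈ B := by
  by_contra hc
  push Not at hc
  have hd : Disjoint A B := Set.disjoint_left.2 hc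
  have h1 := Set.ncard_union_eq hd
  have h2 : (A ∪ B).ncard ≤ Nat.card α := Set.ncard_le_card _
  omega

end CL.BG
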