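import Cfsg.Agent.BG.HallSyl

/-!
# Subgroups of cyclic groups; small general lemmas used in BG section 14
-/

namespace CL.BG

open Cfsg Subgroup
open scoped commutatorElement

variable {G : Type*} [Group G] [Finite G] {S X Y H K L N A : Subgroup G} {x y : G} {p : ℕ}

theorem a14_cyc_mem (hS : IsCyclic S) (hX : X ≤ S) (hx : x ∈ S) (h : x ^ Nat.card X = 1) :
    x ∈ X := by
  classical
  have := Fintype.ofFinite S
  have h1 := IsCyclic.card_pow_eq_one_le (α := S) (n := Nat.card X) (card_pos' X)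
  let T : Finset S := Finset.univ.filter fun a => (a : G) ∈ X
  have hT : T.card = Nat.card X := by
    rw [← Pi.card_subgroupOf_of_le hX, Nat.card_eq_fintype_card, Fintype.card_subtype]
    rfl
  have hsub : T ⊆ Finset.univ.filter fun a : S => a ^ Nat.card X = 1 := by
    intro a ha
    simp only [T, Finset.mem_filter, Finset.mem_univ, true_and] at ha ⊢
    apply Subtype.ext
    exact orderOf_dvd_iff_pow_eq_one.1 (orderOf_dvd_card' ha)
  have he := Finset.eq_of_subset_of_card_le hsub (hT ▸ h1)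
  have : (⟨x, hx⟩ : S) ∈ T := by
    rw [he]
    simp only [Finset.mem_filter, Finset.mem_univ, true_and]
    exact Subtype.ext h
  simpa [T] using this

theorem a14_cyc_le (hS : IsCyclic S) (hX : X ≤ S) (hY : Y ≤ S) (h : Nat.card Y ∣ Nat.card X) :
    Y ≤ X := fun _ hy =>
  a14_cyc_mem hS hX (hY hy) (orderOf_dvd_iff_pow_eq_one.1 ((orderOf_dvd_card' hy).trans h))

theorem a14_cyc_eq (hS : IsCyclic S) (hX : X ≤ S) (hY : Y ≤ S) (h : Nat.card X = Nat.card Y) :
    X = Y := le_antisymm (a14_cyc_le hS hY hX h.dvd) (a14_cyc_le hS hX hY h.symm.dvd)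

theorem a14_cyc_norm (hS : IsCyclic S) (hX : X ≤ S) : 𝐍(S) ≤ 𝐍(X) := fun g hg =>
  cj_eq_iff_mem_norm.1 (a14_cyc_eq hS (cj_le_of_mem_norm hg hX) hX (card_cj g X))

theorem a14_omegaOne_eq (hS : IsCyclic S) (hX : X ≤ S) (hc : Nat.card X = p) :
    omegaOne p S = X := by
  apply le_antisymm
  · rw [omegaOne, closure_le]
    rintro x ⟨hx, hxp⟩
    exact a14_cyc_mem hS hX hx (hc ▸ hxp)
  · intro x hx
    refine subset_closure ⟨hX hx, ?_⟩
    rw [← hc]
    exact orderOf_dvd_iff_pow_eq_one.1 (orderOf_dvd_card' hx)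

/-- a nonidentity element generates a group containing a subgroup of prime order -/
theorem a14_exists_prime_le_zpowers (hx : x ≠ 1) :
    ∃ X : Subgroup G, X ≤ zpowers x ∧ (Nat.card X).Prime ∧ Nat.card X ∣ orderOf x := by
  obtain ⟨p, hp, hd, y, hy, ho⟩ := exists_prime_order_mem_zpowers hx
  refine ⟨zpowers y, zpowers_le.2 hy, ?_, ?_⟩ <;> rwa [Nat.card_zpowers, ho]

theorem a14_exists_prime_le (h : H ≠ ⊥) : ∃ X : Subgroup G, X ≤ H ∧ (Nat.card X).Prime := by
  obtain ⟨p, hp, hd⟩ := exists_prime_dvd_card h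
  obtain ⟨X, hX, hc⟩ := exists_card_eq_of_dvd_card hp hd
  exact ⟨X, hX, hc ▸ hp⟩

theorem a14_exists_le_zpowers (hp : p.Prime) (hd : p ∣ orderOf x) :
    ∃ X : Subgroup G, X ≤ zpowers x ∧ Nat.card X = p :=
  exists_card_eq_of_dvd_card hp (by rwa [Nat.card_zpowers])

omit [Finite G] in
theorem a14_cent1_le_cent (hX : X ≤ zpowers x) : 𝐂₁(x) ≤ 𝐂(X) := by
  rw [← cent_zpowers]; exact cent_anti hX

omit [Finite G] in
theorem a14_mem_cent_of_le_zpowers (hX : X ≤ zpowers x) : x ∈ 𝐂(X) :=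
  a14_cent1_le_cent hX (mem_cent1_self x)

omit [Finite G] in
/-- in a prime action, the fixed points of a nontrivial subgroup are those of the whole group -/
theorem Semiprime.a14_cent (h : Semiprime K H) (hX : X ≤ H) (h1 : X ≠ ⊥) :
    K ⊓ 𝐂(X) = K ⊓ 𝐂(H) := by
  obtain ⟨x, hx, hx1⟩ := exists_ne_one_of_ne_bot h1
  apply le_antisymm
  · rw [← h x (hX hx) hx1]
    exact inf_le_inf_left _ (cent_le_cent1 hx)
  · exact inf_le_inf_left _ (cent_anti hX)

omit [Finite G] in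
theorem Semiregular.a14_cent (h : Semiregular K H) (hX : X ≤ H) (h1 : X ≠ ⊥) :
    K ⊓ 𝐂(X) = ⊥ := by
  obtain ⟨x, hx, hx1⟩ := exists_ne_one_of_ne_bot h1
  rw [eq_bot_iff, ← h x (hX hx) hx1]
  exact inf_le_inf_left _ (cent_le_cent1 hx)

/-- regular action can be tested on subgroups of prime order -/
theorem a14_semiregular_of_prime
    (h : ∀ X : Subgroup G, X ≤ H → (Nat.card X).Prime → K ⊓ 𝐂(X) = ⊥) : Semiregular K H := by
  intro x hx hx1
  obtain ⟨X, hX, hp, -⟩ := a14_exists_prime_le_zpowers hx1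
  rw [eq_bot_iff, ← h X (hX.trans (zpowers_le.2 hx)) hp]
  exact inf_le_inf_left _ (a14_cent1_le_cent hX)

omit [Finite G] in
/-- if `H = N A` with `N ⊴ H` and `A` abelian then `H' ≤ N` -/
theorem a14_der_le (hN : A ≤ 𝐍(N)) (hA : IsMulCommutative A) : ⁅N ⊔ A, N ⊔ A⁆ ≤ N := by
  rw [commutator_le]
  intro g hg h hh
  obtain ⟨n, hn, a, ha, rfl⟩ := (mem_sup_iff_of_norm hN).1 hg
  obtain ⟨m, hm, b, hb, rfl⟩ := (mem_sup_iff_of_norm hN).1 hh
  have hab : a * b = b * a := (le_cent_of_comm hA hb) a ha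
  have e : ⁅n * a, m * b⁆ = n * (a * m * a⁻¹) * (b * n⁻¹ * b⁻¹) * m⁻¹ := by
    rw [commutatorElement_def]
    calc n * a * (m * b) * (n * a)⁻¹ * (m * b)⁻¹
        = n * (a * m * a⁻¹) * ((a * b) * a⁻¹ * n⁻¹ * b⁻¹) * m⁻¹ := by group
      _ = n * (a * m * a⁻¹) * (b * n⁻¹ * b⁻¹) * m⁻¹ := by rw [hab]; group
  rw [e]
  exact mul_mem (mul_mem (mul_mem hn (conj_mem_of_mem_norm (hN ha) hm))
    (conj_mem_of_mem_norm (hN hb) (inv_mem hn))) (inv_mem hm)

/-- the two factors of a product of commuting elements of complementary prime types are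
powers of the product -/
theorem a14_mem_zpowers_mul {π : Set ℕ} (hx : PiElt π x) (hy : PiElt πᶜ y) (h : Commute x y) :
    x ∈ zpowers (x * y) ∧ y ∈ zpowers (x * y) := by
  have h1 : x ∈ zpowers (x * y) := by
    have := piPart_mem_zpowers π (x * y)
    rwa [piPart_mul_eq hx hy h] at this
  refine ⟨h1, ?_⟩
  have := mul_mem (inv_mem h1) (mem_zpowers (x * y))
  simpa using this

end CL.BG
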