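import Cfsg.Agent.BG.A14_Count

/-! # Counting by fibres -/

namespace CL.BG

open Cfsg Subgroup

theorem a14_ncard_eq_sum_fiber {α γ : Type*} [Finite α] (A : Set α) (T : Finset γ) (f : α → γ)
    (hf : ∀ a ∈ A, f a ∈ T) : A.ncard = ∑ c ∈ T, {a ∈ A | f a = c}.ncard := by
  classical
  rw [Set.ncard_eq_toFinset_card A, Finset.card_eq_sum_card_fiberwise (f := f) (t := T)
    (fun a ha => hf a (by simpa using ha))]
  refine Finset.sum_congr rfl fun c _ => ?_
  rw [Set.ncard_eq_toFinset_card]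
  congr 1
  ext a
  simp

/-- two sets with fibres of equal size over a common base have the same size -/
theorem a14_ncard_eq_of_fiber {α β γ : Type*} [Finite α] [Finite β] [Finite γ] {A : Set α}
    {B : Set β} (f : α → γ) (h : β → γ)
    (H : ∀ c, {a ∈ A | f a = c}.ncard = {b ∈ B | h b = c}.ncard) : A.ncard = B.ncard := by
  have := Fintype.ofFinite γ
  rw [a14_ncard_eq_sum_fiber A Finset.univ f (by simp),
    a14_ncard_eq_sum_fiber B Finset.univ h (by simp)]
  exact Finset.sum_congr rfl fun c _ => H c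

theorem a14_ncard_eq_mul_of_fiber {α γ : Type*} [Finite α] [Finite γ] {A : Set α} {T : Set γ}
    (f : α → γ) (hf : ∀ a ∈ A, f a ∈ T) {n : ℕ} (H : ∀ c ∈ T, {a ∈ A | f a = c}.ncard = n) :
    A.ncard = n * T.ncard := by
  rw [a14_ncard_eq_sum_fiber A T.toFinite.toFinset f (by simpa using hf),
    Finset.sum_congr rfl fun c hc => H c (by simpa using hc), Finset.sum_const, smul_eq_mul,
    Set.ncard_eq_toFinset_card T, mul_comm]

theorem a14_ncard_sharp {G : Type*} [Group G] [Finite G] (H : Subgroup G) :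
    ((H : Set G) \ {1}).ncard = Nat.card H - 1 := by
  rw [Set.ncard_sdiff_singleton_of_mem (one_mem H), ← Nat.card_coe_set_eq]
  rfl

theorem a14_ncard_coset {G : Type*} [Group G] (H : Subgroup G) (x : G) :
    {g : G | ∃ r ∈ H, g = x * r}.ncard = Nat.card H := by
  rw [← SetLike.coe_sort_coe, Nat.card_coe_set_eq]
  symm
  refine Set.ncard_congr (fun r _ => x * r) (fun r hr => ⟨r, hr, rfl⟩)
    (fun r s _ _ e => mul_left_cancel e) ?_
  rintro _ ⟨r, hr, rfl⟩
  exact ⟨r, hr, rfl⟩

end CL.BG
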