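import Cfsg.Agent.BG.A14_Basic
import Cfsg.Agent.BG.T10_2

/-!
# `κ`-complements versus `Cfsg.IsSigmaDecomposition`; `M_F = M_σ` iff `M_σ` is nilpotent
-/

namespace CL.BG

open Cfsg Subgroup

variable {G : Type*} [Group G] {M U K : Subgroup G} {x : G}

theorem hall_kappa_sup_sigmaCore [Finite G] (hG : IsMinSimpleOddOrder G) (hM : IsCoatom M)
    (hK : Hall (kappa M) K M) : Hall (sigma M ∪ kappa M) (K ⊔ sigmaCore M) M := by
  rw [sup_comm]
  exact (t10_2b hG hM).sup_union hK (Or.inl (hK.le.trans (sigmaCore_normal M).norm))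

theorem kappaCompl_of_isSigmaDecomposition [Finite G] (hG : IsMinSimpleOddOrder G)
    (hM : IsCoatom M) (h : IsSigmaDecomposition M K U) : KappaCompl M U K :=
  ⟨hall_compl_of_isComplIn h.compl (hall_kappa_sup_sigmaCore hG hM h.hall), h.hall, h.normal⟩

theorem KappaCompl.isSigmaDecomposition [Finite G] (hG : IsMinSimpleOddOrder G)
    (hM : IsCoatom M) (h : KappaCompl M U K) (hc : IsCyclic K) : IsSigmaDecomposition M K U :=
  ⟨hc, h.hallK, isComplIn_of_hall h.hallU
    (by rw [compl_compl]; exact hall_kappa_sup_sigmaCore hG hM h.hallK), h.norm⟩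

theorem fcore_eq_sigmaCore [Finite G] (hG : IsMinSimpleOddOrder G) (hM : IsCoatom M)
    (h : Group.IsNilpotent (sigmaCore M)) : fittingHallOf M = sigmaCore M :=
  le_antisymm (fcore_le_sigmaCore hG hM)
    (le_fcore_of_hall (sigmaCore_normal M).norm h (t10_2b hG hM))

theorem fcore_eq_sigmaCore_iff [Finite G] (hG : IsMinSimpleOddOrder G) (hM : IsCoatom M) :
    fittingHallOf M = sigmaCore M ↔ Group.IsNilpotent (sigmaCore M) :=
  ⟨fun h => h ▸ fcore_nilpotent M, fcore_eq_sigmaCore hG hM⟩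

/-- a `σ(M)`-element of `M` lies in `M_σ` -/
theorem mem_sigmaCore_of_piElt [Finite G] (hG : IsMinSimpleOddOrder G) (hM : IsCoatom M)
    (hx : x ∈ M) (h : PiElt (sigma M) x) : x ∈ sigmaCore M :=
  (t10_2b hG hM).mem_of_normal (sigmaCore_normal M).norm hx h

end CL.BG
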