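import Cfsg.Agent.BG.A14_Defs
import Cfsg.Agent.BG.Quot

/-! # Vocabulary of BG section 15 -/

namespace CL.BG

open Cfsg

variable {G : Type*} [Group G]

/-- The conclusions of BG Theorem 15.2 for a maximal subgroup `M` with `M_F ≠ M_σ`.  Here `K` is a
Hall `κ(M)`-subgroup of `M`, `K* = kstar M K`, `p = |K|`, `q = |K*|`, `Q = O_q(M)`, `D` is any
complement to `Q` in `M_σ`, `Q₀ = C_Q(D)`. -/
structure FcoreCtx (M K : Subgroup G) (q : ℕ) (Q D Q₀ : Subgroup G) : Prop where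
  /-- (a) -/
  typeP1 : TypeP1 M
  sdp : SDP (sigmaCore M) K M
  sigma_eq : sigmaCore M = ⁅M, M⁆
  /-- (b) -/
  prime_K : (Nat.card K).Prime
  prime_q : q.Prime
  q_dvd : q ∣ Nat.card (fittingHallOf M)
  q_beta : q ∈ beta M
  /-- (c) -/
  sylow : SylowOf q Q M
  normalQ : Q ⊴ M
  Q_le : Q ≤ fittingHallOf M
  sdpQ : SDP Q D (sigmaCore M)
  kstar_le : kstar M K ≤ Q
  /-- (d) -/
  nilD : Group.IsNilpotent D
  /-- (e) -/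
  normalQ₀ : Q₀ ⊴ M
  kstar_inf : kstar M K ⊓ Q₀ = ⊥
  /-- (f) -/
  chief : ChiefFactor M Q₀ Q
  minNormal : MinNormal (quot Q₀ Q) (quot Q₀ M)
  elem : IsElementaryAbelian q (quot Q₀ Q)
  card : Nat.card Q = Nat.card Q₀ * q ^ Nat.card K
  /-- (g) -/
  der2_le : ⁅⁅M, M⁆, ⁅M, M⁆⁆ ≤ fittingOf M
  fitting_eq : Q ⊔ (M ⊓ 𝐂(Q)) = fittingOf M
  /-- `F(M) = C_M(Q / Q₀)` -/
  fitting_cent : ∀ X : Subgroup G, X ≤ M → (X ≤ fittingOf M ↔ ⁅Q, X⁆ ≤ Q₀)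
  /-- `F(M) = C_{M_σ}(K* Q₀ / Q₀)` -/
  fitting_cent_kstar : ∀ X : Subgroup G, X ≤ sigmaCore M → (X ≤ fittingOf M ↔ ⁅kstar M K, X⁆ ≤ Q₀)
  fitting_lt : fittingOf M < sigmaCore M

end CL.BG
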