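import Cfsg.Agent.BG.A14_Defs

/-!
# Vocabulary of BG section 16: weak type I and the sets `A(M)`, `A₀(M)`

In case (c) of `Cfsg.IsOfTypeI` the group `O_{p'}(M)` is cyclic; the local analysis only gives that
`O_{p'}(M_F)` is cyclic.  `TypeI` is the weaker notion, `ftA`, `ftA0`, `FtSupports` are
`Cfsg.typeA`, `Cfsg.typeA0`, `Cfsg.Supports` with `TypeI` in place of `Cfsg.IsOfTypeI`.
-/

namespace CL.BG

open Cfsg

variable {G : Type*} [Group G]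

/-- weak type I: `Cfsg.IsOfTypeI` with `O_{p'}(M_F)` in place of `O_{p'}(M)` -/
def TypeI (M : Subgroup G) : Prop :=
  IsOfTypeF M ∧
  ( IsTISubset (fittingHallOf M : Set G) ∨
    (IsMulCommutative (fittingHallOf M) ∧ RankLE 2 (fittingHallOf M) ∧
      ¬ RankLE 1 (fittingHallOf M)) ∨
    ((∀ p : ℕ, p.Prime → p ∣ Nat.card (fittingHallOf M) →
        Monoid.exponent (M ⧸ fittingHall M) ∣ p - 1) ∧
      ∃ p : ℕ, p.Prime ∧ p ∣ Nat.card (fittingHallOf M) ∧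
        IsCyclic (pPrimeCore p (fittingHallOf M))) )

open scoped Classical in
/-- `A(M)` -/
noncomputable def ftA (M : Subgroup G) : Set G :=
  if TypeI M then
    {a | a ∈ M ∧ a ≠ 1 ∧ ∃ x ∈ fittingHallOf M, x ≠ 1 ∧ a * x = x * a}
  else
    {a | a ∈ ⁅M, M⁆ ∧ a ≠ 1 ∧ ∃ x ∈ typeCore M, x ≠ 1 ∧ a * x = x * a}

/-- `A₀(M)` -/
noncomputable def ftA0 (M : Subgroup G) : Set G :=
  ftA M ∪ {v | ¬ TypeI M ∧ ∃ W₁ U W₂ : Subgroup G, IsTypePWith M W₁ U W₂ ∧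
    ∃ m ∈ M, ∃ w ∈ W₁ ⊔ W₂, w ∉ W₁ ∧ w ∉ W₂ ∧ v = m * w * m⁻¹}

/-- `L` supports `M` -/
def FtSupports (L M : Subgroup G) : Prop :=
  IsCoatom L ∧ ∃ x ∈ ftA0 M, ¬ 𝐂₁(x) ≤ M ∧ 𝐂₁(x) ≤ L

theorem ftA_of_typeI {M : Subgroup G} (h : TypeI M) :
    ftA M = {a | a ∈ M ∧ a ≠ 1 ∧ ∃ x ∈ fittingHallOf M, x ≠ 1 ∧ a * x = x * a} := if_pos h

theorem ftA_of_not_typeI {M : Subgroup G} (h : ¬ TypeI M) :
    ftA M = {a | a ∈ ⁅M, M⁆ ∧ a ≠ 1 ∧ ∃ x ∈ typeCore M, x ≠ 1 ∧ a * x = x * a} := if_neg h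

theorem ftA0_of_typeI {M : Subgroup G} (h : TypeI M) : ftA0 M = ftA M := by
  ext v; simp [ftA0, h]

theorem ftA_subset_ftA0 (M : Subgroup G) : ftA M ⊆ ftA0 M := Set.subset_union_left

theorem ftA_eq_typeA {M : Subgroup G} (h : TypeI M ↔ IsOfTypeI M) : ftA M = typeA M := by
  unfold ftA typeA
  by_cases h' : TypeI M
  · rw [if_pos h', if_pos (h.1 h')]
  · rw [if_neg h', if_neg (fun e => h' (h.2 e))]

theorem ftA0_eq_typeA0 {M : Subgroup G} (h : TypeI M ↔ IsOfTypeI M) : ftA0 M = typeA0 M := by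
  unfold ftA0 typeA0
  rw [ftA_eq_typeA h, h]

theorem ftSupports_iff {L M : Subgroup G} (h : TypeI M ↔ IsOfTypeI M) :
    FtSupports L M ↔ Supports L M := by
  unfold FtSupports Supports
  rw [ftA0_eq_typeA0 h]

/-- The pair of maximal subgroups of case (b) of Theorem I, with type `P` data. -/
structure FtPair (S T W₁ W₂ U V : Subgroup G) : Prop where
  maxS : IsCoatom S
  maxT : IsCoatom T
  dataS : IsTypePWith S W₁ U W₂
  dataT : IsTypePWith T W₂ V W₁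
  inf_eq : S ⊓ T = W₁ ⊔ W₂
  not_conj : ∀ g : G, T ≠ cj g S
  typeII : IsOfTypeII S ∨ IsOfTypeII T
  all : ∀ M : Subgroup G, IsCoatom M → TypeI M ∨ ∃ g : G, M = cj g S ∨ M = cj g T

/-- The conclusions of Theorem II for `x ∈ A₀(M)` with `C_G(x) ⊄ M`, `L` the maximal subgroup over
`C_G(x)`. -/
structure FtSupportCtx (M : Subgroup G) (x : G) (L : Subgroup G) : Prop where
  memA1 : x ∈ typeA1 M
  uniq : UniqMax 𝐂₁(x) L
  R_eq : supportR M x = fittingHallOf L ⊓ 𝐂₁(x)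
  sdpL : SDP (fittingHallOf L) (M ⊓ L) L
  sdpC : SDP (fittingHallOf L ⊓ 𝐂₁(x)) (M ⊓ 𝐂₁(x)) 𝐂₁(x)
  coprime : ∀ y ∈ ftA0 M, (Nat.card (fittingHallOf L)).Coprime (Nat.card ↥(M ⊓ 𝐂₁(y)))
  memA : x ∈ ftA L
  notMemA1 : x ∉ typeA1 L
  type_cases : TypeI L ∨ IsOfTypeII L
  typeII : IsOfTypeII L → TypeI M ∧ ¬ IsTISubset (fittingHallOf M : Set G) ∧
    ∃ E : Subgroup G, IsCyclic E ∧ Frob (fittingHallOf M) E M
  not_conj : ∀ g : G, L ≠ cj g M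

end CL.BG
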