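import Cfsg.Agent.Base
import Cfsg.Agent.BG.T12_8
import Cfsg.Agent.BG.T1_6

/-!
# BG Corollary 12.9
-/

namespace CL.BG

open Cfsg Subgroup

variable {G : Type*} [Group G] [Finite G]

/-- `C_A(M_σ)` is a proper subgroup of `A` -/
theorem s12_cent_ne (hG : IsMinSimpleOddOrder G) {M A : Subgroup G} (hM : IsCoatom M) {p : ℕ}
    (hp : p ∈ tau2 M) (hA : ElemN p 2 M A) : A ⊓ 𝐂(sigmaCore M) ≠ A := by
  intro h
  refine t10_2e hG hM ?_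
  rw [← t12_5d hG hM hp hA]
  exact (inf_eq_left.2 (cent_symm (h.ge.trans inf_le_right))).symm

/-- BG 12.9; `A₀ = [A, Q]`, `A₁ = C_A(Q)`. -/
theorem t12_9 (hG : IsMinSimpleOddOrder G) {M E A Q : Subgroup G} (hM : IsCoatom M)
    (hE : Hall (sigma M)ᶜ E M) {p q : ℕ} (hp : p ∈ tau2 M) (hA : ElemN p 2 E A)
    (hq : q ∈ tau1 M) (hQ : ElemN q 1 E Q) (hC : sigmaCore M ⊓ 𝐂(Q) = ⊥) (hAQ : ⁅A, Q⁆ ≠ ⊥) :
    (ElemN p 1 A ⁅A, Q⁆ ∧ A ⊓ 𝐂(sigmaCore M) = ⁅A, Q⁆ ∧ ⁅A, Q⁆ ⊴ M) ∧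
      (∀ g : G, ⁅A, Q⁆ ≠ cj g (A ⊓ 𝐂(Q))) ∧
      (ElemN p 1 A (A ⊓ 𝐂(Q)) ∧ ¬ 𝐂(A ⊓ 𝐂(Q)) ≤ M) := by
  have : Fact p.Prime := ⟨hp.1⟩
  have : Fact q.Prime := ⟨hq.1⟩
  have hpq : p ≠ q := fun h => s12_tau1_not2 hq (h ▸ hp)
  have hAM := hA.mono hE.le
  have hQM := hQ.mono hE.le
  have hQA : Q ≤ 𝐍(A) := hQ.le.trans (t12_6a hG hM hE hp hA).1.norm
  obtain ⟨h1, h2, h3⟩ := t10_11d hG hM hAM.le (hA.piGrp hp.1 hp.2.1) hq.2.1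
    (hQ.of_le (le_inf hQM.le hQA)) hC (hA.piGrp hp.1 hpq) hA.comm
  have hle : ⁅A, Q⁆ ≤ A := commutator_le_left_of_norm hQA
  have hA₀ : ElemN p 1 A ⁅A, Q⁆ :=
    hA.one_of_two hp.1 hle hAQ fun h => hA.not_isCyclic hp.1 le_rfl (h ▸ h2)
  have e₀ : A ⊓ 𝐂(sigmaCore M) = ⁅A, Q⁆ :=
    (hA₀.eq_of_le (hA.one_of_two hp.1 inf_le_left (ne_bot_of_le hAQ (le_inf hle h1))
      (s12_cent_ne hG hM hp hAM)) (le_inf hle h1)).symm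
  have hdp := t1_6d hQA (coprime_card_of_isPGroup_of_ne hp.1 hq.1 hpq hA.isPGroup hQ.isPGroup)
    hA.comm
  have hA₁ : ElemN p 1 A (A ⊓ 𝐂(Q)) := ElemN.of_dp (n := 1) (m := 1) hA hp.1 hA₀ hdp
  refine ⟨⟨hA₀, e₀, h3⟩, fun g hg => ?_, hA₁, ?_⟩
  · have c1 : cj g Q ≤ 𝐂(⁅A, Q⁆) := by
      rw [hg, ← cj_cent]
      exact cj_mono g (cent_symm inf_le_right)
    have c2 : ElemN q 1 M (cj g Q) :=
      hQ.cj_of_le (c1.trans (mmax_normal_cent_le hG hM h3 hAQ))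
    obtain ⟨m, hm, e⟩ := c2.conj_of_pRank_le_one hQM hq.1 (mFT_odd hG M)
      (s12_tau13_rank (Or.inl hq)).le
    have c3 := cj_mono m c1
    rw [e, cj_cent, h3.cj_eq hm] at c3
    exact hAQ (eq_bot_iff.2 ((le_inf le_rfl (le_inf hle (cent_symm c3))).trans hdp.disj.le))
  · obtain ⟨S, hS⟩ := sylow_exists p (⊤ : Subgroup G)
    have hSna : ¬ IsMulCommutative S := fun hSc =>
      hAQ (commutator_eq_bot_iff''.2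
        (((t12_8e hG hM hE hp hS hSc hq hQ hC).trans inf_le_right).trans (cent_anti hA.le)))
    refine ((t12_7 hG hM hE hp hA hS.isPGroup hSna).2.2.1 _ (hA₁.mono hA.le) fun h => ?_).2
    rw [e₀] at h
    exact hAQ (eq_bot_iff.2 ((le_inf le_rfl h.ge).trans hdp.disj.le))

end CL.BG
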