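import Cfsg.Agent.BG.T14_7
import Cfsg.Agent.BG.T12_4
import Cfsg.Agent.BG.T12_9
import Cfsg.Agent.BG.T12_14

/-! BG Lemma 14.13 -/

namespace CL.BG

open Cfsg Subgroup

variable {G : Type*} [Group G] [Finite G]

/-- a maximal subgroup of type `ℱ` with `τ₂(M) = ∅` is a Frobenius group with kernel `M_σ` -/
theorem a14_frob_of_tau2_empty (hG : IsMinSimpleOddOrder G) {M E : Subgroup G} (hM : TypeF M)
    (h2 : tau2 M = ∅) (hE : Hall (sigma M)ᶜ E M) : Frob (sigmaCore M) E M := by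
  refine ⟨sdprod_sigma hG hM.coatom hE, t10_2e hG hM.coatom, ?_,
    a14_semiregular_of_prime fun X hX hXp => ?_⟩
  · obtain ⟨p, hp, hd, hσ⟩ := a14_exists_not_sigma hG hM.coatom
    exact hE.ne_bot ⟨hp, hd⟩ hσ
  · by_contra h
    refine hM.not_mem_kappa _ (mem_kappa_of_cent hG ?_ (hX.trans hE.le) rfl h)
    rcases s12_tau_cases hG hM.coatom hE.le hE.pi hXp (card_dvd_of_le hX) with h1 | h1 | h1
    · exact Or.inl h1
    · rw [h2] at h1
      exact h1.elim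
    · exact Or.inr h1

/-- BG Lemma 14.13(a). -/
theorem t14_13a (hG : IsMinSimpleOddOrder G) {M N : Subgroup G} (hM : IsCoatom M) {x : G}
    (hx : x ∈ sigmaCore M) (hx1 : x ≠ 1) (hxM : ¬ 𝐂₁(x) ≤ M) (hN : IsCoatom N)
    (hxN : 𝐂₁(x) ≤ N) (h : ¬ PiGrp (sigma N)ᶜ M) :
    TypeF M ∧ tau2 M = ∅ ∧ ∀ E : Subgroup G, Hall (sigma M)ᶜ E M → Frob (sigmaCore M) E M := by
  have hS := t14_4 hG hM hx hx1 hxM hN hxN
  rw [piGrp_iff] at h
  push Not at h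
  obtain ⟨q, hq, hqM, hqN⟩ := h
  rw [Set.notMem_compl_iff] at hqN
  have := Fact.mk hq
  have hqβ := hS.beta_sub q hqN hqM
  have hqσ : q ∉ sigma M := fun h => t13_9 hG hM hN hS.not_conj q h hqN
  obtain ⟨Q, hQ⟩ := exists_elemN_one_of_dvd hq hqM
  obtain ⟨g, hg⟩ := t12_16a hG hN (hQ.piGrp hq hqN)
  have hQN : Q ≤ cj g⁻¹ N := cj_le_iff_le_cj_inv.1 (hg.trans (sigmaCore_le N))
  have hu : UniqMax 𝐂(Q) (cj g⁻¹ N) :=
    (t12_14 hG (mmax_cj _ hN) (hQ.of_le hQN) (Or.inl (by rwa [beta_cj]))).1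
  obtain ⟨p, hp, hd, -⟩ := exists_prime_order_mem_zpowers hx1
  have hp2 := hS.tau2_elt p hp hd
  have hpσ := hS.tau2_sub hp2
  have hF : TypeF M := typeF_of_not_typeP hM fun hP => by
    rcases hP.p1_or_p2 with h1 | h2
    · obtain ⟨K, hK, hQK⟩ := hall_superset (π := kappa M) (mmax_sol hG hM) hQ.le
        (hQ.piGrp hq (h1.mem_kappa hq hqM hqσ))
      have hPP := t14_7_of_cent hG hM hK hQK (hQ.card_prime hq) hu.coatom hu.le
      have h3 := hPP.hallKs.pi p hp ((hPP.hallKs_sigma.dvd_card_iff hp hpσ).2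
        (by rw [card_cj]; exact (tau2_sub_primesOf N hp2).2))
      rw [kappa_cj] at h3
      exact not_mem_kappa_of_tau2 hp2 h3
    · obtain ⟨K, hK⟩ := hall_exists (kappa M) (mmax_sol hG hM)
      rw [(t14_2g hG h2 hK).1] at hpσ
      exact (t12_1g hG hN hp2).1 (ideal_of_mem_beta hpσ)
  have h2 : tau2 M = ∅ := Set.eq_empty_of_forall_notMem fun r hr => by
    have := Fact.mk hr.1
    obtain ⟨E, hE, hQE⟩ := ex_sigma_compl hG hM hQ.le (hQ.piGrp hq hqσ)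
    obtain ⟨A, hA⟩ := ex_tau2Elem hG hM hE hr
    have hrσ : r ∉ sigma N := fun h =>
      (t12_1g hG hM hr).1 (ideal_of_mem_beta (hS.beta_sub r h (tau2_sub_primesOf M hr).2))
    have hrk : pRank r N ≤ 1 := by
      have h1 := pRank_le_two_of_not_mem_sigma hG hN hrσ
      by_contra h2
      exact not_mem_sigma_of_tau2 hr (hS.tau2_sub (mem_tau2_iff.2 ⟨hr.1, hrσ, by omega⟩))
    have hAQ : ⁅A, Q⁆ ≠ ⊥ := fun h => by
      have h1 := (hA.of_le ((commutator_eq_bot_iff'.1 h).trans hu.le)).le_pRank hr.1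
      rw [pRank_cj] at h1
      omega
    have hq1 : q ∈ tau1 M := by
      by_contra h
      exact hAQ (commutator_eq_bot_iff''.2 ((t12_10c hG hM hE hr hA).2.2 Q hQE (hQ.piGrp hq h)))
    have hC : sigmaCore M ⊓ 𝐂(Q) = ⊥ := by
      by_contra h
      exact hF.not_mem_kappa q (mem_kappa_of_cent hG (Or.inl hq1) hQ.le hQ.card_one h)
    obtain ⟨⟨h0, e0, -⟩, hnc, h1, -⟩ := t12_9 hG hM hE hr hA hq1 (hQ.of_le hQE) hC hAQ
    have h0N : ElemN r 1 N ⁅A, Q⁆ :=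
      h0.of_le (e0 ▸ (inf_le_right.trans ((cent_le_cent1 hx).trans hxN)))
    have h1N : ElemN r 1 N (cj g (A ⊓ 𝐂(Q))) :=
      h1.cj_of_le (cj_le_iff_le_cj_inv.2 (inf_le_right.trans hu.le))
    obtain ⟨n, -, hn⟩ := h1N.conj_of_pRank_le_one h0N hr.1 (mFT_odd hG N) hrk
    exact hnc (n * g) (by rw [cj_mul, hn])
  exact ⟨hF, h2, fun E hE => a14_frob_of_tau2_empty hG hF h2 hE⟩

/-- BG Lemma 14.13(b). -/
theorem t14_13b (hG : IsMinSimpleOddOrder G) {M N N' : Subgroup G} (hM : IsCoatom M) {x y g : G}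
    (hx : x ∈ sigmaCore M) (hx1 : x ≠ 1) (hxM : ¬ 𝐂₁(x) ≤ M) (hN : IsCoatom N)
    (hxN : 𝐂₁(x) ≤ N) (hy : y ∈ sigmaCore M) (hy1 : y ≠ 1) (hyM : ¬ 𝐂₁(y) ≤ M)
    (hN' : IsCoatom N') (hyN : 𝐂₁(y) ≤ N') (hg : cj g N' = N) : ∃ m ∈ M, cj m N' = N := by
  have hS := t14_4 hG hM hx hx1 hxM hN hxN
  have h1 := (t14_4 hG hM hy hy1 hyM hN' hyN).hall.cj g
  rw [← sigma_cj g, hg] at h1
  obtain ⟨n, hn, e⟩ := hall_conj (mmax_sol hG hN) h1 hS.hall
  obtain ⟨p, hp, hd, -⟩ := exists_prime_order_mem_zpowers hx1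
  have := Fact.mk hp
  have hp2 := hS.tau2_elt p hp hd
  obtain ⟨A, hA⟩ := ex_tau2Elem hG hN hS.hall hp2
  have hAM : A ≤ M := hA.le.trans inf_le_left
  refine ⟨n * g, M.inv_mem_iff.1 (t10_1e hG hM (hS.tau2_sub hp2) hA.isPGroup hAM
    (t12_4a hG hM (hA.of_le hAM)) (le_cj_iff_cj_inv_le.1 ?_)), by
      rw [cj_mul, hg, cj_eq_of_mem hn]⟩
  refine hA.le.trans ?_
  rw [← e, cj_cj]
  exact cj_mono _ inf_le_left

end CL.BG
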