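import Cfsg.Agent.BG.T14_4
import Cfsg.Agent.BG.A14_Fib

/-! BG Lemma 14.5 -/

namespace CL.BG

open Cfsg Subgroup

variable {G : Type*} [Group G] [Finite G]

theorem conj_mem_sigmaCover {M : Subgroup G} {g : G} (h : g ∈ sigmaCover M) (y : G) :
    y * g * y⁻¹ ∈ sigmaCover (cj y M) := by
  obtain ⟨a, ha, ha1, r, hr, rfl⟩ := h
  refine ⟨y * a * y⁻¹, ?_, by simpa using ha1, y * r * y⁻¹, ?_, by group⟩
  · rw [sigmaCore_cj]; exact conj_mem_cj.2 ha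
  · rw [supportR_cj]; exact conj_mem_cj.2 hr

theorem mem_sigmaTilde_iff {M : Subgroup G} {g : G} :
    g ∈ sigmaTilde M ↔ ∃ y : G, g ∈ sigmaCover (cj y M) := by
  rw [sigmaTilde_eq]
  constructor
  · rintro ⟨y, z, hz, rfl⟩
    exact ⟨y, conj_mem_sigmaCover hz y⟩
  · rintro ⟨y, hy⟩
    have := conj_mem_sigmaCover hy y⁻¹
    rw [cj_inv_cj] at this
    exact ⟨y, _, this, by group⟩

theorem sigmaTilde_cj (y : G) (M : Subgroup G) : sigmaTilde (cj y M) = sigmaTilde M := by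
  ext g
  simp only [mem_sigmaTilde_iff, cj_cj]
  exact ⟨fun ⟨z, hz⟩ => ⟨_, hz⟩, fun ⟨z, hz⟩ => ⟨z * y⁻¹, by rwa [inv_mul_cancel_right]⟩⟩

theorem a14_5a_aux (hG : IsMinSimpleOddOrder G) {M N : Subgroup G} (hM : IsCoatom M)
    (hN : IsCoatom N) {x y : G} (hx : x ∈ sigmaCore M) (hy : y ∈ sigmaCore N) (hx1 : x ≠ 1)
    {r s : G} (hr : r ∈ supportR M x) (hs : s ∈ supportR N y)
    (h : x * r = y * s) (hσ : sigma N ≠ sigma M) :
    ¬ 𝐂₁(y) ≤ N ∧ ∀ N' : Subgroup G, SignalizerCtx N y N' → x ∈ sigmaCore N' := by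
  have hyσ : PiElt (sigma M)ᶜ y := by
    refine (a14_piElt_sigmaCore hy).mono (a14_sigma_sub_compl' hG hM hN fun g e => hσ ?_)
    rw [e, sigma_cj]
  have h1 : x = piPart (sigma M) s := by
    rw [← a14_piPart_mul_supportR hG hM hx hx1 hr, h,
      piPart_mul_of_commute _ (a14_supportR_commute hs), piPart_eq_one hyσ, one_mul]
  refine ⟨fun hC => ?_, fun N' hN' => ?_⟩
  · rw [supportR_eq_bot hC, mem_bot] at hs
    rw [hs, piPart_eq_self (piElt_one _)] at h1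
    exact hx1 h1
  · rw [hN'.R_eq] at hs
    rw [h1]
    exact piPart_mem _ hs.1

/-- BG Lemma 14.5(a). -/
theorem t14_5a (hG : IsMinSimpleOddOrder G) {M N : Subgroup G} (hM : IsCoatom M)
    (hN : IsCoatom N) {x y : G} (hx : x ∈ sigmaCore M) (hy : y ∈ sigmaCore N) (hx1 : x ≠ 1)
    (hy1 : y ≠ 1) {r s : G} (hr : r ∈ supportR M x) (hs : s ∈ supportR N y)
    (h : x * r = y * s) : x = y := by
  by_cases hσ : sigma N = sigma M
  · rw [← a14_piPart_mul_supportR hG hM hx hx1 hr, h, ← hσ,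
      a14_piPart_mul_supportR hG hN hy hy1 hs]
  exfalso
  obtain ⟨h1, h2⟩ := a14_5a_aux hG hM hN hx hy hx1 hr hs h hσ
  obtain ⟨h3, h4⟩ := a14_5a_aux hG hN hM hy hx hy1 hs hr h.symm (Ne.symm hσ)
  obtain ⟨N', hN'⟩ := t14_4_ex hG hN hy hy1 h1
  obtain ⟨M', hM'⟩ := t14_4_ex hG hM hx hx1 h3
  have hxN' := h2 N' hN'
  have hyM' := h4 M' hM'
  have h5 : ¬ 𝐂₁(x) ≤ N' := fun hC =>
    h3 (t14_4_eq hG hN'.uniq.coatom hM hxN' hx hx1 hC ▸ hC)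
  have h6 := (t14_4 hG hN'.uniq.coatom hxN' hx1 h5 hM'.uniq.coatom hM'.uniq.le).hall
  exact hy1 ((a14_piElt_sigmaCore hyM').eq_one
    (h6.pi.piElt ⟨hN'.uniq.le (mem_cent1_self y), sigmaCore_le _ hyM'⟩))

/-- elements of `M̃` and `Ñ` can only agree for conjugate `M`, `N` -/
theorem a14_conj_of_mem_sigmaCover (hG : IsMinSimpleOddOrder G) {M N : Subgroup G}
    (hM : IsCoatom M) (hN : IsCoatom N) {g : G} (h₁ : g ∈ sigmaCover M) (h₂ : g ∈ sigmaCover N) :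
    ∃ y : G, N = cj y M := by
  obtain ⟨a, ha, ha1, r, hr, rfl⟩ := h₁
  obtain ⟨b, hb, hb1, s, hs, e⟩ := h₂
  obtain rfl := t14_5a hG hM hN ha hb ha1 hb1 hr hs e
  exact a14_conj_of_piElt hG hM hN (a14_piElt_sigmaCore ha) (a14_piElt_sigmaCore hb) ha1

/-- BG Lemma 14.5(b). -/
theorem t14_5b (hG : IsMinSimpleOddOrder G) {M N : Subgroup G} (hM : IsCoatom M)
    (hN : IsCoatom N) (h : ∀ g : G, N ≠ cj g M) : Disjoint (sigmaTilde M) (sigmaTilde N) := by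
  refine Set.disjoint_left.2 fun g h₁ h₂ => ?_
  obtain ⟨y, hy⟩ := mem_sigmaTilde_iff.1 h₁
  obtain ⟨z, hz⟩ := mem_sigmaTilde_iff.1 h₂
  obtain ⟨w, hw⟩ := a14_conj_of_mem_sigmaCover hG (mmax_cj y hM) (mmax_cj z hN) hy hz
  exact h (z⁻¹ * (w * y)) (by rw [cj_mul, cj_mul, ← hw, cj_inv_cj])

theorem one_not_mem_sigmaCover (hG : IsMinSimpleOddOrder G) {M : Subgroup G} (hM : IsCoatom M) :
    (1 : G) ∉ sigmaCover M := by
  rintro ⟨a, ha, ha1, r, hr, e⟩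
  have := a14_piPart_mul_supportR hG hM ha ha1 hr
  rw [← e, piPart_eq_self (piElt_one _)] at this
  exact ha1 this.symm

theorem one_not_mem_sigmaTilde (hG : IsMinSimpleOddOrder G) {M : Subgroup G} (hM : IsCoatom M) :
    (1 : G) ∉ sigmaTilde M := by
  rw [sigmaTilde_eq]
  exact one_not_mem_classSupport (one_not_mem_sigmaCover hG hM)

/-- BG Lemma 14.5(c). -/
theorem t14_5c (hG : IsMinSimpleOddOrder G) {M : Subgroup G} (hM : IsCoatom M) :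
    (sigmaTilde M).ncard = (Nat.card (sigmaCore M) - 1) * M.index := by
  let S : Set (G × Subgroup G) := {p | (∃ g : G, p.2 = cj g M) ∧ p.1 ∈ sigmaCore p.2 ∧ p.1 ≠ 1}
  have h1 : S.ncard = (Nat.card (sigmaCore M) - 1) * M.index := by
    have := ncard_conjugates M
    rw [norm_mmax hG hM] at this
    rw [← this]
    refine a14_ncard_eq_mul_of_fiber Prod.snd (fun p hp => hp.1) ?_
    rintro _ ⟨g, rfl⟩
    rw [← card_cj g, ← sigmaCore_cj, ← a14_ncard_sharp]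
    refine Set.ncard_congr (fun p _ => p.1) ?_ ?_ ?_
    · rintro ⟨x, L⟩ ⟨⟨-, hx, hx1⟩, rfl⟩
      exact ⟨hx, hx1⟩
    · rintro ⟨x, L⟩ ⟨y, L'⟩ ⟨-, h₁⟩ ⟨-, h₂⟩ e
      exact Prod.ext e (h₁.trans h₂.symm)
    · rintro x ⟨hx, hx1⟩
      exact ⟨(x, cj g M), ⟨⟨⟨g, rfl⟩, hx, hx1⟩, rfl⟩, rfl⟩
  rw [← h1]
  refine a14_ncard_eq_of_fiber (piPart (sigma M)) Prod.fst fun x => ?_
  have key : ∀ {g y : G}, g ∈ sigmaCover (cj y M) → piPart (sigma M) g = x →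
      x ∈ sigmaCore (cj y M) ∧ x ≠ 1 ∧ ∃ r ∈ supportR (cj y M) x, g = x * r := by
    rintro _ y ⟨a, ha, ha1, r, hr, rfl⟩ e
    rw [← sigma_cj y, a14_piPart_mul_supportR hG (mmax_cj y hM) ha ha1 hr] at e
    subst e
    exact ⟨ha, ha1, r, hr, rfl⟩
  by_cases hx : x ≠ 1 ∧ ∃ y : G, x ∈ sigmaCore (cj y M)
  · obtain ⟨hx1, y, hy⟩ := hx
    have hL := mmax_cj y hM
    have e1 : {g ∈ sigmaTilde M | piPart (sigma M) g = x} =
        {g : G | ∃ r ∈ supportR (cj y M) x, g = x * r} := by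
      ext g
      constructor
      · rintro ⟨hg, e⟩
        obtain ⟨z, hz⟩ := mem_sigmaTilde_iff.1 hg
        obtain ⟨h₁, -, r, hr, rfl⟩ := key hz e
        exact ⟨r, t14_4_supportR hG hL hy hx1 (mmax_cj z hM) h₁ ▸ hr, rfl⟩
      · rintro ⟨r, hr, rfl⟩
        refine ⟨mem_sigmaTilde_iff.2 ⟨y, x, hy, hx1, r, hr, rfl⟩, ?_⟩
        rw [← sigma_cj y, a14_piPart_mul_supportR hG hL hy hx1 hr]
    rw [e1, a14_ncard_coset, (t14_4_card hG hL hy hx1).1]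
    refine Set.ncard_congr (fun L _ => (x, L)) ?_ ?_ ?_
    · rintro L ⟨h₁, h₂⟩
      obtain ⟨c, -, rfl⟩ := t14_4_trans hG hL h₁ hy h₂ hx1
      exact ⟨⟨⟨c * y, cj_cj c y M⟩, h₂, hx1⟩, rfl⟩
    · exact fun L L' _ _ e => congrArg Prod.snd e
    · rintro ⟨x', L⟩ ⟨⟨⟨g, hg⟩, h₂, -⟩, rfl⟩
      exact ⟨L, ⟨(show L = cj g M from hg) ▸ mmax_cj g hM, h₂⟩, rfl⟩
  · have e1 : {g ∈ sigmaTilde M | piPart (sigma M) g = x} = ∅ := by
      refine Set.eq_empty_of_forall_notMem ?_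
      rintro g ⟨hg, e⟩
      obtain ⟨z, hz⟩ := mem_sigmaTilde_iff.1 hg
      obtain ⟨h₁, h₂, -⟩ := key hz e
      exact hx ⟨h₂, z, h₁⟩
    have e2 : {p ∈ S | p.1 = x} = ∅ := by
      refine Set.eq_empty_of_forall_notMem ?_
      rintro ⟨x', L⟩ ⟨⟨⟨g, hg⟩, h₂, h₃⟩, rfl⟩
      exact hx ⟨h₃, g, (show L = cj g M from hg) ▸ h₂⟩
    rw [e1, e2, Set.ncard_empty, Set.ncard_empty]

end CL.BG
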