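import Cfsg.Agent.BG.T14_5

/-! BG Lemma 14.6 -/

namespace CL.BG

open Cfsg Subgroup

variable {G : Type*} [Group G] [Finite G]

/-- every prime divisor of `|G|` lies in some `σ(M)` -/
theorem a14_exists_sigma (hG : IsMinSimpleOddOrder G) {p : ℕ} (hp : p.Prime)
    (hd : p ∣ Nat.card G) : ∃ M : Subgroup G, IsCoatom M ∧ p ∈ sigma M := by
  have := Fact.mk hp
  obtain ⟨P, hP⟩ := sylow_exists p (⊤ : Subgroup G)
  have hP1 : P ≠ ⊥ := hP.ne_bot_iff.2 (by rwa [card_top])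
  obtain ⟨M, hM, hN⟩ := mmax_exists (mFT_norm_pgroup_ne_top hG hP.isPGroup hP1)
  exact ⟨M, hM, mem_sigma_of_norm_le hM.1 (Hall.restrict hP ((le_norm_self P).trans hN) le_top) hN⟩

/-- every nonidentity element has a nontrivial `σ`-part lying in a `σ`-core -/
theorem a14_exists_piPart_mem (hG : IsMinSimpleOddOrder G) {g : G} (hg : g ≠ 1) :
    ∃ M : Subgroup G, IsCoatom M ∧ piPart (sigma M) g ∈ sigmaCore M ∧ piPart (sigma M) g ≠ 1 := by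
  obtain ⟨p, hp, hd, -⟩ := exists_prime_order_mem_zpowers hg
  obtain ⟨M, hM, hpM⟩ := a14_exists_sigma hG hp (hd.trans (orderOf_dvd_natCard g))
  obtain ⟨h, hh⟩ := a14_exists_cj_mem_sigmaCore hG hM (piElt_piPart (sigma M) g)
  refine ⟨cj h M, mmax_cj h hM, ?_, ?_⟩ <;> rw [sigma_cj]
  · exact hh
  · exact piPart_ne_one hp hd hpM

theorem a14_6_aux (hG : IsMinSimpleOddOrder G) {M : Subgroup G} (hM : IsCoatom M) {g : G}
    (hg : g ∈ M) (hx1 : piPart (sigma M) g ≠ 1) :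
    (∃ M : Subgroup G, IsCoatom M ∧ g ∈ sigmaCover M) ∨
      (∃ M : Subgroup G, IsCoatom M ∧ ∃ y ∈ sigmaCore M, y ≠ 1 ∧ ∃ y' ∈ M ⊓ 𝐂₁(y), y' ≠ 1 ∧
        PiElt (kappa M) y' ∧ g = y * y') := by
  have hx := mem_sigmaCore_of_piElt hG hM (piPart_mem _ hg) (piElt_piPart (sigma M) g)
  have e := piPart_mul_piPart_compl (sigma M) g
  have hc := commute_piPart (sigma M) (sigma M)ᶜ g
  have hx' : piPart (sigma M)ᶜ g ∈ M ⊓ 𝐂₁(piPart (sigma M) g) :=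
    ⟨piPart_mem _ hg, mem_cent1.2 hc.symm⟩
  have hσ := piElt_piPart (sigma M)ᶜ g
  generalize piPart (sigma M) g = x at *
  generalize piPart (sigma M)ᶜ g = x' at *
  subst e
  by_cases hx'1 : x' = 1
  · exact Or.inl ⟨M, hM, x, hx, hx1, 1, one_mem _, by rw [hx'1]⟩
  rcases t14_3 hG hM hx hx1 hx' hx'1 hσ with ⟨hκ, -⟩ | ⟨-, ⟨L, hL, hxL⟩, hu⟩
  · exact Or.inr ⟨M, hM, x, hx, hx1, x', hx', hx'1, hκ, rfl⟩
  · have h1 : ¬ 𝐂₁(x') ≤ L := fun h => by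
      rw [hu.uniq L hL h] at hxL
      exact hx'1 ((a14_piElt_sigmaCore hxL).eq_one hσ)
    refine Or.inl ⟨L, hL, x', hxL, hx'1, x, ?_, hc⟩
    rw [(t14_4 hG hL hxL hx'1 h1 hM hu.le).R_eq]
    exact ⟨hx, mem_cent1.2 hc⟩

/-- BG Lemma 14.6: every nonidentity element satisfies (1) or (2). -/
theorem t14_6 (hG : IsMinSimpleOddOrder G) {g : G} (hg : g ≠ 1) :
    (∃ M : Subgroup G, IsCoatom M ∧ g ∈ sigmaCover M) ∨
      (∃ M : Subgroup G, IsCoatom M ∧ ∃ y ∈ sigmaCore M, y ≠ 1 ∧ ∃ y' ∈ M ⊓ 𝐂₁(y), y' ≠ 1 ∧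
        PiElt (kappa M) y' ∧ g = y * y') := by
  obtain ⟨M, hM, hx, hx1⟩ := a14_exists_piPart_mem hG hg
  have hgx : g ∈ 𝐂₁(piPart (sigma M) g) := cent1_le_cent1_piPart _ g (mem_cent1_self g)
  by_cases hC : 𝐂₁(piPart (sigma M) g) ≤ M
  · exact a14_6_aux hG hM (hC hgx) hx1
  obtain ⟨N, hN⟩ := t14_4_ex hG hM hx hx1 hC
  by_cases hy : piPart (sigma N) g = 1
  · have hH : Hall (sigma N)ᶜ (M ⊓ 𝐂₁(piPart (sigma M) g)) 𝐂₁(piPart (sigma M) g) :=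
      hN.sdp.hall_right_of_left hN.R_hall
    obtain ⟨c, -, hc⟩ := hall_le_conj (mFT_sol hG hN.uniq.ne_top) hH (zpowers_le.2 hgx)
      (piGrp_zpowers.2 (piPart_eq_one_iff.1 hy))
    exact a14_6_aux hG (mmax_cj c hM) (cj_mono c inf_le_left (hc (mem_zpowers g)))
      (by rwa [sigma_cj])
  · exact a14_6_aux hG hN.uniq.coatom (hN.uniq.le hgx) hy

/-- BG Lemma 14.6: (1) and (2) exclude each other. -/
theorem t14_6_not (hG : IsMinSimpleOddOrder G) {M N : Subgroup G} (hM : IsCoatom M)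
    (hN : IsCoatom N) {y y' : G} (hy : y ∈ sigmaCore M) (hy1 : y ≠ 1) (hy' : y' ∈ M ⊓ 𝐂₁(y))
    (hy'1 : y' ≠ 1) (hκ : PiElt (kappa M) y') : y * y' ∉ sigmaCover N := by
  rintro ⟨x, hx, hx1, r, hr, e⟩
  obtain ⟨K, hP, hK, h1, h2⟩ := a14_kappa_elt hG hM hy hy1 hy' hy'1 hκ
  have hC := t14_2c_elt hG hP hK h2 hy1
  have hc : Commute y y' := (mem_cent1.1 hy'.2).symm
  have h3 : piPart (sigma M) (y * y') = y :=
    piPart_mul_eq (a14_piElt_sigmaCore hy) hκ.kappa_sigma' hc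
  by_cases hσ : sigma N = sigma M
  · rw [e, ← hσ, a14_piPart_mul_supportR hG hN hx hx1 hr] at h3
    subst h3
    rw [t14_4_supportR hG hM hy hy1 hN hx, supportR_eq_bot hC, mem_bot] at hr
    rw [hr] at e
    exact hy'1 (mul_left_cancel e)
  have hxσ : PiElt (sigma M)ᶜ x := by
    refine (a14_piElt_sigmaCore hx).mono (a14_sigma_sub_compl' hG hM hN fun g e => hσ ?_)
    rw [e, sigma_cj]
  have hxr := a14_supportR_commute hr
  rw [e, piPart_mul_of_commute _ hxr, piPart_eq_one hxσ, one_mul] at h3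
  by_cases hCx : 𝐂₁(x) ≤ N
  · rw [supportR_eq_bot hCx, mem_bot] at hr
    rw [hr, piPart_eq_self (piElt_one _)] at h3
    exact hy1 h3.symm
  obtain ⟨N', hN'⟩ := t14_4_ex hG hN hx hx1 hCx
  rw [hN'.R_eq] at hr
  obtain rfl : N' = M :=
    t14_4_eq hG hM hN'.uniq.coatom hy (h3 ▸ piPart_mem _ hr.1) hy1 hC
  rw [piPart_eq_self (a14_piElt_sigmaCore hr.1)] at h3
  subst h3
  rw [hxr.eq] at e
  obtain rfl := mul_left_cancel e
  obtain ⟨p, hp, hd, -⟩ := exists_prime_order_mem_zpowers hx1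
  exact not_mem_kappa_of_tau2 (hN'.tau2_elt p hp hd) (hκ p hp hd)

/-- the elements of type (2) in BG 14.6 avoid every `𝒞_G(Ñ)` -/
theorem t14_6_not' (hG : IsMinSimpleOddOrder G) {M N : Subgroup G} (hM : IsCoatom M)
    (hN : IsCoatom N) {y y' : G} (hy : y ∈ sigmaCore M) (hy1 : y ≠ 1) (hy' : y' ∈ M ⊓ 𝐂₁(y))
    (hy'1 : y' ≠ 1) (hκ : PiElt (kappa M) y') : y * y' ∉ sigmaTilde N := fun h =>
  let ⟨z, hz⟩ := mem_sigmaTilde_iff.1 h
  t14_6_not hG hM (mmax_cj z hN) hy hy1 hy' hy'1 hκ hz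

end CL.BG
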