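import Cfsg.Agent.BG.A14_7

/-! # BG Theorem 14.7 -/

namespace CL.BG

open Cfsg Subgroup

variable {G : Type*} [Group G]

theorem mem_zhat_iff {K Ks Z : Subgroup G} (h : DP K Ks Z) {z : G} :
    z ∈ zhat K Ks ↔ ∃ x ∈ K, x ≠ 1 ∧ ∃ y ∈ Ks, y ≠ 1 ∧ z = x * y := by
  constructor
  · rintro ⟨hz, hn⟩
    obtain ⟨x, hx, y, hy, rfl⟩ := h.exists_mul (h.sup ▸ hz)
    refine ⟨x, hx, ?_, y, hy, ?_, rfl⟩ <;> rintro rfl
    · exact hn (Or.inr (by simpa using hy))
    · exact hn (Or.inl (by simpa using hx))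
  · rintro ⟨x, hx, hx1, y, hy, hy1, rfl⟩
    refine ⟨mul_mem_sup hx hy, ?_⟩
    rintro (h1 | h1)
    · exact hy1 (mem_bot.1 (h.disj ▸ mem_inf.2 ⟨(K.mul_mem_cancel_left hx).1 h1, hy⟩))
    · exact hx1 (mem_bot.1 (h.disj ▸ mem_inf.2 ⟨hx, (Ks.mul_mem_cancel_right hy).1 h1⟩))

theorem zhat_comm (K Ks : Subgroup G) : zhat K Ks = zhat Ks K := by
  rw [zhat, zhat, sup_comm, Set.union_comm]

theorem conj_mem_zhat_cj {K Ks : Subgroup G} {g z : G} :
    g * z * g⁻¹ ∈ zhat (cj g K) (cj g Ks) ↔ z ∈ zhat K Ks := by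
  simp only [zhat, ← cj_sup, Set.mem_sdiff, Set.mem_union, SetLike.mem_coe, conj_mem_cj]

variable [Finite G]

theorem ncard_zhat {K Ks Z : Subgroup G} (h : DP K Ks Z) :
    (zhat K Ks).ncard = (Nat.card K - 1) * (Nat.card Ks - 1) := by
  have h1 := Set.ncard_sdiff_add_ncard_of_subset (s := (K : Set G) ∪ (Ks : Set G))
    (t := (↑(K ⊔ Ks) : Set G)) (Set.union_subset (fun _ => mem_sup_left) fun _ => mem_sup_right)
  have h2 := Set.ncard_union_add_ncard_inter (K : Set G) (Ks : Set G)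
  have h3 : ∀ H : Subgroup G, (H : Set G).ncard = Nat.card H := fun H =>
    (Nat.card_coe_set_eq _).symm
  rw [← coe_inf, h.disj, h3, h3, h3, card_bot] at h2
  rw [h3, h.sup, ← h.card] at h1
  obtain ⟨a, ha⟩ := Nat.exists_eq_add_one_of_ne_zero (card_pos' K).ne'
  obtain ⟨b, hb⟩ := Nat.exists_eq_add_one_of_ne_zero (card_pos' Ks).ne'
  rw [zhat, h.sup, ha, hb, Nat.add_sub_cancel, Nat.add_sub_cancel]
  rw [ha, hb] at h1 h2
  nlinarith

theorem a14_8_15 {k l c n : ℕ} (hk : Odd k) (hl : Odd l) (hk1 : 1 < k) (hl1 : 1 < l)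
    (hc : k.Coprime l) (hn : 0 < n) (h : k * l * c = (k - 1) * (l - 1) * n) : n < 2 * c := by
  obtain ⟨a, rfl⟩ := hk
  obtain ⟨b, rfl⟩ := hl
  have hab : a ≠ b := by
    rintro rfl
    rw [Nat.coprime_self] at hc
    omega
  rw [Nat.add_sub_cancel, Nat.add_sub_cancel] at h
  have h1 : (2 * a + 1) * (2 * b + 1) < 2 * (2 * a * (2 * b)) := by
    obtain ⟨a, rfl⟩ := Nat.exists_eq_add_one_of_ne_zero (show a ≠ 0 by omega)
    obtain ⟨b, rfl⟩ := Nat.exists_eq_add_one_of_ne_zero (show b ≠ 0 by omega)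
    have : 1 ≤ a + b := by omega
    nlinarith
  refine Nat.lt_of_mul_lt_mul_left (a := (2 * a + 1) * (2 * b + 1)) ?_
  calc (2 * a + 1) * (2 * b + 1) * n < 2 * (2 * a * (2 * b)) * n := Nat.mul_lt_mul_of_pos_right h1 hn
    _ = (2 * a + 1) * (2 * b + 1) * (2 * c) := by rw [mul_assoc 2, ← h]; ring

/-- `M' = M_σ U` for `M` of type `𝒫` with abelian Hall `κ(M)`-subgroup -/
theorem a14_der_eq (hG : IsMinSimpleOddOrder G) {M U K : Subgroup G} (hM : TypeP M)
    (hU : KappaCompl M U K) (hc : IsMulCommutative K) :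
    ⁅M, M⁆ = sigmaCore M ⊔ U ∧ SDP ⁅M, M⁆ K M := by
  obtain ⟨-, hUK, hME, -, hreg, -⟩ := t14_2a hG hM.coatom hU
  have h1 := (hUK.assoc' hME).2
  have h2 : ⁅M, M⁆ = sigmaCore M ⊔ U := by
    refine le_antisymm (h1.der_le_left hc) (sup_le (t10_2c hG hM.coatom) ?_)
    have h3 := t1_6a hU.norm hU.coprime (Or.inl (mmax_sub_sol hG hM.coatom hU.U_le))
    rw [hreg.a14_cent le_rfl (hM.hall_ne_bot hU.hallK), sup_bot_eq] at h3
    rw [← h3]
    exact commutator_mono hU.U_le hU.K_le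
  exact ⟨h2, h2 ▸ h1⟩

namespace A14Core

variable {M K Ms : Subgroup G}

omit [Finite G] in
theorem symm (h : A14Core M K Ms) : A14Core Ms (kstar M K) M :=
  ⟨h.typePs, h.hallKs, h.typeP, h.ne.symm, by rw [h.kstar_kstar]; exact h.hallK,
    by rw [h.kstar_kstar], by rw [h.kstar_kstar, sup_comm]; exact h.cyclic,
    by rw [h.kstar_kstar]; exact h.typeP2.symm⟩

omit [Finite G] in
theorem good (h : A14Core M K Ms) : A14Good (K ⊔ kstar M K) M K := ⟨h.typeP, h.hallK, rfl⟩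

omit [Finite G] in
theorem good' (h : A14Core M K Ms) : A14Good (K ⊔ kstar M K) Ms (kstar M K) :=
  ⟨h.typePs, h.hallKs, by rw [h.kstar_kstar, sup_comm]⟩

theorem not_conj (hG : IsMinSimpleOddOrder G) (h : A14Core M K Ms) (g : G) : Ms ≠ cj g M :=
  h.good.not_conj hG h.good' h.ne g

theorem uniq (hG : IsMinSimpleOddOrder G) (h : A14Core M K Ms) {X : Subgroup G} (hX : X ≤ K)
    (hXp : (Nat.card X).Prime) : UniqMax 𝐂(X) Ms :=
  t14_2c hG h.typePs h.hallKs (h.kstar_kstar.symm ▸ hX) hXp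

theorem sigmaCore_inf (hG : IsMinSimpleOddOrder G) (h : A14Core M K Ms) :
    sigmaCore M ⊓ Ms = kstar M K := by
  refine le_antisymm (le_inf inf_le_left ?_) (le_inf (kstar_le_sigmaCore M K) h.hallKs.le)
  have hK : K ≤ sigmaCore Ms := h.kstar_kstar.symm.le.trans (kstar_le_sigmaCore _ _)
  rw [← commutator_eq_bot_iff', eq_bot_iff, ← sigmaCore_inf_eq_bot ((piGrp_sigmaCore Ms).mono
    (a14_sigma_sub_compl' hG h.typeP.coatom h.typePs.coatom (h.not_conj hG)))]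
  exact le_inf ((commutator_mono inf_le_left le_rfl).trans
      (commutator_le_left_of_norm (le_norm_sigmaCore h.hallK.le)))
    ((commutator_mono inf_le_right hK).trans (sigmaCore_normal Ms).commutator_le')

theorem inf_eq (hG : IsMinSimpleOddOrder G) (h : A14Core M K Ms) : M ⊓ Ms = K ⊔ kstar M K := by
  refine le_antisymm ?_ (le_inf h.good.le h.good'.le)
  rw [← h.good'.sup, ← t14_2b_normK hG h.typePs h.hallKs]
  refine le_inf inf_le_right ?_
  rw [← h.sigmaCore_inf hG]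
  exact norms_inf (le_norm_sigmaCore inf_le_left) (le_norm_of_le inf_le_right)

theorem hallKs_sigma (hG : IsMinSimpleOddOrder G) (h : A14Core M K Ms) :
    Hall (sigma M) (kstar M K) Ms := by
  obtain ⟨Y, hY, hle⟩ := hall_superset (mmax_sol hG h.typePs.coatom) h.hallKs.le (kstar_pi M K)
  have h1 := t14_2f hG h.typeP h.hallK hY.pi
    (by rw [inf_eq_right.2 hle]; exact t14_2c_ne hG h.typeP.coatom h.hallK)
  rwa [le_antisymm hle (h.sigmaCore_inf hG ▸ le_inf h1 hY.le)]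

omit [Finite G] in
theorem commK (h : A14Core M K Ms) : IsMulCommutative K :=
  comm_of_le (comm_of_isCyclic h.cyclic) le_sup_left

theorem sdp (hG : IsMinSimpleOddOrder G) (h : A14Core M K Ms) : SDP ⁅M, M⁆ K M :=
  let ⟨_, hU⟩ := t14_2_ex hG h.typeP.coatom h.hallK
  (a14_der_eq hG h.typeP hU h.commK).2

theorem kappa_eq (hG : IsMinSimpleOddOrder G) (h : A14Core M K Ms) : kappa M = tau1 M := by
  have h1 := h.sdp hG
  have h2 := (h1.hall_left_of_right h.hallK).pi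
  ext p
  refine ⟨fun hp => (tau13_of_mem_kappa hp).resolve_right fun h3 => h2 p hp.1 h3.2.2.1 hp,
    fun hp => ?_⟩
  have h3 := (tau1_sub_primesOf M hp).2
  rw [← h1.card] at h3
  exact h.hallK.pi p hp.1 ((hp.1.dvd_mul.1 h3).resolve_left (mem_tau1_iff.1 hp).2.2.2)

theorem cent_K (hG : IsMinSimpleOddOrder G) (h : A14Core M K Ms) {x : G} (hx : x ∈ K)
    (hx1 : x ≠ 1) : M ⊓ 𝐂₁(x) = K ⊔ kstar M K :=
  le_antisymm (t14_2b_cent1 hG h.typeP.coatom h.hallK hx hx1) (le_inf h.good.le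
    ((le_cent_of_comm (comm_of_isCyclic h.cyclic)).trans (cent_le_cent1 (mem_sup_left hx))))

theorem cent_mul (hG : IsMinSimpleOddOrder G) (h : A14Core M K Ms) {x y : G} (hx : x ∈ K)
    (hx1 : x ≠ 1) (hy : y ∈ kstar M K) (hy1 : y ≠ 1) : 𝐂₁(x * y) = K ⊔ kstar M K := by
  refine le_antisymm ?_
    ((le_cent_of_comm (comm_of_isCyclic h.cyclic)).trans (cent_le_cent1 (mul_mem_sup hx hy)))
  obtain ⟨h1, h2⟩ := a14_mem_zpowers_mul (h.hallK.pi.kappa_sigma'.piElt hx)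
    (by rw [compl_compl]; exact (kstar_pi M K).piElt hy) (h.good.dp.cp.commute hx hy)
  rw [← h.cent_K hG hx hx1, ← cent_zpowers (x * y)]
  exact le_inf ((cent_le_cent1 h2).trans (t14_2c_elt hG h.typeP h.hallK hy hy1)) (cent_le_cent1 h1)

theorem ti (hG : IsMinSimpleOddOrder G) (h : A14Core M K Ms) :
    NormedTI (zhat K (kstar M K)) (K ⊔ kstar M K) := by
  have hdp := h.good.dp
  obtain ⟨x, hx, hx1⟩ := exists_ne_one_of_ne_bot (h.typeP.hall_ne_bot h.hallK)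
  obtain ⟨y, hy, hy1⟩ := exists_ne_one_of_ne_bot (t14_2c_ne hG h.typeP.coatom h.hallK)
  refine ⟨⟨x * y, (mem_zhat_iff hdp).2 ⟨x, hx, hx1, y, hy, hy1, rfl⟩⟩,
    fun z hz g => ⟨fun hg => ?_, fun hg => ?_⟩⟩
  · obtain ⟨x, hx, hx1, y, hy, hy1, rfl⟩ := (mem_zhat_iff hdp).1 hz
    exact h.good.ti hG hy hy1 hx hx1 ((hdp.cp.commute hx hy).eq ▸ hg.1)
  · have := (conj_mem_zhat_cj (g := g)).2 hz
    rwa [hdp.left_normalIn.cj_eq hg, hdp.right_normalIn.cj_eq hg] at this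

theorem disj (hG : IsMinSimpleOddOrder G) (h : A14Core M K Ms) {g z : G} (hg : g ∉ M)
    (hz : z ∈ zhat K (kstar M K)) : z ∉ cj g M := by
  intro hzM
  obtain ⟨x, hx, -, y, hy, hy1, rfl⟩ := (mem_zhat_iff h.good.dp).1 hz
  obtain ⟨-, h2⟩ := a14_mem_zpowers_mul (h.hallK.pi.kappa_sigma'.piElt hx)
    (by rw [compl_compl]; exact (kstar_pi M K).piElt hy) (h.good.dp.cp.commute hx hy)
  exact ne_bot_of_mem (mem_inf.2 ⟨hy, zpowers_le.2 hzM h2⟩) hy1 (t14_2d1 hG h.typeP h.hallK hg)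

theorem card_eq (hG : IsMinSimpleOddOrder G) (h : A14Core M K Ms) :
    Nat.card K * Nat.card (kstar M K) * (classSupport (zhat K (kstar M K))).ncard =
      (Nat.card K - 1) * (Nat.card (kstar M K) - 1) * Nat.card G := by
  rw [(h.ti hG).ncard_classSupport, ncard_zhat h.good.dp, h.good.dp.card,
    ← (K ⊔ kstar M K).card_mul_index]
  ring

theorem coprime (h : A14Core M K Ms) : (Nat.card K).Coprime (Nat.card (kstar M K)) :=
  h.hallK.pi.kappa_sigma'.coprime' (kstar_pi M K)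

theorem card_gt (hG : IsMinSimpleOddOrder G) (h : A14Core M K Ms) :
    Nat.card G < 2 * (classSupport (zhat K (kstar M K))).ncard :=
  a14_8_15 (mFT_odd hG _) (mFT_odd hG _) (one_lt_card_of_ne_bot (h.typeP.hall_ne_bot h.hallK))
    (one_lt_card_of_ne_bot (t14_2c_ne hG h.typeP.coatom h.hallK)) h.coprime Nat.card_pos
    (h.card_eq hG)

theorem uniq_or (hG : IsMinSimpleOddOrder G) (h : A14Core M K Ms) {Y : Subgroup G}
    (hY : Y ≤ K ⊔ kstar M K) (hYp : (Nat.card Y).Prime) : UniqMax 𝐂(Y) M ∨ UniqMax 𝐂(Y) Ms := by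
  by_cases hσ : Nat.card Y ∈ sigma M
  · exact Or.inl (t14_2c hG h.typeP h.hallK (h.good.hallKs.le_of_normal
      h.good.dp.right_normalIn.norm hY ((piGrp_iff_of_card_prime hYp rfl).2 hσ)) hYp)
  · exact Or.inr (h.uniq hG (h.good.hallJ.le_of_normal
      h.good.dp.left_normalIn.norm hY ((piGrp_iff_of_card_prime hYp rfl).2 hσ)) hYp)

theorem conj (hG : IsMinSimpleOddOrder G) (h : A14Core M K Ms) {H : Subgroup G} (hH : TypeP H) :
    ∃ g : G, H = cj g M ∨ H = cj g Ms := by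
  obtain ⟨L, hL⟩ := hall_exists (kappa H) (mmax_sol hG hH.coatom)
  obtain ⟨Hs, h'⟩ := a14_7_core hG hH hL
  obtain ⟨_, ⟨a, z, hz, rfl⟩, b, w, hw, e⟩ :=
    exists_mem_inter_of_two_mul_ncard (h.card_gt hG) (h'.card_gt hG)
  obtain ⟨x, hx, -, y, hy, hy1, rfl⟩ := (mem_zhat_iff h'.good.dp).1 hw
  obtain ⟨-, h2⟩ := a14_mem_zpowers_mul (hL.pi.kappa_sigma'.piElt hx)
    (by rw [compl_compl]; exact (kstar_pi H L).piElt hy) (h'.good.dp.cp.commute hx hy)
  obtain ⟨Y, hY, hYp, -⟩ := a14_exists_prime_le_zpowers hy1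
  have hu := t14_2c hG hH hL (hY.trans (zpowers_le.2 hy)) hYp
  have h3 : cj (a⁻¹ * b) Y ≤ K ⊔ kstar M K := by
    refine (cj_mono _ (hY.trans (zpowers_le.2 h2))).trans ?_
    rw [cj_zpowers, zpowers_le, show a⁻¹ * b * (x * y) * (a⁻¹ * b)⁻¹ = z by
      rw [show z = a⁻¹ * (a * z * a⁻¹) * a by group, e]; group]
    exact hz.1
  have hu' := hu.cj (a⁻¹ * b)
  rw [cj_cent] at hu'
  refine ⟨(a⁻¹ * b)⁻¹, (h.uniq_or hG h3 (by rwa [card_cj])).imp (fun h4 => ?_) fun h4 => ?_⟩ <;>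
    rw [← hu'.unique h4, cj_inv_cj]

theorem pair (hG : IsMinSimpleOddOrder G) (h : A14Core M K Ms) : PtypePair M K Ms where
  typeP := h.typeP
  hallK := h.hallK
  typePs := h.typePs
  not_conj := h.not_conj hG
  uniq := fun _ => h.uniq hG
  hallKs := h.hallKs
  hallKs_sigma := h.hallKs_sigma hG
  kstar_kstar := h.kstar_kstar
  kappa_eq := h.kappa_eq hG
  cyclic := h.cyclic
  dp := h.good.dp
  coprime := h.coprime
  inf_eq := h.inf_eq hG
  cent_K := fun _ => h.cent_K hG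
  cent_Ks := fun y hy hy1 => by rw [h.symm.cent_K hG hy hy1, h.kstar_kstar, sup_comm]
  cent_mul := fun _ hx hx1 _ => h.cent_mul hG hx hx1
  ti := h.ti hG
  disj := fun _ hg _ => h.disj hG hg
  card_eq := h.card_eq hG
  card_gt := h.card_gt hG
  typeP2 := h.typeP2
  conj := fun _ => h.conj hG
  sdp := h.sdp hG

end A14Core

/-- BG Theorem 14.7. -/
theorem t14_7 (hG : IsMinSimpleOddOrder G) {M K : Subgroup G} (hM : TypeP M)
    (hK : Hall (kappa M) K M) : ∃ Ms : Subgroup G, PtypePair M K Ms :=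
  let ⟨Ms, h⟩ := a14_7_core hG hM hK; ⟨Ms, h.pair hG⟩

/-- the partner is the maximal subgroup over `C_G(X)`, `X ∈ ℰ¹(K)`. -/
theorem t14_7_of_cent (hG : IsMinSimpleOddOrder G) {M K X Ms : Subgroup G} (hM : IsCoatom M)
    (hK : Hall (kappa M) K M) (hX : X ≤ K) (hXp : (Nat.card X).Prime) (hMs : IsCoatom Ms)
    (hC : 𝐂(X) ≤ Ms) : PtypePair M K Ms := by
  obtain ⟨L, h⟩ := t14_7 hG
    (typeP_of_hall_ne_bot hM hK (ne_bot_of_le (ne_bot_of_card_prime hXp) hX)) hK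
  rwa [(h.uniq X hX hXp).uniq Ms hMs hC]

/-- the partner in the form used by the listed statements. -/
theorem t14_7_of_kstar (hG : IsMinSimpleOddOrder G) {M K Ms : Subgroup G} (hM : TypeP M)
    (hK : Hall (kappa M) K M) (hMs : IsCoatom Ms) (h1 : kstar Ms (kstar M K) = K)
    (h2 : Hall (kappa Ms) (kstar M K) Ms) : PtypePair M K Ms := by
  obtain ⟨X, hX, hXp⟩ := a14_exists_prime_le (hM.hall_ne_bot hK)
  exact t14_7_of_cent hG hM.coatom hK hX hXp hMs (t14_2c hG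
    (typeP_of_hall_ne_bot hMs h2 (t14_2c_ne hG hM.coatom hK)) h2 (h1.symm ▸ hX) hXp).le

/-- the relation is symmetric. -/
theorem PtypePair.symm (hG : IsMinSimpleOddOrder G) {M K Ms : Subgroup G}
    (h : PtypePair M K Ms) : PtypePair Ms (kstar M K) M :=
  t14_7_of_kstar hG h.typePs h.hallKs h.typeP.coatom (by rw [h.kstar_kstar])
    (by rw [h.kstar_kstar]; exact h.hallK)

/-- a Hall `κ(M)`-subgroup of a maximal subgroup is cyclic. -/
theorem t14_7_cyclic (hG : IsMinSimpleOddOrder G) {M K : Subgroup G} (hM : IsCoatom M)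
    (hK : Hall (kappa M) K M) : IsCyclic K := by
  by_cases h1 : K = ⊥
  · subst h1
    infer_instance
  · obtain ⟨Ms, h⟩ := t14_7 hG (typeP_of_hall_ne_bot hM hK h1) hK
    exact isCyclic_of_le h.cyclic le_sup_left

/-- `M' = M_σ U` for `M` of type `𝒫` -/
theorem t14_7_der (hG : IsMinSimpleOddOrder G) {M U K : Subgroup G} (hM : TypeP M)
    (hU : KappaCompl M U K) : ⁅M, M⁆ = sigmaCore M ⊔ U :=
  (a14_der_eq hG hM hU (comm_of_isCyclic (t14_7_cyclic hG hM.coatom hU.hallK))).1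

theorem PtypePair.sigmaCore_inf {M K Ms : Subgroup G} (h : PtypePair M K Ms) :
    sigmaCore M ⊓ Ms = kstar M K :=
  h.hallKs_sigma.eq_of_le inf_le_right ((piGrp_sigmaCore M).inf_left _)
    (le_inf (kstar_le_sigmaCore M K) h.hallKs.le)

omit [Finite G] in
theorem PtypePair.K_le_sigmaCore {M K Ms : Subgroup G} (h : PtypePair M K Ms) :
    K ≤ sigmaCore Ms := h.kstar_kstar.symm.le.trans (kstar_le_sigmaCore _ _)

omit [Finite G] in
theorem PtypePair.ne {M K Ms : Subgroup G} (h : PtypePair M K Ms) : Ms ≠ M := by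
  simpa only [cj_one] using h.not_conj 1

theorem PtypePair.cj (hG : IsMinSimpleOddOrder G) {M K Ms : Subgroup G} (h : PtypePair M K Ms)
    (g : G) : PtypePair (cj g M) (cj g K) (cj g Ms) :=
  t14_7_of_kstar hG (h.typeP.cj g) (hall_kappa_cj h.hallK g) (mmax_cj g h.typePs.coatom)
    (by rw [kstar_cj, kstar_cj, h.kstar_kstar]) (by rw [kstar_cj]; exact hall_kappa_cj h.hallKs g)

theorem PtypePair.unique (hG : IsMinSimpleOddOrder G) {M K Ms Ms' : Subgroup G}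
    (h : PtypePair M K Ms) (h' : PtypePair M K Ms') : Ms' = Ms := by
  have _ := hG
  obtain ⟨X, hX, hXp⟩ := a14_exists_prime_le (h.typeP.hall_ne_bot h.hallK)
  exact (h'.uniq X hX hXp).unique (h.uniq X hX hXp)

end CL.BG
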