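import Cfsg.Agent.BG.T14_7

/-! BG Corollary 14.9 -/

namespace CL.BG

open Cfsg

variable {G : Type*} [Group G] [Finite G]

omit [Finite G] in
theorem sigmaCover_subset_sigmaTilde (M : Subgroup G) : sigmaCover M ⊆ sigmaTilde M := by
  rw [sigmaTilde_eq]
  exact subset_classSupport _

/-- BG Corollary 14.9, when there is no maximal subgroup of type `𝒫`. -/
theorem t14_9a (hG : IsMinSimpleOddOrder G) (h : ∀ M : Subgroup G, ¬ TypeP M) {g : G}
    (hg : g ≠ 1) : ∃ M : Subgroup G, IsCoatom M ∧ g ∈ sigmaTilde M := by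
  rcases t14_6 hG hg with ⟨M, hM, h1⟩ | ⟨M, hM, y, hy, hy1, y', hy', hy'1, hκ, -⟩
  · exact ⟨M, hM, sigmaCover_subset_sigmaTilde M h1⟩
  · obtain ⟨K, hP, -⟩ := a14_kappa_elt hG hM hy hy1 hy' hy'1 hκ
    exact absurd hP (h M)

/-- the set `Ẑ` is determined up to conjugacy by the conjugacy class of `M` -/
theorem a14_zhat_conj (hG : IsMinSimpleOddOrder G) {M K L : Subgroup G} (hM : IsCoatom M)
    (hK : Hall (kappa M) K M) {a : G} (hL : Hall (kappa (cj a M)) L (cj a M)) :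
    zhat L (kstar (cj a M) L) ⊆ classSupport (zhat K (kstar M K)) := by
  obtain ⟨m, hm, rfl⟩ := hall_conj (mmax_sol hG (mmax_cj a hM)) (hall_kappa_cj hK a) hL
  intro z hz
  rw [← cj_eq_of_mem hm, kstar_cj, kstar_cj, cj_cj, cj_cj] at hz
  refine ⟨m * a, (m * a)⁻¹ * z * (m * a), (conj_mem_zhat_cj (g := m * a)).1 ?_, by group⟩
  rwa [show m * a * ((m * a)⁻¹ * z * (m * a)) * (m * a)⁻¹ = z by group]

/-- `𝒞_G(Ẑ)` does not depend on the choice of `M ∈ ℳ_𝒫` and `K` -/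
theorem a14_zhat_subset (hG : IsMinSimpleOddOrder G) {M K H L : Subgroup G} (hM : TypeP M)
    (hK : Hall (kappa M) K M) (hH : TypeP H) (hL : Hall (kappa H) L H) :
    zhat L (kstar H L) ⊆ classSupport (zhat K (kstar M K)) := by
  obtain ⟨Ms, h⟩ := t14_7 hG hM hK
  obtain ⟨a, rfl | rfl⟩ := h.conj H hH
  · exact a14_zhat_conj hG hM.coatom hK hL
  · have := a14_zhat_conj hG h.typePs.coatom h.hallKs hL
    rwa [h.kstar_kstar, zhat_comm (kstar M K) K] at this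

/-- BG Corollary 14.9, covering part when there is a maximal subgroup of type `𝒫`. -/
theorem t14_9b (hG : IsMinSimpleOddOrder G) {M K : Subgroup G} (hM : TypeP M)
    (hK : Hall (kappa M) K M) {g : G} (hg : g ≠ 1) :
    (∃ N : Subgroup G, IsCoatom N ∧ g ∈ sigmaTilde N) ∨
      g ∈ classSupport (zhat K (kstar M K)) := by
  rcases t14_6 hG hg with ⟨H, hH, h1⟩ | ⟨H, hH, y, hy, hy1, y', hy', hy'1, hκ, rfl⟩
  · exact Or.inl ⟨H, hH, sigmaCover_subset_sigmaTilde H h1⟩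
  · obtain ⟨L, hP, hL, h1, h2⟩ := a14_kappa_elt hG hH hy hy1 hy' hy'1 hκ
    exact Or.inr (a14_zhat_subset hG hM hK hP hL ((mem_zhat_iff (dp_kstar hL.pi.kappa_sigma')).2
      ⟨y', h1, hy'1, y, h2, hy1, (mem_cent1.1 hy'.2).symm⟩))

/-- BG Corollary 14.9, disjointness part when there is a maximal subgroup of type `𝒫`. -/
theorem t14_9c (hG : IsMinSimpleOddOrder G) {M K N : Subgroup G} (hM : TypeP M)
    (hK : Hall (kappa M) K M) (hN : IsCoatom N) :
    Disjoint (classSupport (zhat K (kstar M K))) (sigmaTilde N) := by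
  refine Set.disjoint_left.2 ?_
  rintro _ ⟨g, z, hz, rfl⟩ h
  obtain ⟨x, hx, hx1, y, hy, hy1, rfl⟩ := (mem_zhat_iff (dp_kstar hK.pi.kappa_sigma')).1 hz
  have hc : x ∈ 𝐂₁(y) := mem_cent1_comm.1 (cent_le_cent1 hx hy.2)
  refine t14_6_not' hG hM.coatom hN hy.1 hy1 ⟨hK.le hx, hc⟩ hx1 (hK.pi.piElt hx) ?_
  rw [sigmaTilde_eq] at h ⊢
  rw [← mem_cent1.1 hc]
  simpa [mul_assoc] using conj_mem_classSupport h g⁻¹

end CL.BG
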