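import Cfsg.Agent.Base
import Cfsg.Agent.BG.T12_11
import Cfsg.Agent.BG.T1_6

/-!
# BG Theorem 12.12
-/

namespace CL.BG

open Cfsg Subgroup

variable {G : Type*} [Group G] [Finite G]

omit [Finite G] in
theorem s12_pow_exponent {V : Subgroup G} {v : G} (hv : v ∈ V) : v ^ Monoid.exponent V = 1 := by
  have := congrArg Subtype.val (Monoid.pow_exponent_eq_one (⟨v, hv⟩ : V))
  simpa using this

omit [Finite G] in
theorem s12_pow_exponent_of_cj {V : Subgroup G} {u g : G} (h : cj g (zpowers u) ≤ V) :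
    u ^ Monoid.exponent V = 1 := by
  have h1 := s12_pow_exponent (h (conj_mem_cj.2 (mem_zpowers u)))
  rw [conj_pow, mul_inv_eq_one] at h1
  simpa using h1

/-- a subgroup whose exponent kills all elements of prime power order has the same exponent -/
theorem s12_exponent_eq {V U : Subgroup G} (hle : V ≤ U)
    (h : ∀ r : ℕ, r.Prime → ∀ u ∈ U, IsPGroup r (zpowers u) → u ^ Monoid.exponent V = 1) :
    Monoid.exponent V = Monoid.exponent U := by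
  refine Nat.dvd_antisymm
    (Monoid.exponent_dvd_of_monoidHom (inclusion hle) (inclusion_injective hle)) ?_
  refine Monoid.exponent_dvd_of_forall_pow_eq_one fun u => Subtype.ext ?_
  rw [coe_pow, coe_one, ← orderOf_dvd_iff_pow_eq_one, Nat.dvd_iff_prime_pow_dvd_dvd]
  intro r k hr hd
  have ho := orderOf_pow_orderOf_div (orderOf_pos (u : G)).ne' hd
  rw [← ho, orderOf_dvd_iff_pow_eq_one]
  exact h r hr _ (U.pow_mem u.2 _) (IsPGroup.of_card (by rw [Nat.card_zpowers, ho]))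

/-- an element of maximal order of a `p`-group -/
theorem s12_exists_max_order {P : Subgroup G} {p : ℕ} (hp : p.Prime) (hP : IsPGroup p P) :
    ∃ s ∈ P, ∀ y ∈ P, y ^ orderOf s = 1 := by
  have : Fact p.Prime := ⟨hp⟩
  obtain ⟨s, hs⟩ := Finite.exists_max (fun y : P => orderOf y)
  refine ⟨s, s.2, fun y hy => ?_⟩
  obtain ⟨a, ha⟩ := IsPGroup.iff_orderOf.1 hP ⟨y, hy⟩
  obtain ⟨b, hb⟩ := IsPGroup.iff_orderOf.1 hP s
  have h1 := hs ⟨y, hy⟩
  rw [ha, hb, Nat.pow_le_pow_iff_right hp.one_lt] at h1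
  rw [← orderOf_dvd_iff_pow_eq_one, orderOf_coe, hb, ← orderOf_mk (ha := hy), ha]
  exact pow_dvd_pow p h1

theorem s12_reg_of_not_norm_le (hG : IsMinSimpleOddOrder G) {M X : Subgroup G} (hM : IsCoatom M)
    {p : ℕ} (hp : p ∈ tau2 M) (hX : ElemN p 1 M X) (hN : ¬ 𝐍(X) ≤ M) :
    sigmaCore M ⊓ 𝐂(X) = ⊥ := by
  have : Fact p.Prime := ⟨hp.1⟩
  by_contra hc
  exact hN ((t12_6c hG hM hp hX hc).le_of_le (cent_le_norm X)
    (mFT_norm_pgroup_ne_top hG hX.isPGroup (hX.ne_bot hp.1 one_pos)))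

/-- the key step of 12.12: a `p'`-element of `N(S)` acting neither trivially nor regularly -/
theorem s12_12_nonreg (hG : IsMinSimpleOddOrder G) {M E U A S : Subgroup G} (hM : IsCoatom M)
    (hE : Hall (sigma M)ᶜ E M) (hU : IsHall U E)
    (hreg : ∀ e ∈ U, e ≠ 1 → PiElt (tau1 M ∪ tau3 M) e → sigmaCore M ⊓ 𝐂₁(e) = ⊥)
    {p : ℕ} (hp : p ∈ tau2 M) (hA : ElemN p 2 E A) (hS : SylowOf p S ⊤) (hAS : A ≤ S)
    (hSc : IsMulCommutative S) (hUS : ¬ U ≤ 𝐂(S)) :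
    ∃ X : Subgroup G, X ≤ 𝐍(S) ∧ (Nat.card S).Coprime (Nat.card X) ∧ S ⊓ 𝐂(X) ≠ ⊥ ∧
      ¬ X ≤ 𝐂(S) := by
  have : Fact p.Prime := ⟨hp.1⟩
  obtain ⟨q, hq, hd, hQ⟩ : ∃ q : ℕ, q.Prime ∧ q ∣ Nat.card U ∧
      ∀ P : Subgroup G, SylowOf q P U → ¬ P ≤ 𝐂(S) := by
    by_contra hc
    push Not at hc
    exact hUS (le_of_forall_exists_sylow_le hc)
  have : Fact q.Prime := ⟨hq⟩
  obtain ⟨Q₁, hQ₁U⟩ := sylow_exists q U
  have hQ₁S := hQ Q₁ hQ₁U
  have hQ₁ : SylowOf q Q₁ E := hQ₁U.trans_hall hU.hall ⟨hq, hd⟩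
  obtain ⟨-, E₂, E₃, -, -, h₂, h₃, -⟩ := ex_sigmaCompl hG hM hE
  have eN := (t12_8d hG hM hE h₂ h₃ hp hA hS hAS hSc).1
  have hES : E ≤ 𝐍(S) := (t12_6a hG hM hE hp hA).1.norm.trans eN.le
  have hCS := (t12_8c hG hM hE hp hA hS hAS hSc).2.2.2
  have hqp : p ≠ q := by
    rintro rfl
    exact hQ₁S ((hS.le_of_le_norm' hQ₁.isPGroup le_top (hQ₁.hall.le.trans hES)).trans
      (le_cent_of_comm hSc))
  have hQ₁A : ¬ Q₁ ≤ 𝐂(A) := fun h => hQ₁S (t1_6e_p hS.isPGroup (hQ₁.hall.le.trans hES)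
    (coprime_card_of_isPGroup_of_ne hp.1 hq hqp hS.isPGroup hQ₁.isPGroup) hSc
    (by rwa [s12_omega_sylow hG hM hp (hA.mono hE.le) hAS hSc]))
  obtain ⟨hCn, hτ, -⟩ := t12_10c hG hM hE hp hA
  have hd1 : q ∣ (E ⊓ 𝐂(A)).relIndex E := by
    by_contra hc
    exact hQ₁A ((hQ₁.hall.pi.le_of_relIndex hCn hQ₁.hall.le
      ((piNat_compl_singleton_iff hq).2 hc)).trans inf_le_right)
  have hq1 : q ∈ tau1 M := piNat_iff.1 hτ q hq hd1
  have hQ₁c := tau13_isCyclic hG (Or.inl hq1) (hQ₁.hall.le.trans hE.le) hQ₁.isPGroup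
  have hX := elemN_omegaOne_of_isCyclic_pgroup hq hQ₁c hQ₁.isPGroup fun h => hQ₁A (h ▸ bot_le)
  have hXZ : omegaOne q Q₁ ≤ 𝐙(E) := by
    refine t12_8e hG hM hE hp hS hSc hq1 (hX.mono hQ₁.hall.le) ?_
    obtain ⟨x, hx, h1, ho, -⟩ := hX.exists_zpowers hq
    rw [hX.cent_eq_cent1 hq hx h1]
    exact hreg x (hQ₁U.hall.le (hX.le hx)) h1
      ((piElt_iff_of_orderOf_prime hq ho).2 (Or.inl hq1))
  have hd2 : q ∣ Nat.card ↥(E ⊓ 𝐂(A)) :=
    (hX.of_le (hXZ.trans (inf_le_inf_left E (cent_anti hA.le)))).dvd_card' one_pos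
  obtain ⟨L, hL, hNL⟩ :=
    mmax_exists (mFT_norm_pgroup_ne_top hG hA.isPGroup (hA.ne_bot hp.1 two_pos))
  obtain ⟨hq2, ⟨P, hP, hPn⟩, -⟩ := (t12_11 hG hM hE hp hA hL hNL).2.2 q hq hd1 hd2
  have hLS : L ≤ 𝐍(S) := by
    have h1 : S ≤ P := (hP.hall.restrict hPn.le le_top).le_of_normal hPn.norm
      ((le_norm_self S).trans (eN.ge.trans hNL)) hS.hall.pi
    rw [← hS.eq_of_le' hP.isPGroup h1 le_top]
    exact hPn.norm
  obtain ⟨Q, hQL, hQ₁Q⟩ := sylow_superset hQ₁.isPGroup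
    (hQ₁.hall.le.trans (hES.trans (eN.ge.trans hNL)))
  have hQc := t12_5b1 hG hL hq2 hQL.isPGroup hQL.hall.le
  have hQS : Q ≤ 𝐍(S) := hQL.hall.le.trans hLS
  have hcop := coprime_card_of_isPGroup_of_ne hp.1 hq hqp hS.isPGroup hQL.isPGroup
  by_contra hcon
  push Not at hcon
  -- `Q / C_Q(S)` is cyclic
  obtain ⟨B, hBQ, ⟨a, ha, hBa⟩, hB⟩ : ∃ B : Subgroup G, B ≤ Q ∧ (∃ a ∈ Q, B ⊔ zpowers a = Q) ∧
      S ⊓ 𝐂(B) ≠ ⊥ := by
    by_contra hc
    push Not at hc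
    exact ne_bot_of_le (hA.ne_bot hp.1 two_pos) hAS
      (eq_bot_iff.2 (t1_16b hQc hQS hcop fun B h1 h2 => (hc B h1 h2).le))
  have hB₀ : B ≤ Q ⊓ 𝐂(S) :=
    le_inf hBQ (hcon B (hBQ.trans hQS) (coprime_card_mono hcop le_rfl hBQ) hB)
  have hn₀ : Q ≤ 𝐍(Q ⊓ 𝐂(S)) := (NormalIn.of_comm hQc inf_le_left).norm
  have h01 : Q ⊓ 𝐂(S) ≤ Q₁ := hQ₁.le_of_le_norm' (hQL.isPGroup.to_le inf_le_left)
    (inf_le_right.trans hCS) (inf_le_left.trans (NormalIn.of_comm hQc hQ₁Q).norm)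
  have hcyc : IsCyclic (quot (Q ⊓ 𝐂(S)) Q) := by
    have h1 : quot (Q ⊓ 𝐂(S)) Q ≤ quot (Q ⊓ 𝐂(S)) (zpowers a) :=
      (quot_le_quot_iff hn₀ ((zpowers_le.2 ha).trans hn₀)).2
        (hBa.ge.trans (sup_le (hB₀.trans le_sup_right) le_sup_left))
    exact isCyclic_of_le (quot_isCyclic _ inferInstance) h1
  have h4 := omegaOne_le_of_isCyclic hq hcyc (quot_isPGroup _ hQL.isPGroup) (quot_mono _ hQ₁Q)
    fun h => hQ₁S (((quot_eq_bot_iff (hQ₁Q.trans hn₀)).1 h).trans inf_le_right)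
  have h5 : omegaOne q Q ≤ Q₁ :=
    (quot_le_quot_iff_of_le ((omegaOne_le q Q).trans hn₀) h01).1
      ((quot_omegaOne_le q hn₀).trans h4)
  have h6 := (pRank_mono hq h5).trans (pRank_le_one_of_isCyclic hq hQ₁c)
  rw [pRank_omegaOne hq, hQL.pRank_eq hq, s12_tau2_rank hq2] at h6
  omega

/-- the cyclic subgroup `Z_p` of the proof of 12.12 -/
theorem s12_12_cyclic (hG : IsMinSimpleOddOrder G) {M E U A S : Subgroup G} (hM : IsCoatom M)
    (hE : Hall (sigma M)ᶜ E M) (hU : IsHall U E)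
    (hreg : ∀ e ∈ U, e ≠ 1 → PiElt (tau1 M ∪ tau3 M) e → sigmaCore M ⊓ 𝐂₁(e) = ⊥)
    {p : ℕ} (hp : p ∈ tau2 M) (hA : ElemN p 2 E A) (hS : SylowOf p S ⊤) (hAS : A ≤ S)
    (hSc : IsMulCommutative S) :
    ∃ z ∈ S, U ≤ 𝐍(zpowers z) ∧ (∀ y ∈ S, y ^ orderOf z = 1) ∧
      ∀ X : Subgroup G, ElemN p 1 (zpowers z) X → sigmaCore M ⊓ 𝐂(X) = ⊥ := by
  have : Fact p.Prime := ⟨hp.1⟩
  obtain ⟨-, E₂, E₃, -, -, h₂, h₃, -⟩ := ex_sigmaCompl hG hM hE
  have eN := (t12_8d hG hM hE h₂ h₃ hp hA hS hAS hSc).1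
  have hNM : ¬ 𝐍(S) ≤ M := eN ▸ (t12_6b hG hM hE hp hA).2.2
  have hSM : S ≤ M :=
    ((le_cent_of_comm hSc).trans (t12_8c hG hM hE hp hA hS hAS hSc).2.2.2).trans hE.le
  by_cases hUS : U ≤ 𝐂(S)
  · have hn : ∀ z ∈ S, U ≤ 𝐍(zpowers z) := fun z hz =>
      le_norm_of_le_cent (hUS.trans (cent_anti (zpowers_le.2 hz)))
    obtain ⟨s, hs, hmax⟩ := s12_exists_max_order hp.1 hS.isPGroup
    by_cases h : ∀ X : Subgroup G, ElemN p 1 (zpowers s) X → sigmaCore M ⊓ 𝐂(X) = ⊥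
    · exact ⟨s, hs, hn s hs, hmax, h⟩
    push Not at h
    obtain ⟨X₀, hX₀, hC₀⟩ := h
    have hu₀ := t12_6c hG hM hp (hX₀.mono ((zpowers_le.2 hs).trans hSM)) hC₀
    obtain ⟨g, hg, hgM⟩ := SetLike.not_le_iff_exists.1 hNM
    have hz := conj_mem_of_mem_norm hg hs
    refine ⟨g * s * g⁻¹, hz, hn _ hz, fun y hy => ?_, fun X hX => ?_⟩
    · have e : orderOf (g * s * g⁻¹) = orderOf s := by
        rw [← Nat.card_zpowers, ← cj_zpowers, card_cj, Nat.card_zpowers]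
      rw [e]
      exact hmax y hy
    · have h1 := hX₀.cj g
      rw [cj_zpowers] at h1
      have e := hX.eq_of_isCyclic h1 inferInstance
      by_contra hc
      have h2 := (t12_6c hG hM hp (hX.mono ((zpowers_le.2 hz).trans hSM)) hc).le
      rw [e, ← cj_cent] at h2
      exact hgM (hu₀.mem_of_cj_le hG h2)
  · obtain ⟨X, hXS, hcop, hne, hXc⟩ := s12_12_nonreg hG hM hE hU hreg hp hA hS hAS hSc hUS
    have hdp := t1_6d hXS hcop hSc
    obtain ⟨n2, n1⟩ := t12_8f hG hM hE hp hA hS hAS hSc hXS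
    have hne' : ⁅S, X⁆ ≠ ⊥ := fun h => hXc (commutator_eq_bot_iff''.1 h)
    have hUN : U ≤ 𝐍(S) := hU.le.trans ((t12_6a hG hM hE hp hA).1.norm.trans eN.le)
    have key : ∀ S₁ S₂ : Subgroup G, DP S₁ S₂ S → S₁ ⊴ 𝐍(S) → S₂ ≠ ⊥ →
        Nat.card S₂ ∣ Nat.card S₁ →
        ∃ z ∈ S, U ≤ 𝐍(zpowers z) ∧ (∀ y ∈ S, y ^ orderOf z = 1) ∧
          ∀ X : Subgroup G, ElemN p 1 (zpowers z) X → sigmaCore M ⊓ 𝐂(X) = ⊥ := by
      intro S₁ S₂ h hn h2 hd
      have r1 := h.pRank_eq hp.1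
      have r2 := pRank_pos_of_isPGroup hp.1 (hS.isPGroup.to_le h.right_le) h2
      have r3 := (pRank_mono hp.1 hSM).trans (s12_tau2_rank hp).le
      have hc : IsCyclic S₁ := isCyclic_of_pRank_le_one hp.1 (hS.isPGroup.to_le h.left_le)
        (mFT_odd hG _) (by omega)
      obtain ⟨z, hz, rfl⟩ := exists_zpowers_of_isCyclic hc
      refine ⟨z, h.left_le hz, hUN.trans hn.norm, fun y hy => ?_, fun Y hY => ?_⟩
      · obtain ⟨a, ha, b, hb, rfl⟩ := h.exists_mul hy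
        rw [(h.cp.commute ha hb).mul_pow, ← Nat.card_zpowers,
          orderOf_dvd_iff_pow_eq_one.1 (orderOf_dvd_card' ha),
          orderOf_dvd_iff_pow_eq_one.1 ((orderOf_dvd_card' hb).trans hd), mul_one]
      · exact s12_reg_of_not_norm_le hG hM hp (hY.mono (h.left_le.trans hSM))
          fun h' => hNM ((hn.of_isCyclic hc hY.le).norm.trans h')
    obtain ⟨a, ha⟩ := (hS.isPGroup.to_le hdp.left_le).exists_card_eq
    obtain ⟨b, hb⟩ := (hS.isPGroup.to_le hdp.right_le).exists_card_eq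
    rcases le_total a b with h | h
    · exact key _ _ hdp.symm n2 hne' (by rw [ha, hb]; exact pow_dvd_pow p h)
    · exact key _ _ hdp n1 hne (by rw [ha, hb]; exact pow_dvd_pow p h)

/-- centralisers in `U` of nonidentity elements of `M_σ` are `τ₂(M)`-groups -/
theorem s12_12_tau2 (hG : IsMinSimpleOddOrder G) {M U : Subgroup G} (hM : IsCoatom M)
    (hUM : U ≤ M) (hU : PiGrp (sigma M)ᶜ U)
    (hreg : ∀ e ∈ U, e ≠ 1 → PiElt (tau1 M ∪ tau3 M) e → sigmaCore M ⊓ 𝐂₁(e) = ⊥)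
    {x : G} (hx : x ∈ sigmaCore M) (h1 : x ≠ 1) : PiGrp (tau2 M) (U ⊓ 𝐂₁(x)) := by
  refine piGrp_iff.2 fun q hq hd => ?_
  obtain ⟨e, he, ho⟩ := exists_orderOf_eq_of_dvd_card hq hd
  have he1 : e ≠ 1 := by
    rintro rfl
    exact hq.one_lt.ne (by rw [← ho, orderOf_one])
  by_contra hc
  refine ne_bot_of_mem (mem_inf.2 ⟨hx, mem_cent1_comm.1 he.2⟩) h1 (hreg e he.1 he1
    ((piElt_iff_of_orderOf_prime hq ho).2 ?_))
  rcases s12_tau_cases hG hM hUM hU hq (hd.trans (card_dvd_of_le inf_le_left)) with h | h | h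
  · exact Or.inl h
  · exact absurd h hc
  · exact Or.inr h

/-- BG 12.12, generalised (as in the Coq proof) to a normal Hall subgroup `U` of `E`. -/
theorem t12_12 (hG : IsMinSimpleOddOrder G) {M E U : Subgroup G} (hM : IsCoatom M)
    (hE : Hall (sigma M)ᶜ E M) (hU : IsHall U E) (hUE : U ⊴ E)
    (hreg : ∀ e ∈ U, e ≠ 1 → PiElt (tau1 M ∪ tau3 M) e → sigmaCore M ⊓ 𝐂₁(e) = ⊥) :
    (∃ A₀ : Subgroup G, A₀ ⊴ U ∧ IsMulCommutative A₀ ∧
        ∀ x ∈ sigmaCore M, x ≠ 1 → U ⊓ 𝐂₁(x) ≤ A₀) ∧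
      ∃ V : Subgroup G, V ≤ U ∧ Monoid.exponent V = Monoid.exponent U ∧
        Semiregular (sigmaCore M) V := by
  have hUM := hU.le.trans hE.le
  have hUσ := hE.pi.of_le hU.le
  have hsol := mmax_sub_sol hG hM hUM
  have hτ := fun x hx h1 => s12_12_tau2 hG hM hUM hUσ hreg (x := x) hx h1
  by_cases h0 : PiGrp (tau2 M)ᶜ U
  · have h1 : ∀ x ∈ sigmaCore M, x ≠ 1 → U ⊓ 𝐂₁(x) = ⊥ := fun x hx h1 =>
      (hτ x hx h1).eq_bot (h0.inf_left _)
    exact ⟨⟨⊥, NormalIn.bot U, inferInstance, fun x hx h => (h1 x hx h).le⟩,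
      U, le_rfl, rfl, Semiregular.symm h1⟩
  obtain ⟨p, hpp, hpd, hp⟩ : ∃ p : ℕ, p.Prime ∧ p ∣ Nat.card U ∧ p ∈ tau2 M := by
    by_contra hc
    push Not at hc
    exact h0 (piGrp_iff.2 hc)
  have : Fact p.Prime := ⟨hpp⟩
  have hle : ∀ (r : ℕ) (R : Subgroup G), r.Prime → r ∣ Nat.card U → IsPGroup r R → R ≤ E →
      R ≤ U := fun r R hr hd h1 h2 =>
    hU.hall.le_of_normal hUE.norm h2 (piGrp_of_isPGroup hr h1 ⟨hr, hd⟩)
  obtain ⟨S, hS⟩ := sylow_exists p (⊤ : Subgroup G)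
  by_cases hSc : IsMulCommutative S
  · obtain ⟨E₂, h₂⟩ := hall_exists (tau2 M) (mmax_sub_sol hG hM hE.le)
    obtain ⟨n2, c2, t2⟩ := t12_8ab hG hM hE h₂ hp hS hSc
    refine ⟨⟨U ⊓ E₂, n2.inf_left hU.le, comm_of_le c2 inf_le_right, fun x hx h1 =>
      le_inf inf_le_left (h₂.le_of_normal n2.norm (inf_le_left.trans hU.le) (hτ x hx h1))⟩, ?_⟩
    have claim : ∀ r : ℕ, ∃ Z : Subgroup G, Z ≤ U ⊓ E₂ ∧ PiGrp {r} Z ∧ U ≤ 𝐍(Z) ∧
        (∀ X : Subgroup G, ElemN r 1 Z X → r.Prime → sigmaCore M ⊓ 𝐂(X) = ⊥) ∧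
        (r ∈ tau2 M → r ∣ Nat.card U →
          ∃ z ∈ Z, ∀ y ∈ U, IsPGroup r (zpowers y) → y ^ orderOf z = 1) := by
      intro r
      by_cases hr : r ∈ tau2 M ∧ r ∣ Nat.card U
      · obtain ⟨hr, hd⟩ := hr
        have : Fact r.Prime := ⟨hr.1⟩
        obtain ⟨R, hR, hRE⟩ := t2.exists_sylow hr
        have hRc := comm_of_le c2 hRE
        have hR₂ : SylowOf r R E₂ := hR.hall.restrict hRE le_top
        have hin : ∀ Y : Subgroup G, IsPGroup r Y → Y ≤ E → Y ≤ R := fun Y h1 h2 =>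
          nil_pgroup_le_sylow (nil_of_comm c2) hR₂
            (h₂.le_of_normal n2.norm h2 (piGrp_of_isPGroup hr.1 h1 hr)) h1
        obtain ⟨B, hB⟩ := ex_tau2Elem hG hM hE hr
        obtain ⟨z, hz, h1, h2, h3⟩ :=
          s12_12_cyclic hG hM hE hU hreg hr hB hR (hin B hB.isPGroup hB.le) hRc
        have hzR := zpowers_le.2 hz
        refine ⟨zpowers z, hzR.trans (le_inf (hle r R hr.1 hd hR.isPGroup (hRE.trans h₂.le)) hRE),
          hR.hall.pi.of_le hzR, h1, fun X hX _ => h3 X hX, fun _ _ => ⟨z, mem_zpowers z, ?_⟩⟩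
        intro y hy hy'
        exact h2 y (hin _ hy' ((zpowers_le.2 hy).trans hU.le) (mem_zpowers y))
      · refine ⟨⊥, bot_le, piGrp_bot _, by rw [norm_bot]; exact le_top, fun X hX hr' => ?_,
          fun h1 h2 => absurd ⟨h1, h2⟩ hr⟩
        exact absurd (eq_bot_iff.2 hX.le) (hX.ne_bot hr' one_pos)
    choose Z hZ1 hZ2 hZ3 hZ4 hZ5 using claim
    obtain ⟨H, hH⟩ := hall_exists (tau2 M)ᶜ hsol
    have hW : (⨆ r, Z r) ≤ U ⊓ E₂ := iSup_le hZ1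
    have hWn : U ≤ 𝐍(⨆ r, Z r) := norms_iSup hZ3
    have hVU : (⨆ r, Z r) ⊔ H ≤ U := sup_le (hW.trans inf_le_left) hH.le
    refine ⟨(⨆ r, Z r) ⊔ H, hVU, s12_exponent_eq hVU fun r hr u hu hu' => ?_,
      semiregular_of_prime fun X hX hr => ?_⟩
    · by_cases hr2 : r ∈ tau2 M
      · by_cases h1 : u = 1
        · rw [h1, one_pow]
        obtain ⟨z, hz, h⟩ := hZ5 r hr2 ((dvd_card_of_isPGroup hr hu'
          (ne_bot_of_mem (mem_zpowers u) h1)).trans (card_dvd_of_le (zpowers_le.2 hu)))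
        have h2 := s12_pow_exponent (((le_iSup Z r).trans le_sup_left : Z r ≤ (⨆ r, Z r) ⊔ H) hz)
        rw [← orderOf_dvd_iff_pow_eq_one] at h2 ⊢
        exact (orderOf_dvd_iff_pow_eq_one.2 (h u hu hu')).trans h2
      · obtain ⟨g, -, hg⟩ := hall_conj_le hsol hH (zpowers_le.2 hu) (piGrp_of_isPGroup hr hu' hr2)
        exact s12_pow_exponent_of_cj (hg.trans le_sup_right)
    · have hX1 : ElemN (Nat.card X) 1 U X := elemN_one_of_card hr (hX.trans hVU) rfl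
      generalize Nat.card X = r at hr hX1
      by_cases hr2 : r ∈ tau2 M
      · have h1 : X ≤ ⨆ r, Z r :=
          ((Hall.self (h₂.pi.of_le (hW.trans inf_le_right))).sup_of_compl hH.pi
            (hH.le.trans hWn)).le_of_normal (NormalIn.sup_left (hH.le.trans hWn)).norm hX
            (hX1.piGrp hr hr2)
        have hZE := (hZ1 r).trans inf_le_right
        have hn : piCoreOf {r}ᶜ E₂ ≤ 𝐍(Z r) :=
          (piCoreOf_le _ _).trans (NormalIn.of_comm c2 hZE).norm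
        have h2 : (⨆ r, Z r) ≤ Z r ⊔ piCoreOf {r}ᶜ E₂ := by
          refine iSup_le fun t => ?_
          by_cases ht : t = r
          · rw [ht]
            exact le_sup_left
          · exact (nil_le_core (nil_of_comm c2) ((hZ1 t).trans inf_le_right)
              ((hZ2 t).mono (Set.singleton_subset_iff.2 ht))).trans le_sup_right
        have h3 : X ≤ Z r :=
          ((Hall.self (hZ2 r)).sup_of_compl (piGrp_piCoreOf _ _) hn).le_of_normal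
            (NormalIn.sup_left hn).norm (h1.trans h2) (hX1.piGrp hr rfl)
        exact hZ4 r X (hX1.of_le h3) hr
      · obtain ⟨x, hx, h1, ho, -⟩ := hX1.exists_zpowers hr
        rw [hX1.cent_eq_cent1 hr hx h1]
        refine hreg x (hX1.le hx) h1 ((piElt_iff_of_orderOf_prime hr ho).2 ?_)
        rcases s12_tau_cases hG hM hUM hUσ hr (hX1.dvd_card' one_pos) with h | h | h
        · exact Or.inl h
        · exact absurd h hr2
        · exact Or.inr h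
  · obtain ⟨A, hA⟩ := ex_tau2Elem hG hM hE hp
    have hAU := hle p A hpp hpd hA.isPGroup hA.le
    obtain ⟨-, ⟨hc₀, -⟩, -, E₀, hE₀, hE₀τ⟩ := t12_7 hG hM hE hp hA hS.isPGroup hSc
    have hA₀ : ElemN p 1 A (A ⊓ 𝐂(sigmaCore M)) := elemN_one_of_card hpp inf_le_left hc₀
    have hA₀c : A ⊓ 𝐂(sigmaCore M) ≤ 𝐂(sigmaCore M) := inf_le_right
    generalize A ⊓ 𝐂(sigmaCore M) = A₀ at hE₀ hA₀ hA₀c
    have hA₀U := hA₀.le.trans hAU
    have hV := hE₀.modl' hA₀U hU.le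
    have hVreg : ∀ x ∈ sigmaCore M, x ≠ 1 → E₀ ⊓ U ⊓ 𝐂₁(x) = ⊥ := fun x hx h1 =>
      ((hτ x hx h1).of_le (inf_le_inf_right _ inf_le_right)).eq_bot
        (((hE₀τ x hx h1).of_le (inf_le_inf_right _ inf_le_left)).mono fun _ h => s12_tau1_not2 h)
    refine ⟨⟨A₀, hV.normalIn, hA₀.comm, fun x hx h1 => ?_⟩, E₀ ⊓ U, inf_le_right,
      s12_exponent_eq inf_le_right fun r hr u hu hu' => ?_, Semiregular.symm hVreg⟩
    · have h2 := hV.modl' (le_inf hA₀U (hA₀c.trans (cent_le_cent1 hx))) inf_le_left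
      rw [← inf_assoc, inf_assoc E₀, inf_idem, hVreg x hx h1] at h2
      exact h2.left_eq_of_bot.ge
    · by_cases hrp : r = p
      · subst hrp
        obtain ⟨P, hP, huP⟩ := sylow_superset hu' (zpowers_le.2 hu)
        have hPc := t12_5b1 hG hM hp hP.isPGroup (hP.hall.le.trans hUM)
        have hA₀P := hP.normal_le' hA₀.isPGroup hV.normalIn
        obtain ⟨a, ha, v, hv, rfl⟩ := (hV.modl' hA₀P hP.hall.le).exists_mul (huP (mem_zpowers u))
        have hd : r ∣ Monoid.exponent ↥(E₀ ⊓ U) := by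
          have h1 : r ^ 2 ∣ Nat.card U := hA.card ▸ card_dvd_of_le hAU
          rw [← hV.card, hA₀.card_one, pow_two] at h1
          obtain ⟨w, hw, ho⟩ := exists_orderOf_eq_of_dvd_card hr
            ((Nat.mul_dvd_mul_iff_left hr.pos).1 h1)
          rw [← ho, orderOf_dvd_iff_pow_eq_one]
          exact s12_pow_exponent hw
        have hc : Commute a v := mem_cent.1 (le_cent_of_comm hPc hv.2) a (hA₀P ha)
        rw [hc.mul_pow, s12_pow_exponent hv.1, mul_one, ← orderOf_dvd_iff_pow_eq_one]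
        exact (orderOf_dvd_iff_pow_eq_one.2 (hA₀.pow_eq_one ha)).trans hd
      · have : Fact r.Prime := ⟨hr⟩
        obtain ⟨R, hR⟩ := sylow_exists r (E₀ ⊓ U)
        have hRU : SylowOf r R U := hR.trans_not_dvd inf_le_right (by
          rw [hV.relIndex_right, hA₀.card_one]
          exact fun h => hrp ((Nat.prime_dvd_prime_iff_eq hr hpp).1 h))
        obtain ⟨g, -, hg⟩ := sylow_conj_le hRU hu' (zpowers_le.2 hu)
        exact s12_pow_exponent_of_cj (hg.trans hR.hall.le)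

end CL.BG
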