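import Cfsg.Agent.BG.T14_2
import Cfsg.Agent.BG.T12_11

/-! BG Corollary 14.3 -/

namespace CL.BG

open Cfsg Subgroup

variable {G : Type*} [Group G] [Finite G]

/-- a `σ(M)`-element lies in the `σ`-core of a conjugate of `M` -/
theorem a14_exists_cj_mem_sigmaCore (hG : IsMinSimpleOddOrder G) {M : Subgroup G}
    (hM : IsCoatom M) {x : G} (hx : PiElt (sigma M) x) : ∃ g : G, x ∈ sigmaCore (cj g M) := by
  obtain ⟨g, hg⟩ := t12_16a hG hM (piGrp_zpowers.2 hx)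
  refine ⟨g⁻¹, ?_⟩
  rw [sigmaCore_cj]
  exact cj_le_iff_le_cj_inv.1 hg (mem_zpowers x)

/-- an element of `M` whose order is divisible by a prime of `τ₁(M) ∪ τ₃(M)`, has order prime to
`σ(M)` and centralizes `x ∈ M_σ^#` lies in a Hall `κ(M)`-subgroup `K` with `x ∈ K*` -/
theorem a14_3_kappa (hG : IsMinSimpleOddOrder G) {M : Subgroup G} (hM : IsCoatom M) {x x' : G}
    (hx : x ∈ sigmaCore M) (hx1 : x ≠ 1) (hx' : x' ∈ M ⊓ 𝐂₁(x))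
    (hσ : PiElt (sigma M)ᶜ x') {p : ℕ} (hd : p ∣ orderOf x') (hτ : p ∈ tau1 M ∨ p ∈ tau3 M) :
    ∃ K : Subgroup G, TypeP M ∧ Hall (kappa M) K M ∧ x' ∈ K ∧ x ∈ kstar M K := by
  have hp := (mem_tau1_or_tau3_iff.1 hτ).1
  obtain ⟨X, hX, hc⟩ := a14_exists_le_zpowers hp hd
  have hXM : X ≤ M := hX.trans (zpowers_le.2 hx'.1)
  have hxX : x ∈ sigmaCore M ⊓ 𝐂(X) := ⟨hx, a14_cent1_le_cent hX (mem_cent1_comm.1 hx'.2)⟩
  have hκ := mem_kappa_of_cent hG hτ hXM hc (ne_bot_of_mem hxX hx1)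
  obtain ⟨K, hK, hXK⟩ := hall_superset (π := kappa M) (mmax_sol hG hM) hXM
    ((piGrp_iff_of_card_prime hp hc).2 hκ)
  have hXp : (Nat.card X).Prime := hc ▸ hp
  refine ⟨K, typeP_of_mem_kappa hM hκ, hK, ?_, ?_⟩
  · have h1 : x' ∈ K ⊔ kstar M K := by
      rw [← t14_2b1 hG hM hK hXK hXp]
      exact ⟨hx'.1, cent_le_norm X (a14_mem_cent_of_le_zpowers hX)⟩
    have hdp := dp_kstar (M := M) hK.pi.kappa_sigma'
    have := hdp.piPart_mem hK.pi.kappa_sigma' (by rw [compl_compl]; exact kstar_pi M K) h1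
    rwa [piPart_eq_self hσ] at this
  · rw [← t14_2a_cent hG hM hK hXK (ne_bot_of_card_prime hXp)]
    exact hxX

/-- `τ₂(M) ⊆ σ(L)` for a suitable maximal subgroup `L` -/
theorem a14_tau2_sub_sigma (hG : IsMinSimpleOddOrder G) {M : Subgroup G} (hM : IsCoatom M)
    {p : ℕ} (hp : p ∈ tau2 M) : ∃ L : Subgroup G, IsCoatom L ∧ tau2 M ⊆ sigma L := by
  have := Fact.mk hp.1
  obtain ⟨E, hE⟩ := hall_exists (sigma M)ᶜ (mmax_sol hG hM)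
  obtain ⟨A, hA⟩ := ex_tau2Elem hG hM hE hp
  obtain ⟨L, hL, hN⟩ :=
    mmax_exists (mFT_norm_pgroup_ne_top hG hA.isPGroup (hA.ne_bot hp.1 two_pos))
  exact ⟨L, hL, fun q hq => ((t12_11 hG hM hE hp hA hL hN).1 q hq).1⟩

/-- BG Corollary 14.3. -/
theorem t14_3 (hG : IsMinSimpleOddOrder G) {M : Subgroup G} (hM : IsCoatom M) {x x' : G}
    (hx : x ∈ sigmaCore M) (hx1 : x ≠ 1) (hx' : x' ∈ M ⊓ 𝐂₁(x)) (hx'1 : x' ≠ 1)
    (hσ : PiElt (sigma M)ᶜ x') :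
    (PiElt (kappa M) x' ∧ 𝐂₁(x) ≤ M) ∨
      (PiElt (tau2 M) x' ∧ (∃ L : Subgroup G, IsCoatom L ∧ x' ∈ sigmaCore L) ∧
        UniqMax 𝐂₁(x') M) := by
  by_cases hτ : PiElt (tau2 M) x'
  · refine Or.inr ⟨hτ, ?_, t12_10e hG hM hx'.1 hx'1 hτ
      (ne_bot_of_mem (x := x) ⟨hx, mem_cent1_comm.1 hx'.2⟩ hx1)⟩
    obtain ⟨p, hp, hd, -⟩ := exists_prime_order_mem_zpowers hx'1
    obtain ⟨L, hL, hs⟩ := a14_tau2_sub_sigma hG hM (hτ p hp hd)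
    obtain ⟨g, hg⟩ := a14_exists_cj_mem_sigmaCore hG hL (hτ.mono hs)
    exact ⟨_, mmax_cj g hL, hg⟩
  · rw [piElt_iff] at hτ
    push Not at hτ
    obtain ⟨p, hp, hd, h2⟩ := hτ
    have h13 : p ∈ tau1 M ∨ p ∈ tau3 M := by
      have := s12_tau_cases hG hM (zpowers_le.2 hx'.1) (piGrp_zpowers.2 hσ) hp
        (by rwa [Nat.card_zpowers])
      tauto
    obtain ⟨K, hP, hK, h1, h2⟩ := a14_3_kappa hG hM hx hx1 hx' hσ hd h13
    exact Or.inl ⟨hK.pi.piElt h1, t14_2c_elt hG hP hK h2 hx1⟩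

/-- a nontrivial `κ(M)`-element of `M` centralizing `x ∈ M_σ^#` lies in a Hall
`κ(M)`-subgroup `K` with `x ∈ K*` -/
theorem a14_kappa_elt (hG : IsMinSimpleOddOrder G) {M : Subgroup G} (hM : IsCoatom M) {x x' : G}
    (hx : x ∈ sigmaCore M) (hx1 : x ≠ 1) (hx' : x' ∈ M ⊓ 𝐂₁(x)) (hx'1 : x' ≠ 1)
    (hκ : PiElt (kappa M) x') :
    ∃ K : Subgroup G, TypeP M ∧ Hall (kappa M) K M ∧ x' ∈ K ∧ x ∈ kstar M K := by
  obtain ⟨p, hp, hd, -⟩ := exists_prime_order_mem_zpowers hx'1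
  exact a14_3_kappa hG hM hx hx1 hx' hκ.kappa_sigma' hd (tau13_of_mem_kappa (hκ p hp hd))

end CL.BG
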