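import Cfsg.Agent.BG.A15_Defs
import Cfsg.Agent.BG.A13_Basic
import Cfsg.Agent.BG.T12_5
import Cfsg.Agent.BG.T12_10
import Cfsg.Agent.BG.T12_12
import Cfsg.Agent.BG.T14_3
import Cfsg.Agent.BG.T14_7

/-! # Bender-Glauberman Lemma 15.1 -/

namespace CL.BG

open Cfsg Subgroup

variable {G : Type*} [Group G] [Finite G]

/-- BG 15.1(a) (Coq `kappa_structure`). -/
theorem t15_1a (hG : IsMinSimpleOddOrder G) {M U K : Subgroup G} (hM : IsCoatom M)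
    (hU : KappaCompl M U K) :
    SDP (sigmaCore M) U (sigmaCore M ⊔ U) ∧ SDP (sigmaCore M ⊔ U) K M ∧ IsCyclic K ∧
      ⁅⁅M, M⁆, ⁅M, M⁆⁆ ≤ sigmaCore M := by
  obtain ⟨hE, h1, h2, -⟩ := t14_2a hG hM hU
  refine ⟨(h1.assoc' h2).1, (h1.assoc' h2).2, t14_7_cyclic hG hM hU.hallK, ?_⟩
  have hn : ⁅U ⊔ K, U ⊔ K⁆ ≤ 𝐍(sigmaCore M) := (NormalIn.der _).le.trans h2.norm
  refine ((commutator_mono h2.der_le h2.der_le).trans (a13_der_sup_le hn)).trans (sup_le le_rfl ?_)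
  rw [commutator_eq_bot_iff'.2 (le_cent_of_comm (t12_10b1 hG hM hE))]
  exact bot_le

/-- BG 15.1(b). -/
theorem t15_1b (hG : IsMinSimpleOddOrder G) {M U K : Subgroup G} (hM : IsCoatom M)
    (hU : KappaCompl M U K) (hK : K ≠ ⊥) :
    SDP (sigmaCore M) U ⁅M, M⁆ ∧ IsMulCommutative U := by
  obtain ⟨h1, h2, hc, -⟩ := t15_1a hG hM hU
  obtain ⟨Ms, hMs⟩ := t14_7 hG (typeP_of_hall_ne_bot hM hU.hallK hK) hU.hallK
  refine ⟨?_, (t14_2a hG hM hU).2.2.2.2.2 hK⟩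
  have h3 : ⁅M, M⁆ = sigmaCore M ⊔ U := by
    refine eq_of_le_of_card_ge (h2.der_le_left (comm_of_isCyclic hc)) (le_of_eq ?_)
    exact Nat.eq_of_mul_eq_mul_right (card_pos' K) (h2.card.trans hMs.sdp.card.symm)
  rwa [h3]

/-- BG 15.1(c). -/
theorem t15_1c (hG : IsMinSimpleOddOrder G) {M U K X : Subgroup G} (hM : IsCoatom M)
    (hU : KappaCompl M U K) (hXU : X ≤ U) (hX : X ≠ ⊥) (hC : sigmaCore M ⊓ 𝐂(X) ≠ ⊥) :
    UniqMax 𝐂(X) M ∧ IsCyclic X ∧ PiGrp (tau2 M) X := by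
  obtain ⟨y, hy, hy1⟩ := exists_ne_one_of_ne_bot hC
  have key : ∀ x ∈ X, x ≠ 1 → PiElt (tau2 M) x ∧ UniqMax 𝐂₁(x) M := fun x hx hx1 => by
    have hxU := hU.hallU.pi.piElt (hXU hx)
    rcases t14_3 hG hM hy.1 hy1 ⟨hU.U_le (hXU hx), mem_cent1_comm.1 (cent_le_cent1 hx hy.2)⟩ hx1
      (hxU.mono fun _ h h' => h (Or.inl h')) with h | h
    · exact absurd (h.1.eq_one (hxU.mono fun _ h h' => h (Or.inr h'))) hx1
    · exact ⟨h.1, h.2.2⟩
  have hπ : PiGrp (tau2 M) X := piGrp_iff_piElt.2 fun x hx => by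
    by_cases hx1 : x = 1
    · exact hx1 ▸ piElt_one _
    · exact (key x hx hx1).1
  have hc : IsCyclic X := by
    by_contra hc
    obtain ⟨p, hp, A, hA⟩ := exists_elemN_two_of_comm (t12_10b2 hG hM (hXU.trans hU.U_le) hπ) hc
    exact hC (a13_inf_cent_eq_bot_mono (t12_5d hG hM (hπ.mem (hA.mem_primesOf hp two_pos))
      (hA.mono (hXU.trans hU.U_le))) hA.le)
  refine ⟨?_, hc, hπ⟩
  obtain ⟨x, hx, rfl⟩ := exists_zpowers_of_isCyclic hc
  rw [cent_zpowers]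
  exact (key x hx (by rintro rfl; exact hX zpowers_one_eq_bot)).2

theorem a15_1de (hG : IsMinSimpleOddOrder G) {M U K : Subgroup G} (hM : IsCoatom M)
    (hU : KappaCompl M U K) :
    (∃ A₀ : Subgroup G, A₀ ⊴ U ∧ IsMulCommutative A₀ ∧
      ∀ x ∈ sigmaCore M, x ≠ 1 → U ⊓ 𝐂₁(x) ≤ A₀) ∧
    ∃ V : Subgroup G, V ≤ U ∧ Monoid.exponent V = Monoid.exponent U ∧
      Semiregular (sigmaCore M) V := by
  obtain ⟨hE, h1, -⟩ := t14_2a hG hM hU
  refine t12_12 hG hM hE (h1.isHall_left hU.coprime) h1.normalIn fun e he he1 hπ => ?_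
  by_contra hC
  have h2 := (t15_1c hG hM hU (zpowers_le.2 he) (by rwa [Ne, zpowers_eq_bot])
    (by rwa [cent_zpowers])).2.2
  exact he1 ((piGrp_zpowers.1 h2).eq_one (hπ.mono fun _ h => a13_tau13_not_tau2 h))

/-- BG 15.1(d): the elements of `U` centralising a nonidentity element of `M_σ` generate an
abelian group. -/
theorem t15_1d (hG : IsMinSimpleOddOrder G) {M U K : Subgroup G} (hM : IsCoatom M)
    (hU : KappaCompl M U K) :
    IsMulCommutative (Subgroup.closure ((U : Set G) ∩ sigmaHat M)) := by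
  obtain ⟨A₀, -, hab, h⟩ := (a15_1de hG hM hU).1
  refine comm_of_le hab ((closure_le _).2 ?_)
  rintro u ⟨hu, -, y, hy, hy1, hc⟩
  exact h y hy hy1 ⟨hu, mem_cent1.2 hc⟩

/-- BG 15.1(e) (for `U ≠ ⊥` the subgroup `U₀` is nontrivial, see `t15_1e_frob`). -/
theorem t15_1e (hG : IsMinSimpleOddOrder G) {M U K : Subgroup G} (hM : IsCoatom M)
    (hU : KappaCompl M U K) :
    ∃ U₀ : Subgroup G, U₀ ≤ U ∧ Monoid.exponent U₀ = Monoid.exponent U ∧
      Semiregular (sigmaCore M) U₀ := by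
  exact (a15_1de hG hM hU).2

/-- BG 15.1(e), Frobenius form. -/
theorem t15_1e_frob (hG : IsMinSimpleOddOrder G) {M U K : Subgroup G} (hM : IsCoatom M)
    (hU : KappaCompl M U K) (hU1 : U ≠ ⊥) :
    ∃ U₀ : Subgroup G, U₀ ≤ U ∧ Monoid.exponent U₀ = Monoid.exponent U ∧
      Frob (sigmaCore M) U₀ (sigmaCore M ⊔ U₀) := by
  obtain ⟨V, hV, he, hreg⟩ := t15_1e hG hM hU
  refine ⟨V, hV, he, hreg.frob (a13_norm_sigma (hV.trans hU.U_le)) (t10_2e hG hM) fun h => hU1 ?_⟩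
  rw [h, Monoid.exp_eq_one_of_subsingleton, eq_comm, Monoid.exp_eq_one_iff] at he
  exact eq_bot_of_subsingleton U

end CL.BG
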