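import Cfsg.Agent.Base
import Cfsg.Agent.BG.Sigma
import Cfsg.Agent.BG.Max
import Cfsg.Agent.BG.Nil
import Cfsg.Agent.BG.QuotPi
import Cfsg.Agent.BG.T1_5
import Cfsg.Agent.BG.T10_0
import Cfsg.Agent.BG.T10_2
import Cfsg.Agent.BG.T10_4
import Cfsg.Agent.BG.T10_8
import Cfsg.Agent.BG.T10_9
import Cfsg.Agent.BG.A12_Basic
import Cfsg.Agent.BG.T12_2
import Cfsg.Agent.BG.T12_5
import Cfsg.Agent.BG.T12_6
import Cfsg.Agent.BG.T12_10

namespace CL.BG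

open Cfsg

variable {G : Type*} [Group G]

/-- `(K U)' ≤ K U'` when `K` is normal in `K U` -/
theorem prod_der_le {K U L : Subgroup G} (hL : K ⊔ U = L) (hK : U ≤ 𝐍(K)) :
    ⁅L, L⁆ ≤ K ⊔ ⁅U, U⁆ := by
  have hLK : L ≤ 𝐍(K) := hL ▸ sup_le (le_norm_self K) hK
  rw [sup_comm, ← quot_le_quot_iff ((NormalIn.der L).le.trans hLK) ((NormalIn.der U).le.trans hK),
    quot_commutator hLK hLK, quot_commutator hK hK, ← hL, quot_self_sup hK]

theorem prod_not_dvd_der {K U L : Subgroup G} (hL : K ⊔ U = L) (hK : U ≤ 𝐍(K)) {p : ℕ}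
    (hp : p.Prime) (hpK : ¬ p ∣ Nat.card K) (hpU : ¬ p ∣ Nat.card ↥⁅U, U⁆) :
    ¬ p ∣ Nat.card ↥⁅L, L⁆ := fun h =>
  (hp.dvd_mul.1 ((h.trans (Subgroup.card_dvd_of_le (prod_der_le hL hK))).trans
    (card_sup_dvd ((NormalIn.der U).le.trans hK)))).elim hpK hpU

variable [Finite G]

theorem prod_relIndex_dvd {K U L : Subgroup G} (hL : K ⊔ U = L) (hK : U ≤ 𝐍(K)) :
    U.relIndex L ∣ Nat.card K := by
  rw [← hL, relIndex_sup_of_norm_right (Or.inl hK)]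
  exact Subgroup.relIndex_dvd_card U K

theorem prod_pRank_eq {K U L : Subgroup G} (hL : K ⊔ U = L) (hK : U ≤ 𝐍(K)) {p : ℕ}
    (hp : p.Prime) (hpK : ¬ p ∣ Nat.card K) : pRank p U = pRank p L :=
  pRank_eq_of_not_dvd_relIndex hp (hL ▸ le_sup_right) fun h =>
    hpK (h.trans (prod_relIndex_dvd hL hK))

/-- BG 12.15 (b), (c) -/
theorem t12_15bc (hG : IsMinSimpleOddOrder G) {M X H S : Subgroup G} (hM : IsCoatom M) {q : ℕ}
    (hq : q ∈ sigma M) (hN : 𝐍(X) ≤ H) (hS : SylowOf q S (M ⊓ H)) (hXS : X ≤ S) :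
    𝐍(S) ≤ M ∧ SylowOf q S H := by
  have := Fact.mk (prime_of_mem_sigma hq)
  have hSM : S ≤ M := hS.le.trans inf_le_left
  have hNS : 𝐍(S) ≤ M := by
    by_cases hc : IsCyclic S
    · refine norm_sigma_sylow hq (hS.of_norm_le inf_le_left (inf_le_inf_left M ?_))
      exact (norm_le_norm_of_isCyclic hc hXS).trans hN
    · exact t12_10d hG hM hq hS.isPGroup hSM hc
  exact ⟨hNS, hS.of_norm_le inf_le_right (le_inf (inf_le_right.trans hNS) inf_le_left)⟩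

/-- BG 12.15 (d) -/
theorem t12_15d (hG : IsMinSimpleOddOrder G) {M H S : Subgroup G} (hM : IsCoatom M)
    (hH : IsCoatom H) (hne : H ≠ M) {q : ℕ} (hqH : q ∈ sigma H) (hS : SylowOf q S H)
    (hNS : 𝐍(S) ≤ M) :
    betaCore H ⊔ (M ⊓ H) = H ∧ tau1 H ⊆ tau1 M ∪ alpha M ∧
      betaCore M = alphaCore M ∧ alphaCore M ≠ ⊥ := by
  have := Fact.mk (prime_of_mem_sigma hqH)
  have hSG := sigma_sylow_top hqH hS
  have hNH := norm_sigma_sylow hqH hS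
  obtain ⟨hdH, -⟩ := t10_9b hG hH hM hne.symm hSG (le_inf hNS hNH)
  obtain ⟨hdM, hab⟩ := t10_9b hG hM hH hne hSG (le_inf hNH hNS)
  have hcore : betaCore M = alphaCore M := by rw [betaCore_def, alphaCore_def, hab]
  refine ⟨hdH, fun r hr => ?_, hcore, fun h => ?_⟩
  · obtain ⟨hp, hσ, hrk, hder⟩ := mem_tau1_iff.1 hr
    by_cases hα : r ∈ alpha M
    · exact Or.inr hα
    left
    have h1 : ¬ r ∣ Nat.card (betaCore H) :=
      (piGrp_betaCore H).not_dvd hp fun h => hσ (beta_sub_sigma hG hH h)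
    have h2 : ¬ r ∣ Nat.card (betaCore M) := (piGrp_betaCore M).not_dvd hp (hab ▸ hα)
    have h3 : ¬ r ∣ Nat.card ↥⁅M, M⁆ :=
      prod_not_dvd_der hdM (le_norm_betaCore inf_le_right) hp h2 fun h =>
        hder (h.trans (Subgroup.card_dvd_of_le (Subgroup.commutator_mono inf_le_left inf_le_left)))
    refine mem_tau1_iff.2 ⟨hp, fun h => h3 ?_, ?_, h3⟩
    · rw [← primesOf_sigmaCore hG hM] at h
      exact h.2.trans (Subgroup.card_dvd_of_le (t10_2c hG hM))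
    · rw [← prod_pRank_eq hdM (le_norm_betaCore inf_le_right) hp h2, inf_comm,
        prod_pRank_eq hdH (le_norm_betaCore inf_le_right) hp h1, hrk]
  · rw [hcore, h, bot_sup_eq] at hdM
    exact hne (mmax_eq hM hH (hdM.ge.trans inf_le_left)).symm

/-- BG 12.15 (e) -/
theorem t12_15e (hG : IsMinSimpleOddOrder G) {M H S : Subgroup G} (hM : IsCoatom M)
    (hH : IsCoatom H) (hnj : ∀ g : G, H ≠ cj g M) {q : ℕ} (hq : q ∈ sigma M) (hqH : q ∈ tau2 H)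
    (hS : SylowOf q S H) (hSM : S ≤ M) :
    primesOf M ∩ sigma H ⊆ beta H ∧ Hall (sigma H)ᶜ (M ⊓ H) H := by
  have hqp := prime_of_mem_sigma hq
  have := Fact.mk hqp
  have hqσ := not_mem_sigma_of_tau2 hqH
  have hne : M ≠ H := fun h => hnj 1 (by rw [cj_one, h])
  obtain ⟨A, hA⟩ : ∃ A, ElemN q 2 S A :=
    exists_elemN_of_le_pRank hqp (by rw [hS.pRank_eq hqp, pRank_of_mem_tau2 hqH])
  obtain ⟨E, hE, hSE⟩ := ex_sigma_compl hG hH hS.le (piGrp_of_isPGroup hqp hS.isPGroup hqσ)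
  have hAE := hA.mono hSE
  have hAM : A ≤ M := hA.le.trans hSM
  have hNA : 𝐍(A) ≤ M := t12_10d hG hM hq hA.isPGroup hAM (hA.not_isCyclic hqp le_rfl)
  have hEM : E ≤ M := (t12_6a hG hH hE hqH hAE).1.norm.trans hNA
  have hCA : PiGrp (sigma H)ᶜ 𝐂(A) := hE.pi.of_le (t12_6b hG hH hE hqH hAE).1
  have hti : sigmaCore H ⊓ M = ⊥ := t12_5e hG hH hqH (hA.mono hS.le) hM hne hAM
  have hL : M ⊓ H = E := (sdprod_sigma hG hH hE).right_eq_of_le (le_inf hEM hE.le) inf_le_right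
    (by rw [← inf_assoc, hti, bot_inf_eq])
  refine ⟨fun p ⟨hpM, hpH⟩ => ?_, hL ▸ hE⟩
  have hp := hpM.1
  have := Fact.mk hp
  by_contra hpβ
  have hpσ : p ∉ sigma M := fun h => Set.disjoint_left.1
    (t12_6f hG hH hqH hM fun g hg => hnj g⁻¹ (by rw [hg, cj_inv_cj])).2 hpH h
  have hpC : ∀ P : Subgroup G, IsPGroup p P → A ≤ 𝐂(P) → P = ⊥ := fun P hP hc => by
    by_contra h1
    exact hCA.mem_of_isPGroup hp hP h1 (cent_symm hc) hpH
  rcases lt_trichotomy p q with hlt | rfl | hlt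
  · obtain ⟨P, hP, hc⟩ := (t10_9a hG hH hpβ (fun h => hqσ (beta_sub_sigma hG hH h)) hA.isPGroup
      (Or.inr ⟨hlt, hA.le.trans hS.le⟩)).1
    refine hP.ne_bot_iff.2 ?_ (hpC P hP.isPGroup hc)
    rw [← primesOf_sigmaCore hG hH] at hpH
    exact hpH.2
  · exact hqσ hpH
  · have hqβ : q ∉ beta M := fun h =>
      t10_4c_ideal hG hH hqσ (pRank_of_mem_tau2 hqH) (ideal_of_mem_beta h)
    have hnd : ¬ p ∣ (piCoreOf {q}ᶜ M).relIndex M := fun h =>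
      absurd ((t10_8c hG hM hqβ).2.2 p hp h) (not_le.2 hlt)
    obtain ⟨P, hP, hAP⟩ := t1_5a {p} (hAM.trans (le_norm_piCoreOf {q}ᶜ M))
      ((piGrp_piCoreOf {q}ᶜ M).coprime' (hA.piGrp hqp rfl))
      (mmax_sub_sol hG hM (piCoreOf_le _ M))
    have hP' : SylowOf p P M := SylowOf.trans_not_dvd hP (piCoreOf_le _ M) hnd
    refine hP'.ne_bot_iff.2 hpM.2 (hpC P hP'.isPGroup ?_)
    rw [← commutator_eq_bot_iff', ← le_bot_iff,
      ← sigmaCore_inf_eq_bot (M := M) (piGrp_of_isPGroup hp hP'.isPGroup hpσ)]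
    refine le_inf ?_ (commutator_le_right_of_norm hAP)
    exact (Subgroup.commutator_mono (le_sigmaCore hG hM hAM (hA.piGrp hqp hq)) le_rfl).trans
      (commutator_le_left_of_norm (le_norm_sigmaCore hP'.le))

/-- BG 12.15 -/
theorem t12_15 (hG : IsMinSimpleOddOrder G) {M X Mstar : Subgroup G} (hM : IsCoatom M) {q : ℕ}
    (hq : q ∈ sigma M) (hXM : X ≤ M) (hX : IsPGroup q X) (hX1 : X ≠ ⊥)
    (hMs : IsCoatom Mstar) (hne : Mstar ≠ M) (hN : 𝐍(X) ≤ Mstar) :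
    (∀ g : G, Mstar ≠ cj g M) ∧
      (∀ S : Subgroup G, SylowOf q S (M ⊓ Mstar) → X ≤ S → 𝐍(S) ≤ M ∧ SylowOf q S Mstar) ∧
      (q ∈ sigma Mstar →
        betaCore Mstar ⊔ (M ⊓ Mstar) = Mstar ∧ tau1 Mstar ⊆ tau1 M ∪ alpha M ∧
          betaCore M = alphaCore M ∧ alphaCore M ≠ ⊥) ∧
      (q ∉ sigma Mstar →
        q ∈ tau2 Mstar ∧ primesOf M ∩ sigma Mstar ⊆ beta Mstar ∧
          Hall (sigma Mstar)ᶜ (M ⊓ Mstar) Mstar) := by
  have _ := hX1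
  have := Fact.mk (prime_of_mem_sigma hq)
  have hnj := t12_2b hG hM hMs hX hXM hN (Or.inl ⟨hq, hne.symm⟩)
  obtain ⟨S, hS, hXS⟩ := sylow_superset hX (le_inf hXM ((le_norm_self X).trans hN))
  obtain ⟨hNS, hSH⟩ := t12_15bc hG hM hq hN hS hXS
  refine ⟨hnj, fun S hS hXS => t12_15bc hG hM hq hN hS hXS,
    fun h => t12_15d hG hM hMs hne h hSH hNS, fun h => ?_⟩
  have h2 := (t12_2a hG hMs hX hN).resolve_left h
  exact ⟨h2, t12_15e hG hM hMs hnj hq h2 hSH (hS.le.trans inf_le_left)⟩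

end CL.BG
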