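import Cfsg.Agent.BG.T10_2
import Cfsg.Agent.BG.T9_6

/-! BG Proposition 10.14 -/

namespace CL.BG

open Cfsg

variable {G : Type*} [Group G] [Finite G]

/-- BG 10.14(a), in a Sylow subgroup -/
theorem t10_14a' {p : ℕ} [Fact p.Prime] (hp : IsIdealPrime p G) {P : Subgroup G}
    (hP : SylowOf p P ⊤) {A : Subgroup G} (hA : ElemN p 2 P A) : ¬ MaxElem p P A :=
  (isIdealPrime_iff.1 hp).2.2 P hP A hA

/-- BG 10.14(a), in `G` -/
theorem t10_14a {p : ℕ} [Fact p.Prime] (hp : IsIdealPrime p G) {A : Subgroup G}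
    (hA : ElemN p 2 ⊤ A) : ¬ MaxElem p ⊤ A := by
  obtain ⟨P, hP, hAP⟩ := sylow_superset hA.isPGroup (le_top (a := A))
  exact fun h => t10_14a' hp hP (hA.of_le hAP) (h.of_top hAP)

/-- BG 10.14(b) -/
theorem t10_14b (hG : IsMinSimpleOddOrder G) {p : ℕ} [Fact p.Prime] (hp : IsIdealPrime p G)
    {R : Subgroup G} (hR : IsPGroup p R) (hr : 1 < rank R) : InUniqueMaximal R := by
  rw [rank_pgroup Fact.out hR] at hr
  obtain ⟨A, hA⟩ := exists_elemN_of_le_pRank (n := 2) Fact.out hr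
  exact inU_mono (t9_6c hG hA.top (t10_14a hp hA.top)) hA.le (mFT_pgroup_ne_top hG hR)

/-- BG 10.14(c) -/
theorem t10_14c (hG : IsMinSimpleOddOrder G) {p : ℕ} [Fact p.Prime] (hp : IsIdealPrime p G)
    {P : Subgroup G} (hP : SylowOf p P ⊤) {X : Subgroup G} (hX : X ≤ P) :
    InUniqueMaximal (P ⊓ 𝐍(X)) := by
  have hQ : IsPGroup p ↥(P ⊓ 𝐍(X)) := hP.isPGroup.to_inf_left
  refine t10_14b hG hp hQ ?_
  by_contra hr
  rw [rank_pgroup Fact.out hQ] at hr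
  have hc : IsCyclic ↥(P ⊓ 𝐍(X)) :=
    isCyclic_of_pRank_le_one Fact.out hQ (mFT_odd hG _) (by omega)
  have h1 : P ⊓ 𝐍(X) = P :=
    nil_eq_of_norm_le (nil_of_isPGroup hP.isPGroup) inf_le_left
      (inf_le_inf_left _ (norm_le_norm_of_isCyclic hc (le_inf hX (le_norm_self X))))
  rw [h1] at hc
  have h2 := ideal_two_lt_rank hp hP
  have h3 := rank_le_one_of_isCyclic hc
  omega

/-- BG 10.14(d) -/
theorem t10_14d (hG : IsMinSimpleOddOrder G) {M : Subgroup G} (hM : IsCoatom M) {Y : Subgroup G}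
    (hYM : Y ≤ M) (hY : PiGrp (beta M) Y) (hY1 : Y ≠ ⊥) : 𝐍(Y) ≤ M := by
  obtain ⟨q, hq, hX1⟩ := exists_pcore_ne_bot (mmax_sub_sol hG hM hYM) hY1
  have := Fact.mk hq
  have hX : IsPGroup q (piCoreOf {q} Y) := isPGroup_piCoreOf hq Y
  have hqβ : q ∈ beta M := hY.mem_of_isPGroup hq hX hX1 (piCoreOf_le _ _)
  obtain ⟨P, hP, hXP⟩ := sylow_superset hX ((piCoreOf_le _ _).trans hYM)
  have hU := t10_14c hG (ideal_of_mem_beta hqβ) (sigma_sylow_top (beta_sub_sigma hG hM hqβ) hP) hXP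
  exact (norm_le_norm_piCoreOf {q} Y).trans
    ((inU_uniqMax hU hM (inf_le_left.trans hP.le)).le_of_le inf_le_right
      (mFT_norm_pgroup_ne_top hG hX hX1))

end CL.BG
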