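import Cfsg.Agent.BG.T13_4
import Cfsg.Agent.BG.T1_5d
import Cfsg.Agent.BG.T10_1
import Cfsg.Agent.BG.T10_14

/-! # Bender-Glauberman Lemma 13.8 -/

namespace CL.BG

open Cfsg Subgroup

variable {G : Type*} [Group G] [Finite G]

/-- a `q`-group normalised by a subgroup of prime order `p` without fixed points -/
theorem a13_ne_of_reg {P Q K : Subgroup G} {p q : ℕ} (hp : p.Prime) (hP : ElemN p 1 K P)
    (hQ : IsPGroup q Q) (hQ1 : Q ≠ ⊥) (hPQ : P ≤ 𝐍(Q)) (hQP : Q ⊓ 𝐂(P) = ⊥) : q ≠ p := by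
  rintro rfl
  have := Fact.mk hp
  exact pgroup_inf_cent_ne_bot hQ hP.isPGroup hPQ hQ1 hQP

theorem a13_eq_commutator_of_reg {P Q : Subgroup G} (hPQ : P ≤ 𝐍(Q))
    (hcop : (Nat.card Q).Coprime (Nat.card P)) (hsol : Group.IsSolvable Q ∨ Group.IsSolvable P)
    (hQP : Q ⊓ 𝐂(P) = ⊥) : ⁅Q, P⁆ = Q := by
  have := t1_6a hPQ hcop hsol
  rwa [hQP, sup_bot_eq] at this

theorem a13_8_aux (hG : IsMinSimpleOddOrder G) {M L P Q H₀ : Subgroup G} (hM : IsCoatom M)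
    (hL : IsCoatom L) (hnc : ∀ g : G, L ≠ cj g M) {p q s : ℕ} (hpM : p ∈ tau1 M)
    (hP : ElemN p 1 (M ⊓ L) P) (hq : q.Prime)
    (hQ : SylowOf q Q (M ⊓ L)) (hPQ : P ≤ 𝐍(Q)) (hQP : Q ⊓ 𝐂(P) = ⊥) (hNQ : 𝐍(Q) ≤ L)
    (hLβ : betaCore L ⊓ 𝐂(P) ≠ ⊥) (hH₀ : Hall (beta M ∪ beta L) H₀ 𝐂(P)) (hs : s ∈ beta M)
    (hX₀ : piCoreOf {s} H₀ ≠ ⊥) : False := by
  have := Fact.mk hq
  have hp := hpM.1
  have hsp : s.Prime := hs.1.1
  have := Fact.mk hsp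
  have hLM : L ≠ M := a13_notConj_ne hnc
  have hPM : P ≤ M := hP.le.trans inf_le_left
  have hPL : P ≤ L := hP.le.trans inf_le_right
  have hP1 := hP.ne_bot hp one_pos
  have hQ1 : Q ≠ ⊥ := fun h => hL.1 (eq_top_iff.2 (by rwa [h, norm_bot] at hNQ))
  have hQL : Q ≤ L := hQ.le.trans inf_le_right
  have hQM : SylowOf q Q M := hQ.of_norm_le inf_le_left (inf_le_inf_left _ hNQ)
  have hqp := a13_ne_of_reg hp hP hQ.isPGroup hQ1 hPQ hQP
  obtain ⟨hαβ, -, hqα, hC1, hC2⟩ := t12_18b hG hM hpM hqp (hP.mono inf_le_left) hQ1 hPQ hQP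
    (fun h => hLM (h.uniq L hL hNQ)) hQM
  have hαβ' : alphaCore M = betaCore M := by
    show piCoreOf (alpha M) M = piCoreOf (beta M) M
    rw [hαβ]
  have hQQ : ⁅Q, P⁆ = Q := a13_eq_commutator_of_reg hPQ
    (coprime_card_of_isPGroup_of_ne hq hp hqp hQ.isPGroup hP.isPGroup) (Or.inr hP.solvable) hQP
  have hF := a13_beta_sup_norm hG hM hq (Hall.restrict hQM
    (hQQ ▸ commutator_mono hQM.le hPM) (NormalIn.der M).le)
  -- the Hall subgroup `H` of `C(P)` lies in `M`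
  have hsol : Group.IsSolvable 𝐂(P) := mFT_sol hG (mFT_cent_ne_top hG hP1)
  obtain ⟨c, hc, hcH⟩ := hall_le_conj hsol hH₀ (inf_le_right : betaCore M ⊓ 𝐂(P) ≤ _)
    (((a13_beta_pi M).inf_left _).mono Set.subset_union_left)
  have hH : Hall (beta M ∪ beta L) (cj c H₀) 𝐂(P) := hH₀.cj_of_mem hc
  have hX1 : piCoreOf {s} (cj c H₀) ≠ ⊥ := by rwa [← cj_piCoreOf, Ne, cj_eq_bot_iff]
  generalize cj c H₀ = H at hcH hH hX1
  have hX := isPGroup_piCoreOf hsp H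
  have hXH := piCoreOf_normalIn {s} H
  generalize piCoreOf {s} H = X at hX1 hX hXH
  have hHM : H ≤ M := by
    obtain ⟨S, hS⟩ := sylow_exists s M
    obtain ⟨g, -, hg⟩ := sylow_le_conj (a13_sylow_top (beta_sub_sigma hG hM hs) hS) hX le_top
    have h1 : H ≤ cj g M := hXH.norm.trans (t10_14d hG (mmax_cj g hM)
      (hg.trans (cj_mono g hS.le)) (piGrp_of_isPGroup hsp hX (by rwa [a13_beta_cj])) hX1)
    obtain ⟨t, ht, Y, hY⟩ := a13_exists_elem (hαβ' ▸ hC1)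
    have := Fact.mk ht
    have hYβ : Y ≤ betaCore M := hY.le.trans inf_le_left
    have hYM : Y ≤ M := hYβ.trans (a13_beta_normal M).le
    have htβ : t ∈ beta M := (a13_beta_pi M).mem ((hY.of_le hYβ).mem_primesOf ht one_pos)
    obtain ⟨d, hd, hdM⟩ := t10_1b hG hM (beta_sub_sigma hG hM htβ) hY.isPGroup (g₁ := 1)
      (by rwa [cj_one]) ((hY.le.trans hcH).trans h1)
    rwa [hdM, cj_one, cj_eq_of_mem (t10_14d hG hM hYM (hY.piGrp ht htβ) (hY.ne_bot ht one_pos)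
      (cent_le_norm Y hd))] at h1
  -- a subgroup `R` of order `r ∈ β(L)`
  obtain ⟨r, hr, hrd⟩ := exists_prime_dvd_card hLβ
  have hrβ : r ∈ beta L := ((a13_beta_pi L).inf_left _).mem ⟨hr, hrd⟩
  have hrσ : r ∉ sigma M :=
    Set.disjoint_left.1 (t10_12a hG hL hM (a13_notConj_symm hnc)).2 hrβ.1
  have hrH : r ∣ Nat.card H := (hH.dvd_card_iff hr (Or.inr hrβ)).2
    (hrd.trans (card_dvd_of_le inf_le_right))
  have hcs := coprime_cent_sup (A := P) (H := M ⊓ 𝐍(Q)) (K := betaCore M)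
    (le_norm_of_le (le_inf hPM hPQ)) (a13_norm_beta hPM) (a13_norm_beta inf_le_left)
    (a13_coprime_sigma (hP.piGrp hp hpM.2.1) (betaCore_le_sigmaCore hG hM)) (Or.inr hP.solvable)
  rw [hF] at hcs
  have hrN : r ∣ Nat.card ↥(M ⊓ 𝐍(Q) ⊓ 𝐂(P)) := by
    refine a13_dvd_of_le_sup (K := betaCore M ⊓ 𝐂(P)) (L := H) ?_ (hcs ▸ le_inf hHM hH.le) hr hrH
      (((a13_beta_pi M).inf_left _).not_dvd hr fun h => hrσ (beta_sub_sigma hG hM h))
    exact norms_inf (a13_norm_beta (inf_le_left.trans inf_le_left)) (le_norm_of_le inf_le_right)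
  obtain ⟨R, hR⟩ := exists_elemN_one_of_dvd hr hrN
  have hRM : R ≤ M := hR.le.trans (inf_le_left.trans inf_le_left)
  have hRP : R ≤ 𝐂(P) := hR.le.trans inf_le_right
  have hNR : 𝐍(R) ≤ L := t10_14d hG hL
    ((hR.le.trans (inf_le_left.trans inf_le_right)).trans hNQ) (hR.piGrp hr hrβ)
    (hR.ne_bot hr one_pos)
  obtain ⟨E, hE, hPRE⟩ := ex_sigma_compl hG hM (sup_le hPM hRM)
    (PiGrp.sup (hP.piGrp hp hpM.2.1) (hR.piGrp hr hrσ) (Or.inl (le_norm_of_le_cent hRP)))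
  have h4 := t13_4 hG hM hE hpM (hP.of_le (le_sup_left.trans hPRE)) hr
    (hR.of_le (le_inf (le_sup_right.trans hPRE) hRP))
  have hXα : X ≤ alphaCore M :=
    le_alphaCore hG hM (hXH.le.trans hHM) (piGrp_of_isPGroup hsp hX hs.1)
  have hXP : X ≤ 𝐂(P) := hXH.le.trans hH.le
  have hXL : X ≤ L := ((le_inf (hXα.trans (alphaCore_le_sigmaCore hG hM)) hXP).trans h4).trans
    (inf_le_right.trans ((cent_le_norm R).trans hNR))
  obtain ⟨S, hS, hQS⟩ := sylow_superset hQ.isPGroup (hQQ ▸ commutator_mono hQL hPL)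
  have hQc : Q ≤ 𝐂(alphaCore M ⊓ L) := by
    refine a13_le_cent ((a13_alpha_pi M).inf_left L) (N := betaCore L ⊔ S) ?_
      (norms_inf (a13_norm_alpha hQM.le) (le_norm_of_le hQL))
      (inf_le_right.trans (t10_8b_normal hG hL hS).norm) (hQS.trans le_sup_right)
    refine PiGrp.sup ((a13_beta_pi L).mono fun t ht ht' => ?_)
      (piGrp_of_isPGroup hq hS.isPGroup hqα)
      (Or.inl (a13_norm_beta (hS.le.trans (NormalIn.der L).le)))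
    exact Set.disjoint_left.1 (t10_12a hG hM hL hnc).2 ht' (beta_sub_sigma hG hL ht)
  refine hX1 (eq_bot_iff.2 ?_)
  rw [← hC2, cent_sup]
  exact le_inf hXα (le_inf hXP ((le_inf hXα hXL).trans (cent_symm hQc)))

/-- BG 13.8 (Coq `tau1_mmaxI_asymmetry`). -/
theorem t13_8 (hG : IsMinSimpleOddOrder G) {M L P Q U : Subgroup G} (hM : IsCoatom M)
    (hL : IsCoatom L) (hnc : ∀ g : G, L ≠ cj g M) {p q u : ℕ} (hpM : p ∈ tau1 M)
    (hpL : p ∈ tau1 L) (hP : ElemN p 1 (M ⊓ L) P) (hq : q.Prime) (hu : u.Prime)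
    (hQ : SylowOf q Q (M ⊓ L)) (hU : SylowOf u U (M ⊓ L)) (hPQ : P ≤ 𝐍(Q)) (hPU : P ≤ 𝐍(U))
    (hQP : Q ⊓ 𝐂(P) = ⊥) (hUP : U ⊓ 𝐂(P) = ⊥) (hNQ : 𝐍(Q) ≤ L) (hNU : 𝐍(U) ≤ M) : False := by
  have hp := hpM.1
  have key : ∀ {M L Q : Subgroup G} {q : ℕ}, IsCoatom M → IsCoatom L → L ≠ M → p ∈ tau1 M →
      P ≤ M → q.Prime → SylowOf q Q (M ⊓ L) → P ≤ 𝐍(Q) → Q ⊓ 𝐂(P) = ⊥ → 𝐍(Q) ≤ L →
      betaCore M ⊓ 𝐂(P) ≠ ⊥ := by
    intro M L Q q hM hL hLM hpM hPM hq hQ hPQ hQP hNQ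
    have := Fact.mk hq
    have hQ1 : Q ≠ ⊥ := fun h => hL.1 (eq_top_iff.2 (by rwa [h, norm_bot] at hNQ))
    obtain ⟨hαβ, -, -, hC1, -⟩ := t12_18b hG hM hpM
      (a13_ne_of_reg hp hP hQ.isPGroup hQ1 hPQ hQP) (hP.of_le hPM) hQ1 hPQ hQP
      (fun h => hLM (h.uniq L hL hNQ)) (hQ.of_norm_le inf_le_left (inf_le_inf_left _ hNQ))
    change piCoreOf (alpha M) M ⊓ _ ≠ ⊥ at hC1
    rwa [hαβ] at hC1
  have hLM := a13_notConj_ne hnc
  have hU' : SylowOf u U (L ⊓ M) := inf_comm M L ▸ hU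
  have h1 := key hM hL hLM hpM (hP.le.trans inf_le_left) hq hQ hPQ hQP hNQ
  have h2 := key hL hM hLM.symm hpL (hP.le.trans inf_le_right) hu hU' hPU hUP hNU
  have hsol : Group.IsSolvable 𝐂(P) := mFT_sol hG (mFT_cent_ne_top hG (hP.ne_bot hp one_pos))
  obtain ⟨H, hH, hle⟩ := hall_superset hsol (inf_le_right : betaCore M ⊓ 𝐂(P) ≤ _)
    (((a13_beta_pi M).inf_left _).mono (Set.subset_union_left (t := beta L)))
  obtain ⟨s, hs, hX⟩ := exists_pcore_ne_bot (solvable_of_le hsol hH.le) (ne_bot_of_le h1 hle)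
  rcases hH.pi.mem_of_isPGroup hs (isPGroup_piCoreOf hs H) hX (piCoreOf_le _ _) with h | h
  · exact a13_8_aux hG hM hL hnc hpM hP hq hQ hPQ hQP hNQ h2 hH h hX
  · exact a13_8_aux hG hL hM (a13_notConj_symm hnc) hpL (inf_comm M L ▸ hP) hu hU' hPU hUP hNU h1
      (Set.union_comm (beta M) (beta L) ▸ hH) h hX

end CL.BG
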