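import Cfsg.Agent.BG.T13_6
import Cfsg.Agent.BG.T13_8

/-! # Bender-Glauberman Theorem 13.9 -/

namespace CL.BG

open Cfsg Subgroup

variable {G : Type*} [Group G] [Finite G]

/-- BG 13.9 (Coq `sigma_partition`). -/
theorem t13_9 (hG : IsMinSimpleOddOrder G) {M L : Subgroup G} (hM : IsCoatom M)
    (hL : IsCoatom L) (hnc : ∀ g : G, L ≠ cj g M) : ∀ p ∈ sigma M, p ∉ sigma L := by
  intro q hqM hqL
  have hq : q.Prime := hqM.1
  have := Fact.mk hq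
  obtain ⟨E, hE⟩ := hall_exists (sigma M)ᶜ (mmax_sol hG hM)
  obtain ⟨E₁, E₂, E₃, hc⟩ := ex_sigmaCompl hG hM hE
  obtain ⟨S, hS, hES⟩ := t1_5a_sylow q (a13_norm_sigma hE.le)
    (a13_coprime_sigma hE.pi (le_refl (sigmaCore M))) (Or.inr (mmax_sub_sol hG hM hE.le))
  have hSM : SylowOf q S M := (sylowOf_sigmaCore_iff hG hM hqM).1 hS
  have hS1 : S ≠ ⊥ := hSM.ne_bot_iff.2 hqM.2.1
  obtain ⟨T, hT⟩ := sylow_exists q L
  obtain ⟨g, -, hg⟩ := sylow_conj (a13_sylow_top hqL hT) (a13_sylow_top hqM hSM)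
  have hSL : SylowOf q S (cj g L) := hg ▸ Hall.cj hT g
  have hL' := mmax_cj g hL
  have hnc' := a13_notConj_cj hnc g
  have hqL' : q ∈ sigma (cj g L) := by rwa [a13_sigma_cj]
  generalize cj g L = H at hSL hL' hnc' hqL'
  have hNH := a13_norm_sylow_le hqL' hSL
  have hE₂ : E₂ = ⊥ := a13_eq_bot_of_tau2 hc.hall2 fun p hp =>
    Set.disjoint_left.1 (t12_6f hG hM hp hL' hnc').2 hqM hqL'
  obtain ⟨p, hp, P, hP⟩ := a13_exists_elem (t12_1c hG hM hE hc.hall1 hc.hall2 hE₂)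
  have hPE : P ≤ E := hP.le.trans hc.hall1.le
  have hPH : P ≤ H := (hPE.trans hES).trans hNH
  have hSP : S ⊓ 𝐂(P) = ⊥ := by
    by_contra h
    obtain ⟨X, hX⟩ := exists_elemN_one_of_isPGroup hq (hS.isPGroup.to_le inf_le_left) h
    exact a13_notConj_ne hnc' (((t13_6 hG hM hE hc.hall1 hP.le (hP.ne_bot hp one_pos) hq
      (hX.mono (inf_le_inf_right _ hS.le))).2 S hS).uniq H hL' hSL.le)
  have hnP : ¬ P ≤ 𝐂(sigmaCore M ⊓ H) := fun h => hS1 (eq_bot_iff.2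
    (hSP ▸ le_inf le_rfl ((le_inf hS.le hSL.le).trans (cent_symm h))))
  have hPMH : P ≤ M ⊓ H := le_inf (hPE.trans hE.le) hPH
  have hpH : p ∈ tau1 H := by
    by_contra h
    exact hnP ((t13_1 hG hM hE hL' ((hP.of_le hPE).mem_primesOf hp one_pos)
      ((hP.of_le hPH).mem_primesOf hp one_pos) h
      (fun e => hnP (hPMH.trans (commutator_eq_bot_iff''.1 e))) hnc').1 P hPMH hP.isPGroup)
  have hS' : SylowOf q S (M ⊓ H) := Hall.restrict hSM (le_inf hSM.le hSL.le) inf_le_left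
  exact t13_8 hG hM hL' hnc' (hc.hall1.pi.mem (hP.mem_primesOf hp one_pos)) hpH (hP.of_le hPMH)
    hq hq hS' hS' (hPE.trans hES) (hPE.trans hES) hSP hSP hNH (a13_norm_sylow_le hqM hSM)

end CL.BG
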