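import Cfsg.Agent.BG.T14_3
import Cfsg.Agent.BG.T12_15
import Cfsg.Agent.BG.T13_9

/-! BG Theorem 14.4 -/

namespace CL.BG

open Cfsg Subgroup

variable {G : Type*} [Group G] [Finite G]

/-- two maximal subgroups with a common prime in `σ` are conjugate -/
theorem a14_conj_of_sigma (hG : IsMinSimpleOddOrder G) {M L : Subgroup G} (hM : IsCoatom M)
    (hL : IsCoatom L) {p : ℕ} (hp : p ∈ sigma M) (hpL : p ∈ sigma L) : ∃ g : G, L = cj g M := by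
  by_contra h
  push Not at h
  exact t13_9 hG hM hL h p hp hpL

theorem a14_sigma_sub_compl (hG : IsMinSimpleOddOrder G) {M L : Subgroup G} (hM : IsCoatom M)
    (hL : IsCoatom L) (h : ∀ g : G, L ≠ cj g M) : sigma M ⊆ (sigma L)ᶜ :=
  fun p hp => t13_9 hG hM hL h p hp

theorem a14_sigma_sub_compl' (hG : IsMinSimpleOddOrder G) {M L : Subgroup G} (hM : IsCoatom M)
    (hL : IsCoatom L) (h : ∀ g : G, L ≠ cj g M) : sigma L ⊆ (sigma M)ᶜ :=
  fun p hp hp' => t13_9 hG hM hL h p hp' hp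

/-- a nontrivial element which is a `σ`-element for two maximal subgroups makes them conjugate -/
theorem a14_conj_of_piElt (hG : IsMinSimpleOddOrder G) {M L : Subgroup G} (hM : IsCoatom M)
    (hL : IsCoatom L) {x : G} (hx : PiElt (sigma M) x) (hxL : PiElt (sigma L) x) (hx1 : x ≠ 1) :
    ∃ g : G, L = cj g M := by
  obtain ⟨p, hp, hd, -⟩ := exists_prime_order_mem_zpowers hx1
  exact a14_conj_of_sigma hG hM hL (hx p hp hd) (hxL p hp hd)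

theorem a14_sigma_eq_of_piElt (hG : IsMinSimpleOddOrder G) {M L : Subgroup G} (hM : IsCoatom M)
    (hL : IsCoatom L) {x : G} (hx : PiElt (sigma M) x) (hxL : PiElt (sigma L) x) (hx1 : x ≠ 1) :
    sigma L = sigma M := by
  obtain ⟨g, rfl⟩ := a14_conj_of_piElt hG hM hL hx hxL hx1
  exact sigma_cj g M

theorem a14_piElt_sigmaCore {M : Subgroup G} {x : G} (hx : x ∈ sigmaCore M) :
    PiElt (sigma M) x := (piGrp_sigmaCore M).piElt hx

theorem a14_mem_sigmaCore_cj {M : Subgroup G} {x c : G} (hx : x ∈ sigmaCore M) (hc : c ∈ 𝐂₁(x)) :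
    x ∈ sigmaCore (cj c M) := by
  rw [sigmaCore_cj]
  exact ⟨x, hx, by simp [mem_cent1.1 hc]⟩

theorem a14_4_centX (hG : IsMinSimpleOddOrder G) {M L X : Subgroup G} (hM : IsCoatom M)
    (hL : IsCoatom L) {x : G} (hx : x ∈ sigmaCore M) (hxL : x ∈ sigmaCore L)
    (hX : X ≤ zpowers x) (hXp : (Nat.card X).Prime) : ∃ c ∈ 𝐂(X), L = cj c M := by
  have := Fact.mk hXp
  have hXM := hX.trans (zpowers_le.2 hx)
  have hXL := hX.trans (zpowers_le.2 hxL)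
  have hq := piGrp_sigmaCore M _ hXp (card_dvd_of_le hXM)
  obtain ⟨g, rfl⟩ := a14_conj_of_sigma hG hM hL hq (piGrp_sigmaCore L _ hXp (card_dvd_of_le hXL))
  obtain ⟨c, hc, e⟩ := t10_1b hG hM hq (isPGroup_of_card_prime rfl) (g₁ := 1) (g₂ := g)
    (by rw [cj_one]; exact hXM.trans (sigmaCore_le M)) (hXL.trans (sigmaCore_le _))
  exact ⟨c, hc, by rw [e, cj_one]⟩

theorem a14_4_aux (hG : IsMinSimpleOddOrder G) {M N X : Subgroup G} (hM : IsCoatom M)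
    {x : G} (hx : x ∈ sigmaCore M) (hX : X ≤ zpowers x) (hXp : (Nat.card X).Prime)
    (hN : IsCoatom N) (hXN : 𝐍(X) ≤ N) (hne : N ≠ M) :
    (∀ g : G, N ≠ cj g M) ∧ Nat.card X ∈ tau2 N ∧ primesOf M ∩ sigma N ⊆ beta N ∧
      Hall (sigma N)ᶜ (M ⊓ N) N ∧
      ∀ L : Subgroup G, IsCoatom L → x ∈ sigmaCore L →
        ∃ u ∈ sigmaCore N ⊓ 𝐂₁(x), L = cj u M := by
  have hXM := hX.trans (zpowers_le.2 hx)
  have hq := piGrp_sigmaCore M _ hXp (card_dvd_of_le hXM)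
  obtain ⟨ha, -, -, he⟩ := t12_15 hG hM hq (hXM.trans (sigmaCore_le M))
    (isPGroup_of_card_prime rfl) (ne_bot_of_card_prime hXp) hN hne hXN
  obtain ⟨h1, h2, h3⟩ := he (t13_9 hG hM hN ha _ hq)
  refine ⟨ha, h1, h2, h3, fun L hL hxL => ?_⟩
  obtain ⟨c, hc, rfl⟩ := a14_4_centX hG hM hL hx hxL hX hXp
  have hsdp := sdprod_sigma hG hN h3
  obtain ⟨u, hu, m, hm, rfl⟩ := hsdp.exists_mul (hXN (cent_le_norm X hc))
  have e : cj (u * m) M = cj u M := by rw [cj_mul, cj_eq_of_mem hm.1]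
  rw [e] at hxL ⊢
  refine ⟨u, ⟨hu, ?_⟩, rfl⟩
  have hxN : x ∈ N := hXN (cent_le_norm X (a14_mem_cent_of_le_zpowers hX))
  have hxM : x ∈ M := sigmaCore_le M hx
  have h4 : x⁻¹ * (u⁻¹ * x * u) ∈ sigmaCore N := by
    have := mul_mem (conj_mem_of_mem_norm' ((sigmaCore_normal N).norm hxN) (inv_mem hu)) hu
    simpa only [mul_assoc] using this
  have h5 : x⁻¹ * (u⁻¹ * x * u) ∈ M := mul_mem (inv_mem hxM) (mem_cj.1 (sigmaCore_le _ hxL))
  have h6 : x⁻¹ * (u⁻¹ * x * u) ∈ (⊥ : Subgroup G) :=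
    hsdp.disj ▸ ⟨h4, h5, sigmaCore_le N h4⟩
  rw [mem_bot, inv_mul_eq_one] at h6
  change u ∈ 𝐂₁(x)
  rw [mem_cent1]
  calc u * x = u * (u⁻¹ * x * u) := by rw [← h6]
    _ = x * u := by group

/-- `C_G(x)` is transitive on `ℳ_σ(x)`. -/
theorem t14_4_trans (hG : IsMinSimpleOddOrder G) {M L : Subgroup G} (hM : IsCoatom M)
    (hL : IsCoatom L) {x : G} (hx : x ∈ sigmaCore M) (hxL : x ∈ sigmaCore L) (hx1 : x ≠ 1) :
    ∃ c ∈ 𝐂₁(x), L = cj c M := by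
  obtain ⟨X, hX, hXp, -⟩ := a14_exists_prime_le_zpowers hx1
  have := Fact.mk hXp
  obtain ⟨N, hN, hXN⟩ := mmax_exists
    (mFT_norm_pgroup_ne_top hG (isPGroup_of_card_prime (X := X) rfl) (ne_bot_of_card_prime hXp))
  by_cases hne : N = M
  · obtain ⟨c, hc, rfl⟩ := a14_4_centX hG hM hL hx hxL hX hXp
    exact ⟨1, one_mem _, by rw [cj_one, cj_eq_of_mem (hne ▸ hXN (cent_le_norm X hc))]⟩
  · obtain ⟨u, hu, e⟩ := (a14_4_aux hG hM hx hX hXp hN hXN hne).2.2.2.2 L hL hxL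
    exact ⟨u, hu.2, e⟩

/-- if `C_G(x) ≤ M` then `ℳ_σ(x) = {M}`. -/
theorem t14_4_eq (hG : IsMinSimpleOddOrder G) {M L : Subgroup G} (hM : IsCoatom M)
    (hL : IsCoatom L) {x : G} (hx : x ∈ sigmaCore M) (hxL : x ∈ sigmaCore L) (hx1 : x ≠ 1)
    (hxM : 𝐂₁(x) ≤ M) : L = M := by
  obtain ⟨c, hc, rfl⟩ := t14_4_trans hG hM hL hx hxL hx1
  exact cj_eq_of_mem (hxM hc)

/-- BG Theorem 14.4, existential form. -/
theorem t14_4_ex (hG : IsMinSimpleOddOrder G) {M : Subgroup G} (hM : IsCoatom M) {x : G}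
    (hx : x ∈ sigmaCore M) (hx1 : x ≠ 1) (hxM : ¬ 𝐂₁(x) ≤ M) :
    ∃ N : Subgroup G, SignalizerCtx M x N := by
  obtain ⟨X, hX, hXp, hXd⟩ := a14_exists_prime_le_zpowers hx1
  have := Fact.mk hXp
  obtain ⟨N, hN, hXN⟩ := mmax_exists
    (mFT_norm_pgroup_ne_top hG (isPGroup_of_card_prime (X := X) rfl) (ne_bot_of_card_prime hXp))
  have hCN : 𝐂₁(x) ≤ N := (a14_cent1_le_cent hX).trans ((cent_le_norm X).trans hXN)
  have hne : N ≠ M := fun h => hxM (h ▸ hCN)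
  obtain ⟨hnc, hq2, hβ, hhall, htr⟩ := a14_4_aux hG hM hx hX hXp hN hXN hne
  have hsdp := sdprod_sigma hG hN hhall
  have hxN : x ∈ N := hCN (mem_cent1_self x)
  have hxM' : x ∈ M := sigmaCore_le M hx
  have hdisj : ∀ u ∈ sigmaCore N, u ∈ M → u = 1 := fun u hu hu' =>
    mem_bot.1 (hsdp.disj ▸ ⟨hu, hu', sigmaCore_le N hu⟩)
  obtain ⟨c, hc, hcM⟩ := SetLike.not_le_iff_exists.1 hxM
  obtain ⟨u, hu, e⟩ := htr _ (mmax_cj c hM) (a14_mem_sigmaCore_cj hx hc)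
  have hu1 : u ≠ 1 := by
    rintro rfl
    exact hcM ((mmax_cj_eq_iff hG hM).1 (by rw [e, cj_one]))
  have hnil := t12_5a hG hN hq2
  have hσ : PiElt (sigma N)ᶜ x := (a14_piElt_sigmaCore hx).mono (a14_sigma_sub_compl hG hM hN hnc)
  obtain ⟨hτ, -, huniq⟩ := (t14_3 hG hN hu.1 hu1 ⟨hxN, mem_cent1_comm.1 hu.2⟩ hx1 hσ).resolve_left
    fun h => not_mem_kappa_of_tau2 hq2 (h.1 _ hXp hXd)
  have hq := a14_piElt_sigmaCore hx _ hXp hXd
  refine ⟨N, huniq, ne_bot_of_mem hu hu1, ?_, (t10_2b hG hN).inf_of_normal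
    (sigmaCore_normal N).norm hCN, fun L hL hxL => ?_, ?_, hτ, ?_,
    fun q hq hd => hβ ⟨⟨hq.1, hd⟩, hq⟩, hhall,
    not_typeP1_of_prime hXp (tau2_sub_primesOf N hq2).2 (not_mem_sigma_of_tau2 hq2)
      (not_mem_kappa_of_tau2 hq2), hnil, fcore_eq_sigmaCore hG hN hnil, hnc⟩
  · rw [supportR_eq_fcore hxM huniq, fcore_eq_sigmaCore hG hN hnil]
  · obtain ⟨r, hr, e⟩ := htr L hL hxL
    refine ⟨r, ⟨hr, e⟩, fun s hs => ?_⟩
    have h1 : cj (r⁻¹ * s) M = M := by rw [cj_mul, ← hs.2, e, cj_inv_cj]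
    have h2 := hdisj _ (mul_mem (inv_mem hr.1) hs.1.1) ((mmax_cj_eq_iff hG hM).1 h1)
    exact (inv_mul_eq_one.1 h2).symm
  · have := hsdp.inf_cent1 ((sigmaCore_normal N).norm hxN) (le_norm_self _ ⟨hxM', hxN⟩)
    rwa [inf_assoc, inf_eq_right.2 hCN] at this
  · obtain ⟨A, hA⟩ := ex_tau2Elem hG hN hhall hq2
    have hAM : 𝐍(A) ≤ M := t12_10d hG hM hq hA.isPGroup (hA.le.trans inf_le_left)
      (hA.not_isCyclic hXp le_rfl)
    exact fun p hp => ((t12_11 hG hN hhall hq2 hA hM hAM).1 p hp).1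

/-- BG Theorem 14.4 (the case `|ℳ_σ(x)| > 1`, i.e. `C_G(x) ⊄ M`). -/
theorem t14_4 (hG : IsMinSimpleOddOrder G) {M N : Subgroup G} (hM : IsCoatom M) {x : G}
    (hx : x ∈ sigmaCore M) (hx1 : x ≠ 1) (hxM : ¬ 𝐂₁(x) ≤ M) (hN : IsCoatom N)
    (hxN : 𝐂₁(x) ≤ N) : SignalizerCtx M x N := by
  obtain ⟨N', h⟩ := t14_4_ex hG hM hx hx1 hxM
  rwa [h.uniq.uniq N hN hxN]

/-- `R(x)` does not depend on the choice of `M ∈ ℳ_σ(x)`. -/
theorem t14_4_supportR (hG : IsMinSimpleOddOrder G) {M L : Subgroup G} (hM : IsCoatom M) {x : G}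
    (hx : x ∈ sigmaCore M) (hx1 : x ≠ 1) (hL : IsCoatom L) (hxL : x ∈ sigmaCore L) :
    supportR L x = supportR M x := by
  by_cases hxM : 𝐂₁(x) ≤ M
  · rw [t14_4_eq hG hM hL hx hxL hx1 hxM]
  · obtain ⟨N, hN⟩ := t14_4_ex hG hM hx hx1 hxM
    have hxL' : ¬ 𝐂₁(x) ≤ L := fun h => hxM (t14_4_eq hG hL hM hxL hx hx1 h ▸ h)
    rw [supportR_eq_fcore hxM hN.uniq, supportR_eq_fcore hxL' hN.uniq]

/-- `|R(x)| = |ℳ_σ(x)|` and `R(x)` does not depend on the choice of `M ∈ ℳ_σ(x)`. -/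
theorem t14_4_card (hG : IsMinSimpleOddOrder G) {M : Subgroup G} (hM : IsCoatom M) {x : G}
    (hx : x ∈ sigmaCore M) (hx1 : x ≠ 1) :
    Nat.card (supportR M x) = {L : Subgroup G | IsCoatom L ∧ x ∈ sigmaCore L}.ncard ∧
      ∀ L : Subgroup G, IsCoatom L → x ∈ sigmaCore L → supportR L x = supportR M x := by
  refine ⟨?_, fun L hL hxL => t14_4_supportR hG hM hx hx1 hL hxL⟩
  by_cases hxM : 𝐂₁(x) ≤ M
  · have : {L : Subgroup G | IsCoatom L ∧ x ∈ sigmaCore L} = {M} :=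
      Set.eq_singleton_iff_unique_mem.2 ⟨⟨hM, hx⟩, fun L hL => t14_4_eq hG hM hL.1 hx hL.2 hx1 hxM⟩
    rw [supportR_eq_bot hxM, this, card_bot, Set.ncard_singleton]
  · obtain ⟨N, hN⟩ := t14_4_ex hG hM hx hx1 hxM
    rw [hN.R_eq, ← SetLike.coe_sort_coe, Nat.card_coe_set_eq]
    refine Set.ncard_congr (fun r _ => cj r M)
      (fun r hr => ⟨mmax_cj r hM, a14_mem_sigmaCore_cj hx hr.2⟩) (fun r s hr hs e => ?_)
      (fun L hL => ?_)
    · exact (hN.trans _ (mmax_cj r hM) (a14_mem_sigmaCore_cj hx hr.2)).unique ⟨hr, rfl⟩ ⟨hs, e⟩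
    · obtain ⟨r, hr, -⟩ := hN.trans L hL.1 hL.2
      exact ⟨r, hr.1, hr.2.symm⟩

/-- elements of `R(x)` are `σ(M)'`-elements commuting with `x` -/
theorem a14_supportR_piElt (hG : IsMinSimpleOddOrder G) {M : Subgroup G} (hM : IsCoatom M)
    {x r : G} (hx : x ∈ sigmaCore M) (hx1 : x ≠ 1) (hr : r ∈ supportR M x) :
    PiElt (sigma M)ᶜ r := by
  by_cases hxM : 𝐂₁(x) ≤ M
  · rw [supportR_eq_bot hxM, mem_bot] at hr
    exact hr ▸ piElt_one _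
  · obtain ⟨N, hN⟩ := t14_4_ex hG hM hx hx1 hxM
    rw [hN.R_eq] at hr
    exact (a14_piElt_sigmaCore hr.1).mono (a14_sigma_sub_compl' hG hM hN.uniq.coatom hN.not_conj)

omit [Finite G] in
theorem a14_supportR_commute {M : Subgroup G} {x r : G} (hr : r ∈ supportR M x) : Commute x r :=
  (mem_cent1.1 (supportR_le_cent1 M x hr)).symm

/-- `x` is the `σ(M)`-part of `x r` for `r ∈ R(x)` -/
theorem a14_piPart_mul_supportR (hG : IsMinSimpleOddOrder G) {M : Subgroup G} (hM : IsCoatom M)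
    {x r : G} (hx : x ∈ sigmaCore M) (hx1 : x ≠ 1) (hr : r ∈ supportR M x) :
    piPart (sigma M) (x * r) = x :=
  piPart_mul_eq (a14_piElt_sigmaCore hx) (a14_supportR_piElt hG hM hx hx1 hr)
    (a14_supportR_commute hr)

end CL.BG
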