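import Cfsg.Agent.BG.T15_2
import Cfsg.Agent.BG.T14_4

/-! # Bender-Glauberman Corollary 15.3 -/

namespace CL.BG

open Cfsg Subgroup

variable {G : Type*} [Group G] [Finite G]

/-- every `(σ(M) ∪ κ(M))'`-subgroup of `M` lies in a `κ`-complement -/
theorem a15_exists_kappaCompl_ge (hG : IsMinSimpleOddOrder G) {M X : Subgroup G} (hM : IsCoatom M)
    (hX : X ≤ M) (hπ : PiGrp (sigma M ∪ kappa M)ᶜ X) : ∃ U K, KappaCompl M U K ∧ X ≤ U := by
  obtain ⟨K, hK⟩ := hall_exists (kappa M) (mmax_sol hG hM)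
  obtain ⟨U, hU⟩ := t14_2_ex hG hM hK
  obtain ⟨g, hg, hXg⟩ := hall_le_conj (mmax_sol hG hM) hU.hallU hX hπ
  have := hU.cj g
  rw [cj_eq_of_mem hg] at this
  exact ⟨_, _, this, hXg⟩

/-- the centraliser in `M` of a Sylow subgroup of `M_σ` is a `κ(M)'`-group -/
theorem a15_cent_kappa' (hG : IsMinSimpleOddOrder G) {M S : Subgroup G} (hM : IsCoatom M) {r : ℕ}
    (hr : r.Prime) (hS : SylowOf r S (sigmaCore M)) (hS1 : S ≠ ⊥) :
    PiGrp (kappa M)ᶜ (M ⊓ 𝐂(S)) := fun p hp hd hκ => by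
  have := Fact.mk hr
  obtain ⟨P, hP⟩ := exists_elemN_one_of_dvd hp hd
  obtain ⟨K, hK, hPK⟩ := hall_superset (mmax_sol hG hM) (hP.le.trans inf_le_left)
    (hP.piGrp hp hκ)
  have h1 : S ≤ kstar M K := by
    rw [← t14_2a_cent hG hM hK hPK (hP.ne_bot hp one_pos)]
    exact le_inf hS.le (cent_symm (hP.le.trans inf_le_right))
  exact (t14_2e hG (typeP_of_mem_kappa hM hκ) hK hr
    (mem_primesOf_of_isPGroup hr hS.isPGroup hS1 h1).2 hS).2 h1

/-- BG 15.3(a) (Coq `cent_Hall_sigma_sdprod_cyclic_tau2`). -/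
theorem t15_3a (hG : IsMinSimpleOddOrder G) {M H : Subgroup G} (hM : IsCoatom M)
    (hH : IsHall H (sigmaCore M)) (hH1 : H ≠ ⊥) :
    ∃ X : Subgroup G, IsCyclic X ∧ PiGrp (tau2 M) X ∧
      SDP (sigmaCore M ⊓ 𝐂(H)) X (M ⊓ 𝐂(H)) := by
  obtain ⟨r, hr, hd⟩ := exists_prime_dvd_card hH1
  have := Fact.mk hr
  obtain ⟨S, hS, hSH⟩ := hH.hall.exists_sylow (p := r) ⟨hr, hd⟩
  have hκ := (a15_cent_kappa' hG hM hr hS
    (hS.ne_bot_iff.2 (hd.trans (card_dvd_of_le hH.le)))).of_le (inf_le_inf_left _ (cent_anti hSH))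
  obtain ⟨X, hX⟩ := hall_exists (sigma M)ᶜ (mmax_sub_sol hG hM (inf_le_left : M ⊓ 𝐂(H) ≤ M))
  have hhall : Hall (sigma M) (sigmaCore M ⊓ 𝐂(H)) (M ⊓ 𝐂(H)) := by
    have := (t10_2b hG hM).inf_of_normal (sigmaCore_normal M).norm (inf_le_left : M ⊓ 𝐂(H) ≤ M)
    rwa [← inf_assoc, inf_eq_left.2 (sigmaCore_le M)] at this
  have hsdp := hhall.sdp ((sigmaCore_normal M).inf_inf _).norm hX
  by_cases hX1 : X = ⊥
  · subst hX1
    exact ⟨⊥, inferInstance, piGrp_bot _, hsdp⟩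
  obtain ⟨U, K, hU, hXU⟩ := a15_exists_kappaCompl_ge hG hM (hX.le.trans inf_le_left)
    (by rw [Set.compl_union]; exact hX.pi.inter (hκ.of_le hX.le))
  obtain ⟨-, h1, h2⟩ := t15_1c hG hM hU hXU hX1
    (ne_bot_of_le hH1 (le_inf hH.le (cent_symm (hX.le.trans inf_le_right))))
  exact ⟨X, h1, h2, hsdp⟩

omit [Finite G] in
theorem FcoreCtx.nil_quot {M K Q D Q₀ : Subgroup G} {q : ℕ} (h : FcoreCtx M K q Q D Q₀) :
    Group.IsNilpotent (quot Q (sigmaCore M)) :=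
  h.sdpQ.quot_eq ▸ quot_isNilpotent Q h.nilD

/-- `H Q ⊴ M` for a Hall subgroup `H` of `M_σ` -/
theorem FcoreCtx.sup_normal {M K Q D Q₀ H : Subgroup G} {q : ℕ} (h : FcoreCtx M K q Q D Q₀)
    (hH : IsHall H (sigmaCore M)) : H ⊔ Q ⊴ M := by
  have hn := (sigmaCore_le M).trans h.normalQ.norm
  have h1 := (nil_isHall_char h.nil_quot (hH.quot hn)).trans_normalIn
    ((sigmaCore_normal M).quot Q)
  have h2 := coquot_normalIn h.normalQ h1
  rwa [coquot_quot (hH.le.trans hn)] at h2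

/-- BG 15.3(b) (Coq `sigma_Hall_tame`). -/
theorem t15_3b (hG : IsMinSimpleOddOrder G) {M H : Subgroup G} (hM : IsCoatom M)
    (hH : IsHall H (sigmaCore M)) {x g : G} (hx : x ∈ H) (hg : g * x * g⁻¹ ∈ H) :
    ∃ n ∈ M ⊓ 𝐍(H), n * x * n⁻¹ = g * x * g⁻¹ := by
  by_cases hx1 : x = 1
  · exact ⟨1, one_mem _, by simp [hx1]⟩
  obtain ⟨c, hc, hcM⟩ := t14_4_trans hG hM (mmax_cj g⁻¹ hM) (hH.le hx)
    (by rw [sigmaCore_cj, mem_cj, inv_inv]; exact hH.le hg) hx1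
  have hm : g * c ∈ M := (mmax_cj_eq_iff hG hM).1 (by rw [cj_mul, ← hcM, cj_cj_inv])
  have hmx : g * c * x * (g * c)⁻¹ = g * x * g⁻¹ := by
    rw [mul_assoc g c x, mem_cent1.1 hc]
    group
  rw [← hmx] at hg ⊢
  generalize g * c = m at hm hg
  by_cases hn : M ≤ 𝐍(H)
  · exact ⟨m, ⟨hm, hn hm⟩, rfl⟩
  have hne : fittingHallOf M ≠ sigmaCore M := fun h => hn ((nil_isHall_char
    ((fcore_eq_sigmaCore_iff hG hM).1 h) hH).trans_normalIn (sigmaCore_normal M)).norm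
  obtain ⟨K, hK⟩ := hall_exists (kappa M) (mmax_sol hG hM)
  obtain ⟨D, -, -, h⟩ := t15_2_ex hG hM hK hne
  generalize piCoreOf {Nat.card (kstar M K)} M ⊓ 𝐂(D) = Q₀ at h
  generalize piCoreOf {Nat.card (kstar M K)} M = Q at h
  generalize Nat.card (kstar M K) = q at h
  have := Fact.mk h.prime_q
  have hHQ := h.sup_normal hH
  have hHM := hH.le.trans (sigmaCore_le M)
  have hq : ¬ q ∣ Nat.card H := fun hd => hn (by
    rwa [sup_eq_left.2 (hH.hall.normal_le h.sdpQ.normalIn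
      (piGrp_of_isPGroup h.prime_q h.sylow.isPGroup ⟨h.prime_q, hd⟩)), normalIn_iff,
      and_iff_right hHM] at hHQ)
  have hdis : Q ⊓ H = ⊥ := h.sylow.hall.pi.inf_eq_bot
    ((piGrp_compl_singleton_iff h.prime_q).2 hq)
  obtain ⟨l, hl, n, hnH, rfl⟩ := hall_frattini_mul (mmax_sub_sol hG hM hHQ.le)
    (hH.hall.restrict le_sup_left (sup_le hH.le h.sdpQ.left_le)) (hHQ.norm hm)
  obtain ⟨a, ha, y, hy, rfl⟩ := (mem_sup_iff_of_norm (hHM.trans h.normalQ.norm)).1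
    (sup_comm H Q ▸ hl)
  have hyn : y * n ∈ 𝐍(H) := mul_mem (le_normalizer hy) hnH
  refine ⟨y * n, ⟨?_, hyn⟩, ?_⟩
  · have := mul_mem (inv_mem (h.normalQ.le ha)) hm
    simpa [mul_assoc] using this
  · have hz := conj_mem_of_mem_norm hyn hx
    have e : a * y * n * x * (a * y * n)⁻¹ = a * (y * n * x * (y * n)⁻¹) * a⁻¹ := by group
    rw [e] at hg ⊢
    generalize y * n * x * (y * n)⁻¹ = z at hz hg
    have h1 : a * z * a⁻¹ * z⁻¹ ∈ Q ⊓ H := by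
      refine ⟨?_, H.mul_mem hg (H.inv_mem hz)⟩
      have := mul_mem ha (h.normalQ.conj_mem (hHM hz) (inv_mem ha))
      simpa [mul_assoc] using this
    rw [hdis, mem_bot, mul_inv_eq_one] at h1
    exact h1.symm

end CL.BG
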