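import Cfsg.Agent.BG.T15_3

/-! # Bender-Glauberman Corollary 15.4 -/

namespace CL.BG

open Cfsg Subgroup

variable {G : Type*} [Group G] [Finite G]

/-- `σ(M)'`-subgroups of `M` centralising a nontrivial Hall subgroup of `M_σ` are cyclic
`τ₂(M)`-groups -/
theorem t15_3a' (hG : IsMinSimpleOddOrder G) {M H Y : Subgroup G} (hM : IsCoatom M)
    (hH : IsHall H (sigmaCore M)) (hH1 : H ≠ ⊥) (hY : Y ≤ M ⊓ 𝐂(H)) (hYσ : PiGrp (sigma M)ᶜ Y) :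
    IsCyclic Y ∧ PiGrp (tau2 M) Y := by
  obtain ⟨X, hc, hπ, hsdp⟩ := t15_3a hG hM hH hH1
  obtain ⟨g, -, hg⟩ := hall_conj_le (mmax_sub_sol hG hM inf_le_left)
    (hsdp.hall_right (hπ.mono (tau2_sub_sigma_compl M))
      (piGrp_compl_compl.2 ((piGrp_sigmaCore M).inf_left _))) hY hYσ
  exact ⟨isCyclic_cj.1 (isCyclic_of_le hc hg), piGrp_cj.1 (hπ.of_le hg)⟩

/-- BG 15.4 (Coq `nilpotent_Hall_sigma`). -/
theorem t15_4 (hG : IsMinSimpleOddOrder G) {H : Subgroup G} (hnil : Group.IsNilpotent H)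
    (hH : IsHall H ⊤) : ∃ M : Subgroup G, IsCoatom M ∧ H ≤ sigmaCore M := by
  by_cases hH1 : H = ⊥
  · obtain ⟨M, hM⟩ := mmax_any hG
    exact ⟨M, hM, hH1 ▸ bot_le⟩
  obtain ⟨r, hr, hd⟩ := exists_prime_dvd_card hH1
  have := Fact.mk hr
  obtain ⟨S, hS⟩ := sylow_exists r H
  have hS1 := hS.ne_bot_iff.2 hd
  obtain ⟨M, hM, hNM⟩ := mmax_exists (mFT_norm_pgroup_ne_top hG hS.isPGroup hS1)
  have hHM : H ≤ M := (nil_sylow_normal hnil hS).norm.trans hNM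
  have hSM : SylowOf r S M := Hall.restrict (hS.trans_hall hH.hall ⟨hr, hd⟩) (hS.le.trans hHM) le_top
  have hrσ : r ∈ sigma M := mem_sigma_of_norm_le hM.1 hSM hNM
  refine ⟨M, hM, le_sigmaCore hG hM hHM fun p hp hpd => ?_⟩
  by_contra hpσ
  have := Fact.mk hp
  obtain ⟨P, hP⟩ := sylow_exists p H
  have hPM : SylowOf p P M := Hall.restrict (hP.trans_hall hH.hall ⟨hp, hpd⟩) (hP.le.trans hHM) le_top
  obtain ⟨hc, hπ⟩ := t15_3a' hG hM ((sylowOf_sigmaCore_iff hG hM hrσ).2 hSM).hall.isHall hS1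
    (le_inf hPM.le (nil_cent_of_coprime hnil hP.le hS.le (coprime_card_of_isPGroup_of_ne hp hr
      (fun h => hpσ (h ▸ hrσ)) hP.isPGroup hS.isPGroup))) (piGrp_of_isPGroup hp hP.isPGroup hpσ)
  have h1 := pRank_le_one_of_isCyclic hp hc
  rw [hPM.pRank_eq hp, pRank_of_mem_tau2
    (hπ.mem_of_isPGroup hp hP.isPGroup (hP.ne_bot_iff.2 hpd) le_rfl)] at h1
  omega

end CL.BG
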