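import Cfsg.Agent.BG.T14_2
import Cfsg.Agent.BG.Fit
import Cfsg.Agent.BG.T10_11
import Cfsg.Agent.BG.T12_2
import Cfsg.Agent.BG.T12_9
import Cfsg.Agent.BG.T12_11

/-! BG Lemma 14.11 -/

namespace CL.BG

open Cfsg Subgroup

variable {G : Type*} [Group G] [Finite G]

/-- a subgroup of prime order of `E` outside `F(E)` belongs to a prime of `τ₁(M)` -/
theorem a14_tau1_of_not_le_fit (hG : IsMinSimpleOddOrder G) {M E Q : Subgroup G}
    (hM : IsCoatom M) (hE : Hall (sigma M)ᶜ E M) {q : ℕ} (hq : q.Prime) (hQ : ElemN q 1 E Q)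
    (hQF : ¬ Q ≤ fittingOf E) : q ∈ tau1 M := by
  rcases (partition_pi_sigma_compl hG hM hE).1 (hQ.mem_primesOf hq one_pos) with h | h | h
  · exact h
  · obtain ⟨A, hA⟩ := ex_tau2Elem hG hM hE h
    obtain ⟨hn, h1⟩ := t12_6a hG hM hE h hA
    exact absurd (((h1 Q).1 hQ).le.trans (le_fit hn hA.nilpotent)) hQF
  · obtain ⟨E₃, h₃⟩ := hall_exists (tau3 M) (mmax_sub_sol hG hM hE.le)
    have hn := (t12_1b hG hM hE h₃).2
    exact absurd ((h₃.le_of_normal hn.norm hQ.le (hQ.piGrp hq h)).trans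
      (le_fit hn (nil_of_isCyclic (t12_1d3 hG hM (h₃.le.trans hE.le) h₃.pi)))) hQF

/-- a subgroup `Q ≤ E` of order `q ∈ τ₁(M)` outside `F(E)` with `C_{M_σ}(Q) = 1` acts nontrivially
on some `A ∈ ℰ_p^2(E)`, `p ∈ τ₂(M)` -/
theorem a14_exists_tau2_act (hG : IsMinSimpleOddOrder G) {M E Q : Subgroup G}
    (hM : IsCoatom M) (hE : Hall (sigma M)ᶜ E M) {q : ℕ} (hq : q ∈ tau1 M) (hQ : ElemN q 1 E Q)
    (hQF : ¬ Q ≤ fittingOf E) (hC : sigmaCore M ⊓ 𝐂(Q) = ⊥) :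
    ∃ p ∈ tau2 M, ∃ A : Subgroup G, ElemN p 2 E A ∧ ⁅A, Q⁆ ≠ ⊥ := by
  have := Fact.mk hq.1
  have hab := t12_10b1 hG hM hE
  have hd := NormalIn.der E
  have hq' : PiGrp {q}ᶜ ⁅E, E⁆ := (piGrp_compl_singleton_iff hq.1).2 fun h =>
    (mem_tau1_iff.1 hq).2.2.2 (h.trans (card_dvd_of_le (commutator_mono hE.le hE.le)))
  have hn : Q ≤ 𝐍(⁅E, E⁆) := hQ.le.trans hd.norm
  obtain ⟨-, hcyc, hnM⟩ := t10_11d hG hM (hd.le.trans hE.le) (hE.pi.of_le hd.le)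
    (not_mem_sigma_of_tau1 hq) (hQ.of_le (le_inf (hQ.le.trans hE.le) hn)) hC hq' hab
  have hTI := t1_6d_TI hn (coprime_card_of_isPGroup hq.1 hQ.isPGroup hq').symm hab
  have hne : ⁅⁅E, E⁆, Q⁆ ≠ ⊥ := fun h => hQF (le_sup_right.trans (le_fit
    (NormalIn.of_der_le le_sup_left (sup_le hd.le hQ.le))
    (nil_of_comm (comm_sup hab hQ.comm (commutator_eq_bot_iff''.1 h)))))
  obtain ⟨P, hP, hp⟩ := a14_exists_prime_le hne
  have := Fact.mk hp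
  have hPE : P ≤ E := hP.trans ((commutator_le_left_of_norm hn).trans hd.le)
  have hPM : P ⊴ M := hnM.trans_of_norm_le hP (a14_cyc_norm hcyc hP)
  have h2 : Nat.card P ∈ tau2 M := (t12_2a hG hM (isPGroup_of_card_prime rfl)
    (mmax_normal hG hM hPM (ne_bot_of_card_prime hp)).le).resolve_left
    (hE.pi _ hp (card_dvd_of_le hPE))
  obtain ⟨A, hA⟩ := ex_tau2Elem hG hM hE h2
  refine ⟨_, h2, A, hA, fun h => ne_bot_of_card_prime hp (le_bot_iff.1 (hTI ▸ le_inf hP ?_))⟩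
  exact (((t12_6a hG hM hE h2 hA).2 P).1 (elemN_one_of_card hp hPE rfl)).le.trans
    (commutator_eq_bot_iff'.1 h)

/-- BG Lemma 14.11 (in the existential form of the Coq development). -/
theorem t14_11 (hG : IsMinSimpleOddOrder G) {M E Q : Subgroup G} (hM : TypeF M)
    (hE : Hall (sigma M)ᶜ E M) {q : ℕ} (hq : q.Prime) (hQE : Q ≤ E) (hQ : Nat.card Q = q)
    (hQF : ¬ Q ≤ fittingOf E) :
    ∃ Ms : Subgroup G, IsCoatom Ms ∧
      ((q ∈ tau2 Ms ∧ UniqMax 𝐂(Q) Ms) ∨ (q ∈ kappa Ms ∧ TypeP1 Ms)) := by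
  have hmax := hM.coatom
  have hQ1 := elemN_one_of_card hq hQE hQ
  have h1 := a14_tau1_of_not_le_fit hG hmax hE hq hQ1 hQF
  have hC : sigmaCore M ⊓ 𝐂(Q) = ⊥ := by
    by_contra h
    exact hM.not_mem_kappa q (mem_kappa_of_cent hG (Or.inl h1) (hQE.trans hE.le) hQ h)
  obtain ⟨p, hp, A, hA, hAQ⟩ := a14_exists_tau2_act hG hmax hE h1 hQ1 hQF hC
  have := Fact.mk hp.1
  obtain ⟨L, hL, hN⟩ :=
    mmax_exists (mFT_norm_pgroup_ne_top hG hA.isPGroup (hA.ne_bot hp.1 two_pos))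
  obtain ⟨ha, hb, -⟩ := t12_11 hG hmax hE hp hA hL hN
  have hnA := (t12_6a hG hmax hE hp hA).1
  have hqi : q ∣ (E ⊓ 𝐂(A)).relIndex E := by
    by_contra h
    exact hAQ (commutator_eq_bot_iff''.2 ((((piGrp_singleton_iff hq).2 hQ1.isPGroup).le_of_relIndex
      (NormalIn.inf_cent hnA.norm) hQE ((piNat_compl_singleton_iff hq).2 h)).trans inf_le_right))
  have hQL : Q ≤ L := hQE.trans (hnA.norm.trans hN)
  have hCL : sigmaCore L ⊓ 𝐂(Q) ≠ ⊥ :=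
    ne_bot_of_le ((t12_9 hG hmax hE hp hA h1 hQ1 hC hAQ).2.2.1.ne_bot hp.1 one_pos)
      (inf_le_inf_right _ (le_sigmaCore hG hL ((le_norm_self A).trans hN)
        (hA.piGrp hp.1 (ha p hp).1)))
  refine ⟨L, hL, ?_⟩
  rcases hb q hq hqi with h | h
  · have hκ := mem_kappa_of_cent hG (Or.inl h) hQL hQ hCL
    refine Or.inr ⟨hκ, (typeP_of_mem_kappa hL hκ).typeP1_of_not_p2 fun h2 => ?_⟩
    obtain ⟨K, hK⟩ := hall_exists (kappa L) (mmax_sol hG hL)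
    exact (ha p hp).2 ((t14_2g hG h2 hK).1 ▸ (ha p hp).1)
  · exact Or.inl ⟨h, t12_6c hG hL h (hQ1.of_le hQL) hCL⟩

end CL.BG
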