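import Cfsg.Agent.BG.T14_7
import Cfsg.Agent.BG.T14_11

/-! BG Corollary 14.12 -/

namespace CL.BG

open Cfsg Subgroup

variable {G : Type*} [Group G] [Finite G]

/-- `M_σ ∩ H` centralizes every subgroup of `M ∩ H_σ` for nonconjugate `M`, `H` -/
theorem a14_sigmaCore_inf_le_cent (hG : IsMinSimpleOddOrder G) {M H U : Subgroup G}
    (hM : IsCoatom M) (hH : IsCoatom H) (hnc : ∀ g : G, H ≠ cj g M) (hUM : U ≤ M)
    (hU : U ≤ sigmaCore H) : sigmaCore M ⊓ H ≤ 𝐂(U) := by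
  rw [← commutator_eq_bot_iff', eq_bot_iff, ← sigmaCore_inf_eq_bot ((piGrp_sigmaCore H).mono
    (a14_sigma_sub_compl' hG hM hH hnc))]
  exact le_inf ((commutator_mono inf_le_left le_rfl).trans
      (commutator_le_left_of_norm (le_norm_sigmaCore hUM)))
    ((commutator_mono inf_le_right hU).trans (sigmaCore_normal H).commutator_le')

omit [Finite G] in
theorem a14_not_conj_symm {M H : Subgroup G} (h : ∀ g : G, H ≠ cj g M) (g : G) : M ≠ cj g H :=
  fun e => h g⁻¹ (by rw [e, cj_inv_cj])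

/-- BG Corollary 14.12. -/
theorem t14_12 (hG : IsMinSimpleOddOrder G) {M Ms U K R H : Subgroup G} (hM : TypeP2 M)
    (hU : KappaCompl M U K) (hMs : IsCoatom Ms) (hKMs : 𝐂(K) ≤ Ms) {r : ℕ} (hr : r.Prime)
    (hR : SylowOf r R U) (hH : IsCoatom H) (hRH : 𝐍(R) ≤ H) :
    TypeF H ∧ U ≤ sigmaCore H ∧ U ⊔ K = M ⊓ H ∧ ¬ H ⊓ 𝐍(U) ≤ M ∧ K ≤ fittingOf (H ⊓ Ms) ∧
      Hall (sigma H)ᶜ (H ⊓ Ms) H := by
  have hmax := hM.coatom
  have := Fact.mk hr
  have hq := (t14_2g hG hM hU.hallK).2.1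
  have := Fact.mk hq
  have hK1 := ne_bot_of_card_prime hq
  have hKq : IsPGroup (Nat.card K) K := isPGroup_of_card_prime rfl
  have hP := t14_7_of_cent hG hmax hU.hallK le_rfl hq hMs hKMs
  obtain ⟨hE, hUK, hME, -, hreg, hab⟩ := t14_2a hG hmax hU
  have hU1 := (hU.typeP2_iff hM.typeP).1 hM
  have hUK1 : U ⊓ 𝐂(K) = ⊥ := hreg.a14_cent le_rfl hK1
  have hR1 : R ≠ ⊥ := by
    rintro rfl
    rw [norm_bot] at hRH
    exact hH.1 (top_le_iff.1 hRH)
  have hrπ := hU.hallU.pi r hr (hR.ne_bot_iff.1 hR1)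
  have hRM : SylowOf r R M := hR.trans_hall hU.hallU hrπ
  have hEH : U ⊔ K ≤ H :=
    (hUK.le_norm.trans (nil_sylow_norm_le (nil_of_comm (hab hK1)) hR)).trans hRH
  have hKH : K ≤ H := le_sup_right.trans hEH
  have hUH : U ≤ H := le_sup_left.trans hEH
  have hHM : ∀ g : G, H ≠ cj g M := by
    rintro g rfl
    have h1 : SylowOf r R (cj g M) :=
      Hall.of_card_eq (hRM.cj g) ((le_norm_self R).trans hRH) (card_cj g R).symm
    have h2 := mem_sigma_of_norm_le hH.1 h1 hRH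
    rw [sigma_cj] at h2
    exact hrπ (Or.inl h2)
  have hqs : Nat.card K ∈ sigma Ms := piGrp_sigmaCore Ms _ hq (card_dvd_of_le hP.K_le_sigmaCore)
  have hHMs : ∀ g : G, H ≠ cj g Ms := by
    rintro g rfl
    obtain ⟨c, hc, e⟩ := t10_1b hG hMs hqs hKq (g₁ := 1) (g₂ := g)
      (by rw [cj_one]; exact hP.K_le_sigmaCore.trans (sigmaCore_le Ms)) hKH
    rw [cj_one, cj_eq_of_mem (hKMs hc)] at e
    have h1 : U ≤ K ⊔ kstar M K := hP.inf_eq ▸ le_inf hU.U_le (e ▸ hUH)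
    exact hU1 (le_bot_iff.1 (hUK1 ▸ le_inf le_rfl
      (le_cent_of_comm_of_le (comm_of_isCyclic hP.cyclic) h1 le_sup_left)))
  have hF : TypeF H := typeF_of_not_typeP hH fun h => by
    obtain ⟨g, hg | hg⟩ := hP.conj H h
    · exact hHM g hg
    · exact hHMs g hg
  have hqH : Nat.card K ∉ sigma H := t13_9 hG hMs hH hHMs _ hqs
  obtain ⟨D, hD, hKD⟩ := ex_sigma_compl hG hH hKH ((piGrp_iff_of_card_prime hq rfl).2 hqH)
  have huniq := hP.uniq K le_rfl hq
  have hKF : K ≤ fittingOf D := by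
    by_contra h
    obtain ⟨L, hL, ⟨h1, h2⟩ | ⟨h1, h2⟩⟩ := t14_11 hG hF hD hq hKD rfl h
    · exact not_mem_sigma_of_tau2 h1 (h2.unique huniq ▸ hqs)
    · obtain ⟨g, rfl | rfl⟩ := hP.conj L h2.typeP
      · exact h2.not_typeP2 (hM.cj g)
      · exact not_mem_sigma_of_kappa h1 (by rwa [sigma_cj])
  have hKQ : K ≤ piCoreOf {Nat.card K} D := le_pcore_of_le_fit hKF hKq
  have hQD := piCoreOf_normalIn {Nat.card K} D
  have hQq := piGrp_piCoreOf {Nat.card K} D
  have hHD := sdprod_sigma hG hH hD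
  have hUs : U ≤ sigmaCore H := by
    have h1 : SDP (sigmaCore H) (piCoreOf {Nat.card K} D) _ := hHD.restrict_right hQD.le
    have h2 : H ≤ 𝐍(sigmaCore H ⊔ piCoreOf {Nat.card K} D) := by
      conv_lhs => rw [← hHD.sup]
      exact sup_le (le_norm_of_le le_sup_left) (norms_sup hHD.norm hQD.norm)
    have h3 := t1_6a hU.norm hU.coprime (Or.inl (mmax_sub_sol hG hmax hU.U_le))
    rw [hUK1, sup_bot_eq] at h3
    refine (h1.hall_left (piGrp_compl_sigmaCore hq hqH) (by rwa [compl_compl])).le_of_normal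
      h1.le_norm ?_ ((piGrp_compl_singleton_iff_coprime hq).2 hU.coprime)
    rw [← h3]
    exact (commutator_mono hUH (hKQ.trans le_sup_right)).trans (commutator_le_right_of_norm h2)
  have hMH : U ⊔ K = M ⊓ H := by
    refine (hME.right_eq_of_le (le_inf hE.le hEH) inf_le_left ?_).symm
    rw [eq_bot_iff, ← t14_1_cent hG hmax hU.hallU hU1]
    exact le_inf inf_le_left ((inf_le_inf_left _ inf_le_right).trans
      (a14_sigmaCore_inf_le_cent hG hmax hH hHM hU.U_le hUs))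
  have hDMs : D ≤ Ms := by
    by_cases hc : IsCyclic (piCoreOf {Nat.card K} D)
    · exact (hQD.norm.trans (a14_cyc_norm hc hKQ)).trans
        ((norm_le_norm_cent K).trans (huniq.norm_le hG))
    · have hQ := hQq.isPGroup hq
      have h1 := t12_10a hG hH (hQD.le.trans hD.le) (hD.pi.of_le hQD.le) (nil_of_isPGroup hQ)
      exact hQD.norm.trans
        (t12_10d hG hMs hqs hQ ((le_cent_of_comm_of_le h1 le_rfl hKQ).trans hKMs) hc)
  have hHs : H ⊓ Ms = D := by
    refine hHD.right_eq_of_le (le_inf hD.le hDMs) inf_le_left ?_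
    have h1 : sigmaCore H ⊓ 𝐂(K) = ⊥ := by
      by_contra h
      rcases s12_tau_cases hG hH hD.le hD.pi hq (card_dvd_of_le hKD) with h2 | h2 | h2
      · exact hF.not_mem_kappa _ (mem_kappa_of_cent hG (Or.inl h2) hKH rfl h)
      · exact hHMs 1 (by
          rw [cj_one]; exact (t12_6c hG hH h2 (elemN_one_of_card hq hKH rfl) h).unique huniq)
      · exact hF.not_mem_kappa _ (mem_kappa_of_cent hG (Or.inr h2) hKH rfl h)
    rw [eq_bot_iff, ← h1]
    exact le_inf inf_le_left ((inf_le_inf_left _ inf_le_right).trans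
      (a14_sigmaCore_inf_le_cent hG hH hMs (a14_not_conj_symm hHMs) hKH hP.K_le_sigmaCore))
  refine ⟨hF, hUs, hMH, fun h => ?_, hHs ▸ hKF, hHs ▸ hD⟩
  have h1 : U = sigmaCore H := by
    refine nil_eq_of_norm_le (t14_1_nil hG hH hF.not_typeP1) hUs ?_
    have h2 : sigmaCore H ⊓ 𝐍(U) ≤ (U ⊔ K) ⊓ sigmaCore H := by
      rw [hMH]
      exact le_inf (le_inf ((inf_le_inf_right _ (sigmaCore_le H)).trans h)
        (inf_le_left.trans (sigmaCore_le H))) inf_le_left
    rwa [sup_inf_modular (Or.inl hU.norm) hUs, inf_comm K,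
      sigmaCore_inf_eq_bot (hD.pi.of_le hKD), sup_bot_eq] at h2
  rw [h1, inf_eq_left.2 (sigmaCore_normal H).norm] at h
  exact hHM 1 (by rw [cj_one]; exact mmax_eq hH hmax h)

end CL.BG
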