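import Cfsg.Agent.BG.T9_1

namespace CL.BG

open Cfsg

variable {G : Type*} [Group G] [Finite G]

/-- BG Corollary 9.2, with the maximal subgroup named -/
theorem t9_2u (hG : IsMinSimpleOddOrder G) {L K M : Subgroup G} (hL : UniqMax L M)
    (hK : K ≤ 𝐂(L)) (h2 : 2 ≤ rank K) : UniqMax K M := by
  obtain ⟨p, hp, B, hB⟩ := le_rank_iff.1 h2
  haveI := Fact.mk hp
  refine (t9_1a hG hL.coatom hB.elem (hB.not_isCyclic hp le_rfl) fun b hb h1 => ?_).mono hB.le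
    (mFT_ne_top_of_le_cent hG (hL.ne_bot hG) hK)
  exact hL.le_of_le (le_cent1_iff.2 (hK (hB.le hb))) (mFT_cent1_ne_top hG h1)

/-- BG Corollary 9.2 -/
theorem t9_2 (hG : IsMinSimpleOddOrder G) {L K : Subgroup G} (hL : InUniqueMaximal L)
    (hK : K ≤ 𝐂(L)) (h2 : 2 ≤ rank K) : InUniqueMaximal K := by
  obtain ⟨M, hM⟩ := inU_iff.1 hL
  exact (t9_2u hG hM hK h2).inU

end CL.BG
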