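import Cfsg.Agent.BG.T15_2
import Cfsg.Agent.BG.T9_2
import Cfsg.Agent.BG.T10_11
import Cfsg.Agent.BG.T12_4
import Cfsg.Agent.BG.T12_7
import Cfsg.Agent.BG.T14_12

/-! # Bender-Glauberman Theorem 15.8 -/

namespace CL.BG

open Cfsg Subgroup

variable {G : Type*} [Group G] [Finite G]

/-- BG 15.8 (Coq `tau2_P2type_signalizer`). -/
theorem t15_8 (hG : IsMinSimpleOddOrder G) {M Ms U K R H : Subgroup G} (hM : TypeP2 M)
    (hU : KappaCompl M U K) (hMs : IsCoatom Ms) (hKMs : 𝐂(K) ≤ Ms) {r : ℕ} (hr : r.Prime)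
    (hR : SylowOf r R U) (hH : IsCoatom H) (hRH : 𝐍(R) ≤ H) (ht : (tau2 H).Nonempty) :
    (Nat.card K).Prime ∧ tau2 H = {Nat.card K} ∧ tau2 M = ∅ := by
  have hMc := hM.coatom
  have hq := (t14_2g hG hM hU.hallK).2.1
  have := Fact.mk hq
  obtain ⟨-, hUH, hMH, -, hKF, hD⟩ := t14_12 hG hM hU hMs hKMs hr hR hH hRH
  have hpair := t14_7_of_cent hG hMc hU.hallK le_rfl hq hMs hKMs
  have hKσ : K ≤ sigmaCore Ms := hpair.kstar_kstar ▸ inf_le_left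
  have hK1 := ne_bot_of_card_prime hq
  obtain ⟨s, hs⟩ := ht
  have := Fact.mk hs.1
  obtain ⟨A, hA⟩ := ex_tau2Elem hG hH hD hs
  have hAMs : A ≤ Ms := hA.le.trans inf_le_right
  have hAK : A ≤ 𝐂(K) := le_cent_of_comm_of_le
    (t12_10a hG hH ((fit_le _).trans hD.le) (hD.pi.of_le (fit_le _)) (fit_nil _))
    (le_fit (t12_6a hG hH hD hs hA).1 hA.nilpotent) hKF
  have hsσ : s ∈ sigma Ms := by
    by_contra h
    have h1 : s ∈ tau2 Ms := mem_tau2_iff.2 ⟨hs.1, h, le_antisymm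
      (pRank_le_two_of_not_mem_sigma hG hMs h) ((hA.of_le hAMs).le_pRank hs.1)⟩
    exact hK1 (eq_bot_iff.2 (t12_5d hG hMs h1 (hA.of_le hAMs) ▸ le_inf hKσ (cent_symm hAK)))
  have hAσ : A ≤ sigmaCore Ms := le_sigmaCore hG hMs hAMs (hA.piGrp hs.1 hsσ)
  have hnc : ∀ Q : Subgroup G, SylowOf (Nat.card K) Q (sigmaCore Ms) → ¬ A ≤ 𝐂(Q) :=
    fun Q hQ h => t10_11a hG hH (hA.le.trans hD.le) (hD.pi.of_le hA.le) (t9_2 hG
      (t14_2e hG hpair.typePs hpair.hallKs hq (by rw [hpair.kstar_kstar]) hQ).1.inU h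
      (hA.rank_eq hs.1).ge)
  have hsq : s = Nat.card K := by
    by_contra hne
    have hcop := fun (Q : Subgroup G) (hQ : IsPGroup (Nat.card K) Q) =>
      coprime_card_of_isPGroup_of_ne hs.1 hq hne hA.isPGroup hQ
    by_cases hF : fittingHallOf Ms = sigmaCore Ms
    · obtain ⟨Q, hQ⟩ := sylow_exists (Nat.card K) (sigmaCore Ms)
      exact hnc Q hQ (nil_cent_of_coprime ((fcore_eq_sigmaCore_iff hG hMs).1 hF) hAσ hQ.le
        (hcop Q hQ.isPGroup))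
    · obtain ⟨D, -, -, h⟩ := t15_2_ex hG hMs hpair.hallKs hF
      rw [hpair.kstar_kstar] at h
      have h1 : A ≤ fittingOf Ms := (h.fitting_cent_kstar A hAσ).2 (by
        rw [hpair.kstar_kstar, commutator_eq_bot_iff''.2 hAK]
        exact bot_le)
      exact hnc _ (Hall.restrict h.sylow h.sdpQ.left_le (sigmaCore_le Ms))
        (nil_cent_of_coprime (fit_nil Ms) h1 (h.Q_le.trans (fcore_le_fittingOf Ms))
          (hcop _ h.sylow.isPGroup))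
  subst hsq
  obtain ⟨Q, hQ, hAQ⟩ := sylow_superset hA.isPGroup hAσ
  obtain ⟨h1, ⟨hA₀, -⟩, -⟩ := t12_7 hG hH hD hs hA hQ.isPGroup
    fun h => hnc Q hQ (le_cent_of_comm_of_le h hAQ le_rfl)
  refine ⟨hq, h1, Set.eq_empty_of_forall_notMem fun t ht => ?_⟩
  have := Fact.mk ht.1
  obtain ⟨hE, hsdp, -, -, hreg, -⟩ := t14_2a hG hMc hU
  obtain ⟨B, hB⟩ := ex_tau2Elem hG hMc hE ht
  have hBU : B ≤ U := (hU.hallU.restrict le_sup_left hE.le).le_of_normal hsdp.le_norm hB.le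
    (hB.piGrp ht.1 fun h => h.elim ht.2.1 (not_mem_kappa_of_tau2 ht))
  have hA₀U : A ⊓ 𝐂(sigmaCore H) ≤ 𝐂(U) := inf_le_right.trans (cent_anti hUH)
  have hA₀E : A ⊓ 𝐂(sigmaCore H) ≤ U ⊔ K := hMH ▸ le_inf ((hA₀U.trans (cent_anti hBU)).trans
    (t12_4a hG hMc (hB.mono hE.le))) (inf_le_left.trans (hA.le.trans hD.le))
  obtain ⟨g, hg, hgK⟩ := hall_conj_le (mmax_sub_sol hG hMc hE.le)
    (hU.hallK.restrict le_sup_right hE.le) hA₀E
    ((piGrp_iff_of_card_prime hq hA₀).2 (hU.hallK.pi.mem ⟨hq, dvd_rfl⟩))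
  refine (hU.typeP2_iff hM.typeP).1 hM (hreg.eq_bot_of_le_cent hgK ?_ le_rfl ?_)
  · rw [Ne, cj_eq_bot_iff]
    exact ne_bot_of_card_prime (hA₀.symm ▸ hq)
  · rw [← cj_cent, ← hsdp.normalIn.cj_eq hg]
    exact cj_mono g (cent_symm hA₀U)

end CL.BG
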