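import Cfsg.Agent.BG.T15_7
import Cfsg.Agent.BG.T15_8
import Cfsg.Agent.BG.T14_4

/-! # Bender-Glauberman Corollary 15.9 -/

namespace CL.BG

open Cfsg Subgroup

variable {G : Type*} [Group G] [Finite G]

/-- a maximal subgroup of type `ℱ` with `τ₂(M) = ∅` is a Frobenius group -/
theorem a15_frob_of_tau2_empty (hG : IsMinSimpleOddOrder G) {M E : Subgroup G} (hF : TypeF M)
    (ht : tau2 M = ∅) (hE : Hall (sigma M)ᶜ E M) : Frob (sigmaCore M) E M := by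
  have hM := hF.coatom
  obtain ⟨p, hp, hd, hσ⟩ := a14_exists_not_sigma hG hM
  refine ⟨sdprod_sigma hG hM hE, t10_2e hG hM, hE.ne_bot ⟨hp, hd⟩ hσ,
    a13_semiregular_of_prime fun q hq X hX => ?_⟩
  by_contra hC
  refine hF.not_mem_kappa q (mem_kappa_of_cent hG ?_ (hX.le.trans hE.le) hX.card_one hC)
  rcases (partition_pi_sigma_compl hG hM hE).1 (hX.mem_primesOf hq one_pos) with h | h | h
  · exact Or.inl h
  · exact absurd (ht ▸ h) (Set.notMem_empty q)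
  · exact Or.inr h

/-- BG 15.9(a),(b) (Coq `nonFtype_signalizer_base`). -/
theorem t15_9 (hG : IsMinSimpleOddOrder G) {M N : Subgroup G} (hM : IsCoatom M) {x : G}
    (hx : x ∈ sigmaCore M) (hx1 : x ≠ 1) (hxM : ¬ 𝐂₁(x) ≤ M) (hN : IsCoatom N)
    (hxN : 𝐂₁(x) ≤ N) (hNF : ¬ TypeF N) :
    TypeF M ∧ TypeP2 N ∧
      ∃ E : Subgroup G, Hall (sigma M)ᶜ E M ∧ IsCyclic E ∧ Frob (sigmaCore M) E M := by
  have h := t14_4 hG hM hx hx1 hxM hN hxN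
  have hP2 : TypeP2 N := (typeP_of_not_typeF hN hNF).typeP2_of_not_p1 h.not_P1
  obtain ⟨r, hr, hrd, -⟩ := exists_prime_order_mem_zpowers hx1
  have := Fact.mk hr
  have hr2 : r ∈ tau2 N := h.tau2_elt r hr hrd
  obtain ⟨K₀, hK₀⟩ := hall_exists (kappa N) (mmax_sol hG hN)
  obtain ⟨U₀, hU₀⟩ := t14_2_ex hG hN hK₀
  obtain ⟨g, hg, hgE⟩ := hall_conj (mmax_sol hG hN) (t14_2a hG hN hU₀).1 h.hall
  have hU := hU₀.cj g
  rw [cj_eq_of_mem hg] at hU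
  rw [cj_sup] at hgE
  generalize cj g U₀ = U at hU hgE
  generalize cj g K₀ = K at hU hgE
  obtain ⟨R, hR⟩ := sylow_exists r U
  have hRN : SylowOf r R N :=
    hR.trans_hall hU.hallU fun e => e.elim hr2.2.1 (not_mem_kappa_of_tau2 hr2)
  have hNR : 𝐍(R) ≤ M := t12_10d hG hM (h.tau2_sub hr2) hR.isPGroup
    (hR.le.trans ((le_sup_left.trans hgE.le).trans inf_le_left))
    (not_isCyclic_of_two_le_pRank hr (by rw [hRN.pRank_eq hr, pRank_of_mem_tau2 hr2]))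
  obtain ⟨Ns, hNs, hKNs⟩ := mmax_exists (mFT_cent_ne_top hG (hP2.typeP.hall_ne_bot hU.hallK))
  have hF := (t14_12 hG hP2 hU hNs hKNs hr hR hM hNR).1
  have ht : tau2 M = ∅ := by
    by_contra hne
    have h1 := (t15_8 hG hP2 hU hNs hKNs hr hR hM hNR (Set.nonempty_iff_ne_empty.2 hne)).2.2
    exact Set.notMem_empty r (h1 ▸ hr2)
  obtain ⟨E, hE⟩ := hall_exists (sigma M)ᶜ (mmax_sol hG hM)
  refine ⟨hF, hP2, E, hE, ?_, a15_frob_of_tau2_empty hG hF ht hE⟩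
  obtain ⟨E₁, E₂, E₃, hc⟩ := ex_sigmaCompl hG hM hE
  obtain ⟨c, hc1, hcM⟩ := SetLike.not_le_iff_exists.1 hxM
  have hxF : x ∈ fittingOf M :=
    le_fit (sigmaCore_normal M) (t14_1_nil hG hM hF.not_typeP1) hx
  obtain ⟨-, h2, h3⟩ := t15_7d hG hM hcM (ne_bot_of_mem ⟨hxF, mem_cj'.2
    ⟨x, hxF, by rw [mem_cent1.1 hc1, mul_inv_cancel_right]⟩⟩ hx1) hc
  rw [a13_eq_bot_of_tau2 hc.hall2 fun p hp => Set.notMem_empty p (ht ▸ hp)] at h2
  exact h2.right_eq_of_bot ▸ h3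

end CL.BG
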