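import Cfsg.Agent.BG.Prod
import Cfsg.Agent.BG.Nil
import Cfsg.Agent.BG.Fit
import Cfsg.Agent.BG.Fcore

/-!
# Elementary consequences of type `P` data (Peterfalvi (8.4), (8.5), (8.9) group-theoretic part)
-/

set_option autoImplicit false

namespace CL.BG
open Cfsg Subgroup

variable {G : Type*} [Group G] {M W₁ U W₂ : Subgroup G}

namespace SelfNorm

theorem ne_bot₁ (h : IsSelfNormalizingCyclic W₁ W₂) : W₁ ≠ ⊥ := h.1
theorem ne_bot₂ (h : IsSelfNormalizingCyclic W₁ W₂) : W₂ ≠ ⊥ := h.2.1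
theorem cyclic (h : IsSelfNormalizingCyclic W₁ W₂) : IsCyclic ↥(W₁ ⊔ W₂) := h.2.2.2.2.1

theorem dp (h : IsSelfNormalizingCyclic W₁ W₂) : DP W₁ W₂ (W₁ ⊔ W₂) :=
  DP.mk_sup (le_cent_iff.2 fun b hb a ha => h.2.2.2.1 a ha b hb) h.2.2.1

theorem cyclic₁ (h : IsSelfNormalizingCyclic W₁ W₂) : IsCyclic W₁ :=
  isCyclic_of_le (cyclic h) le_sup_left

theorem cyclic₂ (h : IsSelfNormalizingCyclic W₁ W₂) : IsCyclic W₂ :=
  isCyclic_of_le (cyclic h) le_sup_right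

theorem symm (h : IsSelfNormalizingCyclic W₁ W₂) : IsSelfNormalizingCyclic W₂ W₁ := by
  refine ⟨h.2.1, h.1, by rw [inf_comm]; exact h.2.2.1,
    fun a ha b hb => (h.2.2.2.1 b hb a ha).symm, by rw [sup_comm]; exact cyclic h, ?_⟩
  intro X hX hne
  rw [sup_comm]
  refine h.2.2.2.2.2 X ?_ hne
  rwa [sup_comm, Set.union_comm]

/-- a product of nonidentity elements of the two factors lies in neither factor -/
theorem mul_mem_diff (h : IsSelfNormalizingCyclic W₁ W₂) {a b : G} (ha : a ∈ W₁) (ha1 : a ≠ 1)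
    (hb : b ∈ W₂) (hb1 : b ≠ 1) :
    a * b ∈ (↑(W₁ ⊔ W₂) : Set G) \ (↑W₁ ∪ ↑W₂) := by
  refine ⟨mul_mem (mem_sup_left ha) (mem_sup_right hb), ?_⟩
  rintro (h1 | h2)
  · have : b ∈ W₁ ⊓ W₂ := ⟨by simpa using mul_mem (inv_mem ha) h1, hb⟩
    rw [h.2.2.1] at this
    exact hb1 (mem_bot.1 this)
  · have : a ∈ W₁ ⊓ W₂ := ⟨ha, by simpa using mul_mem h2 (inv_mem hb)⟩
    rw [h.2.2.1] at this
    exact ha1 (mem_bot.1 this)

theorem exists_mem_diff (h : IsSelfNormalizingCyclic W₁ W₂) :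
    ∃ x, x ∈ (↑(W₁ ⊔ W₂) : Set G) \ (↑W₁ ∪ ↑W₂) := by
  obtain ⟨a, ha, ha1⟩ := (W₁.bot_or_exists_ne_one).resolve_left h.1
  obtain ⟨b, hb, hb1⟩ := (W₂.bot_or_exists_ne_one).resolve_left h.2.1
  exact ⟨_, mul_mem_diff h ha ha1 hb hb1⟩

/-- the centralizer of an element of `W ∖ (W₁ ∪ W₂)` is `W` -/
theorem cent1_eq (h : IsSelfNormalizingCyclic W₁ W₂) {x : G}
    (hx : x ∈ (↑(W₁ ⊔ W₂) : Set G) \ (↑W₁ ∪ ↑W₂)) : 𝐂₁(x) = W₁ ⊔ W₂ := by
  rw [← h.2.2.2.2.2 {x} (Set.singleton_subset_iff.2 hx) (Set.singleton_nonempty x)]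
  ext g
  rw [mem_cent1, mem_set_normalizer_iff]
  constructor
  · intro hg n
    simp only [Set.mem_singleton_iff]
    constructor
    · rintro rfl
      rw [hg]; group
    · intro hn
      have : n = g⁻¹ * x * g := by rw [← hn]; group
      rw [this, mul_assoc, ← hg]; group
  · intro hg
    have := (hg x).1 rfl
    simp only [Set.mem_singleton_iff] at this
    calc g * x = g * x * g⁻¹ * g := by group
      _ = x * g := by rw [this]

/-- `W` is a maximal abelian subgroup -/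
theorem eq_of_comm (h : IsSelfNormalizingCyclic W₁ W₂) {A : Subgroup G} (hA : IsMulCommutative A)
    (hle : W₁ ⊔ W₂ ≤ A) : A = W₁ ⊔ W₂ := by
  obtain ⟨x, hx⟩ := exists_mem_diff h
  refine le_antisymm ?_ hle
  rw [← cent1_eq h hx]
  exact (le_cent_of_comm hA).trans (cent_le_cent1 (hle hx.1))

theorem cent_eq (h : IsSelfNormalizingCyclic W₁ W₂) : 𝐂(W₁ ⊔ W₂) = W₁ ⊔ W₂ := by
  obtain ⟨x, hx⟩ := exists_mem_diff h
  refine le_antisymm ?_ (le_cent_of_comm (comm_of_isCyclic (cyclic h)))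
  conv_rhs => rw [← cent1_eq h hx]
  exact cent_le_cent1 hx.1

end SelfNorm

namespace TypeP

theorem sdp_der (hP : IsTypePWith M W₁ U W₂) : SDP ⁅M, M⁆ W₁ M :=
  sdp_of_isComplIn hP.W₁_compl (hP.W₁_compl.2.1.trans (NormalIn.der M).norm)

theorem W₁_le (hP : IsTypePWith M W₁ U W₂) : W₁ ≤ M := hP.W₁_compl.2.1

theorem U_le_der (hP : IsTypePWith M W₁ U W₂) : U ≤ ⁅M, M⁆ := hP.U_compl.2.1

theorem U_le (hP : IsTypePWith M W₁ U W₂) : U ≤ M := (U_le_der hP).trans (NormalIn.der M).le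

theorem H_le_der (hP : IsTypePWith M W₁ U W₂) : fittingHallOf M ≤ ⁅M, M⁆ := hP.U_compl.1

theorem W₂_le_H (hP : IsTypePWith M W₁ U W₂) : W₂ ≤ fittingHallOf M := hP.W₂_le.trans inf_le_left

theorem W₂_le_der (hP : IsTypePWith M W₁ U W₂) : W₂ ≤ ⁅M, M⁆ := (W₂_le_H hP).trans (H_le_der hP)

theorem W₂_le (hP : IsTypePWith M W₁ U W₂) : W₂ ≤ M := (W₂_le_der hP).trans (NormalIn.der M).le

theorem sdp_H (hP : IsTypePWith M W₁ U W₂) : SDP (fittingHallOf M) U ⁅M, M⁆ :=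
  sdp_of_isComplIn hP.U_compl ((U_le hP).trans (fcore_normal M).norm)

theorem H_ne_bot (hP : IsTypePWith M W₁ U W₂) : fittingHallOf M ≠ ⊥ := fun h =>
  hP.selfNormalizing.2.1 (le_bot_iff.1 (h ▸ W₂_le_H hP))

theorem sdp_UW (hP : IsTypePWith M W₁ U W₂) : SDP U W₁ (U ⊔ W₁) :=
  ((sdp_H hP).assoc (sdp_der hP) ((W₁_le hP).trans (fcore_normal M).norm) hP.U_normal).1

theorem sdp_H_UW (hP : IsTypePWith M W₁ U W₂) : SDP (fittingHallOf M) (U ⊔ W₁) M :=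
  ((sdp_H hP).assoc (sdp_der hP) ((W₁_le hP).trans (fcore_normal M).norm) hP.U_normal).2

theorem isHall_W₁ (hP : IsTypePWith M W₁ U W₂) : IsHall W₁ M := ⟨W₁_le hP, hP.W₁_hall⟩

/-- `C_{M'}(W₁) = W₂` -/
theorem der_inf_cent (hP : IsTypePWith M W₁ U W₂) : ⁅M, M⁆ ⊓ 𝐂(W₁) = W₂ := by
  obtain ⟨a, ha, ha1⟩ := (W₁.bot_or_exists_ne_one).resolve_left hP.W₁_ne
  refine le_antisymm ?_ (le_inf (W₂_le_der hP) (SelfNorm.dp hP.selfNormalizing).cent)
  rw [← hP.W₂_centralizer a ha ha1]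
  exact inf_le_inf_left _ (cent_le_cent1 ha)

theorem semiprime (hP : IsTypePWith M W₁ U W₂) {x : G} (hx : x ∈ W₁) (hx1 : x ≠ 1) :
    ⁅M, M⁆ ⊓ 𝐂₁(x) = ⁅M, M⁆ ⊓ 𝐂(W₁) := by
  rw [der_inf_cent hP]; exact hP.W₂_centralizer x hx hx1

/-- `C_M(x) = W` for `x ∈ W₁^#` -/
theorem inf_cent1 (hP : IsTypePWith M W₁ U W₂) {x : G} (hx : x ∈ W₁) (hx1 : x ≠ 1) :
    M ⊓ 𝐂₁(x) = W₁ ⊔ W₂ := by
  have hc : W₁ ≤ 𝐂₁(x) := (le_cent_of_comm (comm_of_isCyclic hP.W₁_cyclic)).trans (cent_le_cent1 hx)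
  have h := ((sdp_der hP).modr hc).sup
  rw [← h, sup_comm]
  exact congrArg _ (hP.W₂_centralizer x hx hx1)

/-- `C_M(W₁) = W` -/
theorem inf_cent (hP : IsTypePWith M W₁ U W₂) : M ⊓ 𝐂(W₁) = W₁ ⊔ W₂ := by
  have hc : W₁ ≤ 𝐂(W₁) := le_cent_of_comm (comm_of_isCyclic hP.W₁_cyclic)
  have h := ((sdp_der hP).modr hc).sup
  rw [← h, sup_comm, der_inf_cent hP]

/-- `W₁` acts regularly on `U` -/
theorem U_inf_cent1 (hP : IsTypePWith M W₁ U W₂) {x : G} (hx : x ∈ W₁) (hx1 : x ≠ 1) :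
    U ⊓ 𝐂₁(x) = ⊥ := by
  rw [eq_bot_iff, ← (sdp_H hP).disj]
  refine le_inf ?_ inf_le_left
  refine le_trans ?_ (W₂_le_H hP)
  rw [← hP.W₂_centralizer x hx hx1]
  exact inf_le_inf_right _ (U_le_der hP)

variable [Finite G]

theorem coprime_der_W₁ (hP : IsTypePWith M W₁ U W₂) :
    (Nat.card ↥⁅M, M⁆).Coprime (Nat.card W₁) := by
  rw [← (sdp_der hP).relIndex_right]; exact hP.W₁_hall.symm

theorem isHall_der (hP : IsTypePWith M W₁ U W₂) : IsHall ⁅M, M⁆ M :=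
  (sdp_der hP).isHall_left (coprime_der_W₁ hP)

theorem coprime_H_U (hP : IsTypePWith M W₁ U W₂) :
    (Nat.card (fittingHallOf M)).Coprime (Nat.card U) :=
  (sdp_H hP).coprime_of_isHall_left
    ((fcore_isHall M).restrict (H_le_der hP) (NormalIn.der M).le)

theorem solvable (hP : IsTypePWith M W₁ U W₂) : Group.IsSolvable M := by
  rw [← (sdp_der hP).sup]
  refine solvable_sup (sdp_der hP).norm ?_ (solvable_of_isCyclic hP.W₁_cyclic)
  rw [← (sdp_H hP).sup]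
  exact solvable_sup (sdp_H hP).norm (solvable_of_nil (fcore_nilpotent M))
    (solvable_of_nil hP.U_nilpotent)

theorem U_inf_fit (hP : IsTypePWith M W₁ U W₂) :
    U ⊓ fittingOf M = U ⊓ 𝐂(fittingHallOf M) := by
  refine le_antisymm (le_inf inf_le_left ?_) (le_inf inf_le_left ?_)
  · refine nil_cent_of_coprime (fit_nil M) inf_le_right (fcore_le_fittingOf M) ?_
    exact ((coprime_H_U hP).symm).coprime_dvd_left (card_dvd_of_le inf_le_left)
  · rw [← hP.fitting_eq]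
    exact le_sup_of_le_right (inf_le_inf_right _ (U_le hP))

/-- Peterfalvi (8.5.a): `F(M) = H C_U(H)`. -/
theorem fit_eq (hP : IsTypePWith M W₁ U W₂) :
    fittingOf M = fittingHallOf M ⊔ (U ⊓ 𝐂(fittingHallOf M)) := by
  rw [← U_inf_fit hP]
  exact ((sdp_H hP).modl' (fcore_le_fittingOf M) hP.fitting_le).sup.symm

theorem dp_fit (hP : IsTypePWith M W₁ U W₂) :
    DP (fittingHallOf M) (U ⊓ 𝐂(fittingHallOf M)) (fittingOf M) :=
  ⟨(fit_eq hP).symm, inf_le_right, by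
    rw [eq_bot_iff, ← (sdp_H hP).disj]; exact inf_le_inf_left _ inf_le_left⟩

/-- Peterfalvi (8.5.b), first half: `U' ≤ C(H)`. -/
theorem der_U_le_cent (hP : IsTypePWith M W₁ U W₂) : ⁅U, U⁆ ≤ 𝐂(fittingHallOf M) := by
  refine le_trans (le_inf (NormalIn.der U).le ?_) ((U_inf_fit hP).le.trans inf_le_right)
  rw [← hP.fitting_eq]
  exact (commutator_mono (U_le_der hP) (U_le_der hP)).trans hP.derived_two_le

/-- Peterfalvi (8.5.b), second half. -/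
theorem eq_bot_of_le_cent (hP : IsTypePWith M W₁ U W₂) (h : U ≤ 𝐂(fittingHallOf M)) : U = ⊥ := by
  have hn : Group.IsNilpotent ↥⁅M, M⁆ := ((sdp_H hP).dp h).nil (fcore_nilpotent M) hP.U_nilpotent
  have hle := le_fcore (NormalIn.der M) hn (isHall_der hP)
  rw [eq_bot_iff, ← (sdp_H hP).disj]
  exact le_inf ((U_le_der hP).trans hle) le_rfl

/-- The second factor of a self-normalizing cyclic pair inside a group of type `P` is
`C_{S'}(W₁)`. -/
theorem W₂_eq {S W₂' : Subgroup G} (hW : IsSelfNormalizingCyclic W₁ W₂) (hW₂S : W₂ ≤ S)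
    (hP : IsTypePWith S W₁ U W₂') : W₂' = W₂ := by
  have hle : W₁ ⊔ W₂ ≤ W₁ ⊔ W₂' := by
    rw [← inf_cent hP]
    exact sup_le (le_inf (W₁_le hP) (le_cent_of_comm (comm_of_isCyclic hP.W₁_cyclic)))
      (le_inf hW₂S (SelfNorm.dp hW).cent)
  have heq := SelfNorm.eq_of_comm hW (comm_of_isCyclic (SelfNorm.cyclic hP.selfNormalizing)) hle
  have h1 := (SelfNorm.dp hW).card
  have h2 := (SelfNorm.dp hP.selfNormalizing).card
  rw [heq, ← h1] at h2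
  have hc : Nat.card W₂' = Nat.card W₂ := Nat.eq_of_mul_eq_mul_left Nat.card_pos h2
  have hcop : (Nat.card W₂').Coprime (Nat.card W₁) :=
    (coprime_der_W₁ hP).coprime_dvd_left (card_dvd_of_le (W₂_le_der hP))
  have hH : Hall (primesOf W₂') W₂' (W₁ ⊔ W₂) := by
    rw [← heq]
    exact ((SelfNorm.dp hP.selfNormalizing).symm.sdp.isHall_left hcop).hall
  have hH' : Hall (primesOf W₂') W₂ (W₁ ⊔ W₂) := by
    have : primesOf W₂' = primesOf W₂ := by unfold primesOf; rw [hc]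
    rw [this]
    exact ((SelfNorm.dp hW).symm.sdp.isHall_left (hc ▸ hcop)).hall
  have hn := nil_of_isCyclic (SelfNorm.cyclic hW)
  rw [nil_hall_eq_core hn hH, ← nil_hall_eq_core hn hH']

end TypeP

end CL.BG
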