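import Cfsg.Agent.BG.A16_Defs
import Cfsg.Agent.BG.A14_Basic
import Cfsg.Agent.BG.TypeP
import Cfsg.Agent.BG.Frob
import Cfsg.Agent.BG.Fit
import Cfsg.Agent.BG.T1_5
import Cfsg.Agent.Solv.SchurZassenhaus

/-!
# The types `F`, `I`, ..., `V` in an arbitrary finite group: ambient forms, conjugation,
independence of the data, mutual exclusion
-/

set_option autoImplicit false

namespace CL.BG

open Cfsg Subgroup

variable {G G' : Type*} [Group G] [Group G'] {M L U U₁ U₀ V W₁ W₂ K H : Subgroup G} {g x : G}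

/-! ### type `F` -/

/-- Data of a subgroup `M` of Frobenius type (Coq: `of_typeF M U` with `is_typeF_inertia M U U₁` and
`is_typeF_complement M U U₀`). -/
structure TypeFWith (M U U₁ U₀ : Subgroup G) : Prop where
  solvable : Group.IsSolvable M
  odd : Odd (Nat.card M)
  core_ne : fittingHallOf M ≠ ⊥
  U_ne : U ≠ ⊥
  sdp : SDP (fittingHallOf M) U M
  U₁_normal : U₁ ⊴ U
  U₁_comm : IsMulCommutative U₁
  cent_le : ∀ x ∈ fittingHallOf M, x ≠ 1 → U ⊓ 𝐂₁(x) ≤ U₁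
  U₀_le : U₀ ≤ U
  exp_eq : Monoid.exponent U₀ = Monoid.exponent U
  reg : Semiregular (fittingHallOf M) U₀

theorem map_subtype_inf_cent1 (A : Subgroup M) (y : M) :
    (A ⊓ centralizer ({y} : Set M)).map M.subtype = A.map M.subtype ⊓ 𝐂₁((y : G)) :=
  map_inf_cent1 M.subtype_injective A y

theorem isOfTypeF_iff_exists : IsOfTypeF M ↔ ∃ U U₁ U₀ : Subgroup G, TypeFWith M U U₁ U₀ := by
  have hi := M.subtype_injective
  constructor
  · rintro ⟨hs, ho, h1, -, U, hU, hc, ⟨U₁, h2, h3, h4, h5⟩, U₀, h6, h7, h8⟩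
    refine ⟨U.map M.subtype, U₁.map M.subtype, U₀.map M.subtype, hs, ho,
      fun h => h1 (fcore_eq_bot_iff.1 h), fun h => hU ((map_eq_bot_iff_of_injective _ hi).1 h),
      sdp_map_subtype hc, NormalIn.map ⟨h2, h3⟩ _, comm_map h4 _, ?_, map_mono h6,
      by rw [exponent_map hi, exponent_map hi, h7], ?_⟩
    · rintro _ ⟨y, hy, rfl⟩ hy1
      rw [coe_subtype, ← map_subtype_inf_cent1]
      exact map_mono (h5 y hy fun h => hy1 (by simp [h]))
    · refine (semiregular_map_iff hi).2 (semiregular_iff.2 fun a ha k hk h => ?_)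
      by_cases h1 : a = 1
      · exact Or.inl h1
      · exact Or.inr (h8 a ha h1 k hk h)
  · rintro ⟨U, U₁, U₀, h⟩
    have hU := h.sdp.right_le
    have e := map_subgroupOf_eq_of_le hU
    have e₁ := map_subgroupOf_eq_of_le (h.U₁_normal.le.trans hU)
    have e₀ := map_subgroupOf_eq_of_le (h.U₀_le.trans hU)
    have hn := h.U₁_normal.subgroupOf M
    refine ⟨h.solvable, h.odd, fun h' => h.core_ne (fcore_eq_bot_iff.2 h'), fun h' => h.U_ne ?_,
      U.subgroupOf M, fun h' => h.U_ne (by rw [← e, h', Subgroup.map_bot]),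
      fcore_subgroupOf M ▸ h.sdp.isComplement', ⟨U₁.subgroupOf M, hn.le, hn.norm,
        by rw [← comm_map_iff hi, e₁]; exact h.U₁_comm, fun y hy hy1 => ?_⟩, U₀.subgroupOf M,
      comap_mono h.U₀_le, by rw [← exponent_map hi, ← exponent_map hi, e, e₀, h.exp_eq],
      fun u hu hu1 y hy hc => ?_⟩
    · have h1 := h.sdp.disj
      rwa [fcore_eq_self_iff'.2 h', inf_eq_right.2 hU] at h1
    · rw [← map_le_map_iff_of_injective hi, map_subtype_inf_cent1, e, e₁]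
      exact h.cent_le y (mem_fcore_iff.2 hy) fun h => hy1 (Subtype.ext h)
    · refine Subtype.ext ((semiregular_iff.1 h.reg u hu y (mem_fcore_iff.2 hy)
        (congrArg Subtype.val hc)).resolve_left fun h => hu1 (Subtype.ext h))

/-- ambient form of `IsOfTypeF` -/
theorem isOfTypeF_iff : IsOfTypeF M ↔ Group.IsSolvable M ∧ Odd (Nat.card M) ∧
    fittingHallOf M ≠ ⊥ ∧ ∃ U : Subgroup G, U ≠ ⊥ ∧ SDP (fittingHallOf M) U M ∧
      (∃ U₁ : Subgroup G, U₁ ⊴ U ∧ IsMulCommutative U₁ ∧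
        ∀ x ∈ fittingHallOf M, x ≠ 1 → U ⊓ 𝐂₁(x) ≤ U₁) ∧
      ∃ U₀ : Subgroup G, U₀ ≤ U ∧ Monoid.exponent U₀ = Monoid.exponent U ∧
        Semiregular (fittingHallOf M) U₀ := by
  rw [isOfTypeF_iff_exists]
  constructor
  · rintro ⟨U, U₁, U₀, h⟩
    exact ⟨h.1, h.2, h.3, U, h.4, h.5, ⟨U₁, h.6, h.7, h.8⟩, U₀, h.9, h.10, h.11⟩
  · rintro ⟨h1, h2, h3, U, h4, h5, ⟨U₁, h6, h7, h8⟩, U₀, h9, h10, h11⟩
    exact ⟨U, U₁, U₀, h1, h2, h3, h4, h5, h6, h7, h8, h9, h10, h11⟩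

theorem TypeFWith.isOfTypeF (h : TypeFWith M U U₁ U₀) : IsOfTypeF M :=
  isOfTypeF_iff_exists.2 ⟨U, U₁, U₀, h⟩

theorem exponent_quot_dvd_iff {N : Subgroup M} [N.Normal] {n : ℕ} :
    Monoid.exponent (M ⧸ N) ∣ n ↔ ∀ x ∈ M, x ^ n ∈ N.map M.subtype := by
  rw [Monoid.exponent_dvd_iff_forall_pow_eq_one]
  constructor
  · intro h y hy
    have h1 := h (QuotientGroup.mk ⟨y, hy⟩)
    rw [← QuotientGroup.mk_pow, QuotientGroup.eq_one_iff] at h1
    exact ⟨_, h1, rfl⟩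
  · intro h y
    obtain ⟨y, rfl⟩ := QuotientGroup.mk_surjective y
    rw [← QuotientGroup.mk_pow, QuotientGroup.eq_one_iff]
    obtain ⟨z, hz, he⟩ := h y y.2
    rwa [show z = y ^ n from Subtype.ext he] at hz

theorem exponent_quot_fcore_dvd_iff {n : ℕ} :
    Monoid.exponent (M ⧸ fittingHall M) ∣ n ↔ ∀ x ∈ M, x ^ n ∈ fittingHallOf M :=
  exponent_quot_dvd_iff

theorem exponent_dvd_iff_of_subgroup {n : ℕ} : Monoid.exponent U ∣ n ↔ ∀ x ∈ U, x ^ n = 1 := by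
  rw [Monoid.exponent_dvd_iff_forall_pow_eq_one]
  exact ⟨fun h y hy => congrArg Subtype.val (h ⟨y, hy⟩), fun h y => Subtype.ext (h y y.2)⟩

theorem SDP.forall_pow_mem_iff (h : SDP K U M) {n : ℕ} :
    (∀ x ∈ M, x ^ n ∈ K) ↔ ∀ x ∈ U, x ^ n = 1 := by
  constructor
  · intro h1 y hy
    exact mem_bot.1 (h.disj ▸ ⟨h1 y (h.right_le hy), U.pow_mem hy n⟩)
  · intro h1 y hy
    obtain ⟨k, hk, u, hu, rfl⟩ := h.exists_mul hy
    rw [← coset_eq_one_iff (h.le_norm (M.pow_mem hy n)), coset_pow (h.le_norm hy),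
      coset_mul (le_norm_self K hk) (h.norm hu), coset_eq_one hk, one_mul, ← coset_pow (h.norm hu),
      h1 u hu, coset_one]

/-- the exponent of `M / M_F` is the exponent of any complement -/
theorem exponent_quot_fcore_eq (h : SDP (fittingHallOf M) U M) :
    Monoid.exponent (M ⧸ fittingHall M) = Monoid.exponent U := by
  refine Nat.dvd_antisymm ?_ ?_
  · rw [exponent_quot_fcore_dvd_iff, h.forall_pow_mem_iff, ← exponent_dvd_iff_of_subgroup]
  · rw [exponent_dvd_iff_of_subgroup, ← h.forall_pow_mem_iff, ← exponent_quot_fcore_dvd_iff]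

theorem isCyclic_pPrimeCore_iff {p : ℕ} (hp : p.Prime) :
    IsCyclic (pPrimeCore p H) ↔ IsCyclic (piCoreOf {p}ᶜ H) := by
  rw [piCoreOf_compl_singleton hp, isCyclic_map_iff H.subtype_injective]

theorem isTISubset_cj : IsTISubset (cj g H : Set G) ↔ IsTISubset (H : Set G) := by
  have key : ∀ (g : G) (H : Subgroup G), IsTISubset (H : Set G) → IsTISubset (cj g H : Set G) := by
    intro g H h
    rw [isTISubset_subgroup_iff] at h ⊢
    intro y hy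
    have h1 := h (g⁻¹ * y * g) (by rwa [← mem_cj, cj_norm])
    have h2 : cj y (cj g H) = cj g (cj (g⁻¹ * y * g) H) := by
      rw [cj_cj, cj_cj]; congr 1; group
    rw [h2, ← cj_inf, h1, cj_bot]
  exact ⟨fun h => by simpa only [cj_inv_cj] using key g⁻¹ _ h, key g H⟩

theorem normalizer_conj_image (g : G) (X : Set G) :
    normalizer ((fun x => g * x * g⁻¹) '' X) = cj g (normalizer X) := by
  have hm : ∀ y, y ∈ (fun x => g * x * g⁻¹) '' X ↔ g⁻¹ * y * g ∈ X := by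
    intro y
    constructor
    · rintro ⟨z, hz, rfl⟩; simpa [mul_assoc] using hz
    · intro h; exact ⟨_, h, by group⟩
  ext y
  rw [mem_cj, mem_set_normalizer_iff, mem_set_normalizer_iff]
  simp only [hm]
  constructor
  · intro h z
    have h1 := h (g * z * g⁻¹)
    have e1 : g⁻¹ * (g * z * g⁻¹) * g = z := by group
    have e2 : g⁻¹ * (y * (g * z * g⁻¹) * y⁻¹) * g = g⁻¹ * y * g * z * (g⁻¹ * y * g)⁻¹ := by group
    rwa [e1, e2] at h1
  · intro h z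
    have h1 := h (g⁻¹ * z * g)
    have e2 : g⁻¹ * y * g * (g⁻¹ * z * g) * (g⁻¹ * y * g)⁻¹ = g⁻¹ * (y * z * y⁻¹) * g := by group
    rwa [e2] at h1

theorem isComplIn_cj {A B : Subgroup G} (h : IsComplIn A B M) (g : G) :
    IsComplIn (cj g A) (cj g B) (cj g M) := by
  obtain ⟨h1, h2, h3, h4⟩ := h
  refine ⟨cj_mono g h1, cj_mono g h2, by rw [← cj_inf, h3, cj_bot], fun m hm => ?_⟩
  obtain ⟨a, ha, b, hb, he⟩ := h4 _ (mem_cj.1 hm)
  refine ⟨_, conj_mem_cj.2 ha, _, conj_mem_cj.2 hb, ?_⟩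
  calc m = g * (g⁻¹ * m * g) * g⁻¹ := by group
    _ = _ := by rw [he]; group

theorem mem_zhat_cj : g * x * g⁻¹ ∈ zhat (cj g W₁) (cj g W₂) ↔ x ∈ zhat W₁ W₂ := by
  simp only [zhat, ← cj_sup, Set.mem_diff, Set.mem_union, SetLike.mem_coe, conj_mem_cj]

theorem SelfNorm.cj (h : IsSelfNormalizingCyclic W₁ W₂) (g : G) :
    IsSelfNormalizingCyclic (cj g W₁) (cj g W₂) := by
  obtain ⟨h1, h2, h3, h4, h5, h6⟩ := h
  refine ⟨fun h => h1 (cj_eq_bot_iff.1 h), fun h => h2 (cj_eq_bot_iff.1 h),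
    by rw [← cj_inf, h3, cj_bot], ?_, by rwa [← cj_sup, isCyclic_cj], fun X hX hne => ?_⟩
  · intro a ha b hb
    obtain ⟨a', ha', rfl⟩ := mem_cj'.1 ha
    obtain ⟨b', hb', rfl⟩ := mem_cj'.1 hb
    rw [conj_mul, conj_mul, h4 a' ha' b' hb']
  · have h7 := h6 ((fun x => g⁻¹ * x * g⁻¹⁻¹) '' X) ?_ (hne.image _)
    · rw [normalizer_conj_image, cj_eq_iff_eq_cj_inv, inv_inv] at h7
      rw [h7, cj_sup]
    · rintro _ ⟨y, hy, rfl⟩
      refine (mem_zhat_cj (g := g)).1 ?_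
      simpa [mul_assoc] using hX hy

variable [Finite G]

namespace TypeFWith

theorem U_le (h : TypeFWith M U U₁ U₀) : U ≤ M := h.sdp.right_le

theorem coprime (h : TypeFWith M U U₁ U₀) : (Nat.card (fittingHallOf M)).Coprime (Nat.card U) :=
  h.sdp.coprime_of_isHall_left (fcore_isHall M)

theorem U₀_ne (h : TypeFWith M U U₁ U₀) : U₀ ≠ ⊥ := by
  rintro rfl
  refine h.U_ne (eq_bot_iff.2 fun y hy => ?_)
  have h1 : Monoid.exponent U ∣ 1 := by
    rw [← h.exp_eq, exponent_dvd_iff_of_subgroup]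
    exact fun z hz => by rw [mem_bot.1 hz, one_pow]
  simpa using exponent_dvd_iff_of_subgroup.1 h1 y hy

theorem frob (h : TypeFWith M U U₁ U₀) : Frob (fittingHallOf M) U₀ (fittingHallOf M ⊔ U₀) :=
  h.reg.frob (h.U₀_le.trans h.sdp.norm) h.core_ne h.U₀_ne

theorem dvd_card_U₀ (h : TypeFWith M U U₁ U₀) {p : ℕ} (hp : p.Prime) (hd : p ∣ Nat.card U) :
    p ∣ Nat.card U₀ := by
  obtain ⟨y, hy, rfl⟩ := exists_orderOf_eq_of_dvd_card hp hd
  refine (orderOf_dvd_of_pow_eq_one ?_).trans (Group.exponent_dvd_nat_card (G := U₀))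
  exact exponent_dvd_iff_of_subgroup.1 h.exp_eq.symm.dvd y hy

theorem map {f : G →* G'} (hf : Function.Injective f) (h : TypeFWith M U U₁ U₀) :
    TypeFWith (M.map f) (U.map f) (U₁.map f) (U₀.map f) := by
  refine ⟨solvable_map h.solvable f, by rw [card_map_of_injective hf]; exact h.odd, ?_,
    fun h' => h.U_ne ((map_eq_bot_iff_of_injective _ hf).1 h'), ?_, h.U₁_normal.map f,
    comm_map h.U₁_comm f, ?_, map_mono h.U₀_le, by rw [exponent_map hf, exponent_map hf, h.exp_eq],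
    ?_⟩ <;> rw [← map_fcore hf]
  · exact fun h' => h.core_ne ((map_eq_bot_iff_of_injective _ hf).1 h')
  · exact h.sdp.map hf
  · rintro _ ⟨y, hy, rfl⟩ hy1
    rw [← map_inf_cent1 hf]
    exact map_mono (h.cent_le y hy fun h => hy1 (by simp [h]))
  · exact h.reg.map hf

theorem cj (h : TypeFWith M U U₁ U₀) (g : G) :
    TypeFWith (cj g M) (cj g U) (cj g U₁) (cj g U₀) := h.map (conj_injective g)

theorem cj_of_mem (h : TypeFWith M U U₁ U₀) (hg : g ∈ M) :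
    TypeFWith M (BG.cj g U) (BG.cj g U₁) (BG.cj g U₀) := by
  simpa only [cj_eq_of_mem hg] using h.cj g

end TypeFWith

/-- complements to a solvable normal Hall subgroup are conjugate -/
theorem SDP.conj_of_coprime (h : SDP K U M) (h' : SDP K V M)
    (hcop : (Nat.card K).Coprime (Nat.card U)) (hsol : Group.IsSolvable K ∨ Group.IsSolvable U) :
    ∃ k ∈ K, BG.cj k U = V := by
  refine CL.exists_conj_eq_of_le_sup h.norm h'.norm hcop.symm hsol.symm (h'.sup ▸ h.right_le) ?_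
  rw [← h.relIndex_left, h'.relIndex_left]

/-- every complement to `M_F` is part of type `F` data (Coq: `compl_of_typeF`) -/
theorem typeFWith_of_sdp (h : IsOfTypeF M) (hU : SDP (fittingHallOf M) U M) :
    ∃ U₁ U₀ : Subgroup G, TypeFWith M U U₁ U₀ := by
  obtain ⟨V, V₁, V₀, hV⟩ := isOfTypeF_iff_exists.1 h
  obtain ⟨k, hk, rfl⟩ := hV.sdp.conj_of_coprime hU hV.coprime
    (Or.inl (solvable_of_nil (fcore_nilpotent M)))
  exact ⟨_, _, hV.cj_of_mem (fcore_le M hk)⟩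

/-- a solvable Frobenius group of odd order with kernel `M_F` is of type `F` -/
theorem typeFWith_of_frob (hsol : Group.IsSolvable M) (hodd : Odd (Nat.card M))
    (h : Frob (fittingHallOf M) U M) : TypeFWith M U ⊥ U :=
  ⟨hsol, hodd, h.ker_ne, h.compl_ne, h.sdp, NormalIn.bot U, inferInstance,
    fun y hy hy1 => (h.reg' y hy hy1).le, le_rfl, rfl, h.reg⟩

theorem isOfTypeF_map {f : G →* G'} (hf : Function.Injective f) (h : IsOfTypeF M) :
    IsOfTypeF (M.map f) := by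
  obtain ⟨U, U₁, U₀, h⟩ := isOfTypeF_iff_exists.1 h
  exact (h.map hf).isOfTypeF

theorem isOfTypeF_cj : IsOfTypeF (cj g M) ↔ IsOfTypeF M :=
  ⟨fun h => by
    have h1 : IsOfTypeF (cj g⁻¹ (cj g M)) := isOfTypeF_map (conj_injective g⁻¹) h
    rwa [cj_inv_cj] at h1, isOfTypeF_map (conj_injective g)⟩

theorem card_pCore_eq {p : ℕ} (hp : p.Prime) (H : Subgroup G) :
    Nat.card (pCore p H) = Nat.card (piCoreOf {p} H) := by
  rw [piCoreOf_singleton hp, card_map_of_injective H.subtype_injective]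

theorem isCyclic_pPrimeCore_cj {p : ℕ} (hp : p.Prime) :
    IsCyclic (pPrimeCore p (cj g H)) ↔ IsCyclic (pPrimeCore p H) := by
  rw [isCyclic_pPrimeCore_iff hp, isCyclic_pPrimeCore_iff hp, ← cj_piCoreOf, isCyclic_cj]

theorem card_pCore_cj {p : ℕ} (hp : p.Prime) :
    Nat.card (pCore p (cj g H)) = Nat.card (pCore p H) := by
  rw [card_pCore_eq hp, card_pCore_eq hp, ← cj_piCoreOf, card_cj]

theorem rankLE_cj {k : ℕ} : RankLE k (cj g H) ↔ RankLE k H := by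
  rw [← rank_le_iff, ← rank_le_iff, rank_cj]

theorem exponent_quot_fcore_cj_dvd {n : ℕ} (h : Monoid.exponent (M ⧸ fittingHall M) ∣ n) (g : G) :
    Monoid.exponent (cj g M ⧸ fittingHall (cj g M)) ∣ n := by
  rw [exponent_quot_fcore_dvd_iff] at h ⊢
  intro y hy
  obtain ⟨z, hz, rfl⟩ := mem_cj'.1 hy
  rw [conj_pow, ← cj_fcore, conj_mem_cj]
  exact h z hz

/-! ### type `I` -/

theorem typeI_cj_of (h : TypeI M) (g : G) : TypeI (cj g M) := by
  refine ⟨isOfTypeF_cj.2 h.1, ?_⟩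
  have e := (cj_fcore g M).symm
  rcases h.2 with h1 | ⟨h1, h2, h3⟩ | ⟨h1, p, hp, h2, h3⟩
  · exact Or.inl (by rwa [e, isTISubset_cj])
  · exact Or.inr (Or.inl (by rw [e, comm_cj, rankLE_cj, rankLE_cj]; exact ⟨h1, h2, h3⟩))
  · refine Or.inr (Or.inr ⟨fun q hq hd => exponent_quot_fcore_cj_dvd (h1 q hq ?_) g, p, hp, ?_, ?_⟩)
    · rwa [e, card_cj] at hd
    · rwa [e, card_cj]
    · rwa [e, isCyclic_pPrimeCore_cj hp]

theorem typeI_cj : TypeI (cj g M) ↔ TypeI M :=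
  ⟨fun h => by simpa only [cj_inv_cj] using typeI_cj_of h g⁻¹, fun h => typeI_cj_of h g⟩

theorem isOfTypeI_cj_of (h : IsOfTypeI M) (g : G) : IsOfTypeI (cj g M) := by
  refine ⟨isOfTypeF_cj.2 h.1, ?_⟩
  have e := (cj_fcore g M).symm
  rcases h.2 with h1 | ⟨h1, h2, h3⟩ | ⟨h1, p, hp, h2, h3⟩
  · exact Or.inl (by rwa [e, isTISubset_cj])
  · exact Or.inr (Or.inl (by rw [e, comm_cj, rankLE_cj, rankLE_cj]; exact ⟨h1, h2, h3⟩))
  · refine Or.inr (Or.inr ⟨fun q hq hd => exponent_quot_fcore_cj_dvd (h1 q hq ?_) g, p, hp, ?_, ?_⟩)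
    · rwa [e, card_cj] at hd
    · rwa [e, card_cj]
    · rwa [isCyclic_pPrimeCore_cj hp]

theorem isOfTypeI_cj : IsOfTypeI (cj g M) ↔ IsOfTypeI M :=
  ⟨fun h => by simpa only [cj_inv_cj] using isOfTypeI_cj_of h g⁻¹, fun h => isOfTypeI_cj_of h g⟩

theorem typeI_of_isOfTypeI' (h : IsOfTypeI M) : TypeI M := by
  refine ⟨h.1, h.2.imp_right (Or.imp_right fun ⟨h1, p, hp, h2, h3⟩ => ⟨h1, p, hp, h2, ?_⟩)⟩
  rw [isCyclic_pPrimeCore_iff hp] at h3 ⊢
  exact isCyclic_of_le h3 ((fcore_normal M).piCoreOf_le _)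

theorem isOfTypeI_of_typeI (h : TypeI M)
    (hF : ∀ x ∈ fittingHallOf M, x ≠ 1 → M ⊓ 𝐂₁(x) ≤ fittingHallOf M) : IsOfTypeI M := by
  refine ⟨h.1, h.2.imp_right (Or.imp_right fun ⟨h1, p, hp, h2, h3⟩ => ⟨h1, p, hp, h2, ?_⟩)⟩
  rw [isCyclic_pPrimeCore_iff hp] at h3 ⊢
  have := Fact.mk hp
  obtain ⟨y, hy, hy1⟩ := exists_ne_one_of_ne_bot
    ((nil_sylow_core (fcore_nilpotent M) p).ne_bot_iff.2 h2)
  refine isCyclic_of_le h3 (piCoreOf_le_piCoreOf (fcore_le M) (le_trans ?_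
    (hF y (piCoreOf_le _ _ hy) hy1)))
  exact le_inf (piCoreOf_le _ _) ((core_compl_le_cent_core {p} M).trans
    (cent_le_cent1 ((fcore_normal M).piCoreOf_le _ hy)))

/-! ### type `P` -/

theorem typePWith_cj (hP : IsTypePWith M W₁ U W₂) (g : G) :
    IsTypePWith (cj g M) (cj g W₁) (cj g U) (cj g W₂) where
  W₁_ne := fun h => hP.W₁_ne (cj_eq_bot_iff.1 h)
  W₁_cyclic := isCyclic_cj.2 hP.W₁_cyclic
  W₁_hall := by rw [card_cj, relIndex_cj]; exact hP.W₁_hall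
  W₁_compl := by rw [← cj_commutator]; exact isComplIn_cj hP.W₁_compl g
  U_nilpotent := nilpotent_cj.2 hP.U_nilpotent
  U_normal := by rw [← cj_norm]; exact cj_mono g hP.U_normal
  U_compl := by rw [← cj_commutator, ← cj_fcore]; exact isComplIn_cj hP.U_compl g
  H_not_cyclic := by rw [← cj_fcore, isCyclic_cj]; exact hP.H_not_cyclic
  derived_two_le := by
    rw [← cj_commutator, ← cj_commutator, ← cj_fcore, ← cj_cent, ← cj_inf, ← cj_sup]
    exact cj_mono g hP.derived_two_le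
  fitting_eq := by rw [← cj_fcore, ← cj_cent, ← cj_inf, ← cj_sup, hP.fitting_eq, cj_fit]
  fitting_le := by rw [← cj_commutator, ← cj_fit]; exact cj_mono g hP.fitting_le
  W₂_le := by
    rw [← cj_commutator, ← cj_commutator, ← cj_fcore, ← cj_inf]
    exact cj_mono g hP.W₂_le
  W₂_centralizer := by
    intro y hy hy1
    obtain ⟨z, hz, rfl⟩ := mem_cj'.1 hy
    rw [← cj_commutator, ← cj_cent1, ← cj_inf,
      hP.W₂_centralizer z hz fun h => hy1 (by simp [h])]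
  selfNormalizing := SelfNorm.cj hP.selfNormalizing g

theorem typePWith_cj_of_mem (hP : IsTypePWith M W₁ U W₂) (hg : g ∈ M) :
    IsTypePWith M (cj g W₁) (cj g U) (cj g W₂) := by
  simpa only [cj_eq_of_mem hg] using typePWith_cj hP g

theorem TypeP.solvable_der (hP : IsTypePWith M W₁ U W₂) : Group.IsSolvable ↥⁅M, M⁆ :=
  solvable_of_le (TypeP.solvable hP) (NormalIn.der M).le

theorem TypeP.hall_U (hP : IsTypePWith M W₁ U W₂) :
    Hall (primesOf (fittingHallOf M))ᶜ U ⁅M, M⁆ :=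
  (TypeP.sdp_H hP).hall_right_of_left
    ((fcore_hall M).restrict (TypeP.H_le_der hP) (NormalIn.der M).le)

/-- type `P` data with the same `W₁` are conjugate under `W₂` -/
theorem typePWith_conj_same {U' W₂' : Subgroup G} (hP : IsTypePWith M W₁ U W₂)
    (hP' : IsTypePWith M W₁ U' W₂') : W₂' = W₂ ∧ ∃ c ∈ W₂, U' = cj c U := by
  refine ⟨by rw [← TypeP.der_inf_cent hP, TypeP.der_inf_cent hP'], ?_⟩
  obtain ⟨c, hc, he⟩ := t1_5c (TypeP.sdp_der hP).norm (TypeP.coprime_der_W₁ hP)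
    (TypeP.solvable_der hP) (TypeP.hall_U hP) hP.U_normal (TypeP.hall_U hP') hP'.U_normal
  exact ⟨c, TypeP.der_inf_cent hP ▸ hc, he.symm⟩

theorem typePWith_conj {W₁' U' W₂' : Subgroup G} (hP : IsTypePWith M W₁ U W₂)
    (hP' : IsTypePWith M W₁' U' W₂') :
    ∃ m ∈ ⁅M, M⁆, W₁' = cj m W₁ ∧ U' = cj m U ∧ W₂' = cj m W₂ := by
  obtain ⟨k, hk, rfl⟩ := (TypeP.sdp_der hP).conj_of_coprime (TypeP.sdp_der hP')
    (TypeP.coprime_der_W₁ hP) (Or.inl (TypeP.solvable_der hP))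
  have h1 := typePWith_cj_of_mem hP ((NormalIn.der M).le hk)
  obtain ⟨rfl, c, hc, rfl⟩ := typePWith_conj_same h1 hP'
  refine ⟨c * k, mul_mem (TypeP.W₂_le_der h1 hc) hk, ?_, (cj_mul c k U).symm, ?_⟩
  · rw [cj_mul, cj_eq_of_mem_cent ((SelfNorm.dp h1.selfNormalizing).cent hc)]
  · rw [cj_mul, cj_eq_of_mem hc]

/-- every complement to `M'` is part of type `P` data -/
theorem typePWith_of_sdp (hP : IsTypePWith M W₁ U W₂) (hK : SDP ⁅M, M⁆ K M) :
    ∃ m ∈ ⁅M, M⁆, K = cj m W₁ ∧ IsTypePWith M K (cj m U) (cj m W₂) := by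
  obtain ⟨k, hk, rfl⟩ := (TypeP.sdp_der hP).conj_of_coprime hK
    (TypeP.coprime_der_W₁ hP) (Or.inl (TypeP.solvable_der hP))
  exact ⟨k, hk, rfl, typePWith_cj_of_mem hP ((NormalIn.der M).le hk)⟩

/-- every `W₁`-invariant complement to `M_F` in `M'` is part of type `P` data -/
theorem typePWith_of_sdp_core (hP : IsTypePWith M W₁ U W₂) (hV : SDP (fittingHallOf M) V ⁅M, M⁆)
    (hn : W₁ ≤ 𝐍(V)) : IsTypePWith M W₁ V W₂ := by
  obtain ⟨c, hc, rfl⟩ := t1_5c (TypeP.sdp_der hP).norm (TypeP.coprime_der_W₁ hP)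
    (TypeP.solvable_der hP) (TypeP.hall_U hP) hP.U_normal (hV.hall_right_of_left
      ((fcore_hall M).restrict (TypeP.H_le_der hP) (NormalIn.der M).le)) hn
  have h1 := typePWith_cj_of_mem hP ((NormalIn.der M).le hc.1)
  rwa [cj_eq_of_mem_cent hc.2, cj_eq_of_mem (TypeP.der_inf_cent hP ▸ hc : c ∈ W₂)] at h1

/-- every complement to `M_F` in `M'` is part of type `P` data -/
theorem typePWith_of_sdp_core' (hP : IsTypePWith M W₁ U W₂)
    (hV : SDP (fittingHallOf M) V ⁅M, M⁆) :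
    ∃ m ∈ fittingHallOf M, V = cj m U ∧ IsTypePWith M (cj m W₁) V (cj m W₂) := by
  obtain ⟨k, hk, rfl⟩ := (TypeP.sdp_H hP).conj_of_coprime hV (TypeP.coprime_H_U hP)
    (Or.inl (solvable_of_nil (fcore_nilpotent M)))
  exact ⟨k, hk, rfl, typePWith_cj_of_mem hP (fcore_le M hk)⟩

/-- Coq: `typePF_exclusion` -/
theorem typeP_not_isOfTypeF (hP : IsTypePWith M W₁ U W₂) : ¬ IsOfTypeF M := by
  intro h
  obtain ⟨V, V₁, V₀, hV⟩ := isOfTypeF_iff_exists.1 h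
  obtain ⟨p, hp, hd⟩ := exists_prime_dvd_card hP.W₁_ne
  have := Fact.mk hp
  have h1 : p ∣ Nat.card V := by
    have h2 := hd.trans (card_dvd_of_le (TypeP.W₁_le hP))
    rw [← hV.sdp.card] at h2
    refine ((Nat.Prime.dvd_mul hp).1 h2).resolve_left fun h3 => hp.one_lt.ne' ?_
    exact Nat.eq_one_of_dvd_coprimes (TypeP.coprime_der_W₁ hP)
      (h3.trans (card_dvd_of_le (TypeP.H_le_der hP))) hd
  obtain ⟨X, hX, hc⟩ := exists_card_eq_of_dvd_card hp (hV.dvd_card_U₀ hp h1)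
  obtain ⟨P, hS, hPW⟩ := (TypeP.isHall_W₁ hP).hall.exists_sylow (p := p) ⟨hp, hd⟩
  obtain ⟨m, hm, h2⟩ := sylow_conj_le hS (isPGroup_of_card_prime hc)
    (hX.trans (hV.U₀_le.trans hV.U_le))
  have h3 := (hV.cj_of_mem hm).reg.eq_bot_of_le_cent (cj_mono m hX)
    (fun h => ne_bot_of_card_prime (hc ▸ hp) (cj_eq_bot_iff.1 h)) (TypeP.W₂_le_H hP)
    ((SelfNorm.dp hP.selfNormalizing).cent.trans (cent_anti (h2.trans hPW)))
  exact SelfNorm.ne_bot₂ hP.selfNormalizing h3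

theorem typeP_not_typeI (hP : IsTypePWith M W₁ U W₂) : ¬ TypeI M :=
  fun h => typeP_not_isOfTypeF hP h.1

theorem typeP_not_isOfTypeI (hP : IsTypePWith M W₁ U W₂) : ¬ IsOfTypeI M :=
  fun h => typeP_not_isOfTypeF hP h.1

/-! ### types `II`-`V` -/

theorem norm_cj_le_iff (hg : g ∈ M) : 𝐍(cj g U) ≤ M ↔ 𝐍(U) ≤ M := by
  rw [← cj_norm, cj_le_iff_le_cj_inv, cj_eq_of_mem (M.inv_mem hg)]

theorem typeII_data (h : IsOfTypeII M) (hP : IsTypePWith M W₁ U W₂) :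
    U ≠ ⊥ ∧ (Nat.card W₁).Prime ∧ IsTISubset (fittingOf M : Set G) ∧ IsMulCommutative U ∧
      ¬ 𝐍(U) ≤ M ∧ IsOfTypeF ↥⁅M, M⁆ ∧ fittingHallOf ⁅M, M⁆ = fittingHallOf M := by
  obtain ⟨A, B, C, hP', h1, h2, h3, h4, h5, h6⟩ := h
  obtain ⟨m, hm, rfl, rfl, rfl⟩ := typePWith_conj hP' hP
  exact ⟨fun h => h1 (cj_eq_bot_iff.1 h), by rwa [card_cj], h3, comm_cj.2 h4,
    by rwa [norm_cj_le_iff ((NormalIn.der M).le hm)], h6⟩

theorem typeIII_data (h : IsOfTypeIII M) (hP : IsTypePWith M W₁ U W₂) :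
    U ≠ ⊥ ∧ (Nat.card W₁).Prime ∧ IsTISubset (fittingOf M : Set G) ∧ IsMulCommutative U ∧
      𝐍(U) ≤ M := by
  obtain ⟨A, B, C, hP', h1, h2, h3, h4, h5⟩ := h
  obtain ⟨m, hm, rfl, rfl, rfl⟩ := typePWith_conj hP' hP
  exact ⟨fun h => h1 (cj_eq_bot_iff.1 h), by rwa [card_cj], h3, comm_cj.2 h4,
    by rwa [norm_cj_le_iff ((NormalIn.der M).le hm)]⟩

theorem typeIV_data (h : IsOfTypeIV M) (hP : IsTypePWith M W₁ U W₂) :
    U ≠ ⊥ ∧ (Nat.card W₁).Prime ∧ IsTISubset (fittingOf M : Set G) ∧ ¬ IsMulCommutative U ∧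
      𝐍(U) ≤ M := by
  obtain ⟨A, B, C, hP', h1, h2, h3, h4, h5⟩ := h
  obtain ⟨m, hm, rfl, rfl, rfl⟩ := typePWith_conj hP' hP
  exact ⟨fun h => h1 (cj_eq_bot_iff.1 h), by rwa [card_cj], h3, by rwa [comm_cj],
    by rwa [norm_cj_le_iff ((NormalIn.der M).le hm)]⟩

theorem typeV_data (h : IsOfTypeV M) (hP : IsTypePWith M W₁ U W₂) :
    U = ⊥ ∧ (IsTISubset (fittingHallOf M : Set G) ∨
      (∃ p : ℕ, p.Prime ∧ p ∣ Nat.card (fittingHallOf M) ∧ Nat.card W₁ ∣ p - 1 ∧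
        IsCyclic (pPrimeCore p (fittingHallOf M))) ∨
      (∃ p : ℕ, p.Prime ∧ p ∣ Nat.card (fittingHallOf M) ∧
        Nat.card (pCore p (fittingHallOf M)) = p ^ 3 ∧ Nat.card W₁ ∣ p + 1 ∧
        IsCyclic (pPrimeCore p (fittingHallOf M)))) := by
  obtain ⟨A, B, C, hP', h1, h2⟩ := h
  obtain ⟨m, hm, rfl, rfl, rfl⟩ := typePWith_conj hP' hP
  exact ⟨cj_eq_bot_iff.2 h1, by rwa [card_cj]⟩

theorem type34_data (h : IsOfTypeIII M ∨ IsOfTypeIV M) (hP : IsTypePWith M W₁ U W₂) :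
    U ≠ ⊥ ∧ (Nat.card W₁).Prime ∧ IsTISubset (fittingOf M : Set G) ∧ 𝐍(U) ≤ M := by
  rcases h with h | h
  · obtain ⟨h1, h2, h3, -, h5⟩ := typeIII_data h hP
    exact ⟨h1, h2, h3, h5⟩
  · obtain ⟨h1, h2, h3, -, h5⟩ := typeIV_data h hP
    exact ⟨h1, h2, h3, h5⟩

omit [Finite G] in
theorem typeP_of_typeII (h : IsOfTypeII M) : IsOfTypeP M := h.imp fun _ h => h.imp fun _ h =>
  h.imp fun _ h => h.1

omit [Finite G] in
theorem typeP_of_typeIII (h : IsOfTypeIII M) : IsOfTypeP M := h.imp fun _ h => h.imp fun _ h =>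
  h.imp fun _ h => h.1

omit [Finite G] in
theorem typeP_of_typeIV (h : IsOfTypeIV M) : IsOfTypeP M := h.imp fun _ h => h.imp fun _ h =>
  h.imp fun _ h => h.1

omit [Finite G] in
theorem typeP_of_typeV (h : IsOfTypeV M) : IsOfTypeP M := h.imp fun _ h => h.imp fun _ h =>
  h.imp fun _ h => h.1

theorem typeII_not_type34 (h : IsOfTypeII M) : ¬ (IsOfTypeIII M ∨ IsOfTypeIV M) := by
  obtain ⟨A, B, C, hP⟩ := typeP_of_typeII h
  exact fun h' => (typeII_data h hP).2.2.2.2.1 (type34_data h' hP).2.2.2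

theorem typeII_not_typeIII (h : IsOfTypeII M) : ¬ IsOfTypeIII M :=
  fun h' => typeII_not_type34 h (Or.inl h')

theorem typeII_not_typeIV (h : IsOfTypeII M) : ¬ IsOfTypeIV M :=
  fun h' => typeII_not_type34 h (Or.inr h')

theorem typeII_not_typeV (h : IsOfTypeII M) : ¬ IsOfTypeV M := by
  obtain ⟨A, B, C, hP⟩ := typeP_of_typeII h
  exact fun h' => (typeII_data h hP).1 (typeV_data h' hP).1

theorem typeIII_not_typeIV (h : IsOfTypeIII M) : ¬ IsOfTypeIV M := by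
  obtain ⟨A, B, C, hP⟩ := typeP_of_typeIII h
  exact fun h' => (typeIV_data h' hP).2.2.2.1 (typeIII_data h hP).2.2.2.1

theorem typeV_not_type34 (h : IsOfTypeV M) : ¬ (IsOfTypeIII M ∨ IsOfTypeIV M) := by
  obtain ⟨A, B, C, hP⟩ := typeP_of_typeV h
  exact fun h' => (type34_data h' hP).1 (typeV_data h hP).1

theorem typeF_not_typeP (h : IsOfTypeF M) : ¬ IsOfTypeP M :=
  fun ⟨_, _, _, hP⟩ => typeP_not_isOfTypeF hP h

theorem typeF_not_type34 (h : IsOfTypeF M) : ¬ (IsOfTypeIII M ∨ IsOfTypeIV M) :=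
  fun h' => typeF_not_typeP h (h'.elim typeP_of_typeIII typeP_of_typeIV)

theorem isOfTypeP_cj : IsOfTypeP (cj g M) ↔ IsOfTypeP M := by
  have key : ∀ (g : G) (M : Subgroup G), IsOfTypeP M → IsOfTypeP (cj g M) :=
    fun g M ⟨_, _, _, h⟩ => ⟨_, _, _, typePWith_cj h g⟩
  exact ⟨fun h => by simpa only [cj_inv_cj] using key g⁻¹ _ h, key g M⟩

theorem isOfTypeII_cj : IsOfTypeII (cj g M) ↔ IsOfTypeII M := by
  have key : ∀ (g : G) (M : Subgroup G), IsOfTypeII M → IsOfTypeII (cj g M) :=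
    fun g M ⟨_, _, _, h, h1, h2, h3, h4, h5, h6, h7⟩ => ⟨_, _, _, typePWith_cj h g,
      fun h => h1 (cj_eq_bot_iff.1 h), by rwa [card_cj], by rwa [← cj_fit, isTISubset_cj],
      comm_cj.2 h4, by rwa [← cj_norm, cj_le_cj_iff], by rwa [← cj_commutator, isOfTypeF_cj],
      by rw [← cj_commutator, ← cj_fcore, ← cj_fcore, h7]⟩
  exact ⟨fun h => by simpa only [cj_inv_cj] using key g⁻¹ _ h, key g M⟩

theorem isOfTypeIII_cj : IsOfTypeIII (cj g M) ↔ IsOfTypeIII M := by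
  have key : ∀ (g : G) (M : Subgroup G), IsOfTypeIII M → IsOfTypeIII (cj g M) :=
    fun g M ⟨_, _, _, h, h1, h2, h3, h4, h5⟩ => ⟨_, _, _, typePWith_cj h g,
      fun h => h1 (cj_eq_bot_iff.1 h), by rwa [card_cj], by rwa [← cj_fit, isTISubset_cj],
      comm_cj.2 h4, by rwa [← cj_norm, cj_le_cj_iff]⟩
  exact ⟨fun h => by simpa only [cj_inv_cj] using key g⁻¹ _ h, key g M⟩

theorem isOfTypeIV_cj : IsOfTypeIV (cj g M) ↔ IsOfTypeIV M := by
  have key : ∀ (g : G) (M : Subgroup G), IsOfTypeIV M → IsOfTypeIV (cj g M) :=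
    fun g M ⟨_, _, _, h, h1, h2, h3, h4, h5⟩ => ⟨_, _, _, typePWith_cj h g,
      fun h => h1 (cj_eq_bot_iff.1 h), by rwa [card_cj], by rwa [← cj_fit, isTISubset_cj],
      by rwa [comm_cj], by rwa [← cj_norm, cj_le_cj_iff]⟩
  exact ⟨fun h => by simpa only [cj_inv_cj] using key g⁻¹ _ h, key g M⟩

theorem isOfTypeV_cj : IsOfTypeV (cj g M) ↔ IsOfTypeV M := by
  have key : ∀ (g : G) (M : Subgroup G), IsOfTypeV M → IsOfTypeV (cj g M) := by
    rintro g M ⟨_, _, _, h, h1, h2⟩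
    refine ⟨_, _, _, typePWith_cj h g, cj_eq_bot_iff.2 h1, ?_⟩
    rw [← cj_fcore, isTISubset_cj, card_cj, card_cj]
    refine h2.imp_right (Or.imp ?_ ?_)
    · rintro ⟨p, hp, h3, h4, h5⟩
      exact ⟨p, hp, h3, h4, (isCyclic_pPrimeCore_cj hp).2 h5⟩
    · rintro ⟨p, hp, h3, h4, h5, h6⟩
      exact ⟨p, hp, h3, by rwa [card_pCore_cj hp], h5, (isCyclic_pPrimeCore_cj hp).2 h6⟩
  exact ⟨fun h => by simpa only [cj_inv_cj] using key g⁻¹ _ h, key g M⟩

/-! ### the sets `M_s`, `A₁(M)`, `A(M)`, `A₀(M)` -/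

omit [Finite G] in
theorem typeCore_of_type34 (h : IsOfTypeIII M ∨ IsOfTypeIV M) : typeCore M = ⁅M, M⁆ := if_pos h

omit [Finite G] in
theorem typeCore_of_not_type34 (h : ¬ (IsOfTypeIII M ∨ IsOfTypeIV M)) :
    typeCore M = fittingHallOf M := if_neg h

theorem typeCore_of_typeF (h : IsOfTypeF M) : typeCore M = fittingHallOf M :=
  typeCore_of_not_type34 (typeF_not_type34 h)

theorem typeCore_of_isOfTypeII (h : IsOfTypeII M) : typeCore M = fittingHallOf M :=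
  typeCore_of_not_type34 (typeII_not_type34 h)

theorem typeCore_of_isOfTypeV (h : IsOfTypeV M) : typeCore M = fittingHallOf M :=
  typeCore_of_not_type34 (typeV_not_type34 h)

omit [Finite G] in
theorem typeCore_normalIn (M : Subgroup G) : typeCore M ⊴ M := by
  by_cases h : IsOfTypeIII M ∨ IsOfTypeIV M
  · rw [typeCore_of_type34 h]; exact NormalIn.der M
  · rw [typeCore_of_not_type34 h]; exact fcore_normal M

theorem fcore_le_typeCore (M : Subgroup G) : fittingHallOf M ≤ typeCore M := by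
  by_cases h : IsOfTypeIII M ∨ IsOfTypeIV M
  · obtain ⟨_, _, _, hP⟩ := h.elim typeP_of_typeIII typeP_of_typeIV
    rw [typeCore_of_type34 h]; exact TypeP.H_le_der hP
  · rw [typeCore_of_not_type34 h]

theorem typeCore_le_der (hP : IsTypePWith M W₁ U W₂) : typeCore M ≤ ⁅M, M⁆ := by
  by_cases h : IsOfTypeIII M ∨ IsOfTypeIV M
  · rw [typeCore_of_type34 h]
  · rw [typeCore_of_not_type34 h]; exact TypeP.H_le_der hP

theorem typeCore_cj (g : G) (M : Subgroup G) : typeCore (cj g M) = cj g (typeCore M) := by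
  by_cases h : IsOfTypeIII M ∨ IsOfTypeIV M
  · rw [typeCore_of_type34 h, typeCore_of_type34 (by rwa [isOfTypeIII_cj, isOfTypeIV_cj]),
      cj_commutator]
  · rw [typeCore_of_not_type34 h, typeCore_of_not_type34 (by rwa [isOfTypeIII_cj, isOfTypeIV_cj]),
      cj_fcore]

omit [Finite G] in
theorem mem_typeA1 : x ∈ typeA1 M ↔ x ∈ typeCore M ∧ x ≠ 1 := Iff.rfl

theorem mem_typeA1_cj : g * x * g⁻¹ ∈ typeA1 (cj g M) ↔ x ∈ typeA1 M := by
  rw [mem_typeA1, mem_typeA1, typeCore_cj, conj_mem_cj, Ne, conj_eq_one_iff]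

omit [Finite G] in
theorem mem_centSet_cj {A B : Subgroup G} :
    g * x * g⁻¹ ∈ {a | a ∈ cj g A ∧ a ≠ 1 ∧ ∃ y ∈ cj g B, y ≠ 1 ∧ a * y = y * a} ↔
      x ∈ {a | a ∈ A ∧ a ≠ 1 ∧ ∃ y ∈ B, y ≠ 1 ∧ a * y = y * a} := by
  simp only [Set.mem_setOf_eq, conj_mem_cj, Ne, conj_eq_one_iff]
  refine and_congr_right fun _ => and_congr_right fun _ => ⟨?_, ?_⟩
  · rintro ⟨y, hy, hy1, hc⟩
    obtain ⟨z, hz, rfl⟩ := mem_cj'.1 hy
    rw [conj_mul, conj_mul] at hc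
    exact ⟨z, hz, fun h => hy1 (by simp [h]), by simpa using hc⟩
  · rintro ⟨y, hy, hy1, hc⟩
    exact ⟨_, conj_mem_cj.2 hy, by rwa [conj_eq_one_iff], by rw [conj_mul, conj_mul, hc]⟩

theorem mem_ftA_cj : g * x * g⁻¹ ∈ ftA (cj g M) ↔ x ∈ ftA M := by
  by_cases h : TypeI M
  · rw [ftA_of_typeI h, ftA_of_typeI (typeI_cj.2 h), ← cj_fcore, mem_centSet_cj]
  · rw [ftA_of_not_typeI h, ftA_of_not_typeI (by rwa [typeI_cj]), typeCore_cj, ← cj_commutator,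
      mem_centSet_cj]

theorem mem_typeA_cj : g * x * g⁻¹ ∈ typeA (cj g M) ↔ x ∈ typeA M := by
  unfold typeA
  by_cases h : IsOfTypeI M
  · rw [if_pos h, if_pos (isOfTypeI_cj.2 h), ← cj_fcore, mem_centSet_cj]
  · rw [if_neg h, if_neg (by rwa [isOfTypeI_cj]), typeCore_cj, ← cj_commutator, mem_centSet_cj]

theorem exists_typeP_conj_cj (h : ∃ W₁ U W₂ : Subgroup G, IsTypePWith M W₁ U W₂ ∧
    ∃ m ∈ M, ∃ w ∈ W₁ ⊔ W₂, w ∉ W₁ ∧ w ∉ W₂ ∧ x = m * w * m⁻¹) (g : G) :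
    ∃ W₁ U W₂ : Subgroup G, IsTypePWith (cj g M) W₁ U W₂ ∧
      ∃ m ∈ cj g M, ∃ w ∈ W₁ ⊔ W₂, w ∉ W₁ ∧ w ∉ W₂ ∧ g * x * g⁻¹ = m * w * m⁻¹ := by
  obtain ⟨A, B, C, hP, m, hm, w, h1, h2, h3, rfl⟩ := h
  exact ⟨_, _, _, typePWith_cj hP g, _, conj_mem_cj.2 hm, g * w * g⁻¹,
    by rwa [← cj_sup, conj_mem_cj], by rwa [conj_mem_cj], by rwa [conj_mem_cj], by group⟩

theorem mem_ftA0_cj : g * x * g⁻¹ ∈ ftA0 (cj g M) ↔ x ∈ ftA0 M := by
  have key : ∀ (g x : G) (M : Subgroup G), x ∈ ftA0 M → g * x * g⁻¹ ∈ ftA0 (cj g M) :=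
    fun g x M h => h.imp mem_ftA_cj.2 fun h => ⟨by rw [typeI_cj]; exact h.1,
      exists_typeP_conj_cj h.2 g⟩
  exact ⟨fun h => by simpa [cj_inv_cj, mul_assoc] using key g⁻¹ _ _ h, key g x M⟩

theorem mem_typeA0_cj : g * x * g⁻¹ ∈ typeA0 (cj g M) ↔ x ∈ typeA0 M := by
  have key : ∀ (g x : G) (M : Subgroup G), x ∈ typeA0 M → g * x * g⁻¹ ∈ typeA0 (cj g M) :=
    fun g x M h => h.imp mem_typeA_cj.2 fun h => ⟨by rw [isOfTypeI_cj]; exact h.1,
      exists_typeP_conj_cj h.2 g⟩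
  exact ⟨fun h => by simpa [cj_inv_cj, mul_assoc] using key g⁻¹ _ _ h, key g x M⟩

theorem conj_mem_typeA1 (hg : g ∈ M) : g * x * g⁻¹ ∈ typeA1 M ↔ x ∈ typeA1 M := by
  simpa only [cj_eq_of_mem hg] using mem_typeA1_cj (g := g) (x := x) (M := M)

theorem conj_mem_ftA (hg : g ∈ M) : g * x * g⁻¹ ∈ ftA M ↔ x ∈ ftA M := by
  simpa only [cj_eq_of_mem hg] using mem_ftA_cj (g := g) (x := x) (M := M)

theorem conj_mem_ftA0 (hg : g ∈ M) : g * x * g⁻¹ ∈ ftA0 M ↔ x ∈ ftA0 M := by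
  simpa only [cj_eq_of_mem hg] using mem_ftA0_cj (g := g) (x := x) (M := M)

theorem exists_typeP_conj_iff (hP : IsTypePWith M W₁ U W₂) :
    (∃ W₁ U W₂ : Subgroup G, IsTypePWith M W₁ U W₂ ∧
      ∃ m ∈ M, ∃ w ∈ W₁ ⊔ W₂, w ∉ W₁ ∧ w ∉ W₂ ∧ x = m * w * m⁻¹) ↔
    ∃ m ∈ M, ∃ w ∈ zhat W₁ W₂, x = m * w * m⁻¹ := by
  constructor
  · rintro ⟨A, B, C, hP', m, hm, w, h1, h2, h3, rfl⟩
    obtain ⟨k, hk, rfl, rfl, rfl⟩ := typePWith_conj hP hP'
    refine ⟨m * k, M.mul_mem hm ((NormalIn.der M).le hk), k⁻¹ * w * k, ?_, by group⟩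
    rw [← cj_sup] at h1
    rw [mem_cj] at h1 h2 h3
    exact ⟨h1, fun h => h.elim h2 h3⟩
  · rintro ⟨m, hm, w, hw, rfl⟩
    exact ⟨_, _, _, hP, m, hm, w, hw.1, fun h => hw.2 (Or.inl h), fun h => hw.2 (Or.inr h), rfl⟩

theorem ftA0_eq_union (hP : IsTypePWith M W₁ U W₂) :
    ftA0 M = ftA M ∪ {v | ∃ m ∈ M, ∃ w ∈ zhat W₁ W₂, v = m * w * m⁻¹} := by
  ext v
  simp only [ftA0, Set.mem_union, Set.mem_setOf_eq, exists_typeP_conj_iff hP, typeP_not_typeI hP,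
    not_false_eq_true, true_and]

theorem typeA0_eq_union (hP : IsTypePWith M W₁ U W₂) :
    typeA0 M = typeA M ∪ {v | ∃ m ∈ M, ∃ w ∈ zhat W₁ W₂, v = m * w * m⁻¹} := by
  ext v
  simp only [typeA0, Set.mem_union, Set.mem_setOf_eq, exists_typeP_conj_iff hP,
    typeP_not_isOfTypeI hP, not_false_eq_true, true_and]

end CL.BG
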