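import Cfsg.Agent.BG.A16_Defs
import Cfsg.Agent.BG.TypeP
import Cfsg.Agent.BG.Frob
import Cfsg.Agent.BG.A16_TypeF

/-!
# BG section 16: facts on the types valid in any finite group
-/

namespace CL.BG

open Cfsg Subgroup

variable {G : Type*} [Group G] [Finite G] {M L S T U V W₁ W₂ K : Subgroup G} {x : G}

/-! ### general facts (any finite group) -/

theorem typeI_of_isOfTypeI (h : IsOfTypeI M) : TypeI M := typeI_of_isOfTypeI' h

/-- a group of type `P` is not of Frobenius type -/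
theorem not_isOfTypeF_of_typeP (hP : IsTypePWith M W₁ U W₂) : ¬ IsOfTypeF M :=
  typeP_not_isOfTypeF hP

theorem not_typeI_of_typeP (hP : IsTypePWith M W₁ U W₂) : ¬ TypeI M :=
  fun h => not_isOfTypeF_of_typeP hP h.1

theorem typeI_iff_of_typeP (hP : IsTypePWith M W₁ U W₂) : TypeI M ↔ IsOfTypeI M :=
  ⟨fun h => absurd h (not_typeI_of_typeP hP), typeI_of_isOfTypeI⟩

theorem ftA_eq_of_typeP (hP : IsTypePWith M W₁ U W₂) : ftA M = typeA M :=
  ftA_eq_typeA (typeI_iff_of_typeP hP)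

theorem ftA0_eq_of_typeP (hP : IsTypePWith M W₁ U W₂) : ftA0 M = typeA0 M :=
  ftA0_eq_typeA0 (typeI_iff_of_typeP hP)

theorem ftA_eq_of_isOfTypeI (h : IsOfTypeI M) : ftA M = typeA M :=
  ftA_eq_typeA ⟨fun _ => h, typeI_of_isOfTypeI⟩

theorem ftA0_eq_of_isOfTypeI (h : IsOfTypeI M) : ftA0 M = typeA0 M :=
  ftA0_eq_typeA0 ⟨fun _ => h, typeI_of_isOfTypeI⟩

/-- a weak type I group which is a Frobenius group with kernel `M_F` is of type I -/
theorem TypeI.isOfTypeI (h : TypeI M)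
    (hF : ∀ x ∈ fittingHallOf M, x ≠ 1 → M ⊓ 𝐂₁(x) ≤ fittingHallOf M) : IsOfTypeI M :=
  isOfTypeI_of_typeI h hF

theorem TypeI.cj (h : TypeI M) (g : G) : TypeI (cj g M) := typeI_cj_of h g

theorem isTypePWith_cj (hP : IsTypePWith M W₁ U W₂) (g : G) :
    IsTypePWith (cj g M) (cj g W₁) (cj g U) (cj g W₂) :=
  typePWith_cj hP g

/-- all type `P` data of `M` are conjugate in `M` -/
theorem isTypePWith_conj {W₁' U' W₂' : Subgroup G} (hP : IsTypePWith M W₁ U W₂)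
    (hP' : IsTypePWith M W₁' U' W₂') :
    ∃ m ∈ M, W₁' = cj m W₁ ∧ U' = cj m U ∧ W₂' = cj m W₂ := by
  obtain ⟨m, hm, h⟩ := typePWith_conj hP hP'
  exact ⟨m, (NormalIn.der M).le hm, h⟩

/-- `A₀(M) = A(M) ∪ V^M` for any given type `P` data -/
theorem t16_ftA0_eq (hP : IsTypePWith M W₁ U W₂) :
    ftA0 M = ftA M ∪ {v | ∃ m ∈ M, ∃ w ∈ zhat W₁ W₂, v = m * w * m⁻¹} :=
  ftA0_eq_union hP

end CL.BG
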