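import Cfsg.Agent.BG.T14_4
import Cfsg.Agent.BG.T14_5
import Cfsg.Agent.BG.T14_6
import Cfsg.Agent.BG.T14_7
import Cfsg.Agent.BG.T14_9
import Cfsg.Agent.BG.T14_13
import Cfsg.Agent.BG.T15_1
import Cfsg.Agent.BG.T15_3
import Cfsg.Agent.BG.T15_4
import Cfsg.Agent.BG.T15_9
import Cfsg.Agent.BG.T12_10
import Cfsg.Agent.BG.T16_Gen

/-!
# BG section 16: Theorem B(5), Theorem II and Theorem E in the `σ`-vocabulary
-/

namespace CL.BG

open Cfsg Subgroup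

variable {G : Type*} [Group G] [Finite G] {M L N U K : Subgroup G} {x y a g m : G}

/-! ### the sets `M̂_σ`, `A(M)`, `A₀(M)` -/

omit [Finite G] in
theorem a16_mem_hat_iff : a ∈ sigmaHat M ↔ a ∈ M ∧ sigmaCore M ⊓ 𝐂₁(a) ≠ ⊥ := by
  refine and_congr_right fun _ => ⟨fun ⟨y, hy, hy1, hc⟩ => ?_, fun h => ?_⟩
  · exact ne_bot_of_mem (x := y) ⟨hy, mem_cent1.2 hc.symm⟩ hy1
  · obtain ⟨y, hy, hy1⟩ := exists_ne_one_of_ne_bot h
    exact ⟨y, hy.1, hy1, (mem_cent1.1 hy.2).symm⟩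

omit [Finite G] in
theorem a16_conj_mem_hat (hm : m ∈ M) (ha : a ∈ sigmaHat M) : m * a * m⁻¹ ∈ sigmaHat M := by
  obtain ⟨haM, y, hy, hy1, hc⟩ := ha
  refine ⟨mul_mem (mul_mem hm haM) (inv_mem hm), m * y * m⁻¹,
    (sigmaCore_normal M).conj_mem hm hy, fun h => hy1 (conj_eq_one_iff.1 h), ?_⟩
  calc m * a * m⁻¹ * (m * y * m⁻¹) = m * (a * y) * m⁻¹ := by group
    _ = m * y * m⁻¹ * (m * a * m⁻¹) := by rw [hc]; group

omit [Finite G] in
theorem a16_mem_hat_of_mem (hx : x ∈ sigmaCore M) (hx1 : x ≠ 1) : x ∈ sigmaHat M :=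
  ⟨sigmaCore_le M hx, x, hx, hx1, rfl⟩

omit [Finite G] in
theorem a16_hat_of_mem_zpowers (ha : a ∈ sigmaHat M) (hx : x ∈ zpowers a) : x ∈ sigmaHat M :=
  a16_mem_hat_iff.2 ⟨zpowers_le.2 ha.1 hx, ne_bot_of_le (a16_mem_hat_iff.1 ha).2
    (inf_le_inf_left _ (cent1_le_cent1_of_mem_zpowers hx))⟩

theorem a16_mem_sigmaCore_iff (hG : IsMinSimpleOddOrder G) (hM : IsCoatom M) (hx : x ∈ M) :
    x ∈ sigmaCore M ↔ PiElt (sigma M) x :=
  ⟨a14_piElt_sigmaCore, mem_sigmaCore_of_piElt hG hM hx⟩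

theorem a16_part_ne_one (hG : IsMinSimpleOddOrder G) (hM : IsCoatom M) (hx : x ∈ M)
    (hxσ : x ∉ sigmaCore M) : piPart (sigma M)ᶜ x ≠ 1 := fun h =>
  hxσ (mem_sigmaCore_of_piElt hG hM hx (by simpa only [compl_compl] using piPart_eq_one_iff.1 h))

/-- `U M_σ` is a normal Hall `κ(M)'`-subgroup of `M` -/
theorem a16_hall_US (hG : IsMinSimpleOddOrder G) (hM : IsCoatom M) (hU : KappaCompl M U K) :
    Hall (kappa M)ᶜ (U ⊔ sigmaCore M) M ∧ (U ⊔ sigmaCore M) ⊴ M := by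
  have h := (t15_1a hG hM hU).2.1
  rw [sup_comm] at h
  exact ⟨h.hall_left_of_right hU.hallK, h.normalIn⟩

theorem a16_mem_US_iff (hG : IsMinSimpleOddOrder G) (hM : IsCoatom M) (hU : KappaCompl M U K)
    (hx : x ∈ M) : x ∈ U ⊔ sigmaCore M ↔ PiElt (kappa M)ᶜ x :=
  (a16_hall_US hG hM hU).1.mem_iff_of_normal (a16_hall_US hG hM hU).2.norm hx

theorem a16_mem_A_iff (hG : IsMinSimpleOddOrder G) (hM : IsCoatom M) (hU : KappaCompl M U K) :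
    x ∈ sigmaA M U ↔ x ∈ sigmaHat M ∧ PiElt (kappa M)ᶜ x :=
  and_congr_right fun h => a16_mem_US_iff hG hM hU h.1

/-- `A₀(M)` consists of the elements of `M̂_σ` which are not nontrivial `κ(M)`-elements -/
theorem a16_mem_A0_iff (hG : IsMinSimpleOddOrder G) (hM : IsCoatom M)
    (hK : Hall (kappa M) K M) :
    x ∈ sigmaA0 M K ↔ x ∈ sigmaHat M ∧ (PiElt (kappa M) x → x = 1) := by
  refine and_congr_right fun h => ⟨fun h' hκ => ?_, ?_⟩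
  · by_contra h1
    obtain ⟨m, hm, hle⟩ := hall_conj_le (mmax_sol hG hM) hK (zpowers_le.2 h.1)
      (piGrp_zpowers.2 hκ)
    exact h' ⟨m * x * m⁻¹, cj_le_iff.1 hle x (mem_zpowers x), fun e => h1 (conj_eq_one_iff.1 e),
      m⁻¹, inv_mem hm, by group⟩
  · rintro h' ⟨k, hk, hk1, m, -, rfl⟩
    exact hk1 (conj_eq_one_iff.1 (h' ((hK.pi.piElt hk).conj m)))

theorem a16_A_sub_A0 (hG : IsMinSimpleOddOrder G) (hM : IsCoatom M) (hU : KappaCompl M U K) :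
    sigmaA M U ⊆ sigmaA0 M K := fun _ hx =>
  let h := (a16_mem_A_iff hG hM hU).1 hx
  (a16_mem_A0_iff hG hM hU.hallK).2 ⟨h.1, fun hκ => hκ.eq_one h.2⟩

omit [Finite G] in
theorem a16_mem_A_of_mem (U : Subgroup G) (hx : x ∈ sigmaCore M) (hx1 : x ≠ 1) :
    x ∈ sigmaA M U :=
  ⟨a16_mem_hat_of_mem hx hx1, (le_sup_right : sigmaCore M ≤ U ⊔ sigmaCore M) hx⟩

theorem a16_conj_mem_A (hG : IsMinSimpleOddOrder G) (hM : IsCoatom M) (hU : KappaCompl M U K)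
    (hm : m ∈ M) (ha : a ∈ sigmaA M U) : m * a * m⁻¹ ∈ sigmaA M U :=
  ⟨a16_conj_mem_hat hm ha.1, (a16_hall_US hG hM hU).2.conj_mem hm ha.2⟩

theorem a16_conj_mem_A0 (hG : IsMinSimpleOddOrder G) (hM : IsCoatom M) (hK : Hall (kappa M) K M)
    (hm : m ∈ M) (ha : a ∈ sigmaA0 M K) : m * a * m⁻¹ ∈ sigmaA0 M K := by
  rw [a16_mem_A0_iff hG hM hK] at ha ⊢
  exact ⟨a16_conj_mem_hat hm ha.1, fun h => conj_eq_one_iff.2 (ha.2 (piElt_conj.1 h))⟩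

/-! ### the elements of `A₀(M)` outside `M_σ` -/

/-- An element of `M̂_σ` outside `M_σ` either has a `σ'`-part which is a `τ₂`-element, or lies in
`K K*` for a suitable Hall `κ(M)`-subgroup `K`. -/
theorem a16_hat_cases (hG : IsMinSimpleOddOrder G) (hM : IsCoatom M) (hx : x ∈ sigmaHat M)
    (hxσ : x ∉ sigmaCore M) :
    PiElt (tau2 M) (piPart (sigma M)ᶜ x) ∨
      ∃ K : Subgroup G, TypeP M ∧ Hall (kappa M) K M ∧ piPart (sigma M)ᶜ x ∈ K ∧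
        x ∈ K ⊔ kstar M K := by
  have h1 := a16_part_ne_one hG hM hx.1 hxσ
  obtain ⟨hM', y, hy, hy1, hc⟩ := a16_hat_of_mem_zpowers hx (piPart_mem_zpowers (sigma M)ᶜ x)
  have hx' : piPart (sigma M)ᶜ x ∈ M ⊓ 𝐂₁(y) := ⟨hM', mem_cent1.2 hc⟩
  rcases t14_3 hG hM hy hy1 hx' h1 (piElt_piPart _ x) with ⟨hκ, -⟩ | ⟨hτ, -⟩
  · obtain ⟨K, hP, hK, hxK, -⟩ := a14_kappa_elt hG hM hy hy1 hx' h1 hκ
    refine Or.inr ⟨K, hP, hK, hxK, ?_⟩
    have h2 : piPart (sigma M) x ∈ kstar M K := by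
      rw [kstar, ← t14_2a_prime hG hM hK _ hxK h1]
      exact ⟨mem_sigmaCore_of_piElt hG hM (piPart_mem _ hx.1) (piElt_piPart _ x),
        mem_cent1.2 (commute_piPart _ _ x).eq⟩
    rw [← piPart_mul_piPart_compl (sigma M) x]
    exact mul_mem (mem_sup_right h2) (mem_sup_left hxK)
  · exact Or.inl hτ

/-- an element of `A₀(M)` outside `M_σ` has a `τ₂`-element as `σ'`-part or lies in some `Ẑ` -/
theorem a16_A0_cases (hG : IsMinSimpleOddOrder G) (hM : IsCoatom M) (hK : Hall (kappa M) K M)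
    (hx : x ∈ sigmaA0 M K) (hxσ : x ∉ sigmaCore M) :
    PiElt (tau2 M) (piPart (sigma M)ᶜ x) ∨
      ∃ K' : Subgroup G, TypeP M ∧ Hall (kappa M) K' M ∧ x ∈ zhat K' (kstar M K') := by
  obtain ⟨hh, hκ⟩ := (a16_mem_A0_iff hG hM hK).1 hx
  refine (a16_hat_cases hG hM hh hxσ).imp_right fun ⟨K', hP, hK', _, hxZ⟩ =>
    ⟨K', hP, hK', hxZ, ?_⟩
  rintro (h | h)
  · exact hxσ (hκ (hK'.pi.piElt h) ▸ one_mem _)
  · exact hxσ h.1

/-- the key `TI` property: an element of `A₀(M)` outside `M_σ` is conjugated into `M̂_σ` only by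
elements of `M` -/
theorem a16_mem_of_conj (hG : IsMinSimpleOddOrder G) (hM : IsCoatom M) (hK : Hall (kappa M) K M)
    (hx : x ∈ sigmaA0 M K) (hxσ : x ∉ sigmaCore M) (hg : g * x * g⁻¹ ∈ sigmaHat M) : g ∈ M := by
  rcases a16_A0_cases hG hM hK hx hxσ with hτ | ⟨K', hP, hK', hz⟩
  · have h1 := a16_part_ne_one hG hM hx.1.1 hxσ
    have h2 := a16_mem_hat_iff.1 (a16_hat_of_mem_zpowers hx.1 (piPart_mem_zpowers (sigma M)ᶜ x))
    have h3 := a16_mem_hat_iff.1 (a16_hat_of_mem_zpowers hg (piPart_mem_zpowers (sigma M)ᶜ _))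
    rw [piPart_conj] at h3
    have h4 := t12_10e hG hM h3.1 (fun e => h1 (conj_eq_one_iff.1 e)) (hτ.conj g) h3.2
    refine (t12_10e hG hM h2.1 h1 hτ h2.2).mem_of_cj_le hG ?_
    rw [cj_cent1]; exact h4.le
  · obtain ⟨Ms, hp⟩ := t14_7 hG hP hK'
    by_contra hgM
    refine hp.disj g⁻¹ (fun h => hgM ((inv_mem_iff).1 h)) x hz (mem_cj.2 ?_)
    rw [inv_inv]; exact hg.1

theorem a16_cent1_le (hG : IsMinSimpleOddOrder G) (hM : IsCoatom M) (hK : Hall (kappa M) K M)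
    (hx : x ∈ sigmaA0 M K) (hxσ : x ∉ sigmaCore M) : 𝐂₁(x) ≤ M := fun c hc =>
  a16_mem_of_conj hG hM hK hx hxσ (by rw [mem_cent1.1 hc, mul_inv_cancel_right]; exact hx.1)

/-- Theorem II: `D ⊆ M_σ` -/
theorem a16_D_sigma (hG : IsMinSimpleOddOrder G) (hM : IsCoatom M) (hK : Hall (kappa M) K M)
    (hx : x ∈ sigmaA0 M K) (hxM : ¬ 𝐂₁(x) ≤ M) : x ∈ sigmaCore M := by
  by_contra h
  exact hxM (a16_cent1_le hG hM hK hx h)

/-- `M` controls the fusion of its subgroup `M_σ` (BG Theorem D(1)) -/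
theorem a16_fusion_sigma (hG : IsMinSimpleOddOrder G) (hM : IsCoatom M) (hx : x ∈ sigmaCore M)
    (hg : g * x * g⁻¹ ∈ M) : ∃ m ∈ M, m * x * m⁻¹ = g * x * g⁻¹ := by
  by_cases hx1 : x = 1
  · exact ⟨1, one_mem M, by simp [hx1]⟩
  have h1 : x ∈ sigmaCore (cj g⁻¹ M) := by
    rw [sigmaCore_cj, mem_cj, inv_inv]
    exact mem_sigmaCore_of_piElt hG hM hg ((a14_piElt_sigmaCore hx).conj g)
  obtain ⟨c, hc, he⟩ := t14_4_trans hG hM (mmax_cj g⁻¹ hM) hx h1 hx1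
  refine ⟨g * c, (mmax_cj_eq_iff hG hM).1 (by rw [cj_mul, ← he, cj_cj_inv]), ?_⟩
  calc g * c * x * (g * c)⁻¹ = g * (c * x) * c⁻¹ * g⁻¹ := by group
    _ = g * x * g⁻¹ := by rw [mem_cent1.1 hc]; group

/-- Theorem II (Ti): `M` controls the fusion in `A₀(M)` -/
theorem a16_fusion (hG : IsMinSimpleOddOrder G) (hM : IsCoatom M) (hK : Hall (kappa M) K M)
    (hx : x ∈ sigmaA0 M K) (hg : g * x * g⁻¹ ∈ sigmaHat M) :
    ∃ m ∈ M, m * x * m⁻¹ = g * x * g⁻¹ := by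
  by_cases hxσ : x ∈ sigmaCore M
  · exact a16_fusion_sigma hG hM hxσ hg.1
  · exact ⟨g, a16_mem_of_conj hG hM hK hx hxσ hg, rfl⟩

/-- Theorem B(5): `A(M) - M_σ` is a TI-subset normalised by `M` -/
theorem a16_TI (hG : IsMinSimpleOddOrder G) (hM : IsCoatom M) (hU : KappaCompl M U K)
    (ha : a ∈ sigmaA M U \ (sigmaCore M : Set G)) (g : G) :
    g * a * g⁻¹ ∈ sigmaA M U \ (sigmaCore M : Set G) ↔ g ∈ M := by
  refine ⟨fun h => a16_mem_of_conj hG hM hU.hallK (a16_A_sub_A0 hG hM hU ha.1) ha.2 h.1.1,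
    fun hg => ⟨a16_conj_mem_A hG hM hU hg ha.1, fun h => ha.2 ?_⟩⟩
  simpa only [inv_inv, mul_assoc, inv_mul_cancel_left, inv_mul_cancel, mul_one,
    SetLike.mem_coe] using (sigmaCore_normal M).conj_mem (inv_mem hg) h

theorem a16_isTI (hG : IsMinSimpleOddOrder G) (hM : IsCoatom M) (hU : KappaCompl M U K) :
    IsTISubset (sigmaA M U \ (sigmaCore M : Set G)) := by
  intro g hg a ha hga
  exact (NormedTI.isTI ⟨⟨a, ha⟩, fun a ha g => a16_TI hG hM hU ha g⟩ :) g hg a ha hga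

/-! ### the maximal subgroup supporting `x ∈ D` -/

theorem a16_coprime (hG : IsMinSimpleOddOrder G) (hM : IsCoatom M) (hx : x ∈ sigmaCore M)
    (hx1 : x ≠ 1) (hxM : ¬ 𝐂₁(x) ≤ M) (hN : IsCoatom N) (hxN : 𝐂₁(x) ≤ N)
    (hy : y ∈ sigmaHat M) (hy1 : y ≠ 1) :
    (Nat.card (sigmaCore N)).Coprime (Nat.card ↥(M ⊓ 𝐂₁(y))) := by
  refine coprime_sigmaCore ?_
  by_cases h : PiGrp (sigma N)ᶜ M
  · exact h.inf_left _
  obtain ⟨-, -, hF⟩ := t14_13a hG hM hx hx1 hxM hN hxN h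
  obtain ⟨E, hE⟩ := hall_exists (sigma M)ᶜ (mmax_sol hG hM)
  obtain ⟨hyM, z, hz, hz1, hc⟩ := hy
  have hyσ : y ∈ sigmaCore M := (hF E hE).inf_cent1_le_ker hz hz1 ⟨hyM, mem_cent1.2 hc⟩
  exact ((piGrp_sigmaCore M).of_le ((hF E hE).inf_cent1_le_ker hyσ hy1)).mono
    (a14_sigma_sub_compl hG hM hN (t14_4 hG hM hx hx1 hxM hN hxN).not_conj)

theorem SignalizerCtx.sdpN (hG : IsMinSimpleOddOrder G) (h : SignalizerCtx M x N) :
    SDP (sigmaCore N) (M ⊓ N) N := sdprod_sigma hG h.uniq.coatom h.hall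

theorem SignalizerCtx.mem_A (hG : IsMinSimpleOddOrder G) (h : SignalizerCtx M x N)
    (hU : KappaCompl N U K) : x ∈ sigmaA N U :=
  (a16_mem_A_iff hG h.uniq.coatom hU).2 ⟨a16_mem_hat_iff.2 ⟨h.uniq.le (mem_cent1_self x), h.R_ne⟩,
    h.tau2_elt.mono fun _ hp => not_mem_kappa_of_tau2 hp⟩

theorem SignalizerCtx.not_mem (h : SignalizerCtx M x N) (hx1 : x ≠ 1) : x ∉ sigmaCore N :=
  fun hx => hx1 ((a14_piElt_sigmaCore hx).eq_one (h.tau2_elt.mono (tau2_sub_sigma_compl N)))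

theorem a16_not_TI (hG : IsMinSimpleOddOrder G) (hM : IsCoatom M) (hx : x ∈ sigmaCore M)
    (hx1 : x ≠ 1) (hxM : ¬ 𝐂₁(x) ≤ M) : ¬ IsTISubset (sigmaCore M : Set G) := fun h =>
  hxM fun c hc => by
    by_contra hcM
    refine hx1 (h c ?_ x hx (by rw [mem_cent1.1 hc, mul_inv_cancel_right]; exact hx))
    rwa [mmax_normal hG hM (sigmaCore_normal M) (t10_2e hG hM)]

theorem TypeF.fcore_eq (hG : IsMinSimpleOddOrder G) (hM : TypeF M) :
    fittingHallOf M = sigmaCore M :=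
  fcore_eq_sigmaCore hG hM.coatom (t14_1_nil hG hM.coatom hM.not_typeP1)

theorem TypeP2.fcore_eq (hG : IsMinSimpleOddOrder G) (hM : TypeP2 M) :
    fittingHallOf M = sigmaCore M :=
  fcore_eq_sigmaCore hG hM.coatom (t14_1_nil hG hM.coatom hM.not_typeP1)

theorem a16_exists_kappaCompl (hG : IsMinSimpleOddOrder G) (hM : IsCoatom M) :
    ∃ U K : Subgroup G, KappaCompl M U K :=
  let ⟨K, hK⟩ := hall_exists (kappa M) (mmax_sol hG hM)
  let ⟨U, hU⟩ := t14_2_ex hG hM hK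
  ⟨U, K, hU⟩

/-! ### translation into the language of types -/

/-- The parts of BG Proposition 16.1 which translate the `σ`-vocabulary into types. -/
structure Prop161 (G : Type*) [Group G] : Prop where
  typeI : ∀ M : Subgroup G, IsCoatom M → (TypeI M ↔ TypeF M)
  typeII : ∀ M : Subgroup G, IsCoatom M → (IsOfTypeII M ↔ TypeP2 M)
  core : ∀ M : Subgroup G, IsCoatom M → typeCore M = sigmaCore M
  ftA : ∀ M U K : Subgroup G, IsCoatom M → KappaCompl M U K → ftA M = sigmaA M U \ {1}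
  ftA0 : ∀ M K : Subgroup G, IsCoatom M → Hall (kappa M) K M → ftA0 M = sigmaA0 M K \ {1}
  typeP : ∀ M W₁ U W₂ : Subgroup G, IsCoatom M → IsTypePWith M W₁ U W₂ →
    TypeP M ∧ Hall (kappa M) W₁ M ∧ kstar M W₁ = W₂
  data : ∀ M K : Subgroup G, TypeP M → Hall (kappa M) K M →
    ∃ U : Subgroup G, IsTypePWith M K U (kstar M K)

namespace Prop161

omit [Finite G] in
theorem typeA1 (h : Prop161 G) (hM : IsCoatom M) : typeA1 M = (sigmaCore M : Set G) \ {1} := by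
  rw [Cfsg.typeA1, h.core M hM]

theorem II_fusion (h : Prop161 G) (hG : IsMinSimpleOddOrder G) (hM : IsCoatom M)
    (hx : x ∈ BG.ftA0 M) (hg : g * x * g⁻¹ ∈ BG.ftA0 M) :
    ∃ m ∈ M, m * x * m⁻¹ = g * x * g⁻¹ := by
  obtain ⟨K, hK⟩ := hall_exists (kappa M) (mmax_sol hG hM)
  rw [h.ftA0 M K hM hK] at hx hg
  exact a16_fusion hG hM hK hx.1 hg.1.1

theorem II (h : Prop161 G) (hG : IsMinSimpleOddOrder G) (hM : IsCoatom M) (hx : x ∈ BG.ftA0 M)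
    (hxM : ¬ 𝐂₁(x) ≤ M) (hL : IsCoatom L) (hxL : 𝐂₁(x) ≤ L) : FtSupportCtx M x L := by
  obtain ⟨K, hK⟩ := hall_exists (kappa M) (mmax_sol hG hM)
  have e0 := h.ftA0 M K hM hK
  rw [e0] at hx
  have hx1 : x ≠ 1 := hx.2
  have hxσ := a16_D_sigma hG hM hK hx.1 hxM
  have c := t14_4 hG hM hxσ hx1 hxM hL hxL
  obtain ⟨U', K', hU'⟩ := a16_exists_kappaCompl hG hL
  refine ⟨by rw [h.typeA1 hM]; exact ⟨hxσ, hx1⟩, c.uniq, by rw [c.fcore, c.R_eq],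
    by rw [c.fcore]; exact c.sdpN hG, by rw [c.fcore]; exact c.sdp, fun y hy => ?_,
    by rw [h.ftA L U' K' hL hU']; exact ⟨c.mem_A hG hU', hx1⟩,
    by rw [h.typeA1 hL]; exact fun h' => c.not_mem hx1 h'.1, ?_, fun h2 => ?_, c.not_conj⟩
  · rw [e0] at hy
    rw [c.fcore]
    exact a16_coprime hG hM hxσ hx1 hxM hL hxL hy.1.1 hy.2
  · rw [h.typeI L hL, h.typeII L hL]
    exact (not_typeP1_iff hL).1 c.not_P1
  · obtain ⟨hF, -, E, -, hE, hFr⟩ := t15_9 hG hM hxσ hx1 hxM hL hxL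
      ((h.typeII L hL).1 h2).typeP.not_typeF
    rw [hF.fcore_eq hG]
    exact ⟨(h.typeI M hM).2 hF, a16_not_TI hG hM hxσ hx1 hxM, E, hE, hFr⟩

theorem II_ex (h : Prop161 G) (hG : IsMinSimpleOddOrder G) (hM : IsCoatom M) (hx : x ∈ BG.ftA0 M)
    (hxM : ¬ 𝐂₁(x) ≤ M) : ∃ L : Subgroup G, FtSupportCtx M x L := by
  have hx1 : x ≠ 1 := by
    rintro rfl
    obtain ⟨K, hK⟩ := hall_exists (kappa M) (mmax_sol hG hM)
    rw [h.ftA0 M K hM hK] at hx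
    exact hx.2 rfl
  obtain ⟨L, hL, hxL⟩ := mmax_exists (mFT_cent1_ne_top hG hx1)
  exact ⟨L, h.II hG hM hx hxM hL hxL⟩

theorem supp_facts (h : Prop161 G) (hG : IsMinSimpleOddOrder G) (hM : IsCoatom M) :
    (Cfsg.typeA1 M).Nonempty ∧ Cfsg.typeA1 M ⊆ BG.ftA M ∧ BG.ftA0 M ⊆ (M : Set G) \ {1} ∧
      normalizer (Cfsg.typeA1 M) = M ∧ normalizer (BG.ftA M) = M ∧
        normalizer (BG.ftA0 M) = M := by
  obtain ⟨U, K, hU⟩ := a16_exists_kappaCompl hG hM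
  obtain ⟨x, hx, hx1⟩ := exists_ne_one_of_ne_bot (t10_2e hG hM)
  have key : ∀ A : Set G, A ⊆ M → (∀ m ∈ M, ∀ a ∈ A, m * a * m⁻¹ ∈ A) → x ∈ A →
      normalizer (A \ {1}) = M := by
    intro A hA hn hxA
    refine mmax_normal_set hG hM (fun a ha => hA ha.1) (fun m hm => ?_) ⟨x, ⟨hxA, hx1⟩, hx1⟩
    have hc : ∀ m ∈ M, ∀ a ∈ A \ {1}, m * a * m⁻¹ ∈ A \ {1} := fun m hm a ha =>
      ⟨hn m hm a ha.1, fun e => ha.2 (conj_eq_one_iff.1 e)⟩
    refine mem_set_normalizer_iff.2 fun a => ⟨hc m hm a, fun ha => ?_⟩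
    simpa only [inv_inv, mul_assoc, inv_mul_cancel_left, inv_mul_cancel, mul_one] using
      hc m⁻¹ (inv_mem hm) _ ha
  rw [h.typeA1 hM, h.ftA M U K hM hU, h.ftA0 M K hM hU.hallK]
  exact ⟨⟨x, hx, hx1⟩, fun a ha => ⟨a16_mem_A_of_mem U ha.1 ha.2, ha.2⟩,
    fun a ha => ⟨ha.1.1.1, ha.2⟩,
    key _ (sigmaCore_le M) (fun m hm a ha => (sigmaCore_normal M).conj_mem hm ha) hx,
    key _ (fun a ha => ha.1.1) (fun m hm a ha => a16_conj_mem_A hG hM hU hm ha)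
      (a16_mem_A_of_mem U hx hx1),
    key _ (fun a ha => ha.1.1) (fun m hm a ha => a16_conj_mem_A0 hG hM hU.hallK hm ha)
      (a16_A_sub_A0 hG hM hU (a16_mem_A_of_mem U hx hx1))⟩

theorem kappaCompl (h : Prop161 G) (hG : IsMinSimpleOddOrder G) (hM : IsCoatom M)
    (hU : (TypeI M ∧ SDP (fittingHallOf M) U M) ∨
      (IsOfTypeII M ∧ SDP (fittingHallOf M) U ⁅M, M⁆)) :
    fittingHallOf M = sigmaCore M ∧ ∃ K : Subgroup G, KappaCompl M U K := by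
  rcases hU with ⟨h1, hs⟩ | ⟨h2, hs⟩
  · have hF := (h.typeI M hM).1 h1
    rw [hF.fcore_eq hG] at hs
    refine ⟨hF.fcore_eq hG, ⊥, ?_, hF.hall_bot, bot_le⟩
    rw [hF.kappa_eq, Set.union_empty]
    exact hs.hall_right_of_left (t10_2b hG hM)
  · have hP := (h.typeII M hM).1 h2
    rw [hP.fcore_eq hG] at hs
    obtain ⟨U₀, K₀, hU₀⟩ := a16_exists_kappaCompl hG hM
    obtain ⟨k, hk, rfl⟩ := (t15_1b hG hM hU₀ (hP.typeP.hall_ne_bot hU₀.hallK)).1.conj_of_coprime hs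
      (coprime_sigmaCore hU₀.hallU.pi.sigma_kappa'_sigma')
      (Or.inl (mmax_sub_sol hG hM (sigmaCore_le M)))
    exact ⟨hP.fcore_eq hG, cj k K₀, by simpa only [cj_eq_of_mem (sigmaCore_le M hk)] using hU₀.cj k⟩

/-- Peterfalvi (8.12) -/
theorem typeI_II_facts (h : Prop161 G) (hG : IsMinSimpleOddOrder G) (hM : IsCoatom M)
    (hU : (TypeI M ∧ SDP (fittingHallOf M) U M) ∨
      (IsOfTypeII M ∧ SDP (fittingHallOf M) U ⁅M, M⁆)) :
    (∀ (p : ℕ) (P : Subgroup G), p.Prime → SylowOf p P U →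
        IsMulCommutative P ∧ pRank p P ≤ 2) ∧
      (∀ X : Set G, X ⊆ (U : Set G) \ {1} → X.Nonempty →
        fittingHallOf M ⊓ centralizer X ≠ ⊥ → UniqMax (centralizer X) M) ∧
      (∀ a ∈ BG.ftA M \ Cfsg.typeA1 M, ∀ g : G,
        g * a * g⁻¹ ∈ BG.ftA M \ Cfsg.typeA1 M ↔ g ∈ M) := by
  obtain ⟨hF, K, hK⟩ := h.kappaCompl hG hM hU
  refine ⟨fun p P hp hP => ?_, fun X hX ⟨x, hx⟩ hC => ?_, ?_⟩
  · have := Fact.mk hp
    have h1 : P ≤ M := hP.le.trans hK.U_le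
    have h2 : PiGrp (sigma M)ᶜ P := hK.hallU.pi.sigma_kappa'_sigma'.of_le hP.le
    exact ⟨t12_10a hG hM h1 h2 hP.isPGroup.isNilpotent,
      (pRank_le_rank hp P).trans (rank_le_two_of_sigma_compl hG hM h1 h2)⟩
  · rw [← centralizer_closure X] at hC ⊢
    rw [hF] at hC
    exact (t15_1c hG hM hK ((closure_le U).2 fun y hy => (hX hy).1)
      (ne_bot_of_mem (subset_closure hx) (hX hx).2) hC).1
  · have e : BG.ftA M \ Cfsg.typeA1 M = sigmaA M U \ (sigmaCore M : Set G) := by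
      rw [h.ftA M U K hM hK, h.typeA1 hM]
      ext a
      constructor
      · rintro ⟨⟨h1, h2⟩, h3⟩
        exact ⟨h1, fun h4 => h3 ⟨h4, h2⟩⟩
      · rintro ⟨h1, h2⟩
        exact ⟨⟨h1, fun e => h2 (by rw [Set.mem_singleton_iff.1 e]; exact one_mem _)⟩,
          fun h3 => h2 h3.1⟩
    rw [e]
    exact fun a ha g => a16_TI hG hM hK ha g

/-- Peterfalvi (8.11) -/
theorem core_facts (h : Prop161 G) (hG : IsMinSimpleOddOrder G) (hM : IsCoatom M) :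
    (∀ (p : ℕ) (P : Subgroup G), p.Prime → SylowOf p P (typeCore M) → P ≠ ⊥ → 𝐍(P) ≤ M) ∧
      IsHall (fittingHallOf M) ⊤ ∧ IsHall (typeCore M) ⊤ := by
  rw [h.core M hM]
  refine ⟨fun p P hp hP h1 => ?_, ((fcore_isHall M).restrict (fcore_le_sigmaCore hG hM)
    (sigmaCore_le M)).trans (t10_2b_top hG hM).isHall, (t10_2b_top hG hM).isHall⟩
  have := Fact.mk hp
  have hσ : p ∈ sigma M := piGrp_sigmaCore M p hp (hP.ne_bot_iff.1 h1)
  exact norm_sigma_sylow hσ (Hall.trans hP (t10_2b hG hM) (Set.singleton_subset_iff.2 hσ))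

/-! ### Theorem I -/

theorem pair_of (h : Prop161 G) (hG : IsMinSimpleOddOrder G) {S T W₁ W₂ V : Subgroup G}
    (hS : IsCoatom S) (hT : IsCoatom T) (hPS : IsTypePWith S W₁ U W₂)
    (hPT : IsTypePWith T W₂ V W₁) : FtPair S T W₁ W₂ U V := by
  obtain ⟨s1, s2, s3⟩ := h.typeP S W₁ U W₂ hS hPS
  obtain ⟨-, t2, t3⟩ := h.typeP T W₂ V W₁ hT hPT
  have p := t14_7_of_kstar hG s1 s2 hT (by rw [s3, t3]) (by rwa [s3])
  refine ⟨hS, hT, hPS, hPT, by rw [p.inf_eq, s3], p.not_conj, ?_, fun M hM => ?_⟩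
  · exact p.typeP2.imp (fun h' => (h.typeII S hS).2 h'.1) fun h' => (h.typeII T hT).2 h'.1
  · exact (typeF_or_typeP hM).imp (h.typeI M hM).2 (p.conj M)

theorem pair_ex (h : Prop161 G) (hG : IsMinSimpleOddOrder G) {S W₁ W₂ : Subgroup G}
    (hS : IsCoatom S) (hPS : IsTypePWith S W₁ U W₂) :
    ∃ T V : Subgroup G, FtPair S T W₁ W₂ U V := by
  obtain ⟨s1, s2, s3⟩ := h.typeP S W₁ U W₂ hS hPS
  obtain ⟨T, p⟩ := t14_7 hG s1 s2
  obtain ⟨V, hV⟩ := h.data T _ p.typePs p.hallKs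
  rw [p.kstar_kstar, s3] at hV
  exact ⟨T, V, h.pair_of hG hS p.typePs.coatom hPS hV⟩

theorem typeI_or_typeP (h : Prop161 G) (hG : IsMinSimpleOddOrder G) (hM : IsCoatom M) :
    TypeI M ∨ IsOfTypeP M := by
  refine (typeF_or_typeP hM).imp (h.typeI M hM).2 fun hP => ?_
  obtain ⟨K, hK⟩ := hall_exists (kappa M) (mmax_sol hG hM)
  obtain ⟨U, hU⟩ := h.data M K hP hK
  exact ⟨K, U, _, hU⟩

theorem I2 (h : Prop161 G) (hG : IsMinSimpleOddOrder G) :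
    (∀ M : Subgroup G, IsCoatom M → TypeI M) ∨
      ∃ S T W₁ W₂ U V : Subgroup G, FtPair S T W₁ W₂ U V := by
  rw [or_iff_not_imp_left]
  intro h'
  push Not at h'
  obtain ⟨S, hS, hI⟩ := h'
  obtain ⟨W₁, U, W₂, hP⟩ := (h.typeI_or_typeP hG hS).resolve_left hI
  obtain ⟨T, V, p⟩ := h.pair_ex hG hS hP
  exact ⟨S, T, W₁, W₂, U, V, p⟩

/-! ### Theorem E -/

theorem E_primes (h : Prop161 G) (hG : IsMinSimpleOddOrder G) :
    (∀ p : ℕ, p.Prime → p ∣ Nat.card G →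
        ∃ M : Subgroup G, IsCoatom M ∧ p ∣ Nat.card (typeCore M)) ∧
      ∀ M N : Subgroup G, IsCoatom M → IsCoatom N → (∀ g : G, N ≠ cj g M) →
        (Nat.card (typeCore M)).Coprime (Nat.card (typeCore N)) := by
  refine ⟨fun p hp hd => ?_, fun M N hM hN hne => ?_⟩
  · obtain ⟨M, hM, hσ⟩ := a14_exists_sigma hG hp hd
    exact ⟨M, hM, by
      rw [h.core M hM]; exact ((t10_2b hG hM).dvd_card_iff hp hσ).2 (dvd_card_of_mem_sigma hσ)⟩
  · rw [h.core M hM, h.core N hN]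
    exact coprime_sigmaCore ((piGrp_sigmaCore N).mono (a14_sigma_sub_compl' hG hM hN hne))

theorem E_card (h : Prop161 G) (hG : IsMinSimpleOddOrder G) (hM : IsCoatom M) :
    (tildeOf M (Cfsg.typeA1 M)).ncard = (Nat.card (typeCore M) - 1) * M.index := by
  rw [h.typeA1 hM, h.core M hM]; exact t14_5c hG hM

theorem E_disjoint (h : Prop161 G) (hG : IsMinSimpleOddOrder G) (hM : IsCoatom M)
    (hL : IsCoatom L) (hne : ∀ g : G, L ≠ cj g M) :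
    Disjoint (tildeOf M (Cfsg.typeA1 M)) (tildeOf L (Cfsg.typeA1 L)) := by
  rw [h.typeA1 hM, h.typeA1 hL]; exact t14_5b hG hM hL hne

theorem E_cover_typeI (h : Prop161 G) (hG : IsMinSimpleOddOrder G)
    (hI : ∀ M : Subgroup G, IsCoatom M → TypeI M) (hx : x ≠ 1) :
    ∃ M : Subgroup G, IsCoatom M ∧ x ∈ tildeOf M (Cfsg.typeA1 M) := by
  obtain ⟨M, hM, hxM⟩ := t14_9a hG
    (fun M hP => hP.not_typeF ((h.typeI M hP.coatom).1 (hI M hP.coatom))) hx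
  exact ⟨M, hM, by rwa [h.typeA1 hM]⟩

theorem E_cover_typeP (h : Prop161 G) (hG : IsMinSimpleOddOrder G) {W₁ W₂ : Subgroup G}
    (hM : IsCoatom M) (hP : IsTypePWith M W₁ U W₂) (hx : x ≠ 1) :
    (∃ N : Subgroup G, IsCoatom N ∧ x ∈ tildeOf N (Cfsg.typeA1 N)) ∨
      x ∈ classSupport (zhat W₁ W₂) := by
  obtain ⟨s1, s2, rfl⟩ := h.typeP M W₁ U W₂ hM hP
  exact (t14_9b hG s1 s2 hx).imp_left fun ⟨N, hN, hxN⟩ => ⟨N, hN, by rwa [h.typeA1 hN]⟩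

theorem E_disjoint_zhat (h : Prop161 G) (hG : IsMinSimpleOddOrder G) {W₁ W₂ : Subgroup G}
    (hM : IsCoatom M) (hP : IsTypePWith M W₁ U W₂) (hL : IsCoatom L) :
    Disjoint (classSupport (zhat W₁ W₂)) (tildeOf L (Cfsg.typeA1 L)) := by
  obtain ⟨s1, s2, rfl⟩ := h.typeP M W₁ U W₂ hM hP
  rw [h.typeA1 hL]; exact t14_9c hG s1 s2 hL

end Prop161

/-- Theorem I(1) -/
theorem a16_I1 (hG : IsMinSimpleOddOrder G) {H : Subgroup G} (hn : Group.IsNilpotent H)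
    (hH : IsHall H ⊤) (hx : x ∈ H) (hg : g * x * g⁻¹ ∈ H) :
    ∃ n ∈ 𝐍(H), n * x * n⁻¹ = g * x * g⁻¹ := by
  obtain ⟨M, hM, hle⟩ := t15_4 hG hn hH
  obtain ⟨n, hn, he⟩ := t15_3b hG hM (hH.restrict hle le_top) hx hg
  exact ⟨n, hn.2, he⟩

end CL.BG
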