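import Cfsg.Agent.Base

/-!
# The combinatorial lemma behind BG 2.4(k)
-/

set_option autoImplicit false

namespace CL.BG

open Finset

theorem comb_2_4k {Γ : Type*} [Group Γ] [Fintype Γ] (f : Γ → ℕ) (t : ℕ)
    (h1 : ∑ μ, f μ * f μ ≤ t + 1) (hω : ∀ ω : Γ, ω ≠ 1 → ∑ μ, f (ω * μ) * f μ ≤ t)
    (hsum : 1 + Fintype.card Γ * t ≤ (∑ μ, f μ) ^ 2) :
    (∑ μ, f μ) ^ 2 = 1 + Fintype.card Γ * t ∧
    ∃ n : ℕ, (∀ μ, n ≤ f μ) ∧
      (∑ μ, f μ = n * Fintype.card Γ + 1 ∨ ∑ μ, f μ + 1 = (n + 1) * Fintype.card Γ) := by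
  classical
  set h := Fintype.card Γ with hh
  have hre : ∀ (g : Γ → Γ → ℤ), ∑ ω, ∑ μ, g (ω * μ) μ = ∑ ν, ∑ μ, g ν μ := by
    intro g
    rw [sum_comm, sum_comm (f := fun ν μ => g ν μ)]
    exact sum_congr rfl fun μ _ => Equiv.sum_comp (Equiv.mulRight μ) (fun ν => g ν μ)
  let c : Γ → ℤ := fun ω => ∑ μ, (f (ω * μ) : ℤ) * f μ
  let b : Γ → ℤ := fun ω => if ω = 1 then t + 1 else t
  have hcb : ∀ ω, c ω ≤ b ω := by
    intro ω
    by_cases h : ω = 1
    · subst h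
      simp only [c, b, one_mul, if_true]
      exact_mod_cast h1
    · simp only [c, b, h, if_false]
      exact_mod_cast hω ω h
  have hsc : ∑ ω, c ω = ((∑ μ, f μ : ℕ) : ℤ) ^ 2 := by
    rw [hre (fun ν μ => (f ν : ℤ) * f μ), sq]
    push_cast
    rw [sum_mul_sum]
  have hsb : ∑ ω, b ω = 1 + h * t := by
    have : ∀ ω, b ω = t + if ω = 1 then 1 else 0 := fun ω => by
      simp only [b]; split_ifs <;> simp
    simp only [this, sum_add_distrib, sum_const, card_univ, sum_ite_eq', mem_univ, if_true]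
    rw [← hh]; simp; ring
  have hle : ∑ ω, b ω ≤ ∑ ω, c ω := by
    rw [hsc, hsb]; exact_mod_cast hsum
  have heq : ∀ ω, c ω = b ω := fun ω =>
    (sum_eq_sum_iff_of_le fun ω _ => hcb ω).1 (le_antisymm (sum_le_sum fun ω _ => hcb ω) hle) ω
      (mem_univ ω)
  have hsq : ((∑ μ, f μ : ℕ) : ℤ) ^ 2 = 1 + h * t := by
    rw [← hsc, ← hsb]; exact sum_congr rfl fun ω _ => heq ω
  refine ⟨by exact_mod_cast hsq, ?_⟩
  have hdiff : ∀ ω, ∑ μ, ((f (ω * μ) : ℤ) - f μ) ^ 2 = if ω = 1 then 0 else 2 := by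
    intro ω
    have e1 : ∑ μ, (f (ω * μ) : ℤ) * f (ω * μ) = c 1 := by
      simp only [c, one_mul]
      exact Equiv.sum_comp (Equiv.mulLeft ω) (fun ν => (f ν : ℤ) * f ν)
    have e2 : ∑ μ, (f μ : ℤ) * f μ = c 1 := by simp only [c, one_mul]
    have : ∑ μ, ((f (ω * μ) : ℤ) - f μ) ^ 2 = c 1 + c 1 - 2 * c ω := by
      conv_rhs => rw [← e1]; enter [1, 2]; rw [e1, ← e2]
      simp only [c, mul_sum, ← sum_add_distrib, ← sum_sub_distrib]
      exact sum_congr rfl fun μ _ => by ring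
    rw [this, heq, heq]
    simp only [b, if_true]
    split_ifs <;> ring
  obtain ⟨μ₀, -, hμ₀⟩ := exists_min_image univ f ⟨1, mem_univ _⟩
  set n := f μ₀ with hn
  refine ⟨n, fun μ => hμ₀ μ (mem_univ _), ?_⟩
  let g : Γ → ℤ := fun μ => (f μ : ℤ) - n
  have hg : ∀ μ, g μ * g μ = g μ := by
    intro μ
    have h0 : 0 ≤ g μ := sub_nonneg.2 (by exact_mod_cast hμ₀ μ (mem_univ _))
    have h2 : ((f (μ * μ₀⁻¹ * μ₀) : ℤ) - f μ₀) ^ 2 ≤ 2 := by
      refine (single_le_sum (f := fun ν => ((f (μ * μ₀⁻¹ * ν) : ℤ) - f ν) ^ 2)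
        (fun ν _ => sq_nonneg _) (mem_univ μ₀)).trans ?_
      rw [hdiff]; split_ifs <;> norm_num
    rw [inv_mul_cancel_right] at h2
    have h3 : g μ ≤ 1 := by
      by_contra hc
      push Not at hc
      have : (2 : ℤ) ≤ g μ := hc
      simp only [g] at this
      nlinarith
    have : g μ = 0 ∨ g μ = 1 := by omega
    rcases this with h | h <;> simp [h]
  set a : ℤ := ∑ μ, g μ with ha
  have hA : ∑ ω, ∑ μ, ((f (ω * μ) : ℤ) - f μ) ^ 2 = 2 * (h - 1) := by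
    simp only [hdiff]
    have : ∀ ω : Γ, (if ω = 1 then (0 : ℤ) else 2) = 2 - if ω = 1 then 2 else 0 := fun ω => by
      split_ifs <;> simp
    simp only [this, sum_sub_distrib, sum_const, card_univ, sum_ite_eq', mem_univ, if_true]
    rw [← hh]; simp; ring
  have hB : ∑ ω, ∑ μ, ((f (ω * μ) : ℤ) - f μ) ^ 2 = 2 * h * a - 2 * a * a := by
    rw [hre (fun ν μ => ((f ν : ℤ) - f μ) ^ 2)]
    have : ∀ ν μ, ((f ν : ℤ) - f μ) ^ 2 = g ν + g μ - 2 * (g ν * g μ) := fun ν μ => by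
      conv_rhs => rw [← hg ν, ← hg μ]; enter [2]; rw [hg ν, hg μ]
      simp only [g]; ring
    simp only [this, sum_sub_distrib, sum_add_distrib, sum_const, card_univ, ← mul_sum,
      ← sum_mul, ← ha, ← hh, nsmul_eq_mul]
    ring
  have hfa : ((∑ μ, f μ : ℕ) : ℤ) = n * h + a := by
    simp only [ha, g, sum_sub_distrib, sum_const, card_univ, ← hh, nsmul_eq_mul]
    push_cast; ring
  have : (a - 1) * (h - 1 - a) = 0 := by nlinarith
  rcases mul_eq_zero.1 this with h' | h'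
  · left
    have : ((∑ μ, f μ : ℕ) : ℤ) = n * h + 1 := by rw [hfa]; linarith
    exact_mod_cast this
  · right
    have : ((∑ μ, f μ : ℕ) : ℤ) + 1 = (n + 1) * h := by rw [hfa]; linarith
    exact_mod_cast this

end CL.BG
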