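import Cfsg.Agent.Base

/-!
# Linear algebra for BG sections 2 and 3

Schur's lemma for families of endomorphisms, minimal invariant subspaces, eigenbases of
endomorphisms of finite order, weight vectors.
-/

set_option autoImplicit false

namespace CL.BG

open Module

variable {F W : Type*} [Field F] [AddCommGroup W] [Module F W]

/-- Schur's lemma for a family of endomorphisms. -/
theorem lin_schur [IsAlgClosed F] [FiniteDimensional F W] [Nontrivial W] (S : Set (End F W))
    (hirr : ∀ U : Submodule F W, (∀ f ∈ S, ∀ w ∈ U, f w ∈ U) → U = ⊥ ∨ U = ⊤)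
    (X : End F W) (hX : ∀ f ∈ S, f * X = X * f) : ∃ c : F, X = c • (1 : End F W) := by
  obtain ⟨c, hc⟩ := Module.End.exists_eigenvalue X
  refine ⟨c, ?_⟩
  rcases hirr (X.eigenspace c) (fun f hf w hw => by
    rw [Module.End.mem_eigenspace_iff] at hw ⊢
    have := congr($(hX f hf) w)
    simp only [Module.End.mul_apply] at this
    rw [← this, hw, map_smul]) with h | h
  · exact absurd h hc
  · ext w
    have : w ∈ X.eigenspace c := h ▸ Submodule.mem_top
    simpa using Module.End.mem_eigenspace_iff.1 this

/-- existence of minimal invariant subspaces -/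
theorem lin_exists_min_inv [FiniteDimensional F W] (P : Submodule F W → Prop) (U₀ : Submodule F W)
    (hU₀ : U₀ ≠ ⊥) (hP : P U₀) :
    ∃ U : Submodule F W, U ≤ U₀ ∧ U ≠ ⊥ ∧ P U ∧ ∀ U' : Submodule F W, U' ≤ U → P U' →
      U' = ⊥ ∨ U' = U := by
  induction U₀ using WellFoundedLT.induction with
  | ind U₀ ih =>
    by_cases h : ∀ U' : Submodule F W, U' ≤ U₀ → P U' → U' = ⊥ ∨ U' = U₀
    · exact ⟨U₀, le_rfl, hU₀, hP, h⟩
    · push Not at h
      obtain ⟨U', hle, hPU', h1, h2⟩ := h
      obtain ⟨U, hU, h⟩ := ih U' (lt_of_le_of_ne hle h2) h1 hPU'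
      exact ⟨U, hU.trans hle, h⟩

/-- An endomorphism of finite order prime to the characteristic has no fixed vector in the
image of `T - 1`. -/
theorem lin_fix_range_sub_one (T : End F W) {n : ℕ} (hn : (n : F) ≠ 0) (hT : T ^ n = 1) (v : W)
    (h : T (T v - v) = T v - v) : T v = v := by
  have key : ∀ k : ℕ, (T ^ k) v = v + (k : F) • (T v - v) := by
    intro k
    induction k with
    | zero => simp
    | succ k ih =>
      rw [pow_succ', Module.End.mul_apply, ih, map_add, map_smul, h]
      push_cast
      rw [add_smul, one_smul]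
      abel
  have := key n
  rw [hT, Module.End.one_apply, left_eq_add, smul_eq_zero] at this
  exact sub_eq_zero.1 (this.resolve_left hn)

/-- An endomorphism of finite order prime to the characteristic has an eigenbasis. -/
theorem lin_exists_eigenbasis [IsAlgClosed F] [FiniteDimensional F W] (T : End F W) {n : ℕ}
    (hn : (n : F) ≠ 0) (hT : T ^ n = 1) :
    ∃ (b : Basis (Fin (finrank F W)) F W) (μ : Fin (finrank F W) → F),
      ∀ i, T (b i) = μ i • b i := by
  have hss : T.IsSemisimple := by
    refine Module.End.isSemisimple_of_squarefree_aeval_eq_zero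
      (p := Polynomial.X ^ n - Polynomial.C 1)
      (Polynomial.separable_X_pow_sub_C 1 hn one_ne_zero).squarefree ?_
    simp [hT]
  have htop := hss.iSup_eigenspace_eq_top
  let s : Set W := {w | ∃ c : F, T w = c • w}
  have hs : ⊤ ≤ Submodule.span F s := by
    rw [← htop]
    refine iSup_le fun c w hw => Submodule.subset_span ⟨c, Module.End.mem_eigenspace_iff.1 hw⟩
  let b₀ := Basis.ofSpan hs
  have : Finite _ := Module.Finite.finite_basis b₀
  let _ := Fintype.ofFinite ↥((linearIndepOn_empty F id).extend (Set.empty_subset s))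
  let e := Fintype.equivFinOfCardEq (finrank_eq_card_basis b₀).symm
  have hb : ∀ i, ∃ c : F, T (b₀.reindex e i) = c • b₀.reindex e i := fun i => by
    rw [Basis.reindex_apply]
    exact Basis.ofSpan_subset hs ⟨_, rfl⟩
  choose μ hμ using hb
  exact ⟨_, μ, hμ⟩

/-- Matrix units give a lower bound for the dimension of the twisted commutant. -/
theorem lin_card_le_finrank [FiniteDimensional F W] {ι : Type*} [Fintype ι] [DecidableEq ι]
    [DecidableEq F] (b : Basis ι F W) (T : End F W) (μ : ι → F) (hμ : ∀ i, T (b i) = μ i • b i)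
    (ω : F) (E : Submodule F (End F W)) (hE : ∀ X : End F W, T * X = ω • (X * T) → X ∈ E) :
    (Finset.univ.filter fun ij : ι × ι => μ ij.1 = ω * μ ij.2).card ≤ finrank F E := by
  let s := Finset.univ.filter fun ij : ι × ι => μ ij.1 = ω * μ ij.2
  have hmem : ∀ ij : s, b.end ij.1 ∈ E := by
    rintro ⟨⟨i, j⟩, hij⟩
    have hij' : μ i = ω * μ j := (Finset.mem_filter.1 hij).2
    refine hE _ (b.ext fun k => ?_)
    simp only [Module.End.mul_apply, LinearMap.smul_apply, hμ, map_smul, Basis.end_apply_apply]
    split_ifs with h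
    · subst h
      rw [hμ, hij', smul_smul]
    · simp
  have hli : LinearIndependent F (fun ij : s => (⟨b.end ij.1, hmem ij⟩ : E)) := by
    refine LinearIndependent.of_comp E.subtype ?_
    exact b.end.linearIndependent.comp (fun ij : s => ij.1) Subtype.val_injective
  simpa using hli.fintype_card_le_finrank

/-- Weight vectors with distinct weights are linearly independent. -/
theorem lin_indep_of_weights {Z ι : Type*} [Monoid Z] (σ : Z → End F W) (v : ι → W)
    (hv : ∀ i, v i ≠ 0) (lam : ι → (Z →* F)) (hlam : Function.Injective lam)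
    (h : ∀ i z, σ z (v i) = lam i z • v i) : LinearIndependent F v := by
  rw [linearIndependent_iff']
  intro s c hc i hi
  obtain ⟨φ, hφ⟩ := Module.Projective.exists_dual_ne_zero F (hv i)
  have hli := (linearIndependent_monoidHom Z F).comp lam hlam
  rw [linearIndependent_iff'] at hli
  have := hli s (fun j => c j * φ (v j)) (by
    ext z
    have := congr(φ (σ z $hc))
    simp only [map_sum, map_smul, h, map_zero, smul_eq_mul] at this
    simp only [Finset.sum_apply, Function.comp, Pi.smul_apply, smul_eq_mul, Pi.zero_apply]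
    rw [← this]
    exact Finset.sum_congr rfl fun j _ => by ring) i hi
  exact (mul_eq_zero.1 this).resolve_right hφ

/-- A commuting family of endomorphisms has a common eigenvector in every nonzero invariant
subspace. -/
theorem lin_exists_common_eigenvector [IsAlgClosed F] [FiniteDimensional F W] (S : Set (End F W))
    (hS : ∀ f ∈ S, ∀ g ∈ S, f * g = g * f) (U₀ : Submodule F W) (hU₀ : U₀ ≠ ⊥)
    (hinv : ∀ f ∈ S, ∀ w ∈ U₀, f w ∈ U₀) :
    ∃ v ∈ U₀, v ≠ 0 ∧ ∀ f ∈ S, ∃ c : F, f v = c • v := by
  obtain ⟨U, hU, hne, hP, hmin⟩ :=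
    lin_exists_min_inv (fun U : Submodule F W => ∀ f ∈ S, ∀ w ∈ U, f w ∈ U) U₀ hU₀ hinv
  obtain ⟨v, hvU, hv⟩ := Submodule.exists_mem_ne_zero_of_ne_bot hne
  refine ⟨v, hU hvU, hv, fun f hf => ?_⟩
  have : Nontrivial U := Submodule.nontrivial_iff_ne_bot.2 hne
  obtain ⟨c, hc⟩ := Module.End.exists_eigenvalue (f.restrict (p := U) (q := U) (hP f hf))
  obtain ⟨w, hw⟩ := hc.exists_hasEigenvector
  have hw1 : f w = c • (w : W) := congr(($(hw.apply_eq_smul) : W))
  rcases hmin (U ⊓ f.eigenspace c) inf_le_left (fun g hg u hu => ⟨hP g hg u hu.1, by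
    have hu2 := Module.End.mem_eigenspace_iff.1 hu.2
    have := congr($(hS f hf g hg) u)
    simp only [Module.End.mul_apply] at this
    refine Module.End.mem_eigenspace_iff.2 ?_
    rw [this, hu2, map_smul]⟩) with h | h
  · have : (w : W) ∈ U ⊓ f.eigenspace c := ⟨w.2, Module.End.mem_eigenspace_iff.2 hw1⟩
    rw [h, Submodule.mem_bot] at this
    exact absurd (Subtype.ext this) hw.2
  · have : v ∈ U ⊓ f.eigenspace c := h.symm ▸ hvU
    exact ⟨c, Module.End.mem_eigenspace_iff.1 this.2⟩

end CL.BG
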