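import Cfsg.Agent.Base
import Cfsg.Agent.BG.A2_Lin
import Cfsg.Agent.BG.A2_Comb

/-!
# Representations of a class two group extended by a cyclic group (core of BG 2.5)
-/

set_option autoImplicit false
set_option linter.unusedSectionVars false

namespace CL.BG

open Module Subgroup Finset

/-- Hypotheses for the representation-theoretic core of BG 2.5. -/
structure ExtraRep {F W L : Type*} [Field F] [AddCommGroup W] [Module F W] [Group L]
    (ρ : L →* End F W) (K Z : Subgroup L) (g : L) : Prop where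
  cardK : (Nat.card K : F) ≠ 0
  ord : (orderOf g : F) ≠ 0
  norm : ∀ a ∈ zpowers g, ∀ x ∈ K, a * x * a⁻¹ ∈ K
  le : Z ≤ K
  centK : ∀ z ∈ Z, ∀ x ∈ K, x * z = z * x
  centg : ∀ z ∈ Z, g * z = z * g
  comm : ∀ x ∈ K, ∀ y ∈ K, y * x * y⁻¹ * x⁻¹ ∈ Z
  nondeg : ∀ x ∈ K, (∀ y ∈ K, ρ (y * x * y⁻¹ * x⁻¹) = 1) → x ∈ Z
  fpf : ∀ a ∈ zpowers g, a ≠ 1 → ∀ x ∈ K, a * x * a⁻¹ * x⁻¹ ∈ Z → x ∈ Z
  irr : ∀ U : Submodule F W, (∀ x ∈ K, ∀ w ∈ U, ρ x w ∈ U) → (∀ w ∈ U, ρ g w ∈ U) →
    U = ⊥ ∨ U = ⊤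

namespace ExtraRep

variable {F W L : Type*} [Field F] [AddCommGroup W] [Module F W] [Group L] [Finite L]
  {ρ : L →* End F W} {K Z : Subgroup L} {g : L}

theorem schur [IsAlgClosed F] [FiniteDimensional F W] [Nontrivial W] (h : ExtraRep ρ K Z g)
    (X : End F W) (hK : ∀ x ∈ K, ρ x * X = X * ρ x) (hg : ρ g * X = X * ρ g) :
    ∃ c : F, X = c • (1 : End F W) := by
  refine lin_schur (insert (ρ g) (ρ '' K)) (fun U hU => h.irr U (fun x hx => hU _
    (Set.mem_insert_of_mem _ ⟨x, hx, rfl⟩)) (hU _ (Set.mem_insert _ _))) X ?_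
  rintro f (rfl | ⟨x, hx, rfl⟩)
  exacts [hg, hK x hx]

theorem scalar [IsAlgClosed F] [FiniteDimensional F W] [Nontrivial W] (h : ExtraRep ρ K Z g)
    {z : L} (hz : z ∈ Z) : ∃ c : F, ρ z = c • (1 : End F W) :=
  h.schur _ (fun x hx => by rw [← map_mul, ← map_mul, h.centK z hz x hx])
    (by rw [← map_mul, ← map_mul, h.centg z hz])

/-- averaging over conjugation by `K` -/
noncomputable def avg (ρ : L →* End F W) (K : Subgroup L) : End F W →ₗ[F] End F W :=
  letI := Fintype.ofFinite K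
  ∑ y : K, LinearMap.mulLeftRight F (ρ y, ρ (y : L)⁻¹)

theorem avg_apply [Fintype K] (X : End F W) : avg ρ K X = ∑ y : K, ρ y * X * ρ (y : L)⁻¹ := by
  simp only [avg, LinearMap.sum_apply, LinearMap.mulLeftRight_apply]
  convert rfl

theorem avg_conj (X : End F W) {y : L} (hy : y ∈ K) :
    avg ρ K (ρ y * X * ρ y⁻¹) = avg ρ K X := by
  let _ := Fintype.ofFinite K
  rw [avg_apply, avg_apply]
  refine Fintype.sum_equiv (Equiv.mulRight (⟨y, hy⟩ : K)) _ _ fun x => ?_
  simp [mul_assoc]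

theorem avg_comm (X : End F W) {y : L} (hy : y ∈ K) : ρ y * avg ρ K X = avg ρ K X * ρ y := by
  let _ := Fintype.ofFinite K
  rw [avg_apply, mul_sum, sum_mul]
  refine Fintype.sum_equiv (Equiv.mulLeft (⟨y, hy⟩ : K)) _ _ fun x => ?_
  simp only [Equiv.coe_mulLeft, Subgroup.coe_mul, map_mul, mul_inv_rev, mul_assoc]
  rw [← map_mul ρ y⁻¹ y, inv_mul_cancel, map_one, mul_one]

theorem avg_mem (h : ExtraRep ρ K Z g) {z : L} (hz : z ∈ Z) :
    avg ρ K (ρ z) = (Nat.card K : F) • ρ z := by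
  let _ := Fintype.ofFinite K
  rw [avg_apply, Finset.sum_congr rfl (g := fun _ => ρ z) fun y _ => by
    rw [← map_mul, ← map_mul, h.centK z hz y y.2, mul_inv_cancel_right]]
  simp [Nat.cast_smul_eq_nsmul]

variable [IsAlgClosed F] [FiniteDimensional F W] [Nontrivial W]

theorem avg_notMem (h : ExtraRep ρ K Z g) {x : L} (hx : x ∈ K) (hxZ : x ∉ Z) :
    avg ρ K (ρ x) = 0 := by
  obtain ⟨y, hy, hne⟩ : ∃ y ∈ K, ρ (y * x * y⁻¹ * x⁻¹) ≠ 1 := by
    by_contra hc
    push Not at hc
    exact hxZ (h.nondeg x hx hc)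
  obtain ⟨c, hc⟩ := h.scalar (h.comm x hx y hy)
  have hc1 : c ≠ 1 := fun e => hne (by rw [hc, e, one_smul])
  have e := avg_conj (ρ := ρ) (ρ x) hy
  have e2 : ρ y * ρ x * ρ y⁻¹ = c • ρ x := by
    rw [← map_mul, ← map_mul, ← inv_mul_cancel_right (y * x * y⁻¹) x, map_mul _ _ x, hc,
      smul_mul_assoc, one_mul]
  rw [e2, map_smul] at e
  have : (c - 1) • avg ρ K (ρ x) = 0 := by rw [sub_smul, e, one_smul, sub_self]
  exact (smul_eq_zero.1 this).resolve_left (sub_ne_zero.2 hc1)

theorem cardZ (h : ExtraRep ρ K Z g) : (Nat.card Z : F) ≠ 0 := fun e => h.cardK (by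
  obtain ⟨m, hm⟩ := Subgroup.card_dvd_of_le h.le
  rw [hm, Nat.cast_mul, e, zero_mul])

theorem sum_avg [Fintype K] (h : ExtraRep ρ K Z g) (φ : K → L) (hφ : ∀ x, φ x ∈ K)
    (h1 : ∀ x : K, (x : L) ∈ Z → φ x = 1) (h2 : ∀ x : K, φ x ∈ Z → (x : L) ∈ Z) :
    ∑ x : K, avg ρ K (ρ (φ x)) = ((Nat.card Z : F) * Nat.card K) • 1 := by
  classical
  have : ∀ x : K, avg ρ K (ρ (φ x)) = if (x : L) ∈ Z then (Nat.card K : F) • 1 else 0 := by
    intro x
    split_ifs with hx
    · rw [h1 x hx, h.avg_mem Z.one_mem, map_one]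
    · exact h.avg_notMem (hφ x) fun e => hx (h2 x e)
  rw [Finset.sum_congr rfl fun x _ => this x, ← Finset.sum_filter, Finset.sum_const,
    ← Nat.cast_smul_eq_nsmul F, smul_smul]
  congr 3
  rw [← Nat.card_congr (subgroupOfEquivOfLe h.le).toEquiv, Nat.card_eq_fintype_card,
    Fintype.card_subtype]
  rfl

/-- `ρ g` lies in the span of `ρ K`, provided `g ≠ 1`. -/
theorem mem_span_g (h : ExtraRep ρ K Z g) : ρ g ∈ Submodule.span F (ρ '' K) := by
  by_cases hg1 : g = 1
  · exact Submodule.subset_span ⟨1, K.one_mem, by rw [hg1]⟩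
  let _ := Fintype.ofFinite K
  have hn := h.norm g (mem_zpowers g)
  have hn' := h.norm g⁻¹ (inv_mem (mem_zpowers g))
  let S : End F W := ∑ x : K, ρ (g * x * g⁻¹ * (x : L)⁻¹)
  have hS : S ∈ Submodule.span F (ρ '' K) :=
    Submodule.sum_mem _ fun x _ =>
      Submodule.subset_span ⟨_, K.mul_mem (hn x x.2) (K.inv_mem x.2), rfl⟩
  have hSK : ∀ y ∈ K, ρ (g * y * g⁻¹) * S = S * ρ y := by
    intro y hy
    simp only [S, mul_sum, sum_mul, ← map_mul]
    refine Fintype.sum_equiv (Equiv.mulLeft (⟨y, hy⟩ : K)) _ _ fun x => ?_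
    congr 1
    simp [mul_assoc]
  let α : K ≃ K :=
    { toFun := fun x => ⟨g * x * g⁻¹, hn x x.2⟩
      invFun := fun x => ⟨g⁻¹ * x * g⁻¹⁻¹, hn' x x.2⟩
      left_inv := fun x => by ext; simp [mul_assoc]
      right_inv := fun x => by ext; simp [mul_assoc] }
  have hSg : ρ g * S = S * ρ g := by
    simp only [S, mul_sum, sum_mul, ← map_mul]
    refine Fintype.sum_equiv α _ _ fun x => ?_
    congr 1
    simp [α, mul_assoc]
  obtain ⟨c, hc⟩ := h.schur (ρ g⁻¹ * S) (fun y hy => by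
    rw [mul_assoc, ← hSK y hy, ← mul_assoc, ← mul_assoc, ← map_mul, ← map_mul]
    congr 2
    group) (by
    rw [mul_assoc, ← hSg, ← mul_assoc, ← mul_assoc, ← map_mul, ← map_mul]
    congr 2
    group)
  have hSc : S = c • ρ g := by
    have := congr(ρ g * $hc)
    rwa [← mul_assoc, ← map_mul, mul_inv_cancel, map_one, one_mul, mul_smul_comm, mul_one] at this
  have hc0 : c ≠ 0 := by
    rintro rfl
    have e := h.sum_avg (fun x : K => g * x * g⁻¹ * (x : L)⁻¹)
      (fun x => K.mul_mem (hn x x.2) (K.inv_mem x.2))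
      (fun x hx => by rw [h.centg x hx]; group)
      (fun x hx => h.fpf g (mem_zpowers g) hg1 x x.2 hx)
    rw [← map_sum] at e
    change avg ρ K S = _ at e
    rw [hSc, zero_smul, map_zero, eq_comm, smul_eq_zero] at e
    exact e.elim (mul_ne_zero h.cardZ h.cardK) one_ne_zero
  have : ρ g = c⁻¹ • S := by rw [hSc, smul_smul, inv_mul_cancel₀ hc0, one_smul]
  rw [this]
  exact Submodule.smul_mem _ _ hS

theorem schurK (h : ExtraRep ρ K Z g) (X : End F W) (hK : ∀ x ∈ K, ρ x * X = X * ρ x) :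
    ∃ c : F, X = c • (1 : End F W) := by
  refine h.schur X hK ?_
  have : ∀ Y ∈ Submodule.span F (ρ '' K), Y * X = X * Y := by
    intro Y hY
    induction hY using Submodule.span_induction with
    | mem Y hY => obtain ⟨x, hx, rfl⟩ := hY; exact hK x hx
    | zero => simp
    | add _ _ _ _ h1 h2 => rw [add_mul, mul_add, h1, h2]
    | smul c _ _ h1 => rw [smul_mul_assoc, mul_smul_comm, h1]
  exact this _ h.mem_span_g

/-- Burnside: `ρ K` spans the endomorphism algebra. -/
theorem mem_span (h : ExtraRep ρ K Z g) (X : End F W) : X ∈ Submodule.span F (ρ '' K) := by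
  classical
  let _ := Fintype.ofFinite K
  have hc : ∀ x : K, ∃ c : F, avg ρ K (X * ρ (x : L)⁻¹) = c • (1 : End F W) := fun x =>
    h.schurK _ fun y hy => avg_comm _ hy
  choose c hc using hc
  have key : ∑ x : K, c x • ρ x = ((Nat.card Z : F) * Nat.card K) • X := by
    have e1 : ∀ x : K, c x • ρ x = ∑ y : K, ρ y * X * (ρ (x : L)⁻¹ * ρ (y : L)⁻¹ * ρ x) := by
      intro x
      conv_lhs => rw [← one_mul (ρ x), ← smul_mul_assoc, ← hc, avg_apply, sum_mul]
      simp only [mul_assoc]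
    have e2 : ∀ y : K, ∑ x : K, ρ (x : L)⁻¹ * ρ (y : L)⁻¹ * ρ x = avg ρ K (ρ (y : L)⁻¹) := by
      intro y
      rw [avg_apply]
      exact Fintype.sum_equiv (Equiv.inv K) _ _ fun x => by simp
    rw [Finset.sum_congr rfl fun x _ => e1 x, Finset.sum_comm]
    simp only [← mul_sum, e2]
    have e3 : ∀ y : K, ρ y * X * avg ρ K (ρ (y : L)⁻¹) =
        if (y : L) ∈ Z then (Nat.card K : F) • X else 0 := by
      intro y
      split_ifs with hy
      · obtain ⟨d, hd⟩ := h.scalar hy
        rw [h.avg_mem (Z.inv_mem hy), mul_smul_comm]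
        congr 1
        have : ρ y * X = X * ρ y := by rw [hd]; simp
        rw [this, mul_assoc, ← map_mul, mul_inv_cancel, map_one, mul_one]
      · rw [h.avg_notMem (K.inv_mem y.2) (fun e => hy (by simpa using e)), mul_zero]
    rw [Finset.sum_congr rfl fun y _ => e3 y, ← Finset.sum_filter, Finset.sum_const,
      ← Nat.cast_smul_eq_nsmul F, smul_smul]
    congr 3
    rw [← Nat.card_congr (subgroupOfEquivOfLe h.le).toEquiv, Nat.card_eq_fintype_card,
      Fintype.card_subtype]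
    rfl
  have : X = ((Nat.card Z : F) * Nat.card K)⁻¹ • ∑ x : K, c x • ρ x := by
    rw [key, smul_smul, inv_mul_cancel₀ (mul_ne_zero h.cardZ h.cardK), one_smul]
  rw [this]
  exact Submodule.smul_mem _ _ (Submodule.sum_mem _ fun x _ =>
    Submodule.smul_mem _ _ (Submodule.subset_span ⟨x, x.2, rfl⟩))

theorem relIndex_le (h : ExtraRep ρ K Z g) : Z.relIndex K ≤ finrank F W ^ 2 := by
  classical
  let _ := Fintype.ofFinite (K ⧸ Z.subgroupOf K)
  have hli : LinearIndependent F (fun q : K ⧸ Z.subgroupOf K => ρ (q.out : K)) := by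
    rw [Fintype.linearIndependent_iff]
    intro c hc q
    have := congr(avg ρ K ($hc * ρ ((q.out : K) : L)⁻¹))
    rw [zero_mul, map_zero, sum_mul, map_sum, Finset.sum_eq_single q] at this
    · rw [smul_mul_assoc, ← map_mul, mul_inv_cancel, map_smul, h.avg_mem Z.one_mem, map_one,
        smul_smul, smul_eq_zero] at this
      exact (mul_eq_zero.1 (this.resolve_right one_ne_zero)).resolve_right h.cardK
    · intro q' _ hq'
      rw [smul_mul_assoc, ← map_mul, map_smul,
        h.avg_notMem (K.mul_mem q'.out.2 (K.inv_mem q.out.2)), smul_zero]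
      intro hZ
      apply hq'
      rw [← QuotientGroup.out_eq' q', ← QuotientGroup.out_eq' q, eq_comm, QuotientGroup.eq,
        mem_subgroupOf]
      have e := h.centK _ hZ _ (K.inv_mem q.out.2)
      have : (((q.out)⁻¹ * q'.out : K) : L) = (q'.out : L) * ((q.out : K) : L)⁻¹ := by
        rw [Subgroup.coe_mul, Subgroup.coe_inv]
        apply mul_right_cancel (b := ((q.out : K) : L)⁻¹)
        rw [mul_assoc, e]
      rwa [this]
    · simp
  have := hli.fintype_card_le_finrank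
  rw [Module.finrank_linearMap, ← sq, ← Nat.card_eq_fintype_card] at this
  exact this

/-- twisted averaging over conjugation by the powers of `g` -/
noncomputable def tavg (ρ : L →* End F W) (g : L) (ω : Fˣ) : End F W →ₗ[F] End F W :=
  ∑ i ∈ range (orderOf g), ((ω⁻¹ ^ i : Fˣ) : F) • LinearMap.mulLeftRight F (ρ (g ^ i), ρ (g ^ i)⁻¹)

theorem tavg_apply (ω : Fˣ) (X : End F W) : tavg ρ g ω X =
    ∑ i ∈ range (orderOf g), ((ω⁻¹ ^ i : Fˣ) : F) • (ρ (g ^ i) * X * ρ (g ^ i)⁻¹) := by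
  simp only [tavg, LinearMap.sum_apply, LinearMap.smul_apply, LinearMap.mulLeftRight_apply]

theorem tavg_of_comm (ω : Fˣ) (X : End F W) (hX : ρ g * X = (ω : F) • (X * ρ g)) :
    tavg ρ g ω X = (orderOf g : F) • X := by
  have : ∀ i : ℕ, ρ (g ^ i) * X * ρ (g ^ i)⁻¹ = ((ω ^ i : Fˣ) : F) • X := by
    intro i
    induction i with
    | zero => simp
    | succ i ih =>
      rw [pow_succ', mul_inv_rev, map_mul, map_mul, mul_assoc (ρ g), mul_assoc (ρ g),
        ← mul_assoc _ (ρ (g ^ i)⁻¹), ih, smul_mul_assoc, mul_smul_comm, ← mul_assoc, hX,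
        smul_mul_assoc, mul_assoc, ← map_mul, mul_inv_cancel, map_one, mul_one, smul_smul,
        pow_succ, Units.val_mul]
  rw [tavg_apply, Finset.sum_congr rfl (g := fun _ => X) fun i _ => by
    rw [this, smul_smul, ← Units.val_mul, ← mul_pow, inv_mul_cancel, one_pow, Units.val_one,
      one_smul]]
  simp [Nat.cast_smul_eq_nsmul]

theorem tavg_conj (ω : Fˣ) (hω : ω ^ orderOf g = 1) (X : End F W) :
    tavg ρ g ω (ρ g * X * ρ g⁻¹) = (ω : F) • tavg ρ g ω X := by
  let u : ℕ → End F W := fun i => ((ω⁻¹ ^ i : Fˣ) : F) • (ρ (g ^ i) * X * ρ (g ^ i)⁻¹)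
  have e1 := Finset.sum_range_succ u (orderOf g)
  have e2 := Finset.sum_range_succ' u (orderOf g)
  have e3 : u (orderOf g) = u 0 := by
    simp only [u, inv_pow, hω, pow_orderOf_eq_one, pow_zero]
  rw [e1, e3, add_left_inj] at e2
  rw [tavg_apply, tavg_apply]
  change _ = (ω : F) • ∑ i ∈ range (orderOf g), u i
  rw [e2, smul_sum]
  refine Finset.sum_congr rfl fun i _ => ?_
  simp only [u, smul_smul, ← Units.val_mul]
  congr 1
  · congr 1
    rw [pow_succ', mul_inv_cancel_left]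
  · rw [pow_succ, mul_inv_rev, map_mul, map_mul]
    simp only [mul_assoc]

theorem tavg_conj_pow (ω : Fˣ) (hω : ω ^ orderOf g = 1) (X : End F W) (k : ℕ) :
    tavg ρ g ω (ρ (g ^ k) * X * ρ (g ^ k)⁻¹) = ((ω ^ k : Fˣ) : F) • tavg ρ g ω X := by
  induction k with
  | zero => simp
  | succ k ih =>
    rw [pow_succ', mul_inv_rev, map_mul ρ, map_mul ρ, mul_assoc (ρ g), mul_assoc (ρ g),
      ← mul_assoc _ (ρ (g ^ k)⁻¹), ← mul_assoc, tavg_conj ω hω, ih, smul_smul, pow_succ',
      Units.val_mul]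

theorem tavg_one (ω : Fˣ) (hω : ω ^ orderOf g = 1) (hω1 : ω ≠ 1) : tavg ρ g ω 1 = 0 := by
  have e := tavg_conj (ρ := ρ) ω hω 1
  rw [mul_one, ← map_mul, mul_inv_cancel, map_one] at e
  have : ((ω : F) - 1) • tavg ρ g ω 1 = 0 := by rw [sub_smul, ← e, one_smul, sub_self]
  exact (smul_eq_zero.1 this).resolve_left (sub_ne_zero.2 fun e => hω1 (Units.ext e))

/-- representatives for the orbits of `Z × ⟨g⟩` on `K \ Z` -/
theorem exists_reps (h : ExtraRep ρ K Z g) : ∃ (t : ℕ) (y : Fin t → L),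
    Z.relIndex K = 1 + orderOf g * t ∧
    ∀ x ∈ K, x ∉ Z → ∃ z ∈ Z, ∃ (k : ℕ) (j : Fin t), x = z * (g ^ k * y j * (g ^ k)⁻¹) := by
  have hza : ∀ z ∈ Z, ∀ a ∈ zpowers g, a * z = z * a := fun z hz a ha => by
    obtain ⟨k, rfl⟩ := mem_zpowers_iff.1 ha
    exact (Commute.zpow_left (h.centg z hz) k).eq
  let X := {x : L // x ∈ K ∧ x ∉ Z}
  let _ : MulAction (Z × zpowers g) X :=
    { smul := fun za x => ⟨za.1 * (za.2 * x * (za.2 : L)⁻¹),
        K.mul_mem (h.le za.1.2) (h.norm _ za.2.2 _ x.2.1), fun hZ => x.2.2 (by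
          have h1 := (Z.mul_mem_cancel_left za.1.2).1 hZ
          have h2 := hza _ h1 _ (inv_mem za.2.2)
          have : (x : L) = za.2 * x * (za.2 : L)⁻¹ := by
            apply mul_right_cancel (b := (za.2 : L)⁻¹)
            rw [← h2]; group
          rwa [this])⟩
      one_smul := fun x => Subtype.ext (by
        change ((1 : Z) : L) * (((1 : zpowers g) : L) * x * ((1 : zpowers g) : L)⁻¹) = x
        simp)
      mul_smul := fun za zb x => Subtype.ext (by
        change ((za.1 * zb.1 : Z) : L) * (((za.2 * zb.2 : zpowers g) : L) * x *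
          ((za.2 * zb.2 : zpowers g) : L)⁻¹) =
          za.1 * (za.2 * (zb.1 * (zb.2 * x * (zb.2 : L)⁻¹)) * (za.2 : L)⁻¹)
        rw [← mul_assoc (za.2 : L), hza _ zb.1.2 _ za.2.2]
        simp [mul_assoc]) }
  have hsm : ∀ (za : Z × zpowers g) (x : X),
      ((za • x : X) : L) = za.1 * (za.2 * x * (za.2 : L)⁻¹) := fun _ _ => rfl
  have hfree : ∀ x : X, MulAction.stabilizer (Z × zpowers g) x = ⊥ := by
    intro x
    rw [eq_bot_iff]
    rintro ⟨z, a⟩ hx
    have e : (z : L) * (a * x * (a : L)⁻¹) = x := congr(($(MulAction.mem_stabilizer_iff.1 hx) : L))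
    have ha : (a : L) = 1 := by
      by_contra ha
      refine x.2.2 (h.fpf a a.2 ha x x.2.1 ?_)
      have : (a : L) * x * (a : L)⁻¹ * (x : L)⁻¹ = (z : L)⁻¹ := by
        rw [eq_inv_iff_mul_eq_one, ← mul_left_inj (z : L)⁻¹, mul_inv_cancel_right, one_mul,
          ← mul_right_inj (z : L), ← mul_assoc, e]
        simp
      rw [this]
      exact Z.inv_mem z.2
    rw [ha] at e
    simp only [one_mul, inv_one, mul_one, mul_eq_right] at e
    exact mem_bot.2 (Prod.ext (Subtype.ext e) (Subtype.ext ha))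
  let Q := Quotient (MulAction.orbitRel (Z × zpowers g) X)
  let e : Q ≃ Fin (Nat.card Q) := Finite.equivFin Q
  refine ⟨Nat.card Q, fun j => ((e.symm j).out : X), ?_, fun x hx hxZ => ?_⟩
  · have h1 := Nat.card_congr (MulAction.selfEquivOrbitsQuotientProd hfree)
    rw [Nat.card_prod, Nat.card_prod, Nat.card_zpowers] at h1
    have h2 : Nat.card K = Nat.card Z + Nat.card X := by
      rw [← Nat.card_sum]
      classical
      refine Nat.card_congr (((Equiv.sumCompl (fun x : K => (x : L) ∈ Z)).symm).trans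
        (Equiv.sumCongr ?_ ?_))
      · exact (subgroupOfEquivOfLe h.le).toEquiv
      · exact Equiv.subtypeSubtypeEquivSubtypeInter (fun x : L => x ∈ K) (fun x => x ∉ Z)
    have h3 : Nat.card Z * Z.relIndex K = Nat.card K := by
      rw [← relIndex_bot_left, ← relIndex_bot_left, relIndex_mul_relIndex _ _ _ bot_le h.le]
    apply Nat.eq_of_mul_eq_mul_left (Nat.card_pos (α := Z))
    rw [h3, h2, h1]
    change _ + Nat.card Q * _ = _
    ring
  · let x' : X := ⟨x, hx, hxZ⟩
    have : x' ∈ MulAction.orbit (Z × zpowers g) (Quotient.mk'' x' : Q).out :=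
      (MulAction.orbitRel _ _).symm (Quotient.exact (Quotient.out_eq (Quotient.mk'' x' : Q)))
    obtain ⟨⟨z, a⟩, hza⟩ := this
    obtain ⟨k, hk⟩ := (mem_powers_iff_mem_zpowers.2 a.2 : (a : L) ∈ Submonoid.powers g)
    refine ⟨z, z.2, k, e (Quotient.mk'' x'), ?_⟩
    simp only [Equiv.symm_apply_apply] at hk ⊢
    rw [hk]
    exact congr(($hza : L)).symm

/-- The representation-theoretic core of BG 2.5. -/
theorem main (h : ExtraRep ρ K Z g) :
    finrank F W ^ 2 = Z.relIndex K ∧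
    (orderOf g ∣ finrank F W + 1 ∨ orderOf g ∣ finrank F W - 1) ∧
    ((∀ w, ρ g w = w → w = 0) → finrank F W = 1 ∨ finrank F W + 1 = orderOf g) := by
  classical
  have : NeZero (orderOf g) := ⟨(orderOf_pos g).ne'⟩
  have : NeZero (orderOf g : F) := ⟨h.ord⟩
  obtain ⟨t, y, hN, hy⟩ := h.exists_reps
  obtain ⟨b, μ, hμ⟩ := lin_exists_eigenbasis (ρ g) h.ord
    (by rw [← map_pow, pow_orderOf_eq_one, map_one])
  have hμn : ∀ i, μ i ^ orderOf g = 1 := by
    intro i
    have e : ∀ k : ℕ, (ρ g ^ k) (b i) = μ i ^ k • b i := by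
      intro k
      induction k with
      | zero => simp
      | succ k ih => rw [pow_succ', Module.End.mul_apply, ih, map_smul, hμ, smul_smul, pow_succ]
    have := e (orderOf g)
    rw [← map_pow, pow_orderOf_eq_one, map_one, Module.End.one_apply] at this
    have h2 : (μ i ^ orderOf g - 1) • b i = 0 := by rw [sub_smul, ← this, one_smul, sub_self]
    exact sub_eq_zero.1 ((smul_eq_zero.1 h2).resolve_right (b.ne_zero i))
  let Γ := rootsOfUnity (orderOf g) F
  let _ : Fintype Γ := Fintype.ofFinite Γ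
  have hΓ : Fintype.card Γ = orderOf g := by
    rw [← Nat.card_eq_fintype_card]
    exact HasEnoughRootsOfUnity.natCard_rootsOfUnity F _
  let ν : Fin (finrank F W) → Γ := fun i => rootsOfUnity.mkOfPowEq (μ i) (hμn i)
  have hν : ∀ i, ((ν i : Fˣ) : F) = μ i := fun i => rfl
  let f : Γ → ℕ := fun ω => (univ.filter fun i => ν i = ω).card
  have hf : ∑ ω, f ω = finrank F W := by
    rw [← Finset.card_eq_sum_card_fiberwise (s := univ) (t := univ) (f := ν) (by simp)]
    simp
  have hc : ∀ ω : Γ, ∑ κ, f (ω * κ) * f κ =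
      (univ.filter fun ij : Fin (finrank F W) × Fin (finrank F W) =>
        μ ij.1 = ((ω : Fˣ) : F) * μ ij.2).card := by
    intro ω
    rw [Finset.card_eq_sum_card_fiberwise (t := univ) (f := fun ij => ν ij.2) (by simp)]
    refine Finset.sum_congr rfl fun κ _ => ?_
    rw [← Finset.card_product]
    congr 1
    ext ⟨i, j⟩
    simp only [mem_product, mem_filter, mem_univ, true_and, ← hν]
    constructor
    · rintro ⟨h1, h2⟩
      exact ⟨by rw [h1, h2]; rfl, h2⟩
    · rintro ⟨h1, h2⟩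
      exact ⟨Subtype.ext (Units.ext (by rw [h1, h2]; rfl)), h2⟩
  have hE : ∀ (ω : Γ) (X : End F W), ρ g * X = ((ω : Fˣ) : F) • (X * ρ g) →
      X ∈ Submodule.span F (Set.range fun j => tavg ρ g ω (ρ (y j))) ⊔
        Submodule.span F {tavg ρ g ω 1} := by
    intro ω X hX
    have hω : (ω : Fˣ) ^ orderOf g = 1 := ω.2
    have e : X = (orderOf g : F)⁻¹ • tavg ρ g ω X := by
      rw [tavg_of_comm _ _ hX, smul_smul, inv_mul_cancel₀ h.ord, one_smul]
    rw [e]
    refine Submodule.smul_mem _ _ ?_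
    clear e hX
    induction h.mem_span X using Submodule.span_induction with
    | mem Y hY =>
      obtain ⟨x, hx, rfl⟩ := hY
      by_cases hxZ : x ∈ Z
      · obtain ⟨c, hc⟩ := h.scalar hxZ
        rw [hc, map_smul]
        exact Submodule.mem_sup_right (Submodule.smul_mem _ _ (Submodule.mem_span_singleton_self _))
      · obtain ⟨z, hz, k, j, rfl⟩ := hy x hx hxZ
        obtain ⟨c, hc⟩ := h.scalar hz
        rw [map_mul, hc, smul_mul_assoc, one_mul, map_smul, map_mul ρ, map_mul ρ,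
          tavg_conj_pow _ hω]
        exact Submodule.mem_sup_left (Submodule.smul_mem _ _ (Submodule.smul_mem _ _
          (Submodule.subset_span ⟨j, rfl⟩)))
    | zero => simp
    | add _ _ _ _ h1 h2 => rw [map_add]; exact Submodule.add_mem _ h1 h2
    | smul c _ _ h1 => rw [map_smul]; exact Submodule.smul_mem _ _ h1
  have hspan : ∀ ω : Γ,
      finrank F (Submodule.span F (Set.range fun j => tavg ρ g ω (ρ (y j)))) ≤ t := fun ω => by
    simpa [Set.finrank] using finrank_range_le_card (R := F) (fun j => tavg ρ g ω (ρ (y j)))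
  obtain ⟨hsq, n, hn, hcase⟩ := comb_2_4k f t
    (by
      have := hc 1
      simp only [one_mul] at this
      rw [this]
      refine (lin_card_le_finrank b (ρ g) μ hμ _ _ (hE 1)).trans
        ((Submodule.finrank_add_le_finrank_add_finrank _ _).trans (add_le_add (hspan 1) ?_))
      simpa using finrank_span_le_card (R := F) ({tavg ρ g (1 : Γ) 1} : Set (End F W)))
    (fun ω hω => by
      rw [hc]
      refine (lin_card_le_finrank b (ρ g) μ hμ _ _ (hE ω)).trans ?_
      rw [tavg_one _ ω.2 (fun e => hω (Subtype.ext e)), Submodule.span_zero_singleton, sup_bot_eq]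
      exact hspan ω)
    (by rw [hf, hΓ, ← hN]; exact h.relIndex_le)
  rw [hf, hΓ] at hsq hcase
  refine ⟨hsq.trans hN.symm, ?_, fun hfix => ?_⟩
  · rcases hcase with e | e
    · right; rw [e]; simp
    · left; rw [e]; simp
  · have : f 1 = 0 := by
      rw [Finset.card_eq_zero, Finset.filter_eq_empty_iff]
      intro i _ hi
      refine b.ne_zero i (hfix _ ?_)
      rw [hμ, ← hν, hi]
      simp
    have hn0 : n = 0 := by have := hn 1; omega
    subst hn0
    simpa using hcase

end ExtraRep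

end CL.BG
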