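import Cfsg.Agent.Base
import Cfsg.Agent.BG.A2_Extra
import Cfsg.Agent.BG.Conj

/-!
# The core of BG 2.5 for subgroups of an ambient group
-/

set_option autoImplicit false

namespace CL.BG

open Module Subgroup

/-- Passing to an irreducible constituent on which a given central element acts nontrivially. -/
theorem extra_rep_sub {F W L : Type*} [Field F] [IsAlgClosed F] [AddCommGroup W] [Module F W]
    [FiniteDimensional F W] [Group L] [Finite L] (ρ : L →* End F W) {K Z : Subgroup L} {g : L}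
    (htop : K ⊔ zpowers g = ⊤) (hK : (Nat.card K : F) ≠ 0) (hg : (orderOf g : F) ≠ 0)
    (hn : ∀ a ∈ zpowers g, ∀ x ∈ K, a * x * a⁻¹ ∈ K) (hZ : Z ≤ K)
    (hZK : ∀ z ∈ Z, ∀ x ∈ K, x * z = z * x) (hZg : ∀ z ∈ Z, g * z = z * g)
    (hder : ∀ x ∈ K, ∀ y ∈ K, y * x * y⁻¹ * x⁻¹ ∈ Z)
    (hfpf : ∀ a ∈ zpowers g, a ≠ 1 → ∀ x ∈ K, a * x * a⁻¹ * x⁻¹ ∈ Z → x ∈ Z)
    {z₀ : L} (hz₀ : z₀ ∈ Z) (hρ : ρ z₀ ≠ 1)
    (hnd : ∀ N : Subgroup L, N.Normal → z₀ ∉ N → ∀ x ∈ K,
      (∀ y ∈ K, y * x * y⁻¹ * x⁻¹ ∈ N) → x ∈ Z) :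
    ∃ d : ℕ, d ^ 2 = Z.relIndex K ∧ (orderOf g ∣ d + 1 ∨ orderOf g ∣ d - 1) ∧
      ((∀ w, ρ g w = w → w = 0) → d = 1 ∨ d + 1 = orderOf g) := by
  have hcen : ∀ x : L, x * z₀ = z₀ * x := by
    intro x
    have : (⊤ : Subgroup L) ≤ centralizer {z₀} := by
      rw [← htop]
      exact sup_le (fun y hy => mem_cent1.2 (hZK z₀ hz₀ y hy))
        (zpowers_le.2 (mem_cent1.2 (hZg z₀ hz₀)))
    exact mem_cent1.1 (this (mem_top x))
  have hord : (orderOf z₀ : F) ≠ 0 := by
    obtain ⟨c, hc⟩ := orderOf_dvd_card' (hZ hz₀)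
    rw [hc, Nat.cast_mul] at hK
    exact left_ne_zero_of_mul hK
  obtain ⟨U, hUle, hU0, hUinv, hUmin⟩ := lin_exists_min_inv
    (fun U : Submodule F W => ∀ x : L, U ≤ U.comap (ρ x)) (LinearMap.range (ρ z₀ - 1))
    (by
      intro h
      rw [LinearMap.range_eq_bot, sub_eq_zero] at h
      exact hρ h)
    (by
      rintro x _ ⟨v, rfl⟩
      refine ⟨ρ x v, ?_⟩
      have : ρ z₀ * ρ x = ρ x * ρ z₀ := by rw [← map_mul, ← map_mul, hcen]
      simp only [LinearMap.sub_apply, End.one_apply, map_sub]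
      rw [← End.mul_apply, this, End.mul_apply])
  let σ : L →* End F U := Representation.subrepresentation ρ U hUinv
  have hσ : ∀ (x : L) (u : U), ((σ x u : U) : W) = ρ x u := fun _ _ => rfl
  have : Nontrivial U := Submodule.nontrivial_iff_ne_bot.2 hU0
  have hz : z₀ ∉ σ.ker := by
    intro h
    apply hU0
    rw [Submodule.eq_bot_iff]
    intro u hu
    obtain ⟨v, rfl⟩ := hUle hu
    have h1 := hσ z₀ ⟨_, hu⟩
    rw [MonoidHom.mem_ker.1 h] at h1
    simp only [End.one_apply, LinearMap.sub_apply] at h1 ⊢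
    rw [lin_fix_range_sub_one (ρ z₀) hord (by rw [← map_pow, pow_orderOf_eq_one, map_one]) v
      h1.symm, sub_self]
  have hE : ExtraRep σ K Z g := by
    refine ⟨hK, hg, hn, hZ, hZK, hZg, hder, fun x hx h => hnd σ.ker inferInstance hz x hx h,
      hfpf, fun U' h1 h2 => ?_⟩
    let S : Subgroup L :=
      { carrier := {x | ∀ w ∈ U', σ x w ∈ U'}
        mul_mem' := fun {a b} ha hb w hw => by rw [map_mul]; exact ha _ (hb w hw)
        one_mem' := fun w hw => by rw [map_one]; exact hw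
        inv_mem' := fun {a} ha w hw => by
          have key : ∀ n : ℕ, σ (a ^ n) w ∈ U' := by
            intro n
            induction n with
            | zero => rw [pow_zero, map_one]; exact hw
            | succ n ih => rw [pow_succ', map_mul]; exact ha _ ih
          have e : a⁻¹ = a ^ (orderOf a - 1) := by
            refine inv_eq_of_mul_eq_one_left ?_
            rw [← pow_succ, Nat.sub_add_cancel (orderOf_pos a), pow_orderOf_eq_one]
          rw [e]
          exact key _ }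
    have hS : (⊤ : Subgroup L) ≤ S := htop ▸ sup_le h1 (zpowers_le.2 h2)
    rcases hUmin (U'.map U.subtype) (Submodule.map_subtype_le U U') (by
      rintro x _ ⟨w, hw, rfl⟩
      exact ⟨σ x w, hS (mem_top x) w hw, rfl⟩) with h | h
    · refine Or.inl (Submodule.map_injective_of_injective U.injective_subtype ?_)
      rw [h, Submodule.map_bot]
    · refine Or.inr (Submodule.map_injective_of_injective U.injective_subtype ?_)
      rw [h, Submodule.map_subtype_top]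
  obtain ⟨h1, h2, h3⟩ := hE.main
  refine ⟨_, h1, h2, fun h => h3 fun w hw => Subtype.ext (h _ ?_)⟩
  rw [← hσ, hw]

variable {G : Type*} [Group G] [Finite G]

omit [Finite G] in
theorem extra_fpf_of_coprime {K Z : Subgroup G} {a x : G} (hZ : Z ≤ K) (ha : Z ≤ 𝐂₁(a))
    (hcop : (Nat.card K).Coprime (orderOf a)) (h : a * x * a⁻¹ * x⁻¹ ∈ Z) : x ∈ 𝐂₁(a) := by
  set c := a * x * a⁻¹ * x⁻¹ with hc
  have hca : c * a = a * c := mem_cent1.1 (ha h)
  have key : ∀ n : ℕ, a ^ n * x = c ^ n * x * a ^ n := by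
    intro n
    induction n with
    | zero => simp
    | succ n ih =>
      have h1 : a * c ^ n = c ^ n * a := ((show Commute c a from hca).pow_left n).eq.symm
      have h2 : a * x = c * x * a := by rw [hc]; group
      calc a ^ (n + 1) * x = a * (a ^ n * x) := by rw [pow_succ', mul_assoc]
        _ = (a * c ^ n) * x * a ^ n := by rw [ih]; group
        _ = c ^ n * (a * x) * a ^ n := by rw [h1]; group
        _ = c ^ (n + 1) * x * a ^ (n + 1) := by rw [h2, pow_succ, pow_succ']; group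
  have h1 := key (orderOf a)
  rw [pow_orderOf_eq_one, one_mul, mul_one, eq_comm, mul_eq_right] at h1
  have h2 : c = 1 := by
    rw [← orderOf_eq_one_iff]
    exact (Nat.coprime_self _).1 (Nat.Coprime.coprime_dvd_right (orderOf_dvd_of_pow_eq_one h1)
      (Nat.Coprime.coprime_dvd_left (orderOf_dvd_card' (hZ h)) hcop))
  rw [mem_cent1]
  rw [hc, mul_inv_eq_one, mul_inv_eq_iff_eq_mul] at h2
  exact h2.symm

/-- The core of BG 2.5 for subgroups of an ambient group. -/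
theorem extra_rep_amb {F W : Type*} [Field F] [IsAlgClosed F] [AddCommGroup W] [Module F W]
    [FiniteDimensional F W] {K Z L : Subgroup G} {g : G} (hL : K ⊔ zpowers g = L)
    (hgK : zpowers g ≤ 𝐍(K)) (ρ : L →* End F W) (hK : (Nat.card K : F) ≠ 0)
    (hg : (orderOf g : F) ≠ 0) (hcop : (Nat.card K).Coprime (orderOf g)) (hZ : Z ≤ 𝐙(K))
    (hZg : Z ≤ 𝐂₁(g)) (hder : ⁅K, K⁆ ≤ Z) (hC : ∀ a ∈ zpowers g, a ≠ 1 → K ⊓ 𝐂₁(a) ≤ Z)
    {z₀ : L} (hz₀ : (z₀ : G) ∈ Z) (hρ : ρ z₀ ≠ 1)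
    (hnd : ∀ N : Subgroup G, L ≤ 𝐍(N) → (z₀ : G) ∉ N → ∀ x ∈ K,
      (∀ y ∈ K, y * x * y⁻¹ * x⁻¹ ∈ N) → x ∈ Z) :
    ∃ d : ℕ, d ^ 2 = Z.relIndex K ∧ (orderOf g ∣ d + 1 ∨ orderOf g ∣ d - 1) ∧
      ((∀ w, (∀ x : L, (x : G) ∈ zpowers g → ρ x w = w) → w = 0) →
        d = 1 ∨ d + 1 = orderOf g) := by
  have hKL : K ≤ L := hL ▸ le_sup_left
  have hgL : g ∈ L := (hL ▸ le_sup_right : zpowers g ≤ L) (mem_zpowers g)
  have hmap : (zpowers (⟨g, hgL⟩ : L)).map L.subtype = zpowers g := MonoidHom.map_zpowers _ _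
  have hmem : ∀ a : L, a ∈ zpowers (⟨g, hgL⟩ : L) → (a : G) ∈ zpowers g := fun a ha =>
    hmap ▸ mem_map_of_mem L.subtype ha
  have hord : orderOf (⟨g, hgL⟩ : L) = orderOf g := (orderOf_mk g hgL)
  obtain ⟨d, h1, h2, h3⟩ := extra_rep_sub ρ (K := K.subgroupOf L) (Z := Z.subgroupOf L)
    (g := ⟨g, hgL⟩) (z₀ := z₀)
    (by
      apply map_injective L.subtype_injective
      rw [Subgroup.map_sup, hmap, map_subgroupOf_eq_of_le hKL, hL, ← MonoidHom.range_eq_map, range_subtype])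
    (by rwa [Nat.card_congr (subgroupOfEquivOfLe hKL).toEquiv]) (by rwa [hord])
    (fun a ha x hx => conj_mem_of_mem_norm (G := G) (x := x) (hgK (hmem a ha)) hx)
    (fun x hx => (hZ hx).1) (fun z hz x hx => Subtype.ext (mem_cent.1 (hZ hz).2 x hx))
    (fun z hz => Subtype.ext (mem_cent1.1 (hZg hz)).symm)
    (fun x hx y hy => hder (commutator_mem_commutator hy hx))
    (fun a ha h1 x hx h => by
      refine hC a (hmem a ha) (fun h => h1 (Subtype.ext h)) ⟨hx, ?_⟩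
      refine extra_fpf_of_coprime (hZ.trans inf_le_left) ?_
        (hcop.coprime_dvd_right (orderOf_dvd_of_mem_zpowers (hmem a ha))) h
      rw [← cent_zpowers] at hZg
      exact hZg.trans (cent_le_cent1 (hmem a ha)))
    hz₀ hρ
    (fun N hN hz x hx h => hnd (N.map L.subtype) (NormalIn.map_subtype N).norm
      (fun ⟨y, hy, e⟩ => hz (Subtype.ext e ▸ hy)) x hx
      (fun y hy => ⟨_, h ⟨y, hKL hy⟩ hy, rfl⟩))
  rw [relIndex_subgroupOf hKL] at h1
  rw [hord] at h2 h3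
  refine ⟨d, h1, h2, fun h => h3 fun w hw => h w fun x hx => ?_⟩
  obtain ⟨n, hn⟩ := mem_powers_iff_mem_zpowers.2 hx
  have e : x = (⟨g, hgL⟩ : L) ^ n := Subtype.ext hn.symm
  rw [e, map_pow]
  clear e hn
  induction n with
  | zero => rfl
  | succ n ih => rw [pow_succ, End.mul_apply, hw, ih]

end CL.BG
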