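import Cfsg.Agent.Base
import Cfsg.Agent.BG.Fit
import Cfsg.Agent.BG.QuotPi
import Cfsg.Agent.BG.T1_5s
import Cfsg.Agent.BG.T1_6

/-!
# Minimal nontrivial coprime actions
-/

set_option autoImplicit false

namespace CL.BG

open Cfsg Subgroup

variable {G : Type*} [Group G] [Finite G]

/-- `A ⊴ B` acts nontrivially and coprimely on `K`, but trivially on every proper `B`-invariant
subgroup of `K`. -/
structure MinAct (K A B : Subgroup G) : Prop where
  le : A ≤ B
  normA : B ≤ 𝐍(A)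
  normK : B ≤ 𝐍(K)
  cop : (Nat.card K).Coprime (Nat.card A)
  nc : ¬ A ≤ 𝐂(K)
  min : ∀ X : Subgroup G, X < K → B ≤ 𝐍(X) → A ≤ 𝐂(X)

namespace MinAct

variable {K A B N : Subgroup G}

theorem comm (h : MinAct K A B) : ⁅K, A⁆ = K := by
  have hA := h.le.trans h.normK
  by_contra hne
  have h1 := h.min _ (lt_of_le_of_ne (commutator_le_left_of_norm hA) hne)
    (norms_commutator h.normK h.normA)
  exact h.nc (t1_6c hA h.cop (commutator_eq_bot_iff''.2 h1))

theorem le_center (h : MinAct K A B) (hN : N < K) (hK : K ≤ 𝐍(N)) (hB : B ≤ 𝐍(N)) :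
    N ≤ 𝐙(K) := by
  refine le_inf hN.le (cent_symm ?_)
  have h1 : ⁅K, A⁆ ≤ 𝐂(N) := (commutator_mono le_rfl (h.min N hN hB)).trans
    (commutator_le_right_of_norm (norms_cent hK))
  rwa [h.comm] at h1

omit [Finite G] in
theorem ne_bot (h : MinAct K A B) : K ≠ ⊥ := by
  rintro rfl
  exact h.nc (by rw [cent_bot]; exact le_top)

theorem exists_pgroup (h : MinAct K A B)
    (hS : ∀ q : ℕ, q.Prime → ∃ Q : Subgroup G, SylowOf q Q K ∧ B ≤ 𝐍(Q)) :
    ∃ q : ℕ, q.Prime ∧ IsPGroup q K := by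
  by_contra hne
  refine h.nc (cent_symm (le_of_forall_exists_sylow_le fun q hq _ => ?_))
  have : Fact q.Prime := ⟨hq⟩
  obtain ⟨Q, hQ, hBQ⟩ := hS q hq
  refine ⟨Q, hQ, cent_symm (h.min Q (lt_of_le_of_ne hQ.hall.le ?_) hBQ)⟩
  rintro rfl
  exact hne ⟨q, hq, hQ.isPGroup⟩

theorem der_le_center (h : MinAct K A B) (hK : Group.IsSolvable K) : ⁅K, K⁆ ≤ 𝐙(K) :=
  h.le_center (der_lt_of_solvable hK h.ne_bot) (NormalIn.der K).norm (norms_der h.normK)

omit [Finite G] in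
theorem center_le_cent (h : MinAct K A B) (hnc : ¬ IsMulCommutative K) : A ≤ 𝐂(𝐙(K)) :=
  h.min _ (lt_of_le_of_ne inf_le_left fun e => hnc (comm_iff_le_cent.2 (inf_eq_left.1 e)))
    (norms_center h.normK)

theorem inf_cent_le (h : MinAct K A B) (hK : Group.IsSolvable K) (hnc : ¬ IsMulCommutative K) :
    K ⊓ 𝐂(A) ≤ 𝐙(K) := by
  refine h.le_center (lt_of_le_of_ne inf_le_left fun e => h.nc (cent_symm (inf_eq_left.1 e)))
    (NormalIn.of_der_le (le_inf (NormalIn.der K).le ?_) inf_le_left).norm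
    (norms_inf_cent h.normK h.normA)
  exact (h.der_le_center hK).trans (cent_symm (h.center_le_cent hnc))

theorem inf_cent_eq_bot (h : MinAct K A B) (hc : IsMulCommutative K) : K ⊓ 𝐂(A) = ⊥ := by
  have := t1_6d_TI (h.le.trans h.normK) h.cop hc
  rwa [h.comm] at this

/-- an element central modulo an invariant subgroup not containing `K'` is central -/
theorem mem_center_of_mod (h : MinAct K A B) (hK : K ≤ 𝐍(N)) (hB : B ≤ 𝐍(N))
    (hN : ¬ ⁅K, K⁆ ≤ N) {x : G} (hx : x ∈ K) (hxN : ∀ y ∈ K, y * x * y⁻¹ * x⁻¹ ∈ N) :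
    x ∈ 𝐙(K) := by
  have hD : K ⊓ coquot N 𝐂(quot N K) ≤ 𝐙(K) := by
    refine h.le_center (lt_of_le_of_ne inf_le_left fun e => hN ?_)
      (norms_inf (le_norm_self K) (le_normalizer_coquot hK (norms_cent (le_norm_self _))))
      (norms_inf h.normK (le_normalizer_coquot hB (norms_cent (quot_normalizer _ h.normK))))
    rw [← quot_le_centralizer_iff hK hK, quot_le_iff hK]
    exact inf_eq_left.1 e
  refine hD ⟨hx, mem_coquot.2 ⟨hK hx, mem_cent.2 fun yb hy => ?_⟩⟩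
  obtain ⟨y, hyK, hyN, rfl⟩ := mem_quot.1 hy
  rw [← coset_mul hyN (hK hx), ← coset_mul (hK hx) hyN,
    coset_eq_iff' (mul_mem hyN (hK hx)) (mul_mem (hK hx) hyN)]
  simpa [mul_assoc] using hxN y hyK

end MinAct

end CL.BG
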