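import Cfsg.Agent.Base
import Cfsg.Agent.BG.Defs
import Cfsg.Agent.BG.A2_ExtraAmb
import Cfsg.Agent.BG.A3_AbelemRep
import Cfsg.Agent.BG.A3_Red
import Cfsg.Agent.BG.A3_MinAct

set_option autoImplicit false

namespace CL.BG

open Cfsg Subgroup

variable {G : Type*} [Group G] [Finite G]

omit [Finite G] in
theorem t3_elem_isPGroup {k : ℕ} {V : Subgroup G} (hV : IsElementaryAbelian k V) : IsPGroup k V :=
  fun x => ⟨1, Subtype.ext (by simpa using hV.2 x x.2)⟩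

theorem t3_elem_coprime {k : ℕ} (hk : k.Prime) {V K : Subgroup G} (hV : IsElementaryAbelian k V)
    (hK : (Nat.card K).Coprime k) : (Nat.card V).Coprime (Nat.card K) :=
  coprime_card_of_isPGroup hk (t3_elem_isPGroup hV) ((piGrp_compl_singleton_iff_coprime hk).2 hK)

theorem t3_cast_ne_zero {k n : ℕ} [hk : Fact k.Prime] (h : n.Coprime k) :
    (n : AlgebraicClosure (ZMod k)) ≠ 0 := by
  rw [Ne, CharP.cast_eq_zero_iff _ k]
  exact (Nat.Prime.coprime_iff_not_dvd hk.out).1 h.symm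

/-- BG 3.4 for a faithful action of `K` on an elementary abelian group. -/
theorem t3_4_faithful {k : ℕ} (hk : k.Prime) {R V : Subgroup G} (hR : (Nat.card R).Prime)
    (hoR : Odd (Nat.card R)) (hV : IsElementaryAbelian k V) (hRV : R ≤ 𝐍(V))
    (hcR : (Nat.card R).Coprime k) (hC : V ⊓ 𝐂(R) = ⊥) (K : Subgroup G) :
    R ≤ 𝐍(K) → Odd (Nat.card K) → (Nat.card K).Coprime (Nat.card R) → K ≤ 𝐍(V) →
      (Nat.card K).Coprime k → K ⊓ 𝐂(V) = ⊥ → R ≤ 𝐂(K) := by
  have : Fact k.Prime := ⟨hk⟩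
  induction K using subgroup_induction with
  | ih K ih =>
  intro hRK hoK hcop hKV hcK hf
  by_contra hnc
  have hm : MinAct K R R := ⟨le_rfl, le_norm_self R, hRK, hcop, hnc, fun X hX hRX =>
    ih X hX hRX (odd_card_of_le hoK hX.le) (coprime_card_mono hcop hX.le le_rfl)
      (hX.le.trans hKV) (hcK.coprime_dvd_left (card_dvd_of_le hX.le))
      (le_bot_iff.1 (hf ▸ inf_le_inf_right _ hX.le))⟩
  obtain ⟨q, hq, hKq⟩ := hm.exists_pgroup fun q hq => by
    have : Fact q.Prime := ⟨hq⟩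
    exact t1_5a_sylow q hRK hcop (Or.inr (solvable_of_card_prime hR))
  have : Fact q.Prime := ⟨hq⟩
  have hsol := solvable_of_isPGroup hKq
  by_cases hab : IsMulCommutative K
  · have h1 := t3_3_cent hRK (semiregular_of_card_prime hR (hm.inf_cent_eq_bot hab)) hV.1 hKV hRV
      (t3_elem_coprime hk hV hcK) hC
    exact hm.ne_bot (by rw [← hf, eq_comm, inf_eq_left]; exact h1)
  obtain ⟨g, hg, rfl⟩ := exists_zpowers_of_isCyclic (isCyclic_of_card_prime hR)
  obtain ⟨W, _, _, _, ρ, -, hker, hfix⟩ := exists_abelem_rep (AlgebraicClosure (ZMod k)) hV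
    (K ⊔ zpowers g) (sup_le hKV hRV)
  obtain ⟨z, hz, hz1⟩ := exists_ne_one_of_ne_bot (H := ⁅K, K⁆)
    fun h => hab (comm_iff_le_cent.2 (commutator_eq_bot_iff'.1 h))
  have hzK : z ∈ K := (NormalIn.der K).le hz
  have hcR' := hcR
  have hcop' := hcop
  rw [Nat.card_zpowers] at hcR' hcop' hoR
  obtain ⟨d, h1, -, h3⟩ := extra_rep_amb (K := K) (Z := 𝐙(K)) (g := g) rfl hRK ρ
    (t3_cast_ne_zero hcK) (t3_cast_ne_zero hcR') hcop' le_rfl
    (cent_zpowers g ▸ cent_symm (hm.center_le_cent hab)) (hm.der_le_center hsol)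
    (fun a ha h1 => by
      rw [← cent_eq_cent1_of_card_prime hR ha h1]
      exact hm.inf_cent_le hsol hab)
    (z₀ := ⟨z, mem_sup_left hzK⟩) (hm.der_le_center hsol hz)
    (fun h => hz1 (mem_bot.1 (hf ▸ (⟨hzK, (hker _).1 h⟩ : z ∈ K ⊓ 𝐂(V)))))
    (fun N hN hzN x hx h => hm.mem_center_of_mod (le_sup_left.trans hN) (le_sup_right.trans hN)
      (fun h => hzN (h hz)) hx h)
  rcases h3 (hfix _ le_sup_right hcR hC) with h | h
  · rw [h, one_pow, eq_comm, relIndex_eq_one] at h1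
    exact hab (comm_iff_le_cent.2 (h1.trans inf_le_right))
  · have h4 : Odd (d ^ 2) := hoK.of_dvd_nat (h1 ▸ relIndex_dvd_card _ _)
    rw [← h, Nat.odd_add_one] at hoR
    exact hoR ((Nat.odd_pow_iff two_ne_zero).1 h4)

omit [Finite G] in
/-- An element of `K` whose image centralises the image of `V` modulo `C_K(V)` centralises `V`. -/
theorem t3_quot_cent_faithful {K V : Subgroup G} (hKV : K ≤ 𝐍(V))
    (hcop : (Nat.card V).Coprime (Nat.card K)) :
    quot (K ⊓ 𝐂(V)) K ⊓ 𝐂(quot (K ⊓ 𝐂(V)) V) = ⊥ := by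
  have hK : K ≤ 𝐍(K ⊓ 𝐂(V)) := norms_inf_cent (le_norm_self K) hKV
  have hV : V ≤ 𝐍(K ⊓ 𝐂(V)) := le_norm_of_le_cent (cent_symm inf_le_right)
  rw [eq_bot_iff]
  obtain ⟨X, h1, h2, h3, h4⟩ := exists_eq_quot (V := K ⊓ 𝐂(V)) inf_le_left
    (show quot (K ⊓ 𝐂(V)) K ⊓ 𝐂(quot (K ⊓ 𝐂(V)) V) ≤ _ from inf_le_left)
  have h5 : quot (K ⊓ 𝐂(V)) X ≤ 𝐂(quot (K ⊓ 𝐂(V)) V) := h4 ▸ inf_le_right
  rw [quot_le_centralizer_iff h3 hV] at h5
  rw [← h4, le_bot_iff]
  refine quot_eq_bot (le_inf h2 (commutator_eq_bot_iff'.1 (le_bot_iff.1 ?_)))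
  rw [← disj_of_coprime hcop]
  exact le_inf (commutator_le_right_of_norm (h2.trans hKV)) (h5.trans inf_le_left)

/-- BG 3.4 for an elementary abelian `V`. -/
theorem t3_4_elem {k : ℕ} (hk : k.Prime) {K R V : Subgroup G} (hR : (Nat.card R).Prime)
    (hoR : Odd (Nat.card R)) (hV : IsElementaryAbelian k V) (hRV : R ≤ 𝐍(V))
    (hcR : (Nat.card R).Coprime k) (hC : V ⊓ 𝐂(R) = ⊥) (hRK : R ≤ 𝐍(K)) (hoK : Odd (Nat.card K))
    (hcop : (Nat.card K).Coprime (Nat.card R)) (hKV : K ≤ 𝐍(V)) (hcK : (Nat.card K).Coprime k) :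
    ⁅K, R⁆ ≤ 𝐂(V) := by
  have hK : K ≤ 𝐍(K ⊓ 𝐂(V)) := norms_inf_cent (le_norm_self K) hKV
  have hVC : V ≤ 𝐍(K ⊓ 𝐂(V)) := le_norm_of_le_cent (cent_symm inf_le_right)
  have hRC : R ≤ 𝐍(K ⊓ 𝐂(V)) := norms_inf_cent hRK hRV
  have hcard : Nat.card (quot (K ⊓ 𝐂(V)) R) = Nat.card R := card_quot_of_disjoint hRC
    (disj_of_coprime (coprime_card_mono hcop inf_le_left le_rfl))
  have h1 := t3_4_faithful hk (R := quot (K ⊓ 𝐂(V)) R) (V := quot (K ⊓ 𝐂(V)) V) (hcard ▸ hR)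
    (hcard ▸ hoR) (quot_isElementaryAbelian _ hV) (quot_normalizer _ hRV) (hcard ▸ hcR)
    (by rw [← quot_inf_cent_of_coprime'' hVC hRC hRV (t3_elem_coprime hk hV hcR)
          (Or.inl (solvable_of_comm hV.1)), hC, quot_bot])
    (quot (K ⊓ 𝐂(V)) K) (quot_normalizer _ hRK) (quot_odd _ hoK) (quot_coprime _ hcop)
    (quot_normalizer _ hKV) (quot_coprime_left _ hcK)
    (t3_quot_cent_faithful hKV (t3_elem_coprime hk hV hcK))
  rw [quot_le_centralizer_iff hRC hK, commutator_comm] at h1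
  exact h1.trans inf_le_right

/-- BG 3.4, internal form, for a solvable `V` (in particular `V` elementary abelian; Coq
`odd_prime_sdprod_abelem_cent1`).  No solvability of `L` is needed. -/
theorem t3_4 {K R L V : Subgroup G} (hL : SDP K R L) (hodd : Odd (Nat.card L))
    (hcop : (Nat.card K).Coprime (Nat.card R)) (hR : (Nat.card R).Prime)
    (hV : Group.IsSolvable V) (hLV : L ≤ 𝐍(V)) (hcopV : (Nat.card V).Coprime (Nat.card L))
    (hC : V ⊓ 𝐂(R) = ⊥) : ⁅K, R⁆ ≤ 𝐂(V) := by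
  refine red_cent_of_phi_quot hLV ((commutator_le_left_of_norm hL.norm).trans hL.left_le) hcopV
    (Or.inl hV) fun p hp P hP hPp hd hLP => ?_
  have : Fact p.Prime := ⟨hp⟩
  have hKP : K ≤ 𝐍(P) := hL.left_le.trans hLP
  have hRP : R ≤ 𝐍(P) := hL.right_le.trans hLP
  have hcL : (Nat.card L).Coprime p :=
    hcopV.symm.coprime_dvd_right (hd.trans (card_dvd_of_le hP))
  have hcVR := coprime_card_mono hcopV le_rfl hL.right_le
  have hcard : Nat.card (quot (frattiniOf P) R) = Nat.card R := card_quot_of_disjoint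
    (norms_phi hRP) (disj_of_coprime (coprime_card_mono hcVR ((phi_le P).trans hP) le_rfl))
  rw [quot_commutator (norms_phi hKP) (norms_phi hRP)]
  exact t3_4_elem hp (hcard ▸ hR) (quot_odd _ (odd_card_of_le hodd hL.right_le))
    (quot_phi_elem hPp) (quot_normalizer _ hRP)
    (quot_coprime_left _ (hcL.coprime_dvd_left (card_dvd_of_le hL.right_le)))
    (red_quot_phi_cent_eq_bot hP hRP hcVR hC) (quot_normalizer _ hL.norm)
    (quot_odd _ (odd_card_of_le hodd hL.left_le)) (quot_coprime _ hcop) (quot_normalizer _ hKP)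
    (quot_coprime_left _ (hcL.coprime_dvd_left (card_dvd_of_le hL.left_le)))

end CL.BG
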