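import Cfsg.Agent.Base
import Cfsg.Agent.BG.Defs
import Cfsg.Agent.BG.A3_Red
import Cfsg.Agent.PF.Wielandt

set_option autoImplicit false

namespace CL.BG

open Cfsg Subgroup

variable {G : Type*} [Group G] [Finite G]

/-- Wielandt's fixed point formula for a semiregular action (no nontriviality needed). -/
theorem wielandt_semireg {K R M : Subgroup G} (hRK : R ≤ 𝐍(K)) (hreg : Semiregular K R)
    (hLM : K ⊔ R ≤ 𝐍(M)) (hcop : (Nat.card M).Coprime (Nat.card ↥(K ⊔ R)))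
    (hM : Group.IsSolvable M) :
    Nat.card ↥(M ⊓ 𝐂(K ⊔ R)) ^ Nat.card R * Nat.card M =
      Nat.card ↥(M ⊓ 𝐂(R)) ^ Nat.card R * Nat.card ↥(M ⊓ 𝐂(K)) :=
  CL.PF.frobenius_wielandt hreg.inf_eq_bot (fun _ he _ hu => conj_mem_of_mem_norm (hRK he) hu)
    (fun _ he h1 _ hu h => hreg.eq_one he h1 hu (mem_cent1.2 h.symm)) hLM hM hcop.symm

/-- Wielandt's fixed point formula for a Frobenius group with solvable kernel
(Coq `Frobenius_Wielandt_fixpoint`, first part). -/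
theorem wielandt_frob {K R L M : Subgroup G} (hF : Frob K R L) (hK : Group.IsSolvable K)
    (hLM : L ≤ 𝐍(M)) (hcop : (Nat.card M).Coprime (Nat.card L)) (hM : Group.IsSolvable M) :
    Nat.card ↥(M ⊓ 𝐂(L)) ^ Nat.card R * Nat.card M =
      Nat.card ↥(M ⊓ 𝐂(R)) ^ Nat.card R * Nat.card ↥(M ⊓ 𝐂(K)) := by
  have _ := hK
  obtain rfl := hF.sup
  exact wielandt_semireg hF.norm hF.reg hLM hcop hM

/-- Coq `Frobenius_Wielandt_fixpoint`, second part. -/
theorem wielandt_frob_cent {K R L M : Subgroup G} (hF : Frob K R L) (hK : Group.IsSolvable K)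
    (hLM : L ≤ 𝐍(M)) (hcop : (Nat.card M).Coprime (Nat.card L)) (hM : Group.IsSolvable M)
    (hC : M ⊓ 𝐂(R) = ⊥) : K ≤ 𝐂(M) := by
  have _ := hK
  exact t3_3_sol hF.norm hF.reg (hF.left_le.trans hLM) (hF.right_le.trans hLM)
    (coprime_card_mono hcop le_rfl hF.left_le) (coprime_card_mono hcop le_rfl hF.right_le)
    (Or.inl hM) hC

/-- Coq `Frobenius_Wielandt_fixpoint`, third part. -/
theorem wielandt_frob_card {K R L M : Subgroup G} (hF : Frob K R L) (hK : Group.IsSolvable K)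
    (hLM : L ≤ 𝐍(M)) (hcop : (Nat.card M).Coprime (Nat.card L)) (hM : Group.IsSolvable M)
    (hC : M ⊓ 𝐂(K) = ⊥) : Nat.card M = Nat.card ↥(M ⊓ 𝐂(R)) ^ Nat.card R := by
  have h := wielandt_frob hF hK hLM hcop hM
  have h1 : M ⊓ 𝐂(L) = ⊥ := le_bot_iff.1 (hC ▸ inf_le_inf_left _ (cent_anti hF.left_le))
  rwa [h1, hC, card_bot, one_pow, one_mul, mul_one] at h

end CL.BG
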