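import Cfsg.Agent.Base
import Cfsg.Agent.BG.Defs
import Cfsg.Agent.BG.PAmb
import Cfsg.Agent.BG.T3_4
import Cfsg.Agent.BG.T3_7
import Cfsg.Agent.BG.T3_W

set_option autoImplicit false

namespace CL.BG

open Cfsg Subgroup Module

/-- endomorphisms commuting with a family having a basis of weight vectors with distinct weights
commute with each other -/
theorem lin_comm_of_weights {F W Z ι : Type*} [Field F] [AddCommGroup W] [Module F W]
    (σ : Z → End F W) (b : Basis ι F W) (lam : ι → Z → F) (hlam : Function.Injective lam)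
    (h : ∀ i z, σ z (b i) = lam i z • b i) (S T : End F W) (hS : ∀ z, σ z * S = S * σ z)
    (hT : ∀ z, σ z * T = T * σ z) : S * T = T * S := by
  classical
  have h1 : ∀ z j w, b.repr (σ z w) j = lam j z * b.repr w j := by
    intro z j w
    have : (b.coord j) ∘ₗ σ z = lam j z • b.coord j := by
      refine b.ext fun i => ?_
      by_cases hij : i = j
      · subst hij; simp [h]
      · simp [h, hij]
    simpa using LinearMap.congr_fun this w
  have key : ∀ S : End F W, (∀ z, σ z * S = S * σ z) → ∀ i, ∃ c : F, S (b i) = c • b i := by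
    intro S hS i
    refine ⟨b.repr (S (b i)) i, b.ext_elem fun j => ?_⟩
    by_cases hij : i = j
    · subst hij; simp
    obtain ⟨z, hz⟩ := Function.ne_iff.1 (hlam.ne hij)
    have h2 := h1 z j (S (b i))
    rw [← End.mul_apply, hS, End.mul_apply, h, map_smul, map_smul, Finsupp.smul_apply,
      smul_eq_mul] at h2
    have h3 : b.repr (S (b i)) j = 0 := by
      by_contra h3
      exact hz (mul_right_cancel₀ h3 h2)
    simp [h3, hij]
  refine b.ext fun i => ?_
  obtain ⟨c, hc⟩ := key S hS i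
  obtain ⟨d, hd⟩ := key T hT i
  simp only [End.mul_apply, hc, hd, map_smul, smul_smul, mul_comm]

variable {G : Type*} [Group G] [Finite G]

/-- representation-theoretic core of BG 3.5 -/
theorem t3_5_rep {F W : Type*} [Field F] [IsAlgClosed F] [AddCommGroup W] [Module F W]
    [FiniteDimensional F W] {K Z R L : Subgroup G} (hKL : K ≤ L) (hRL : R ≤ L) (hZ : Z ≤ 𝐙(K))
    (hRZ : R ≤ 𝐍(Z)) (hreg : Semiregular Z R) (ρ : L →* End F W) (hdim : finrank F W = Nat.card R)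
    (hfix : ∀ w, (∀ x : L, (x : G) ∈ Z → ρ x w = w) → w = 0) (x y : L) (hx : (x : G) ∈ K)
    (hy : (y : G) ∈ K) : ρ x * ρ y = ρ y * ρ x := by
  have hZL : Z ≤ L := (hZ.trans inf_le_left).trans hKL
  let σ : Z →* End F W := ρ.comp (inclusion hZL)
  have hcomm : ∀ x : L, (x : G) ∈ K → ∀ z : Z, σ z * ρ x = ρ x * σ z := by
    intro x hx z
    change ρ _ * ρ x = ρ x * ρ _
    rw [← map_mul, ← map_mul]
    exact congrArg ρ (Subtype.ext (mem_cent.1 (hZ z.2).2 x hx).symm)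
  have : Nontrivial W := Module.nontrivial_of_finrank_pos (R := F) (hdim ▸ card_pos' R)
  obtain ⟨v, -, hv0, hv⟩ := lin_exists_common_eigenvector (Set.range σ) (by
    rintro _ ⟨a, rfl⟩ _ ⟨c, rfl⟩
    exact hcomm (inclusion hZL c) (hZ c.2).1 a) ⊤ top_ne_bot (fun _ _ _ _ => Submodule.mem_top)
  choose f hf using fun z : Z => hv (σ z) ⟨z, rfl⟩
  let lam : Z →* F :=
    { toFun := f
      map_one' := smul_left_injective F hv0 (by simp only [← hf, map_one, End.one_apply, one_smul])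
      map_mul' := fun a c => smul_left_injective F hv0 (by
        simp only [← hf, map_mul, End.mul_apply]
        rw [hf c, map_smul, hf a, smul_smul, mul_comm]) }
  let w : R → W := fun a => ρ (inclusion hRL a) v
  let mu : R → (Z →* F) := fun a => lam.comp (conjAct' hRZ a⁻¹).toMonoidHom
  have hw0 : ∀ a, w a ≠ 0 := by
    intro a h
    apply hv0
    have := congrArg (ρ (inclusion hRL a)⁻¹) h
    rwa [map_zero, ← End.mul_apply, ← map_mul, inv_mul_cancel, map_one, End.one_apply] at this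
  have hw : ∀ a z, σ z (w a) = mu a z • w a := by
    intro a z
    change ρ _ (ρ _ v) = f (conjAct' hRZ a⁻¹ z) • ρ _ v
    rw [← map_smul, ← hf]
    change _ = ρ _ (ρ _ v)
    rw [← End.mul_apply, ← End.mul_apply, ← map_mul, ← map_mul]
    congr 2
    apply Subtype.ext
    change (z : G) * a = a * (conjAct' hRZ a⁻¹ z : G)
    rw [coe_conjAct']
    simp [mul_assoc]
  have hmu : Function.Injective mu := by
    intro a c hac
    by_contra hne
    have hd : (c⁻¹ * a : R) ≠ 1 := fun h => hne (inv_mul_eq_one.1 h).symm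
    have h1 : ∀ z : Z, lam (conjAct' hRZ (c⁻¹ * a) z) = lam z := by
      intro z
      have := DFunLike.congr_fun hac (conjAct' hRZ a z)
      change lam (conjAct' hRZ a⁻¹ _) = lam (conjAct' hRZ c⁻¹ _) at this
      rw [← MulAut.mul_apply, ← MulAut.mul_apply, ← map_mul, ← map_mul, inv_mul_cancel, map_one,
        MulAut.one_apply] at this
      exact this.symm
    have h2 : Function.Injective fun z : Z => conjAct' hRZ (c⁻¹ * a) z * z⁻¹ := by
      intro z z' h
      have h3 : conjAct' hRZ (c⁻¹ * a) (z'⁻¹ * z) = z'⁻¹ * z := by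
        rw [map_mul, map_inv, inv_mul_eq_iff_eq_mul, ← mul_assoc, ← mul_inv_eq_iff_eq_mul]
        exact h
      have h4 := congrArg Subtype.val h3
      rw [coe_conjAct', mul_inv_eq_iff_eq_mul] at h4
      have h5 := hreg.eq_one (c⁻¹ * a).2 (fun h => hd (Subtype.ext h)) (z'⁻¹ * z).2
        (mem_cent1.2 h4.symm)
      exact (inv_mul_eq_one.1 (Subtype.ext h5 : z'⁻¹ * z = 1)).symm
    refine hv0 (hfix v fun x hx => ?_)
    obtain ⟨z, hz⟩ := Finite.surjective_of_injective h2 ⟨x, hx⟩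
    have h6 : lam ⟨x, hx⟩ = 1 := by rw [← hz, map_mul, h1, ← map_mul, mul_inv_cancel, map_one]
    have h7 := hf ⟨x, hx⟩
    rw [show f ⟨x, hx⟩ = 1 from h6, one_smul] at h7
    exact h7
  have hind := lin_indep_of_weights (fun z => σ z) w hw0 mu hmu hw
  let _ := Fintype.ofFinite R
  let b := basisOfLinearIndependentOfCardEqFinrank hind (by rw [hdim, Nat.card_eq_fintype_card])
  have hb : ∀ a, b a = w a := fun a => by simp [b]
  exact lin_comm_of_weights (fun z => σ z) b (fun a z => mu a z)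
    (fun a c h => hmu (DFunLike.ext' h)) (fun a z => by rw [hb, hw]) _ _ (hcomm x hx) (hcomm y hy)

/-- BG 3.5 for a faithful action of `K`. -/
theorem t3_5_faithful {k : ℕ} (hk : k.Prime) {K R V : Subgroup G} (hRK : R ≤ 𝐍(K))
    (hsol : Group.IsSolvable K) (hR : (Nat.card R).Prime) (hKR : K ⊓ 𝐂(R) = ⊥)
    (hV : IsElementaryAbelian k V) (hKV : K ≤ 𝐍(V)) (hRV : R ≤ 𝐍(V))
    (hcK : (Nat.card K).Coprime k) (hcR : (Nat.card R).Coprime k)
    (hC : Nat.card ↥(V ⊓ 𝐂(R)) = k) (hf : K ⊓ 𝐂(V) = ⊥) : ⁅K, K⁆ ≤ 𝐂(V) := by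
  have : Fact k.Prime := ⟨hk⟩
  by_cases hK1 : K = ⊥
  · subst hK1; simp
  have hreg := semiregular_of_card_prime hR hKR
  have hZ1 := nil_center_ne_bot (t3_7 hRK hsol hR hKR) hK1
  have hZK : 𝐙(K) ≤ K := inf_le_left
  have hZV : 𝐙(K) ≤ 𝐍(V) := hZK.trans hKV
  have hRZ : R ≤ 𝐍(𝐙(K)) := norms_center hRK
  have hKZ : K ≤ 𝐍(𝐙(K)) := norms_center (le_norm_self K)
  have hcV := t3_elem_coprime hk hV hcK
  have hcVZ := coprime_card_mono hcV le_rfl hZK
  have hdp := t1_6d hZV hcVZ hV.1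
  have hTI := t1_6d_TI hZV hcVZ hV.1
  set V₁ := ⁅V, 𝐙(K)⁆ with hV₁
  set V₀ := V ⊓ 𝐂(𝐙(K)) with hV₀
  have hR1 : R ≤ 𝐍(V₁) := norms_commutator hRV hRZ
  have hK1' : K ≤ 𝐍(V₁) := norms_commutator hKV hKZ
  have hR0 : R ≤ 𝐍(V₀) := norms_inf_cent hRV hRZ
  have hK0 : K ≤ 𝐍(V₀) := norms_inf_cent hKV hKZ
  have hE1 : IsElementaryAbelian k V₁ :=
    ⟨comm_of_le hV.1 hdp.left_le, fun a ha => hV.2 a (hdp.left_le ha)⟩
  have hne : V₁ ⊓ 𝐂(R) ≠ ⊥ := by
    intro h
    have h1 := t3_3_cent hRZ (hreg.mono_left hZK) hE1.1 (hZK.trans hK1') hR1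
      (coprime_card_mono hcV hdp.left_le hZK) h
    have h2 : V₁ = ⊥ := by rw [← hTI, eq_comm, inf_eq_left]; exact cent_symm h1
    apply hZ1
    rw [eq_bot_iff, ← hf]
    exact le_inf hZK (commutator_eq_bot_iff''.1 h2)
  have hdp2 := hdp.inf_cent hR1 hR0
  have e1 : V₁ ⊓ 𝐂(R) = V ⊓ 𝐂(R) := eq_of_le_of_prime (hC ▸ hk) hdp2.left_le hne
  have e0 : V₀ ⊓ 𝐂(R) = ⊥ := by
    rw [← hdp2.disj, e1, eq_comm, inf_eq_right]
    exact hdp2.right_le
  have hc0 : K ≤ 𝐂(V₀) := t3_3_cent hRK hreg (comm_of_le hV.1 hdp.right_le) hK0 hR0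
    (coprime_card_mono hcV hdp.right_le le_rfl) e0
  have hcard : Nat.card V₁ = k ^ Nat.card R := by
    have h := wielandt_semireg hRZ (hreg.mono_left hZK) (sup_le (hZK.trans hK1') hR1)
      (t3_elem_coprime hk hE1 ((Nat.Coprime.mul_left (hcK.coprime_dvd_left (card_dvd_of_le hZK))
        hcR).coprime_dvd_left (card_sup_dvd hRZ))) (solvable_of_comm hE1.1)
    have h1 : V₁ ⊓ 𝐂(𝐙(K) ⊔ R) = ⊥ :=
      le_bot_iff.1 (hTI ▸ inf_le_inf_left _ (cent_anti le_sup_left))
    rwa [h1, hTI, e1, hC, card_bot, one_pow, one_mul, mul_one] at h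
  obtain ⟨W, _, _, _, ρ, hdim, hker, hfix⟩ := exists_abelem_rep (AlgebraicClosure (ZMod k)) hE1
    (K ⊔ R) (sup_le hK1' hR1)
  rw [hcard] at hdim
  have hc1 : ⁅K, K⁆ ≤ 𝐂(V₁) := by
    rw [commutator_le]
    intro x hx y hy
    have h := t3_5_rep le_sup_left le_sup_right le_rfl hRZ (hreg.mono_left hZK) ρ
      (Nat.pow_right_injective hk.two_le hdim)
      (hfix _ (hZK.trans le_sup_left) (hcK.coprime_dvd_left (card_dvd_of_le hZK)) hTI)
      ⟨x, mem_sup_left hx⟩ ⟨y, mem_sup_left hy⟩ hx hy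
    refine (hker (⟨x, mem_sup_left hx⟩ * ⟨y, mem_sup_left hy⟩ * ⟨x, mem_sup_left hx⟩⁻¹ *
      ⟨y, mem_sup_left hy⟩⁻¹)).1 ?_
    rw [map_mul, map_mul, map_mul, h, mul_assoc (ρ _), ← map_mul ρ, mul_inv_cancel, map_one,
      mul_one, ← map_mul ρ, mul_inv_cancel, map_one]
  rw [← hdp.sup, cent_sup]
  exact le_inf hc1 ((NormalIn.der K).le.trans hc0)

/-- BG 3.5, internal form (Coq `Frobenius_prime_cent_prime`). -/
theorem t3_5 {k : ℕ} (hk : k.Prime) {K R L V : Subgroup G} (hL : SDP K R L)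
    (hsol : Group.IsSolvable K) (hR : (Nat.card R).Prime) (hKR : K ⊓ 𝐂(R) = ⊥)
    (hV : IsElementaryAbelian k V) (hLV : L ≤ 𝐍(V)) (hcop : (Nat.card L).Coprime k)
    (hC : Nat.card ↥(V ⊓ 𝐂(R)) = k) : ⁅K, K⁆ ≤ 𝐂(V) := by
  have hKV := hL.left_le.trans hLV
  have hRV := hL.right_le.trans hLV
  have hRK := hL.norm
  have hcK := hcop.coprime_dvd_left (card_dvd_of_le hL.left_le)
  have hcR := hcop.coprime_dvd_left (card_dvd_of_le hL.right_le)
  have hcKR := (semiregular_of_card_prime hR hKR).coprime hRK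
  have hcVK := t3_elem_coprime hk hV hcK
  have hK : K ≤ 𝐍(K ⊓ 𝐂(V)) := norms_inf_cent (le_norm_self K) hKV
  have hVC : V ≤ 𝐍(K ⊓ 𝐂(V)) := le_norm_of_le_cent (cent_symm inf_le_right)
  have hRC : R ≤ 𝐍(K ⊓ 𝐂(V)) := norms_inf_cent hRK hRV
  have hcard : Nat.card (quot (K ⊓ 𝐂(V)) R) = Nat.card R := card_quot_of_disjoint hRC
    (disj_of_coprime (coprime_card_mono hcKR inf_le_left le_rfl))
  have hf := t3_quot_cent_faithful hKV hcVK
  have h1 := t3_5_faithful hk (K := quot (K ⊓ 𝐂(V)) K) (R := quot (K ⊓ 𝐂(V)) R)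
    (V := quot (K ⊓ 𝐂(V)) V) (quot_normalizer _ hRK) (quot_isSolvable _ hsol) (hcard ▸ hR)
    (by rw [← quot_inf_cent_of_coprime'' hK hRC hRK hcKR (Or.inl hsol), hKR, quot_bot])
    (quot_isElementaryAbelian _ hV) (quot_normalizer _ hKV) (quot_normalizer _ hRV)
    (quot_coprime_left _ hcK) (quot_coprime_left _ hcR)
    (by rw [← quot_inf_cent_of_coprime'' hVC hRC hRV (t3_elem_coprime hk hV hcR)
          (Or.inl (solvable_of_comm hV.1)), card_quot_of_disjoint (inf_le_left.trans hVC)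
          (disj_of_coprime (coprime_card_mono hcVK.symm inf_le_left inf_le_left)), hC]) hf
  have h2 : ⁅quot (K ⊓ 𝐂(V)) K, quot (K ⊓ 𝐂(V)) K⁆ = ⊥ :=
    le_bot_iff.1 (hf ▸ le_inf (NormalIn.der _).le h1)
  rw [← quot_commutator hK hK, quot_eq_bot_iff ((NormalIn.der K).le.trans hK)] at h2
  exact h2.trans inf_le_right

end CL.BG
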