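import Cfsg.Agent.BG.T6_1
import Cfsg.Agent.BG.Fit
import Cfsg.Agent.BG.PAmb
import Cfsg.Agent.BG.Frob
import Cfsg.Agent.BG.T1_5s
import Cfsg.Agent.BG.T1_6
import Cfsg.Agent.BG.T1_13
import Cfsg.Agent.BG.T1_16
import Cfsg.Agent.BG.T3_4
import Cfsg.Agent.BG.T3_5

/-!
# The core configuration of BG 3.6
-/

set_option autoImplicit false
open Cfsg Subgroup

namespace CL.BG
variable {G : Type*} [Group G] [Finite G]

/-- the norm `∏_{y ∈ R} y v y⁻¹` of an element of an abelian group normalised by `R` -/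
theorem a36_exists_norm {W R : Subgroup G} (hW : IsMulCommutative W) (hR : R ≤ 𝐍(W)) {v : G}
    (hv : v ∈ W) : ∃ c ∈ W ⊓ 𝐂(R), ∀ S : Subgroup G,
      (∀ y ∈ R, y ≠ 1 → y * v * y⁻¹ ∈ S) → v⁻¹ * c ∈ S := by
  classical
  let _ : CommGroup W := { (inferInstance : Group W) with mul_comm := hW.is_comm.comm }
  have := Fintype.ofFinite R
  let φ := conjAct' hR
  refine ⟨(∏ y : R, φ y ⟨v, hv⟩ : W), ⟨Subtype.prop _, mem_cent.2 fun z hz => ?_⟩, fun S hS => ?_⟩
  · have h1 : φ ⟨z, hz⟩ (∏ y : R, φ y ⟨v, hv⟩) = ∏ y : R, φ y ⟨v, hv⟩ := by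
      rw [map_prod]
      exact Fintype.prod_equiv (Equiv.mulLeft (⟨z, hz⟩ : R)) _ _ fun y => by simp
    have h2 := congrArg Subtype.val h1
    rw [coe_conjAct'] at h2
    exact mul_inv_eq_iff_eq_mul.1 h2
  · rw [← Finset.mul_prod_erase _ _ (Finset.mem_univ (1 : R)), map_one, MulAut.one_apply,
      coe_mul, inv_mul_cancel_left]
    change _ ∈ S.subgroupOf W
    refine Subgroup.prod_mem _ fun y hy => ?_
    rw [mem_subgroupOf, coe_conjAct']
    exact hS y y.2 fun h => (Finset.mem_erase.1 hy).1 (Subtype.ext h)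

/-- the number of conjugates -/
theorem a36_relIndex_norm_le {T R B A : Subgroup G}
    (h : ∀ g ∈ T, cj g B = A ∨ ∃ y ∈ R, cj g B = cj y B) :
    𝐍(B).relIndex T ≤ Nat.card R + 1 := by
  classical
  let f : T ⧸ 𝐍(B).subgroupOf T → Option R := fun c =>
    if h : ∃ y : R, cj (c.out : G) B = cj (y : G) B then some h.choose else none
  have hf : Function.Injective f := by
    intro c d hcd
    have key : cj (c.out : G) B = cj (d.out : G) B := by
      simp only [f] at hcd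
      split_ifs at hcd with h1 h2 h2
      · rw [h1.choose_spec, h2.choose_spec, Option.some.inj hcd]
      · rcases h _ c.out.2 with e | ⟨y, hy, e⟩
        · rcases h _ d.out.2 with e' | ⟨y, hy, e'⟩
          · rw [e, e']
          · exact absurd ⟨⟨y, hy⟩, e'⟩ h2
        · exact absurd ⟨⟨y, hy⟩, e⟩ h1
    rw [← c.out_eq, ← d.out_eq]
    refine QuotientGroup.eq.2 (mem_subgroupOf.2 (cj_eq_iff_mem_norm.1 ?_))
    rw [coe_mul, coe_inv, cj_mul, ← key, cj_inv_cj]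
  have := Nat.card_le_card_of_injective f hf
  rwa [Finite.card_option] at this

/-- The final configuration of BG 3.6 is impossible. -/
theorem a36_final {p q : ℕ} [hp : Fact p.Prime] [hq : Fact q.Prime] {W K P R L : Subgroup G}
    (hW : IsElementaryAbelian p W) (hK : IsElementaryAbelian q K) (hP : IsPGroup p P)
    (hR : (Nat.card R).Prime) (hodd : Odd (Nat.card L)) (hKL : K ≤ L) (hPL : P ≤ L) (hRL : R ≤ L)
    (hKW : K ≤ 𝐍(W)) (hPW : P ≤ 𝐍(W)) (hRW : R ≤ 𝐍(W)) (hPK : P ≤ 𝐍(K)) (hRK : R ≤ 𝐍(K))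
    (hRP : R ≤ 𝐍(P)) (hKp : (Nat.card K).Coprime p) (hRp : (Nat.card R).Coprime p)
    (hKR : (Nat.card K).Coprime (Nat.card R)) (hW1 : W ≠ ⊥) (hWK : W ⊓ 𝐂(K) = ⊥)
    (hc : IsCyclic ↥(W ⊓ 𝐂(R))) (hPR : ⁅P, R⁆ = P) (hKP : ⁅K, P⁆ = K)
    (hA : ⁅K, R⁆.relIndex K = q)
    (hmin : ∀ X : Subgroup G, X < K → P ≤ 𝐍(X) → R ≤ 𝐍(X) → P ≤ 𝐂(X)) : False := by
  have hWp := isPGroup_of_isElementaryAbelian hW
  have cop : ∀ {X Y : Subgroup G}, IsPGroup p X → (Nat.card Y).Coprime p →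
      (Nat.card X).Coprime (Nat.card Y) := fun hX hY =>
    coprime_card_of_isPGroup hp.out hX ((piGrp_compl_singleton_iff_coprime hp.out).2 hY)
  have hq1 : q ≠ 1 := hq.out.ne_one
  set T := P ⊔ R with hT
  have hTsd : SDP P R T := SDP.of_coprime hRP (cop hP hRp)
  have hTK : T ≤ 𝐍(K) := sup_le hPK hRK
  have hTW : T ≤ 𝐍(W) := sup_le hPW hRW
  let Ω : Subgroup G → Prop := fun B => B ≤ K ∧ B.relIndex K = q ∧ W ⊓ 𝐂(B) ≠ ⊥
  have hΩcj : ∀ g ∈ T, ∀ B, Ω B → Ω (cj g B) := by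
    rintro g hg B ⟨h1, h2, h3⟩
    refine ⟨cj_le_of_mem_norm (hTK hg) h1, ?_, ?_⟩
    · rw [← cj_eq_of_mem_norm (hTK hg), relIndex_cj, h2]
    · rwa [← cj_eq_of_mem_norm (hTW hg), ← cj_cent, ← cj_inf, Ne, cj_eq_bot_iff]
  have hsup : ∀ {B B' : Subgroup G}, B ≤ K → B.relIndex K = q → B' ≤ K → B'.relIndex K = q →
      B ≠ B' → B ⊔ B' = K := by
    intro B B' h1 h2 h3 h4 hne
    refine sup_eq_of_relIndex_prime h2 h1 h3 fun hle => ?_
    rcases eq_or_eq_of_relIndex_prime h4 hle h1 with e | e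
    · exact hne e
    · rw [e, relIndex_self] at h2; exact hq1 h2.symm
  have hBn : ∀ {B B' : Subgroup G}, B ≤ K → B' ≤ K → B ≤ 𝐍(W ⊓ 𝐂(B')) := fun h1 h2 =>
    norms_inf (h1.trans hKW) (le_norm_of_le (le_cent_of_comm_of_le hK.1 h1 h2))
  have hind : ∀ {B B' : Subgroup G}, Ω B → Ω B' → B ≠ B' → W ⊓ 𝐂(B') ≤ ⁅W, B⁆ := by
    intro B B' h h' hne
    have h1 := t1_6a (hBn h.1 h'.1) (cop hWp.to_inf_left (hKp.of_dvd_left (card_dvd_of_le h.1)))
      (Or.inr (solvable_of_comm (comm_of_le hK.1 h.1)))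
    rw [inf_assoc, ← cent_sup, sup_comm B', hsup h.1 h.2.1 h'.1 h'.2.1 hne, hWK, sup_bot_eq] at h1
    rw [← h1]
    exact commutator_mono inf_le_left le_rfl
  have hTI : ∀ {B : Subgroup G}, Ω B → ⁅W, B⁆ ⊓ 𝐂(B) = ⊥ := fun h =>
    t1_6d_TI (h.1.trans hKW) (cop hWp (hKp.of_dvd_left (card_dvd_of_le h.1))) hW.1
  have hconj : ∀ {B : Subgroup G} {v : G}, v ∈ W ⊓ 𝐂(B) → ∀ y ∈ R,
      y * v * y⁻¹ ∈ W ⊓ 𝐂(cj y B) := fun hv y hy => by
    rw [← cj_eq_of_mem_norm (hRW hy), ← cj_cent, ← cj_inf]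
    exact conj_mem_cj.2 hv
  -- the norm map for a member of `Ω` that is not normalised by `R`
  have hnorm : ∀ {B : Subgroup G}, Ω B → ¬ R ≤ 𝐍(B) → ∀ v ∈ W ⊓ 𝐂(B), ∃ c ∈ W ⊓ 𝐂(R),
      v⁻¹ * c ∈ ⁅W, B⁆ ∧ ∀ S : Subgroup G, (∀ y ∈ R, y * v * y⁻¹ ∈ S) → c ∈ S := by
    intro B h hn v hv
    obtain ⟨c, hc1, hc2⟩ := a36_exists_norm hW.1 hRW hv.1
    refine ⟨c, hc1, hc2 _ fun y hy hy1 => ?_, fun S hS => ?_⟩
    · refine hind h (hΩcj y (hTsd.right_le hy) B h) (fun e => hn ?_) (hconj hv y hy)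
      rw [eq_zpowers_of_card_prime hR hy hy1, zpowers_le]
      exact cj_eq_iff_mem_norm.1 e.symm
    · have h1 : v ∈ S := by simpa using hS 1 R.one_mem
      simpa using S.mul_mem h1 (hc2 S fun y hy _ => hS y hy)
  -- `Ω` is nonempty
  obtain ⟨B₀, hB₀⟩ : ∃ B, Ω B := by
    by_contra hne
    refine hW1 (eq_bot_iff.2 (t1_16b hK.1 hKW (cop hWp hKp) fun B hB ⟨a, ha, e⟩ => ?_))
    by_contra hB'
    have haB : a ∉ B := fun h => by
      rw [sup_eq_left.2 (zpowers_le.2 h)] at e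
      exact hB' (by rw [e, hWK])
    refine hne ⟨B, hB, ?_, fun h => hB' h.le⟩
    rw [← e]
    exact relIndex_sup_zpowers_of_norm ((NormalIn.of_comm hK.1 hB).norm ha) haB
      (by rw [hK.2 a ha]; exact B.one_mem)
  -- some member of `Ω` is not normalised by `R`
  obtain ⟨B, hB, hBR⟩ : ∃ B, Ω B ∧ ¬ R ≤ 𝐍(B) := by
    by_contra hne
    have hall : ∀ B, Ω B → R ≤ 𝐍(B) := fun B h => by
      by_contra h'; exact hne ⟨B, h, h'⟩
    have h1 : P ≤ 𝐍(B₀) := by
      rw [← hPR, commutator_le]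
      intro x hx y hy
      have h2 := hall _ (hΩcj x⁻¹ (hTsd.left_le (inv_mem hx)) B₀ hB₀) hy
      rw [← cj_norm, mem_cj, inv_inv] at h2
      rw [commutatorElement_def]
      exact mul_mem h2 (inv_mem (hall _ hB₀ hy))
    have hlt : B₀ < K := lt_of_le_of_ne hB₀.1 fun e => by
      have := hB₀.2.1; rw [e, relIndex_self] at this; exact hq1 this.symm
    have h2 := hmin B₀ hlt h1 (hall _ hB₀)
    have h3 := t1_6d_TI hPK (cop hP hKp).symm hK.1
    rw [hKP] at h3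
    have h4 : B₀ = ⊥ := eq_bot_iff.2 (h3 ▸ le_inf hB₀.1 (cent_symm h2))
    have h5 : Nat.card K = q := by simpa [h4] using hB₀.2.1
    have h6 := cyc_der_le_cent (isCyclic_of_card_prime (h5 ▸ hq.out)) hTK
    have h7 : P ≤ 𝐂(K) :=
      hPR.symm.le.trans ((commutator_mono le_sup_left le_sup_right).trans h6)
    rw [commutator_eq_bot_iff''.2 h7] at hKP
    rw [← hKP, card_bot] at h5
    exact hq1 h5.symm
  have hcard : Nat.card ↥(W ⊓ 𝐂(R)) ∣ p :=
    card_dvd_of_elemAb_of_isCyclic (isElementaryAbelian_of_le hW inf_le_left) hc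
  choose! f hf1 hf2 hf3 using hnorm hB hBR
  have hVc : IsCyclic ↥(W ⊓ 𝐂(B)) := by
    refine pg_isCyclic_of_card_le hWp.to_inf_left
      (le_trans ?_ (Nat.le_of_dvd hp.out.pos hcard))
    refine Nat.card_le_card_of_injective (fun v => ⟨f v, hf1 v v.2⟩) fun v w h => ?_
    have e : f v = f w := congrArg Subtype.val h
    have h1 : (v : G)⁻¹ * w ∈ ⁅W, B⁆ ⊓ 𝐂(B) := by
      refine ⟨?_, 𝐂(B).mul_mem (𝐂(B).inv_mem v.2.2) w.2.2⟩
      have := mul_mem (hf2 v v.2) (inv_mem (hf2 w w.2))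
      rwa [e, mul_inv_rev, inv_inv, mul_assoc, mul_inv_cancel_left] at this
    rw [hTI hB, mem_bot, inv_mul_eq_one] at h1
    exact Subtype.ext h1
  obtain ⟨v, hv, hv1⟩ := exists_ne_one_of_ne_bot hB.2.2
  have hfv : f v ≠ 1 := fun e => by
    have h1 : v⁻¹ ∈ ⁅W, B⁆ ⊓ 𝐂(B) := ⟨by simpa [e] using hf2 v hv, 𝐂(B).inv_mem hv.2⟩
    rw [hTI hB, mem_bot, inv_eq_one] at h1
    exact hv1 h1
  have hgen : W ⊓ 𝐂(R) = zpowers (f v) := by
    refine eq_zpowers_of_card_prime ?_ (hf1 v hv) hfv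
    rcases (Nat.dvd_prime hp.out).1 hcard with e | e
    · exact absurd (card_eq_one.1 e) (ne_bot_of_mem (hf1 v hv) hfv)
    · exact e ▸ hp.out
  have horb : ∀ g ∈ T, cj g B = ⁅K, R⁆ ∨ ∃ y ∈ R, cj g B = cj y B := by
    intro g hg
    by_contra hne
    rw [not_or] at hne
    have h2 := hΩcj g hg B hB
    set B₂ := cj g B
    have h3 : W ⊓ 𝐂(R) ≤ ⁅W, B₂⁆ := by
      rw [hgen, zpowers_le]
      exact hf3 v hv _ fun y hy => hind h2 (hΩcj y (hTsd.right_le hy) B hB)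
        (fun e => hne.2 ⟨y, hy, e⟩) (hconj hv y hy)
    by_cases hn : R ≤ 𝐍(B₂)
    · have hsd := SDP.of_coprime hRK hKR
      have h4 := t3_4 (V := W ⊓ 𝐂(B₂)) hsd (odd_card_of_le hodd (sup_le hKL hRL)) hKR hR
        (solvable_of_isPGroup hWp.to_inf_left)
        (sup_le (hBn le_rfl h2.1) (norms_inf_cent hRW hn))
        (cop hWp.to_inf_left (by rw [← hsd.card]; exact hKp.mul_left hRp))
        (eq_bot_iff.2 (hTI h2 ▸ le_inf ((inf_le_inf_right _ inf_le_left).trans h3)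
          (inf_le_left.trans inf_le_right)))
      have h5 := hsup h2.1 h2.2.1 (commutator_le_left_of_norm hRK) hA hne.1
      refine h2.2.2 (eq_bot_iff.2 (hWK ▸ le_inf inf_le_left (cent_symm ?_)))
      rw [← h5]
      exact sup_le (cent_symm inf_le_right) h4
    · obtain ⟨w, hw, hw1⟩ := exists_ne_one_of_ne_bot h2.2.2
      obtain ⟨c, hc1, hc2, -⟩ := hnorm h2 hn w hw
      have h4 : w⁻¹ ∈ ⁅W, B₂⁆ ⊓ 𝐂(B₂) :=
        ⟨by simpa using mul_mem hc2 (inv_mem (h3 hc1)), 𝐂(B₂).inv_mem hw.2⟩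
      rw [hTI h2, mem_bot, inv_eq_one] at h4
      exact hw1 h4
  have h1 := a36_relIndex_norm_le horb
  have h2 : Nat.card R ≤ 𝐍(B).relIndex T := by
    have e : 𝐍(B).relIndex R = Nat.card R := by
      rw [← inf_relIndex_right, inf_comm, ((le_or_inf_eq_bot_of_prime hR _).resolve_left hBR),
        relIndex_bot_left]
    rw [← e]
    exact relIndex_le_of_le_right le_sup_right (relIndex_pos _ _).ne'
  have h3 : Odd (𝐍(B).relIndex T) :=
    (odd_card_of_le hodd (sup_le hPL hRL)).of_dvd_nat (relIndex_dvd_card _ _)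
  have h4 : 𝐍(B).relIndex T = Nat.card R := by
    obtain ⟨a, ha⟩ := h3
    obtain ⟨b, hb⟩ := odd_card_of_le hodd hRL
    omega
  obtain ⟨S, hS⟩ := sylow_exists p (𝐍(B) ⊓ T)
  have hS' : SylowOf p S T := hS.trans_not_dvd inf_le_right (by
    rw [inf_relIndex_right, h4]
    exact (Nat.Prime.coprime_iff_not_dvd hp.out).1 hRp.symm)
  have hPT : SylowOf p P T := hTsd.hall_left ((piGrp_singleton_iff hp.out).2 hP)
    ((piGrp_compl_singleton_iff_coprime hp.out).2 hRp)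
  have h5 : P ≤ 𝐍(B) := (Hall.eq_of_normal hPT hTsd.le_norm hS') ▸ hS.le.trans inf_le_left
  have h6 := cyc_der_le_cent hVc (sup_le (hBn le_rfl hB.1) (norms_inf_cent hPW h5))
  refine hB.2.2 (eq_bot_iff.2 (hWK ▸ le_inf inf_le_left (cent_symm ?_)))
  exact hKP.symm.le.trans ((commutator_mono le_sup_left le_sup_right).trans h6)

omit [Finite G] in
/-- if `R` centralises the section `K / A` then so does `[P, R]` -/
theorem a36_commutator_le {K A P R : Subgroup G} (hKA : K ≤ 𝐍(A)) (hPA : P ≤ 𝐍(A))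
    (hRA : R ≤ 𝐍(A)) (hPK : P ≤ 𝐍(K)) (h : ⁅R, K⁆ ≤ A) : ⁅⁅P, R⁆, K⁆ ≤ A := by
  rw [← quot_le_centralizer_iff hRA hKA] at h
  rw [← quot_le_centralizer_iff ((commutator_le_sup _ _).trans (sup_le hPA hRA)) hKA,
    quot_commutator hPA hRA]
  exact (commutator_mono le_rfl h).trans
    (commutator_le_right_of_norm (norms_cent (quot_normalizer A hPK)))

/-- The core of BG 3.6. -/
theorem a36_core {p : ℕ} [hp : Fact p.Prime] {W P R L : Subgroup G}
    (hW : IsElementaryAbelian p W) (hP : IsPGroup p P) (hR : (Nat.card R).Prime)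
    (hodd : Odd (Nat.card L)) (hPL : P ≤ L) (hRL : R ≤ L) (hPW : P ≤ 𝐍(W)) (hRW : R ≤ 𝐍(W))
    (hRP : R ≤ 𝐍(P)) (hRp : (Nat.card R).Coprime p) (hc : IsCyclic ↥(W ⊓ 𝐂(R)))
    (hPR : ⁅P, R⁆ = P) (K : Subgroup G) : K ≤ L → Group.IsSolvable K → K ≤ 𝐍(W) → P ≤ 𝐍(K) →
      R ≤ 𝐍(K) → (Nat.card K).Coprime p → (Nat.card K).Coprime (Nat.card R) → K ⊓ 𝐂(W) = ⊥ →
      IsZGroup ↥(K ⊓ 𝐂(R)) → P ≤ 𝐂(K) := by
  induction K using subgroup_induction with
  | ih K ih =>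
  intro hKL hsol hKW hPK hRK hKp hKR hf hZ
  by_contra hPC
  have hmin : ∀ X : Subgroup G, X < K → P ≤ 𝐍(X) → R ≤ 𝐍(X) → P ≤ 𝐂(X) := fun X hX h1 h2 =>
    ih X hX (hX.le.trans hKL) (solvable_of_le hsol hX.le) (hX.le.trans hKW) h1 h2
      (hKp.of_dvd_left (card_dvd_of_le hX.le)) (hKR.of_dvd_left (card_dvd_of_le hX.le))
      (eq_bot_iff.2 (hf ▸ inf_le_inf_right _ hX.le))
      (isZGroup_of_le hZ (inf_le_inf_right _ hX.le))
  have hWp := isPGroup_of_isElementaryAbelian hW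
  have cop : ∀ {X Y : Subgroup G}, IsPGroup p X → (Nat.card Y).Coprime p →
      (Nat.card X).Coprime (Nat.card Y) := fun hX hY =>
    coprime_card_of_isPGroup hp.out hX ((piGrp_compl_singleton_iff_coprime hp.out).2 hY)
  set T := P ⊔ R with hT
  have hTsd : SDP P R T := SDP.of_coprime hRP (cop hP hRp)
  have hTK : T ≤ 𝐍(K) := sup_le hPK hRK
  have hKT : (Nat.card K).Coprime (Nat.card T) := by
    rw [← hTsd.card]; exact (cop hP hKp).symm.mul_right hKR
  have hTodd : Odd (Nat.card T) := odd_card_of_le hodd (sup_le hPL hRL)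
  have hPT : P ≤ ⁅T, T⁆ := hPR.symm.le.trans (commutator_mono le_sup_left le_sup_right)
  have hK1 : K ≠ ⊥ := fun e => hPC (by rw [e, cent_bot]; exact le_top)
  obtain ⟨q, hq, hKq⟩ : ∃ q : ℕ, q.Prime ∧ IsPGroup q K := by
    by_contra hne
    refine hPC (cent_symm (le_of_forall_exists_sylow_le fun q hq _ => ?_))
    have : Fact q.Prime := ⟨hq⟩
    obtain ⟨Q, hQ, hTQ⟩ := t1_5a_sylow q hTK hKT (Or.inl hsol)
    refine ⟨Q, hQ, cent_symm (hmin Q (lt_of_le_of_ne hQ.le fun e => hne ⟨q, hq, ?_⟩)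
      (le_sup_left.trans hTQ) (le_sup_right.trans hTQ))⟩
    exact e ▸ hQ.isPGroup
  have : Fact q.Prime := ⟨hq⟩
  have hqK : q ∣ Nat.card K := pg_dvd_card hKq hK1
  have hKP : ⁅K, P⁆ = K := by
    by_contra hne
    have h1 := hmin _ (lt_of_le_of_ne (commutator_le_left_of_norm hPK) hne)
      (norms_commutator hPK le_normalizer) (norms_commutator hRK hRP)
    exact hPC (t1_6c hPK (cop hP hKp).symm (commutator_eq_bot_iff''.2 h1))
  have hexp : ∀ x ∈ K, x ^ q = 1 := by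
    obtain ⟨K₀, h1, -, -, h2, h3⟩ := t1_13 (pg_ne_two hKq (odd_card_of_le hodd hKL) hK1) hKq hK1
    rcases h1.le.eq_or_lt with e | hlt
    · exact e ▸ h2
    · exact absurd (h3 P hPK ((cop hP hKp).of_dvd_right hqK)
        (hmin _ hlt (h1.norms hPK) (h1.norms hRK))) hPC
  set A := ⁅K, R⁆ with hA
  have hAK : A ⊴ K := ⟨commutator_le_left_of_norm hRK, normalizer_commutator_ge_left K R⟩
  have hRA : R ≤ 𝐍(A) := normalizer_commutator_ge_right K R
  have hAne : A ≠ K := by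
    intro e
    have hKD : K ≤ 𝐍(⁅K, K⁆) := norms_der le_normalizer
    have hTD : T ≤ 𝐍(⁅K, K⁆) := norms_der hTK
    have hab := (quot_isMulCommutative_iff hKD).2 le_rfl
    have h1 := t1_6d_TI (quot_normalizer ⁅K, K⁆ hRK) (quot_coprime _ hKR) hab
    rw [← quot_commutator hKD (le_sup_right.trans hTD), ← hA, e] at h1
    have h2 := t3_4 (hTsd.quot_of_coprime hTD (cop hP hRp)) (quot_odd _ hTodd)
      (quot_coprime _ (cop hP hRp))
      (by rwa [card_quot_of_disjoint (le_sup_right.trans hTD) (disj_of_coprime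
        (coprime_card_mono hKR (NormalIn.der K).le le_rfl))])
      (quot_isSolvable _ hsol) (quot_normalizer _ hTK) (quot_coprime _ hKT) h1
    rw [← quot_commutator (le_sup_left.trans hTD) (le_sup_right.trans hTD), hPR,
      quot_le_centralizer_iff (le_sup_left.trans hTD) hKD, commutator_comm, hKP] at h2
    exact (der_lt_of_solvable hsol hK1).not_ge h2
  have hsup := t1_6a hRK hKR (Or.inl hsol)
  have hCA : ¬ K ⊓ 𝐂(R) ≤ A := fun h => hAne (by rwa [sup_eq_left.2 h] at hsup)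
  have hCq : Nat.card ↥(K ⊓ 𝐂(R)) = q := by
    have h1 := nil_isCyclic_of_isZGroup (nil_of_isPGroup hKq.to_inf_left) hZ
    rcases (Nat.dvd_prime hq).1 (card_dvd_of_elemAb_of_isCyclic
      ⟨comm_of_isCyclic h1, fun x hx => hexp x hx.1⟩ h1) with e | e
    · exact absurd (by rw [card_eq_one.1 e]; exact bot_le) hCA
    · exact e
  have hAC : K ⊓ 𝐂(R) ⊓ A = ⊥ := (le_or_inf_eq_bot_of_prime (hCq ▸ hq) A).resolve_left hCA
  have hAi : A.relIndex K = q := by
    rw [← hCq]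
    exact SDP.relIndex_left ⟨hsup, inf_le_left.trans hAK.norm, by rwa [inf_comm]⟩
  have hA1 : A ≠ ⊥ := fun e => hPC (hPR.symm.le.trans ((commutator_mono le_rfl
    (commutator_eq_bot_iff''.1 e)).trans (commutator_le_right_of_norm (norms_cent hPK))))
  have hsd := SDP.of_coprime hRK hKR
  have hKRp : (Nat.card ↥(K ⊔ R)).Coprime p := by rw [← hsd.card]; exact hKp.mul_left hRp
  have hWR : Nat.card ↥(W ⊓ 𝐂(R)) = p := by
    rcases (Nat.dvd_prime hp.out).1 (card_dvd_of_elemAb_of_isCyclic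
      (isElementaryAbelian_of_le hW inf_le_left) hc) with e | e
    · exact absurd (eq_bot_iff.2 (hf ▸ le_inf hAK.le (t3_4 hsd
        (odd_card_of_le hodd (sup_le hKL hRL)) hKR hR (solvable_of_isPGroup hWp) (sup_le hKW hRW)
        (cop hWp hKRp) (card_eq_one.1 e)))) hA1
    · exact e
  have hAc : IsMulCommutative A := by
    have h1 := t3_5 hp.out (hsd.restrict_left hAK.le hRA) (solvable_of_le hsol hAK.le) hR
      (eq_bot_iff.2 (hAC ▸ le_inf (inf_le_inf_right _ hAK.le) inf_le_left)) hW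
      (sup_le (hAK.le.trans hKW) hRW)
      (hKRp.of_dvd_left (card_dvd_of_le (sup_le_sup_right hAK.le _))) hWR
    rw [← commutator_self_eq_bot_iff, eq_bot_iff, ← hf]
    exact le_inf ((NormalIn.der A).le.trans hAK.le) h1
  have hPA : ¬ P ≤ 𝐍(A) := fun h => by
    have h1 := a36_commutator_le hAK.norm h hRA hPK (commutator_comm K R ▸ le_rfl)
    rw [hPR, commutator_comm, hKP] at h1
    exact hAne (le_antisymm hAK.le h1)
  have hKc : IsMulCommutative K := by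
    obtain ⟨x, hx, hxA⟩ := SetLike.not_le_iff_exists.1 hPA
    have h1 : cj x A ≤ K := cj_le_of_mem_norm (hPK hx) hAK.le
    have h2 : (cj x A).relIndex K = q := by
      rw [← cj_eq_of_mem_norm (hPK hx), relIndex_cj, hAi]
    have h3 : A ⊔ cj x A = K := sup_eq_of_relIndex_prime hAi hAK.le h1 fun h =>
      hxA (mem_norm_of_cj_le h)
    have h4 : A ⊓ cj x A ≤ 𝐙(K) := by
      refine le_inf (inf_le_left.trans hAK.le) ?_
      rw [← h3, cent_sup]
      exact inf_le_inf (le_cent_of_comm hAc) (le_cent_of_comm (comm_cj.2 hAc))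
    have h5 : 𝐙(K).relIndex K ≤ q ^ 2 := by
      refine (relIndex_le_of_le_left h4 (relIndex_pos _ _).ne').trans (relIndex_inf_le.trans ?_)
      rw [hAi, h2, sq]
    have hKZ : K ≤ 𝐍(𝐙(K)) := norms_center le_normalizer
    have hTZ : T ≤ 𝐍(𝐙(K)) := norms_center hTK
    have h6 := t2_6a hq (E := quot 𝐙(K) K) (A := quot 𝐙(K) T)
      ((quot_isElementaryAbelian_iff hKZ).2 ⟨pg_der_le_of_relIndex_le_sq hKq hKZ h5,
        fun y hy => by rw [hexp y hy]; exact one_mem _⟩)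
      (by
        obtain ⟨n, hn⟩ := pg_relIndex_eq_pow hKq 𝐙(K)
        rw [card_quot hKZ, hn]
        exact pow_dvd_pow _ ((Nat.pow_le_pow_iff_right hq.one_lt).1 (hn ▸ h5)))
      (quot_normalizer _ hTK) (quot_odd _ hTodd) fun h =>
        (Nat.Prime.coprime_iff_not_dvd hq).1 (hKT.of_dvd_left hqK) (h.trans (card_quot_dvd _ _))
    rw [← quot_commutator hTZ hTZ] at h6
    have h7 := (quot_mono _ hPT).trans h6
    rw [quot_le_centralizer_iff (le_sup_left.trans hTZ) hKZ, commutator_comm, hKP] at h7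
    exact comm_iff_le_cent.2 (h7.trans inf_le_right)
  have hW' : ⁅W, K⁆ ≤ W := commutator_le_left_of_norm hKW
  exact a36_final (isElementaryAbelian_of_le hW hW') ⟨hKc, hexp⟩ hP hR hodd hKL hPL hRL
    (normalizer_commutator_ge_right W K) (norms_commutator hPW hPK) (norms_commutator hRW hRK)
    hPK hRK hRP hKp hRp hKR
    (fun e => hK1 (eq_bot_iff.2 (hf ▸ le_inf le_rfl (commutator_eq_bot_iff''.1 e))))
    (t1_6d_TI hKW (cop hWp hKp) hW.1) (isCyclic_of_le hc (inf_le_inf_right _ hW')) hPR hKP hAi hmin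

end CL.BG
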