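import Cfsg.Agent.BG.A7_Core
import Cfsg.Agent.BG.Core

/-!
# `TransitivityHypothesis` of the Prelude versus `NormedConstrained`
-/

namespace CL.BG

open Cfsg

variable {G : Type*} [Group G] {H A Y : Subgroup G}

theorem piGrp_primesNotDvd_iff {n : ℕ} : PiGrp (primesNotDvd n) Y ↔ PiGrp (primesOfNat n)ᶜ Y :=
  piNat_primesNotDvd_iff.trans piNat_compl_primesOfNat_iff.symm

theorem piGrp_primesNotDvd_prime_iff {p : ℕ} (hp : p.Prime) :
    PiGrp (primesNotDvd p) Y ↔ PiGrp {p}ᶜ Y :=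
  piNat_primesNotDvd_iff.trans (piGrp_compl_singleton_iff_coprime hp).symm

theorem invSubgroups_primesNotDvd (H A : Subgroup G) (n : ℕ) :
    invSubgroups H A (primesNotDvd n) = invSubgroups H A (primesOfNat n)ᶜ := by
  ext Y
  rw [mem_invSubgroups, mem_invSubgroups, piGrp_primesNotDvd_iff]

theorem piCoreOf_primesNotDvd_card (A H : Subgroup G) :
    piCoreOf (primesNotDvd (Nat.card A)) H = piCoreOf (primesOf A)ᶜ H :=
  piCoreOf_primesNotDvd _ H

theorem transitivityHypothesis_iff [Finite G] :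
    TransitivityHypothesis A ↔ NormedConstrained (primesOf A) A := by
  constructor
  · rintro ⟨h1, h2, h⟩
    refine ⟨h1, h2, piGrp_primesOf A, fun X Y hAX hX hY hπ hn => ?_⟩
    rw [← piCoreOf_primesNotDvd_card, ← h X hX hAX]
    exact le_sSup (mem_invSubgroups.2 ⟨hY, piGrp_primesNotDvd_iff.2 hπ, hn⟩)
  · intro h
    refine ⟨h.ne_bot, h.ne_top, fun X hX hAX => ?_⟩
    rw [invSubgroups_primesNotDvd, piCoreOf_primesNotDvd_card]
    refine le_antisymm (sSup_le fun Y hY => ?_) (le_sSup ?_)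
    · obtain ⟨h1, h2, h3⟩ := mem_invSubgroups.1 hY
      exact h.le_core X Y hAX hX h1 h2 h3
    · exact mem_invSubgroups.2 ⟨pco_le _ _, pco_pi _ _, pco_norms _ (le_norm_of_le hAX)⟩

theorem primesOf_eq_singleton [Finite G] {p : ℕ} (hp : p.Prime) (hA : IsPGroup p A)
    (h1 : A ≠ ⊥) : primesOf A = {p} := by
  refine Set.Subset.antisymm (piGrp_iff_subset.1 ((piGrp_singleton_iff hp).2 hA)) ?_
  rintro _ rfl
  exact mem_primesOf_of_isPGroup hp hA h1 le_rfl

theorem not_mem_primesOf {q : ℕ} (h : ¬ q ∣ Nat.card A) : q ∉ primesOf A :=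
  fun h' => h (mem_primesOf.1 h').2

end CL.BG
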