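import Cfsg.Agent.BG.A7_Defs
import Cfsg.Agent.BG.HallSyl
import Cfsg.Agent.Solv.PiCore

/-!
# A small ambient API for `piCoreOf` used in BG sections 7-9
-/

namespace CL.BG

open Cfsg

variable {G : Type*} [Group G] {π ρ : Set ℕ} {H K N X Y A : Subgroup G}

theorem pco_le (π : Set ℕ) (H : Subgroup G) : piCoreOf π H ≤ H := Subgroup.map_subtype_le _

theorem pco_pi [Finite G] (π : Set ℕ) (H : Subgroup G) : PiGrp π (piCoreOf π H) :=
  CL.isPiNumber_card_map_subtype_piCore π H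

theorem pco_max (hN : N ≤ H) (hn : H ≤ 𝐍(N)) (h : PiGrp π N) : N ≤ piCoreOf π H :=
  CL.le_map_subtype_piCore hN hn h

theorem pco_norm (π : Set ℕ) (H : Subgroup G) : 𝐍(H) ≤ 𝐍(piCoreOf π H) :=
  CL.normalizer_le_normalizer_piCore π H

theorem pco_norms (π : Set ℕ) (h : A ≤ 𝐍(H)) : A ≤ 𝐍(piCoreOf π H) := h.trans (pco_norm π H)

theorem pco_normal (π : Set ℕ) (H : Subgroup G) : piCoreOf π H ⊴ H :=
  ⟨pco_le π H, pco_norms π (le_norm_self H)⟩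

theorem pco_normal_trans (π : Set ℕ) (h : N ⊴ H) : piCoreOf π N ⊴ H :=
  ⟨(pco_le π N).trans h.le, pco_norms π h.norm⟩

theorem pco_inf_le [Finite G] (π : Set ℕ) (h : K ≤ H) : piCoreOf π H ⊓ K ≤ piCoreOf π K :=
  pco_max inf_le_right
    (norms_inf (pco_norms π (le_norm_of_le h)) (le_norm_self K)) ((pco_pi π H).inf_left K)

theorem pco_le_of_le [Finite G] (π : Set ℕ) (h : K ≤ H) (h' : piCoreOf π H ≤ K) :
    piCoreOf π H ≤ piCoreOf π K :=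
  (le_inf le_rfl h').trans (pco_inf_le π h)

theorem pco_normal_le [Finite G] (π : Set ℕ) (h : N ⊴ H) : piCoreOf π N ≤ piCoreOf π H :=
  pco_max (pco_normal_trans π h).le (pco_normal_trans π h).norm (pco_pi π N)

theorem pco_normal_eq [Finite G] (π : Set ℕ) (h : N ⊴ H) : piCoreOf π N = piCoreOf π H ⊓ N :=
  le_antisymm (le_inf (pco_normal_le π h) (pco_le π N)) (pco_inf_le π h.le)

theorem pco_mono [Finite G] (h : π ⊆ ρ) (H : Subgroup G) : piCoreOf π H ≤ piCoreOf ρ H :=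
  pco_max (pco_le π H) (pco_normal π H).norm ((pco_pi π H).mono h)

theorem pco_congr [Finite G] (h : ∀ p : ℕ, p.Prime → p ∣ Nat.card H → (p ∈ π ↔ p ∈ ρ)) :
    piCoreOf π H = piCoreOf ρ H := by
  apply le_antisymm
  · refine pco_max (pco_le π H) (pco_normal π H).norm ((pco_pi π H).mono' fun p hp hd hπ => ?_)
    exact (h p hp (hd.trans (Subgroup.card_dvd_of_le (pco_le π H)))).1 hπ
  · refine pco_max (pco_le ρ H) (pco_normal ρ H).norm ((pco_pi ρ H).mono' fun p hp hd hπ => ?_)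
    exact (h p hp (hd.trans (Subgroup.card_dvd_of_le (pco_le ρ H)))).2 hπ

theorem pco_eq_self (h : PiGrp π H) : piCoreOf π H = H :=
  le_antisymm (pco_le π H) (pco_max le_rfl (le_norm_self H) h)

theorem pco_eq_bot [Finite G] (h : PiGrp πᶜ H) : piCoreOf π H = ⊥ :=
  (pco_pi π H).eq_bot (h.of_le (pco_le π H))

theorem pco_cj_le [Finite G] (π : Set ℕ) (g : G) (H : Subgroup G) :
    cj g (piCoreOf π H) ≤ piCoreOf π (cj g H) :=
  pco_max ((pco_normal π H).cj g).le ((pco_normal π H).cj g).norm ((pco_pi π H).cj g)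

theorem pco_cj [Finite G] (π : Set ℕ) (g : G) (H : Subgroup G) :
    cj g (piCoreOf π H) = piCoreOf π (cj g H) := by
  refine le_antisymm (pco_cj_le π g H) ?_
  have := pco_cj_le π g⁻¹ (cj g H)
  rwa [cj_inv_cj, cj_le_iff_le_cj_inv, inv_inv] at this

theorem pco_isPGroup [Finite G] (p : ℕ) [hp : Fact p.Prime] (H : Subgroup G) :
    IsPGroup p (piCoreOf {p} H) :=
  (pco_pi {p} H).isPGroup hp.out

theorem pco_max_p [Finite G] {p : ℕ} [hp : Fact p.Prime] (hN : N ≤ H) (hn : H ≤ 𝐍(N))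
    (h : IsPGroup p N) : N ≤ piCoreOf {p} H :=
  pco_max hN hn ((piGrp_singleton_iff hp.out).2 h)

theorem pco_cent [Finite G] (π : Set ℕ) (H : Subgroup G) : piCoreOf π H ≤ 𝐂(piCoreOf πᶜ H) :=
  (pco_pi π H).le_cent (pco_pi πᶜ H) ((pco_le π H).trans (pco_normal _ H).norm)
    ((pco_le πᶜ H).trans (pco_normal _ H).norm)

theorem pco_cent_of_disjoint [Finite G] (h : Disjoint π ρ) (H : Subgroup G) :
    piCoreOf π H ≤ 𝐂(piCoreOf ρ H) :=
  (pco_cent π H).trans (cent_anti (pco_mono (Set.subset_compl_iff_disjoint_left.2 h) H))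

theorem piGrp_compl_of_isPGroup [Finite G] {q : ℕ} [hq : Fact q.Prime] (h : IsPGroup q Y)
    (hπ : q ∉ π) : PiGrp πᶜ Y :=
  piGrp_of_isPGroup hq.out h hπ

theorem mem_invSubgroups_top_p [Finite G] {q : ℕ} [hq : Fact q.Prime] :
    Y ∈ invSubgroups ⊤ A {q} ↔ IsPGroup q Y ∧ A ≤ 𝐍(Y) := by
  rw [mem_invSubgroups, piGrp_singleton_iff hq.out]
  simp

theorem maxInv_isPGroup [Finite G] {q : ℕ} [hq : Fact q.Prime] {Q : Subgroup G}
    (h : Q ∈ maxInvSubgroups H A {q}) : IsPGroup q Q :=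
  (mem_invSubgroups.1 (mem_maxInvSubgroups.1 h).1).2.1.isPGroup hq.out

theorem maxInv_norm {Q : Subgroup G} (h : Q ∈ maxInvSubgroups H A π) : A ≤ 𝐍(Q) :=
  (mem_invSubgroups.1 (mem_maxInvSubgroups.1 h).1).2.2

theorem maxInv_max [Finite G] {q : ℕ} [hq : Fact q.Prime] {Q R : Subgroup G}
    (h : Q ∈ maxInvSubgroups ⊤ A {q}) (hR : IsPGroup q R) (hA : A ≤ 𝐍(R)) (hle : Q ≤ R) :
    R = Q :=
  (mem_maxInvSubgroups.1 h).2 R (mem_invSubgroups_top_p.2 ⟨hR, hA⟩) hle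

theorem maxInv_exists_p [Finite G] {q : ℕ} [hq : Fact q.Prime] (hY : IsPGroup q Y)
    (hA : A ≤ 𝐍(Y)) : ∃ Q ∈ maxInvSubgroups ⊤ A {q}, Y ≤ Q :=
  maxInv_exists (mem_invSubgroups_top_p.2 ⟨hY, hA⟩)

theorem maxInv_intro [Finite G] {q : ℕ} [hq : Fact q.Prime] {Q : Subgroup G} (hQ : IsPGroup q Q)
    (hA : A ≤ 𝐍(Q)) (hmax : ∀ R : Subgroup G, IsPGroup q R → A ≤ 𝐍(R) → Q ≤ R → R = Q) :
    Q ∈ maxInvSubgroups ⊤ A {q} :=
  mem_maxInvSubgroups.2 ⟨mem_invSubgroups_top_p.2 ⟨hQ, hA⟩, fun R hR hle =>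
    hmax R (mem_invSubgroups_top_p.1 hR).1 (mem_invSubgroups_top_p.1 hR).2 hle⟩

/-- Under Hypothesis 7.1 every `π'`-subgroup of `C(A)` lies in `O_{π'}(C(A))`. -/
theorem NormedConstrained.le_core_cent [Finite G] (hG : IsMinSimpleOddOrder G)
    (hA : NormedConstrained π A) (hY : Y ≤ 𝐂(A)) (hπ : PiGrp πᶜ Y) :
    Y ≤ piCoreOf πᶜ 𝐂(A) := by
  have h1 : Y ≤ piCoreOf πᶜ 𝐍(A) :=
    hA.le_core _ _ (le_norm_self A) (mFT_norm_ne_top hG hA.ne_bot hA.ne_top)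
      (hY.trans (cent_le_norm A)) hπ (le_norm_of_le_cent (cent_symm hY))
  rw [pco_normal_eq _ (NormalIn.cent_norm A)]
  exact le_inf h1 hY

theorem NormedConstrained.sol (hG : IsMinSimpleOddOrder G) (hA : NormedConstrained π A) :
    Group.IsSolvable A :=
  mFT_sol hG hA.ne_top

theorem TransOn.eq_of_bot {q : ℕ} (h : TransOn ⊥ A q) {Q₁ Q₂ : Subgroup G}
    (h₁ : Q₁ ∈ maxInvSubgroups ⊤ A {q}) (h₂ : Q₂ ∈ maxInvSubgroups ⊤ A {q}) : Q₂ = Q₁ := by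
  obtain ⟨k, hk, rfl⟩ := h Q₁ h₁ Q₂ h₂
  rw [Subgroup.mem_bot.1 hk, cj_one]

theorem TransOn.mono {q : ℕ} (h : TransOn K A q) (hK : K ≤ H) : TransOn H A q :=
  fun Q₁ h₁ Q₂ h₂ => let ⟨k, hk, e⟩ := h Q₁ h₁ Q₂ h₂; ⟨k, hK hk, e⟩

end CL.BG
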