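import Cfsg.Agent.BG.Max

/-!
# BG Hypothesis 7.1 (for an arbitrary set of primes `π ⊇ π(A)`) and transitivity on `И*(A; q)`
-/

namespace CL.BG

open Cfsg

variable {G : Type*} [Group G]

/-- BG Hypothesis 7.1, relative to a set of primes `π` containing `π(A)` (the book takes
`π = π(A)`; for a `p`-group `A` use `π = {p}`). -/
structure NormedConstrained (π : Set ℕ) (A : Subgroup G) : Prop where
  ne_bot : A ≠ ⊥
  ne_top : A ≠ ⊤
  piGrp : PiGrp π A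
  le_core : ∀ X Y : Subgroup G, A ≤ X → X ≠ ⊤ → Y ≤ X → PiGrp πᶜ Y → A ≤ 𝐍(Y) →
    Y ≤ piCoreOf πᶜ X

/-- `K` is transitive (by conjugation) on `И*(A; q)`. -/
def TransOn (K A : Subgroup G) (q : ℕ) : Prop :=
  ∀ Q₁ ∈ maxInvSubgroups ⊤ A {q}, ∀ Q₂ ∈ maxInvSubgroups ⊤ A {q}, ∃ k ∈ K, Q₂ = cj k Q₁

end CL.BG
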