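import Cfsg.Agent.BG.T1_10
import Cfsg.Agent.BG.Fit

set_option autoImplicit false
open Cfsg Subgroup

namespace CL.BG
variable {G : Type*} [Group G] [Finite G]

/-- BG 1.15(a) (`solvable_p_constrained`). -/
theorem t1_15a {p : ℕ} [Fact p.Prime] {H P : Subgroup G} (hsol : Group.IsSolvable H)
    (hP : SylowOf p P (pPrimePCoreOf p H)) : H ⊓ 𝐂(P) ≤ pPrimePCoreOf p H := by
  have hV := piCoreOf_normalIn {p}ᶜ H
  have h1 : quot (piCoreOf {p}ᶜ H) P = piCoreOf {p} (quot (piCoreOf {p}ᶜ H) H) := by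
    rw [← quot_pPrimePCoreOf, ← piCoreOf_sup_sylow hP,
      quot_self_sup (hP.hall.le.trans ((pPrimePCoreOf_le p H).trans hV.norm))]
  rw [pPrimePCoreOf_eq_coquot, ← quot_le_iff (inf_le_left.trans hV.norm)]
  refine (quot_inf_centralizer_le _ H P).trans ?_
  rw [h1]
  exact inf_cent_core_le (quot_isSolvable _ hsol) (piCoreOf_quot_piCoreOf _ H)

/-- BG 1.15(a) when `O_{p'}(H) = 1`. -/
theorem t1_15a' {p : ℕ} [Fact p.Prime] {H : Subgroup G} (hsol : Group.IsSolvable H)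
    (h : piCoreOf {p}ᶜ H = ⊥) : H ⊓ 𝐂(piCoreOf {p} H) ≤ piCoreOf {p} H := inf_cent_core_le hsol h

theorem t1_15b_aux {p : ℕ} [hp : Fact p.Prime] {H R : Subgroup G} (hsol : Group.IsSolvable H)
    (hRH : R ≤ H) (hR : IsPGroup p R) (h : piCoreOf {p}ᶜ H = ⊥) :
    piCoreOf {p}ᶜ (H ⊓ 𝐂(R)) = ⊥ := by
  set K := piCoreOf {p}ᶜ (H ⊓ 𝐂(R)) with hK
  set T := piCoreOf {p} H with hT
  have hTH : T ⊴ H := piCoreOf_normalIn _ H
  have hKC : K ≤ H ⊓ 𝐂(R) := piCoreOf_le _ _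
  have hKp : PiGrp {p}ᶜ K := piGrp_piCoreOf _ _
  have hTR : IsPGroup p ↥(T ⊔ R) :=
    isPGroup_sup_of_norm (isPGroup_piCoreOf hp.out H) hR (Or.inl (hRH.trans hTH.norm))
  have hKR : K ≤ 𝐍(R) := le_norm_of_le_cent (hKC.trans inf_le_right)
  have hKn : K ≤ 𝐍(T ⊔ R) := norms_sup ((hKC.trans inf_le_left).trans hTH.norm) hKR
  have h1 : (T ⊔ R) ⊓ 𝐂(R) ≤ 𝐂(K) := by
    refine PiGrp.le_cent (π := {p}) ((piGrp_singleton_iff hp.out).2 (hTR.to_le inf_le_left)) hKp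
      ?_ (norms_inf_cent hKn hKR)
    exact (inf_le_inf_right _ (sup_le hTH.le hRH)).trans (le_norm_piCoreOf _ _)
  have h2 : K ≤ 𝐂(T ⊔ R) := by
    refine t1_10 hKn (coprime_card_of_isPGroup hp.out hTR hKp) (nil_of_isPGroup hTR)
      (le_inf inf_le_left ((inf_le_inf_left _ (cent_anti ?_)).trans h1))
    exact le_inf le_sup_right (cent_symm (hKC.trans inf_le_right))
  have h3 : K ≤ T :=
    (le_inf (hKC.trans inf_le_left) (h2.trans (cent_anti le_sup_left))).trans (t1_15a' hsol h)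
  exact ((piGrp_piCoreOf _ H).of_le h3).eq_bot hKp

/-- BG 1.15(b) (`p'core_cent_pgroup`). -/
theorem t1_15b {p : ℕ} [Fact p.Prime] {H R : Subgroup G} (hsol : Group.IsSolvable H)
    (hRH : R ≤ H) (hR : IsPGroup p R) : piCoreOf {p}ᶜ (H ⊓ 𝐂(R)) ≤ piCoreOf {p}ᶜ H := by
  have hV := piCoreOf_normalIn {p}ᶜ H
  have h1 := t1_15b_aux (quot_isSolvable (piCoreOf {p}ᶜ H) hsol) (quot_mono _ hRH)
    (quot_isPGroup _ hR) (piCoreOf_quot_piCoreOf _ H)
  rw [← quot_inf_cent_of_coprime' hV.norm (hRH.trans hV.norm) (le_norm_of_le hRH)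
    (coprime_card_of_isPGroup Fact.out hR (piGrp_piCoreOf _ H)).symm
    (Or.inr (solvable_of_isPGroup hR))] at h1
  rw [← quot_eq_bot_iff (((piCoreOf_le _ _).trans inf_le_left).trans hV.norm), ← le_bot_iff, ← h1]
  exact quot_piCoreOf_le _ _ _

end CL.BG
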