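import Cfsg.Agent.BG.T1_9
import Cfsg.Agent.BG.Fit

set_option autoImplicit false
open Cfsg Subgroup

namespace CL.BG
variable {G : Type*} [Group G] [Finite G]

/-- BG 1.4 (`coprime_cent_Fitting`). -/
theorem t1_4 {A H : Subgroup G} (hA : A ≤ 𝐍(H))
    (hcop : (Nat.card H).Coprime (Nat.card A)) (hsol : Group.IsSolvable H) :
    A ⊓ 𝐂(fittingOf H) ≤ 𝐂(H) := by
  have hB : A ⊓ 𝐂(fittingOf H) ≤ 𝐍(H) := inf_le_left.trans hA
  have h1 : ⁅⁅H, A ⊓ 𝐂(fittingOf H)⁆, fittingOf H⁆ = ⊥ := by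
    refine commutator_commutator_eq_bot_of_rotate ?_ ?_
    · rw [commutator_eq_bot_iff'.2 inf_le_right, commutator_bot_left]
    · exact commutator_eq_bot_iff''.2
        (inf_le_right.trans (cent_anti (fit_normal H).commutator_le))
  refine t1_9 (fit_le H) inf_le_right ?_ (coprime_card_mono hcop le_rfl inf_le_left)
  exact le_fit_of_le_cent hsol (commutator_le_left_of_norm hB) (commutator_eq_bot_iff'.1 h1)

end CL.BG
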