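import Cfsg.Agent.BG.A7_Core
import Cfsg.Agent.BG.Core
import Cfsg.Agent.BG.Fit
import Cfsg.Agent.BG.T1_4
import Cfsg.Agent.BG.T1_15

/-!
# Bender's uniqueness argument for a maximal subgroup whose Fitting subgroup has two primes
-/

namespace CL.BG

open Cfsg

variable {G : Type*} [Group G] [Finite G] {H L W M : Subgroup G}

theorem bender_core_inf_le (hG : IsMinSimpleOddOrder G) (hH : IsCoatom H) (hL : L ≠ ⊤)
    {p : ℕ} [hp : Fact p.Prime] (hW : W ⊴ H) (hWp : IsPGroup p W) (hne : W ≠ ⊥) (hWL : W ≤ L) :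
    piCoreOf {p}ᶜ H ⊓ L ≤ piCoreOf {p}ᶜ L := by
  have h1 : L ⊓ 𝐂(W) ≤ H := inf_le_right.trans (mmax_normal_cent_le hG hH hW hne)
  have h2 : piCoreOf {p}ᶜ H ≤ 𝐂(W) :=
    cent_symm (le_cent_piCoreOf hW (piGrp_compl_compl.2 ((piGrp_singleton_iff hp.out).2 hWp)))
  refine le_trans ?_ (t1_15b (mFT_sol hG hL) hWL hWp)
  refine le_trans ?_ (pco_inf_le _ h1)
  exact le_inf inf_le_left (le_inf inf_le_right (inf_le_left.trans h2))

theorem pcore_center_fit_normal (p : ℕ) (H : Subgroup G) :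
    piCoreOf {p} 𝐙(fittingOf H) ⊴ H :=
  pco_normal_trans _ (fit_normal H).center_trans

theorem pcore_center_fit_ne_bot {p : ℕ} [hp : Fact p.Prime] (h : p ∈ primesOf (fittingOf H)) :
    piCoreOf {p} 𝐙(fittingOf H) ≠ ⊥ :=
  SylowOf.ne_bot_iff (nil_sylow_core (nil_of_comm (comm_center _)) p) |>.2
    (nil_prime_dvd_card_center (fit_nil H) hp.out h.2)

/-- if `Z(F(H)) ≤ L`, then `O_{p'}(H) ∩ L ≤ O_{p'}(L)` for every `p ∈ π(F(H))` -/
theorem bender_core_inf_le' (hG : IsMinSimpleOddOrder G) (hH : IsCoatom H) (hL : L ≠ ⊤)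
    (hZ : 𝐙(fittingOf H) ≤ L) {p : ℕ} (hp : p ∈ primesOf (fittingOf H)) :
    piCoreOf {p}ᶜ H ⊓ L ≤ piCoreOf {p}ᶜ L :=
  haveI := Fact.mk hp.1
  bender_core_inf_le hG hH hL (pcore_center_fit_normal p H) (pco_isPGroup p _)
    (pcore_center_fit_ne_bot hp) ((pco_le _ _).trans hZ)

theorem bender_cent (hG : IsMinSimpleOddOrder G) (hH : IsCoatom H) (hL : L ≠ ⊤)
    (hZ : 𝐙(fittingOf H) ≤ L) {p q : ℕ} (hp : p ∈ primesOf (fittingOf H)) (hqp : q ≠ p) :
    piCoreOf {p} L ≤ 𝐂(piCoreOf {q} H ⊓ L) := by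
  refine (pco_cent {p} L).trans (cent_anti ?_)
  refine le_trans (inf_le_inf_right _ (pco_mono ?_ H)) (bender_core_inf_le' hG hH hL hZ hp)
  rintro _ rfl
  exact hqp

theorem pcore_center_fit_le_inf {q : ℕ} (hZ : 𝐙(fittingOf H) ≤ L) :
    piCoreOf {q} 𝐙(fittingOf H) ≤ piCoreOf {q} H ⊓ L :=
  le_inf (pco_normal_le _ (fit_normal H).center_trans) ((pco_le _ _).trans hZ)

theorem bender_fit_le (hG : IsMinSimpleOddOrder G) (hH : IsCoatom H) (hL : L ≠ ⊤)
    (hZ : 𝐙(fittingOf H) ≤ L)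
    (h2 : ∀ p, ∃ q ∈ primesOf (fittingOf H), q ≠ p)
    (hπ : PiGrp (primesOf (fittingOf H)) (fittingOf L)) :
    fittingOf L ≤ H ∧ primesOf (fittingOf L) = primesOf (fittingOf H) := by
  have hbot : ∀ p : ℕ, p.Prime → p ∉ primesOf (fittingOf H) → piCoreOf {p} L = ⊥ := by
    intro p hp h
    haveI := Fact.mk hp
    by_contra h0
    exact h (hπ.mem (mem_primesOf_fit_iff.2 h0))
  constructor
  · refine fit_le_of_forall_pcore_le fun p hp => ?_
    by_cases h : p ∈ primesOf (fittingOf H)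
    · obtain ⟨q, hq, hqp⟩ := h2 p
      haveI := Fact.mk hq.1
      exact ((bender_cent hG hH hL hZ h hqp).trans (cent_anti (pcore_center_fit_le_inf hZ))).trans
        (mmax_normal_cent_le hG hH (pcore_center_fit_normal q H) (pcore_center_fit_ne_bot hq))
    · rw [hbot p hp h]; exact bot_le
  · refine Set.Subset.antisymm (piGrp_iff_subset.1 hπ) fun q hq => ?_
    haveI := Fact.mk hq.1
    by_contra hqL
    have hc : fittingOf L ≤ 𝐂(piCoreOf {q} 𝐙(fittingOf H)) := by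
      refine fit_le_of_forall_pcore_le fun p hp => ?_
      by_cases hqp : q = p
      · subst hqp
        have : piCoreOf {q} L = ⊥ := by
          by_contra h0
          exact hqL (mem_primesOf_fit_iff.2 h0)
        rw [this]; exact bot_le
      by_cases h : p ∈ primesOf (fittingOf H)
      · exact (bender_cent hG hH hL hZ h hqp).trans (cent_anti (pcore_center_fit_le_inf hZ))
      · rw [hbot p hp h]; exact bot_le
    exact hqL (mem_primesOf_of_isPGroup hq.1 (pco_isPGroup q _) (pcore_center_fit_ne_bot hq)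
      (le_fit_of_le_cent (mFT_sol hG hL) ((pco_le _ _).trans hZ) (cent_symm hc)))

theorem bender_core_le (hG : IsMinSimpleOddOrder G) (hH : IsCoatom H) (hL : IsCoatom L)
    (hHL : fittingOf H ≤ L) (hLH : fittingOf L ≤ H) {p : ℕ} (hp : p ∈ primesOf (fittingOf H))
    (hp' : p ∈ primesOf (fittingOf L)) : piCoreOf {p}ᶜ H ≤ piCoreOf {p}ᶜ L := by
  haveI := Fact.mk hp.1
  have h0 := bender_core_inf_le' hG hH hL.1 (inf_le_left.trans hHL) hp
  have hpH : piCoreOf {p} L ≤ H := (pcore_le_fit p L).trans hLH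
  have h1 : piCoreOf {p} L ≤ 𝐂(fittingOf (piCoreOf {p}ᶜ H)) := by
    refine (pco_cent {p} L).trans (cent_anti (le_trans ?_ h0))
    exact le_inf (fit_le _) ((fit_le_of_normal (pco_normal _ H)).trans hHL)
  have h2 := t1_4 (hpH.trans (pco_normal {p}ᶜ H).norm) ((pco_pi _ _).coprime' (pco_pi _ _))
    (mmax_sub_sol hG hH (pco_le _ _))
  rw [inf_eq_left.2 h1] at h2
  have h3 : piCoreOf {p}ᶜ H ≤ L := (cent_symm h2).trans
    (mmax_normal_cent_le hG hL (pco_normal _ L) (mem_primesOf_fit_iff.1 hp'))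
  exact (le_inf le_rfl h3).trans h0

/-- Bender's lemma: if `F(H)` has two prime divisors, `Z(F(H)) ≤ L` and `π(F(L)) ⊆ π(F(H))`
for maximal subgroups `H` and `L`, then `L = H`. -/
theorem bender_eq (hG : IsMinSimpleOddOrder G) (hH : IsCoatom H) (hL : IsCoatom L)
    (hZ : 𝐙(fittingOf H) ≤ L) (h2 : ∀ p, ∃ q ∈ primesOf (fittingOf H), q ≠ p)
    (hπ : PiGrp (primesOf (fittingOf H)) (fittingOf L)) : L = H := by
  obtain ⟨hLH, e⟩ := bender_fit_le hG hH hL.1 hZ h2 hπ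
  obtain ⟨hHL, -⟩ := bender_fit_le hG hL hH.1 (inf_le_left.trans hLH) (e ▸ h2)
    (e ▸ piGrp_primesOf _)
  obtain ⟨p, hp, -⟩ := h2 0
  obtain ⟨q, hq, hqp⟩ := h2 p
  haveI := Fact.mk hq.1
  have h1 : piCoreOf {p}ᶜ H = piCoreOf {p}ᶜ L :=
    le_antisymm (bender_core_le hG hH hL hHL hLH hp (e ▸ hp))
      (bender_core_le hG hL hH hLH hHL (e ▸ hp) hp)
  have hne : piCoreOf {p}ᶜ H ≠ ⊥ := by
    refine ne_bot_of_le (mem_primesOf_fit_iff.1 hq) (pco_mono ?_ H)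
    rintro _ rfl
    exact hqp
  rw [← mmax_normal hG hH (pco_normal _ H) hne, h1,
    mmax_normal hG hL (pco_normal _ L) (h1 ▸ hne)]

/-- Bender's uniqueness lemma -/
theorem bender_uniq (hG : IsMinSimpleOddOrder G) (hH : IsCoatom H) (hM : M ≤ H)
    (hZ : 𝐙(fittingOf H) ≤ M) (h2 : ∀ p, ∃ q ∈ primesOf (fittingOf H), q ≠ p)
    (hinv : ∀ Y : Subgroup G, PiGrp (primesOf (fittingOf H))ᶜ Y → M ≤ 𝐍(Y) → Y = ⊥) :
    UniqMax M H :=
  ⟨hH, hM, fun L hL hML => bender_eq hG hH hL (hZ.trans hML) h2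
    (fit_pi_of_core_compl_eq_bot (hinv _ (pco_pi _ _) (pco_norms _ (le_norm_of_le hML))))⟩

theorem exists_prime_ne_of_not_isPGroup {p : ℕ} [hp : Fact p.Prime] (hd : p ∈ primesOf H)
    (h : ¬ IsPGroup p H) (r : ℕ) : ∃ q ∈ primesOf H, q ≠ r := by
  by_cases hr : p = r
  · subst hr
    rw [← piGrp_singleton_iff hp.out, piGrp_iff_subset, Set.not_subset] at h
    exact h
  · exact ⟨p, hd, hr⟩

end CL.BG
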