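import Cfsg.Agent.BG.PuigMain
import Cfsg.Agent.BG.Prod
import Cfsg.Agent.BG.A3_AbelemRep

/-!
# BG 2.6, A.4, A.5, 6.1, 6.2 for subgroups of an ambient group
-/

set_option autoImplicit false
open Cfsg Subgroup

namespace CL.BG
variable {G : Type*} [Group G] [Finite G] {p : ℕ}

/-- **BG 2.6** (group form): for `A` of odd order normalising an elementary abelian group `E` of
order at most `p ^ 2`, the derived group of `A / C_A(E)` is a `p`-group. -/
theorem t2_6b (hp : p.Prime) {E A : Subgroup G} (hE : IsElementaryAbelian p E)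
    (hc : Nat.card E ∣ p ^ 2) (hA : A ≤ 𝐍(E)) (hodd : Odd (Nat.card A)) :
    PiNat {p} (𝐂(E).relIndex ⁅A, A⁆) := by
  have : Fact p.Prime := ⟨hp⟩
  obtain ⟨W, _, _, _, ρ, h1, h2, -⟩ := exists_abelem_rep (ZMod p) hE A hA
  let σ : A →* (Module.End (ZMod p) W)ˣ := ρ.toHomUnits
  have hker : σ.ker = 𝐂(E).subgroupOf A := by
    ext x
    rw [MonoidHom.mem_ker, mem_subgroupOf, ← h2, ← Units.val_eq_one]
    rfl
  have hidx : 𝐂(E).relIndex ⁅A, A⁆ = Nat.card (commutator σ.range) := by
    have e1 : ⁅A, A⁆ = (commutator A).map A.subtype := (map_subtype_commutator A).symm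
    rw [e1, ← relIndex_comap, ← subgroupOf, ← hker, relIndex_ker, map_commutator_eq,
      ← map_subtype_commutator, card_map_of_injective (subtype_injective _)]
  rw [hidx]
  have hd : Module.finrank (ZMod p) W ≤ 2 :=
    (Nat.pow_dvd_pow_iff_le_right hp.one_lt).mp (h1 ▸ hc)
  have : Finite σ.range := Finite.of_surjective _ σ.rangeRestrict_surjective
  have hodd' : Odd (Nat.card σ.range) := hodd.of_dvd_nat (card_range_dvd σ)
  have hinj : Function.Injective ((Units.coeHom _).comp σ.range.subtype) :=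
    Units.val_injective.comp (subtype_injective _)
  rcases hd.eq_or_lt with hd | hd
  · exact (piGrp_singleton_iff hp).2 (odd_End2_commutator_isPGroup hd hodd' p _ hinj)
  · have : commutator σ.range = ⊥ := by
      rw [commutator_eq_bot_iff]
      refine IsMulCommutative.of_comm fun a b => hinj ?_
      rw [map_mul, map_mul]
      obtain ⟨v, hv⟩ := finrank_le_one_iff.mp (Nat.lt_succ_iff.mp hd)
      apply LinearMap.ext
      intro w
      obtain ⟨c, rfl⟩ := hv w
      obtain ⟨x, hx⟩ := hv (((Units.coeHom _).comp σ.range.subtype a) v)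
      obtain ⟨y, hy⟩ := hv (((Units.coeHom _).comp σ.range.subtype b) v)
      simp only [Module.End.mul_apply, map_smul, ← hx, ← hy, smul_smul, mul_comm x y]
    rw [this, card_bot]
    exact IsPiNum.one _

/-- **BG 2.6(a)** (group form). -/
theorem t2_6a (hp : p.Prime) {E A : Subgroup G} (hE : IsElementaryAbelian p E)
    (hc : Nat.card E ∣ p ^ 2) (hA : A ≤ 𝐍(E)) (hodd : Odd (Nat.card A))
    (hp' : ¬ p ∣ Nat.card A) : ⁅A, A⁆ ≤ 𝐂(E) := by
  rw [← relIndex_eq_one]
  by_contra hne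
  obtain ⟨r, hr, hd⟩ := Nat.exists_prime_and_dvd hne
  obtain rfl : r = p := t2_6b hp hE hc hA hodd r hr hd
  exact hp' ((hd.trans (relIndex_dvd_card _ _)).trans
    (card_dvd_of_le (commutator_le_left_of_norm le_normalizer)))

/-- **BG 2.6** (faithful form): the derived group is a `p`-group. -/
theorem t2_6b_faithful (hp : p.Prime) {E A : Subgroup G} (hE : IsElementaryAbelian p E)
    (hc : Nat.card E ∣ p ^ 2) (hA : A ≤ 𝐍(E)) (hodd : Odd (Nat.card A))
    (hf : A ⊓ 𝐂(E) = ⊥) : IsPGroup p ↥⁅A, A⁆ := by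
  have h := t2_6b hp hE hc hA hodd
  have h1 : 𝐂(E) ⊓ ⁅A, A⁆ = ⊥ := eq_bot_iff.mpr (hf ▸ le_inf
    (inf_le_right.trans (commutator_le_left_of_norm le_normalizer)) inf_le_left)
  rw [← inf_relIndex_right, h1, relIndex_bot_left] at h
  exact (piGrp_singleton_iff hp).1 h

section
variable [hp : Fact p.Prime] {H P : Subgroup G}

/-- **BG A.4** (`p`-stability, ambient form): if `A ≤ H` acts quadratically on the normal
`p`-subgroup `P` of the odd order group `H`, then `A` lies in a normal subgroup `K` of `H` with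
`K / C_K(P)` a `p`-group. -/
theorem tA_4 (hodd : Odd (Nat.card H)) (hP : IsPGroup p P) (hPH : P ⊴ H) {A : Subgroup G}
    (hA : A ≤ H) (hq : ⁅⁅P, A⁆, A⁆ = ⊥) :
    ∃ K : Subgroup G, K ⊴ H ∧ A ≤ K ∧ H ⊓ 𝐂(P) ≤ K ∧ PiNat {p} (𝐂(P).relIndex K) := by
  have := hPH.normal
  have h1 := odd_map_le_pCore_of_quadratic (P := P.subgroupOf H) (A := A.subgroupOf H) hodd
    hP.comap_subtype _ le_rfl (by
      apply map_injective H.subtype_injective
      rw [map_commutator, map_commutator, Subgroup.map_bot, map_subgroupOf_eq_of_le hPH.le,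
        map_subgroupOf_eq_of_le hA, hq])
  have hC : 𝐂(P.subgroupOf H) = 𝐂(P).subgroupOf H := by
    apply map_injective H.subtype_injective
    rw [← top_inf_eq 𝐂(P.subgroupOf H), map_inf_cent H.subtype_injective,
      map_subgroupOf_eq_of_le hPH.le, ← MonoidHom.range_eq_map, range_subtype, subgroupOf_map_subtype,
      inf_comm]
  refine ⟨((pCore p _).comap (QuotientGroup.mk' 𝐂(P.subgroupOf H))).map H.subtype,
    NormalIn.map_subtype _, ?_, ?_, ?_⟩
  · rw [← map_subgroupOf_eq_of_le hA]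
    exact map_mono (map_le_iff_le_comap.mp h1)
  · rw [inf_comm, ← subgroupOf_map_subtype, ← hC]
    apply map_mono
    conv_lhs => rw [← QuotientGroup.ker_mk' 𝐂(P.subgroupOf H)]
    exact ker_le_comap _ _
  · rw [← relIndex_comap, ← subgroupOf, ← hC]
    have e := relIndex_ker
      ((pCore p _).comap (QuotientGroup.mk' 𝐂(P.subgroupOf H))) (QuotientGroup.mk' 𝐂(P.subgroupOf H))
    rw [QuotientGroup.ker_mk', map_comap_eq_self_of_surjective (QuotientGroup.mk'_surjective _)] at e
    rw [e]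
    exact (piGrp_singleton_iff hp.out).2 (pCore_isPGroup p _)

/-- **BG A.5(b)** (ambient form). -/
theorem tA_5 (hodd : Odd (Nat.card H)) (hsol : Group.IsSolvable H)
    (hO : piCoreOf {p}ᶜ H = ⊥) (hP : IsPGroup p P) (hPH : P ⊴ H)
    (hC : piCoreOf {p} H ⊓ 𝐂(P) ≤ P) {B : Subgroup G} (hB : IsMulCommutative B) (hBH : B ≤ H)
    (hn : P ≤ 𝐍(B)) : B ≤ piCoreOf {p} H := by
  have := hPH.normal
  have hi := H.subtype_injective
  rw [piCoreOf_compl_singleton hp.out, map_eq_bot_iff_of_injective _ hi] at hO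
  rw [piCoreOf_singleton hp.out] at hC ⊢
  rw [← map_subgroupOf_eq_of_le hBH]
  apply map_mono
  refine odd_abelian_le_pCore hodd (centralizer_pCore_le hO) (P := P.subgroupOf H)
    hP.comap_subtype ?_ ?_ ?_
  · rwa [← map_le_map_iff_of_injective hi, map_inf_cent hi, map_subgroupOf_eq_of_le hPH.le]
  · rwa [← comm_map_iff hi, map_subgroupOf_eq_of_le hBH]
  · rwa [← map_le_norm_map_iff hi, map_subgroupOf_eq_of_le hBH, map_subgroupOf_eq_of_le hPH.le]

/-- **BG 6.1** (`odd_p_abelian_constrained`). -/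
theorem t6_1 (hodd : Odd (Nat.card H)) (hsol : Group.IsSolvable H) (hP : SylowOf p P H)
    {A : Subgroup G} (hA : IsMulCommutative A) (hAH : A ≤ H) (hn : P ≤ 𝐍(A)) :
    A ≤ pPrimePCoreOf p H := by
  obtain ⟨S, rfl⟩ := sylowOf_iff_exists.1 hP
  have hi := H.subtype_injective
  rw [← map_subgroupOf_eq_of_le hAH] at hA hn ⊢
  exact map_mono (odd_abelian_le_pPrimePCore hodd S ((comm_map_iff hi).1 hA)
    ((map_le_norm_map_iff hi).1 hn))

theorem t6_1' (hodd : Odd (Nat.card H)) (hsol : Group.IsSolvable H) (hP : SylowOf p P H)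
    {A : Subgroup G} (hA : IsMulCommutative A) (hAP : A ⊴ P) : A ≤ pPrimePCoreOf p H :=
  t6_1 hodd hsol hP hA (hAP.le.trans hP.le) hAP.norm

omit [Finite G] hp in
theorem map_center_puigOf {G' : Type*} [Group G'] {f : G →* G'} (hf : Function.Injective f)
    (D : Subgroup G) : (𝐙(puigOf D)).map f = 𝐙(puigOf (D.map f)) := by
  rw [map_inf_cent hf, map_puigOf hf]

omit [Finite G] hp in
theorem cj_center_puigOf (g : G) (D : Subgroup G) :
    cj g 𝐙(puigOf D) = 𝐙(puigOf (cj g D)) := map_center_puigOf (conj_injective g) D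

omit [Finite G] hp in
theorem center_puigOf_le (D : Subgroup G) : 𝐙(puigOf D) ≤ D := inf_le_left.trans (puigOf_le D)

theorem center_puigOf_ne_bot_of_isPGroup (hP : IsPGroup p P) (h : P ≠ ⊥) : 𝐙(puigOf P) ≠ ⊥ :=
  center_puigOf_ne_bot hP.isNilpotent h

/-- **BG 6.2** in Puig form: `O_{p'}(H) Z(L(P))` is normal in `H`. -/
theorem t6_2 (hodd : Odd (Nat.card H)) (hsol : Group.IsSolvable H) (hP : SylowOf p P H) :
    piCoreOf {p}ᶜ H ⊔ 𝐙(puigOf P) ⊴ H := by
  obtain ⟨S, rfl⟩ := sylowOf_iff_exists.1 hP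
  have := pPrimeCore_sup_center_puigOf_normal hodd S
  rw [piCoreOf_compl_singleton hp.out, ← map_center_puigOf H.subtype_injective,
    ← Subgroup.map_sup]
  exact NormalIn.map_subtype _

/-- **BG B.4(a)** (`Puig_factorisation`). -/
theorem t6_2a (hodd : Odd (Nat.card H)) (hsol : Group.IsSolvable H) (hP : SylowOf p P H) :
    piCoreOf {p}ᶜ H ⊔ (H ⊓ 𝐍(𝐙(puigOf P))) = H := by
  obtain ⟨S, rfl⟩ := sylowOf_iff_exists.1 hP
  have h := congrArg (Subgroup.map H.subtype) (pPrimeCore_sup_normalizer_center_puigOf hodd S)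
  rwa [Subgroup.map_sup, ← top_inf_eq 𝐍(_), map_inf_norm H.subtype_injective,
    map_center_puigOf H.subtype_injective, ← MonoidHom.range_eq_map, range_subtype,
    ← piCoreOf_compl_singleton hp.out] at h

/-- **BG B.4(b)** (`Puig_center_normal`). -/
theorem t6_2b (hodd : Odd (Nat.card H)) (hsol : Group.IsSolvable H) (hP : SylowOf p P H)
    (hO : piCoreOf {p}ᶜ H = ⊥) : 𝐙(puigOf P) ⊴ H := by
  have h := t6_2 hodd hsol hP
  rwa [hO, bot_sup_eq] at h

end

end CL.BG
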