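import Cfsg.Agent.BG.A7_Core
import Cfsg.Agent.BG.Core
import Cfsg.Agent.BG.Fit
import Cfsg.Agent.BG.T6_1

/-!
# Consequences of BG 6.2 and the "maximal intersection" argument
-/

namespace CL.BG

open Cfsg

variable {G : Type*} [Group G] [Finite G] {p : ℕ} [hp : Fact p.Prime] {H P A M : Subgroup G}

theorem a8_norm_puig (hG : IsMinSimpleOddOrder G) (hM : IsCoatom M) (hP : SylowOf p P M)
    (hO : piCoreOf {p}ᶜ M = ⊥) (hne : P ≠ ⊥) : 𝐍(𝐙(puigOf P)) = M :=
  mmax_normal hG hM (t6_2b (mFT_odd hG M) (mmax_sol hG hM) hP hO)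
    (center_puigOf_ne_bot (nil_of_isPGroup hP.isPGroup) hne)

theorem a8_core_eq_bot_of_fit (hsol : Group.IsSolvable H) (hF : IsPGroup p (fittingOf H)) :
    piCoreOf {p}ᶜ H = ⊥ := by
  refine eq_bot_of_fit_eq_bot (solvable_of_le hsol (pco_le _ _)) ?_
  rw [fit_core]
  exact piCoreOf_compl_eq_bot ((piGrp_singleton_iff hp.out).2 hF)

/-- The "maximal intersection" argument: to prove `ℳ(A) = {M}` for a `p`-subgroup `A` it
suffices to consider maximal subgroups `H` having a Sylow subgroup `R ≥ A` with `N(R) ≤ M`. -/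
theorem uniqMax_of_sylow_step (hG : IsMinSimpleOddOrder G) (hM : IsCoatom M) (hAM : A ≤ M)
    (hA : IsPGroup p A) (hne : A ≠ ⊥) (hN : ∀ S, SylowOf p S M → A ≤ S → 𝐍(S) ≤ M)
    (hstep : ∀ H R : Subgroup G, IsCoatom H → A ≤ R → SylowOf p R H → 𝐍(R) ≤ M → H = M) :
    UniqMax A M := by
  have key : ∀ R : Subgroup G, A ≤ R → R ≤ M → IsPGroup p R →
      ∀ H : Subgroup G, IsCoatom H → R ≤ H → H = M := by
    intro R
    induction R using subgroup_induction_gt with
    | ih R ih =>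
    intro hAR hRM hR H hH hRH
    obtain ⟨R', hR', hle⟩ := sylow_superset hR (le_inf hRH hRM)
    rcases hle.eq_or_lt with rfl | hlt
    swap
    · exact ih R' hlt (hAR.trans hle) (hR'.hall.le.trans inf_le_right) hR'.isPGroup H hH
        (hR'.hall.le.trans inf_le_left)
    have hNR : 𝐍(R) ≤ M := by
      obtain ⟨S, hS, hRS⟩ := sylow_superset hR hRM
      rcases hRS.eq_or_lt with rfl | hlt
      · exact hN R hS hAR
      · have h1 := lt_inf_norm_of_isPGroup hS.isPGroup hlt
        obtain ⟨L, hL, hNL⟩ := mmax_exists (mFT_norm_pgroup_ne_top hG hR (ne_bot_of_le hne hAR))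
        rw [← ih _ h1 (hAR.trans h1.le) (inf_le_left.trans hS.hall.le)
          (hS.isPGroup.to_le inf_le_left) L hL (inf_le_right.trans hNL)]
        exact hNL
    exact hstep H R hH hAR (hR'.of_norm_le inf_le_left (inf_le_inf_left _ hNR)) hNR
  exact ⟨hM, hAM, fun L hL hAL => key A le_rfl hAM hA L hL hAL⟩

end CL.BG
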