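import Cfsg.Agent.BG.T1_9
import Cfsg.Agent.BG.Nil

set_option autoImplicit false
open Cfsg Subgroup

namespace CL.BG
variable {G : Type*} [Group G] [Finite G]

/-- BG 1.10 (`coprime_nil_faithful_cent_stab`). -/
theorem t1_10 {A H : Subgroup G} (hA : A ≤ 𝐍(H)) (hcop : (Nat.card H).Coprime (Nat.card A))
    (hH : Group.IsNilpotent H) (h : H ⊓ 𝐂(H ⊓ 𝐂(A)) ≤ H ⊓ 𝐂(A)) : A ≤ 𝐂(H) := by
  set C := H ⊓ 𝐂(A) with hC
  have hAC : A ≤ 𝐂(C) := cent_symm inf_le_right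
  have hAN : A ≤ 𝐍(H ⊓ 𝐍(C)) := norms_inf_norm hA (le_norm_of_le_cent hAC)
  have h1 : ⁅⁅H ⊓ 𝐍(C), A⁆, C⁆ = ⊥ := by
    refine commutator_commutator_eq_bot_of_rotate ?_ ?_
    · rw [commutator_eq_bot_iff'.2 hAC, commutator_bot_left]
    · exact commutator_eq_bot_iff''.2
        (hAC.trans (cent_anti (commutator_le_left_of_norm inf_le_right)))
  have h2 : ⁅H ⊓ 𝐍(C), A⁆ ≤ C :=
    (le_inf ((commutator_le_left_of_norm hAN).trans inf_le_left)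
      (commutator_eq_bot_iff'.1 h1)).trans h
  have h3 : A ≤ 𝐂(H ⊓ 𝐍(C)) :=
    t1_9 (le_inf inf_le_left (le_norm_self C)) hAC h2 (coprime_card_mono hcop inf_le_left le_rfl)
  have h4 : C = H := nil_eq_of_norm_le hH inf_le_left (le_inf inf_le_left (cent_symm h3))
  exact h4 ▸ hAC

end CL.BG
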