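import Cfsg.Agent.BG.Prod

set_option autoImplicit false
open Cfsg Subgroup

namespace CL.BG
variable {G : Type*} [Group G] [Finite G]

/-- a normal complement to a Sylow subgroup is the `p'`-core -/
theorem sdp_core_of_sdp_sylow {p : ℕ} {K S H : Subgroup G} (hS : SylowOf p S H) (h : SDP K S H) :
    SDP (piCoreOf {p}ᶜ H) S H := by
  rwa [← (h.hall_left_of_right hS).eq_piCoreOf h.le_norm]

/-- BG 1.18 (`Burnside_normal_complement`). -/
theorem t1_18 {p : ℕ} [Fact p.Prime] {S H : Subgroup G} (hS : SylowOf p S H)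
    (h : H ⊓ 𝐍(S) ≤ 𝐂(S)) : SDP (piCoreOf {p}ᶜ H) S H := by
  obtain ⟨P, rfl⟩ := sylowOf_iff_exists.1 hS
  have h1 : normalizer ((P : Subgroup H) : Set H) ≤ centralizer ((P : Subgroup H) : Set H) := by
    rw [← map_le_cent_map_iff H.subtype_injective]
    exact (le_inf (map_subtype_le _) (map_le_norm_map le_rfl _)).trans h
  exact sdp_core_of_sdp_sylow hS (sdp_map_subtype (MonoidHom.ker_transferSylow_isComplement' P h1))

end CL.BG
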