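import Cfsg.Agent.BG.T7_5
import Cfsg.Agent.BG.A7_Rank
import Cfsg.Agent.BG.Fit
import Cfsg.Agent.BG.Prod
import Cfsg.Agent.BG.T1_5s
import Cfsg.Agent.BG.T1_6
import Cfsg.Agent.BG.T1_9
import Cfsg.Agent.BG.T1_10
import Cfsg.Agent.BG.T1_18

/-!
# The Thompson transitivity theorem for groups with `p`-constrained `p`-local subgroups
-/

namespace CL.BG

open Cfsg

variable {G : Type*} [Group G] [Finite G]

/-- Transitivity on `И*(E; q)` from the assumption that `E`-invariant `p'`-subgroups of the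
centralisers of elements of `E` lie in the `p'`-core. -/
theorem transOn_of_core_cent1 {π : Set ℕ} {E K : Subgroup G} (hE : PiGrp π E)
    (hEc : IsMulCommutative E) (h3 : 3 ≤ rank E)
    (hK : ∀ Y : Subgroup G, Y ≤ 𝐂(E) → PiGrp πᶜ Y → Y ≤ K) (hKC : K ≤ 𝐂(E))
    (hloc : ∀ a ∈ E, (orderOf a).Prime → ∃ L : Subgroup G, PiGrp πᶜ L ∧ E ≤ 𝐍(L) ∧
      ∀ Y : Subgroup G, Y ≤ 𝐂₁(a) → PiGrp πᶜ Y → E ≤ 𝐍(Y) → Y ≤ L)
    {q : ℕ} [Fact q.Prime] (hq : q ∉ π) : TransOn K E q := by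
  obtain ⟨p, hp, B, hB⟩ := le_rank_iff.1 h3
  have hsol : Group.IsSolvable E := solvable_of_comm hEc
  suffices key : ∀ n, ∀ Q₁ ∈ maxInvSubgroups ⊤ E {q}, ∀ Q₂ ∈ maxInvSubgroups ⊤ E {q},
      Nat.card G - Nat.card ↥(Q₁ ⊓ Q₂) < n → ∃ k ∈ K, Q₂ = cj k Q₁ from
    fun Q₁ h₁ Q₂ h₂ => key _ Q₁ h₁ Q₂ h₂ (Nat.lt_succ_self _)
  intro n
  induction n with
  | zero => intro _ _ _ _ h; omega
  | succ n ih =>
  intro Q₁ h₁ Q₂ h₂ hn
  by_cases heq : Q₂ = Q₁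
  · exact ⟨1, one_mem _, by rw [cj_one, heq]⟩
  have hp₁ := maxInv_isPGroup h₁
  have hp₂ := maxInv_isPGroup h₂
  set D := Q₁ ⊓ Q₂ with hD
  have hED : E ≤ 𝐍(D) := norms_inf (maxInv_norm h₁) (maxInv_norm h₂)
  have hDp : IsPGroup q D := hp₁.to_le inf_le_left
  have hlt₁ : D < Q₁ := inf_lt_left.2 fun h => heq (maxInv_max h₁ hp₂ (maxInv_norm h₂) h)
  have hlt₂ : D < Q₂ :=
    inf_lt_right.2 fun h => heq (maxInv_max h₂ hp₁ (maxInv_norm h₁) h).symm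
  have hN₁ := lt_inf_norm_of_isPGroup hp₁ hlt₁
  have hN₂ := lt_inf_norm_of_isPGroup hp₂ hlt₂
  have hcop : ∀ Q : Subgroup G, IsPGroup q Q → ∀ C : Subgroup G, C ≤ B →
      (Nat.card Q).Coprime (Nat.card C) := fun Q hQ C hC =>
    (piGrp_compl_of_isPGroup hQ hq).coprime' (hE.of_le (hC.trans hB.le))
  have hE₁ : E ≤ 𝐍(Q₁ ⊓ 𝐍(D)) := norms_inf_norm (maxInv_norm h₁) hED
  have hE₂ : E ≤ 𝐍(Q₂ ⊓ 𝐍(D)) := norms_inf_norm (maxInv_norm h₂) hED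
  have : ∃ C : Subgroup G, C ≤ B ∧ p ^ 2 ∣ Nat.card C ∧ ¬ Q₁ ⊓ 𝐍(D) ⊓ 𝐂(C) ≤ D := by
    by_contra hcon
    push Not at hcon
    exact hN₁.not_ge (a7_le_of_hyperplanes (n := 2) hp hB.elem (by rw [hB.card])
      (hB.le.trans hE₁) (hcop _ (hp₁.to_le inf_le_left) _ le_rfl) hcon)
  obtain ⟨C, hCB, hC, hne₁⟩ := this
  have hCe := CL.EA.mono hB.elem hCB
  have : ∃ a ∈ C, a ≠ 1 ∧ ¬ Q₂ ⊓ 𝐍(D) ⊓ 𝐂₁(a) ≤ D := by
    by_contra hcon
    push Not at hcon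
    exact hN₂.not_ge (a7_le_of_cent1 hCe.1 (a7_not_isCyclic hp hCe hC)
      ((hCB.trans hB.le).trans hE₂) (hcop _ (hp₂.to_le inf_le_left) _ hCB) hcon)
  obtain ⟨a, ha, ha1, hne₂⟩ := this
  replace hne₁ : ¬ Q₁ ⊓ 𝐍(D) ⊓ 𝐂₁(a) ≤ D :=
    fun h => hne₁ ((inf_le_inf_left _ (cent_le_cent1 ha)).trans h)
  have haE : a ∈ E := hB.le (hCB ha)
  obtain ⟨L, hL, hEL, hle⟩ := hloc a haE (hB.orderOf_eq hp (hCB ha) ha1 ▸ hp)
  have hEa : E ≤ 𝐍(𝐂₁(a)) := norms_cent1 ((le_cent_of_comm hEc).trans (cent_le_cent1 haE))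
  have hEK : E ≤ 𝐍(L ⊓ 𝐍(D)) := norms_inf_norm hEL hED
  have hcop' : (Nat.card ↥(L ⊓ 𝐍(D))).Coprime (Nat.card E) := (hL.inf_left _).coprime' hE
  have hsyl : ∀ Q : Subgroup G, IsPGroup q Q → E ≤ 𝐍(Q ⊓ 𝐍(D)) →
      ∃ S, SylowOf q S (L ⊓ 𝐍(D)) ∧ E ≤ 𝐍(S) ∧ Q ⊓ 𝐍(D) ⊓ 𝐂₁(a) ≤ S := by
    intro Q hQ hn
    have h1 : IsPGroup q ↥(Q ⊓ 𝐍(D) ⊓ 𝐂₁(a)) := hQ.to_le (inf_le_left.trans inf_le_left)
    exact t1_5b_sylow hEK hcop' (Or.inr hsol) (le_inf (hle _ inf_le_right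
      (piGrp_compl_of_isPGroup h1 hq) (norms_inf hn hEa)) (inf_le_left.trans inf_le_right)) h1
      (norms_inf hn hEa)
  obtain ⟨S₁, hS₁, hn₁, hle₁⟩ := hsyl Q₁ hp₁ hE₁
  obtain ⟨S₂, hS₂, hn₂, hle₂⟩ := hsyl Q₂ hp₂ hE₂
  obtain ⟨c, hc, e⟩ := t1_5c_sylow hEK hcop' (Or.inr hsol) hS₁ hn₁ hS₂ hn₂
  have hcK : c ∈ K := hK _ inf_le_right ((hL.inf_left _).inf_left _) hc
  have hcD : cj c D = D := cj_eq_of_mem_norm hc.1.2
  obtain ⟨R, hR, hDR⟩ := maxInv_exists_p (Y := D ⊔ S₂) (isPGroup_sup_of_norm hDp hS₂.isPGroup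
    (Or.inl (hS₂.hall.le.trans inf_le_right))) (norms_sup hED hn₂)
  have hc₁ : D < cj c Q₁ ⊓ R := by
    refine lt_of_le_not_ge (le_inf (hcD ▸ cj_mono c hlt₁.le) (le_sup_left.trans hDR)) fun h => ?_
    apply hne₁
    rw [← cj_le_cj_iff (g := c), hcD]
    refine le_trans (le_inf (cj_mono c (inf_le_left.trans inf_le_left)) ?_) h
    exact (cj_mono c hle₁).trans (e ▸ le_sup_right.trans hDR)
  have hc₂ : D < R ⊓ Q₂ := by
    refine lt_of_le_not_ge (le_inf (le_sup_left.trans hDR) hlt₂.le) fun h => hne₂ ?_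
    exact le_trans (le_inf (hle₂.trans (le_sup_right.trans hDR)) (inf_le_left.trans inf_le_left)) h
  have hb₁ : Nat.card ↥(cj c Q₁ ⊓ R) ≤ Nat.card G := Subgroup.card_le_card_group _
  have hb₂ : Nat.card ↥(R ⊓ Q₂) ≤ Nat.card G := Subgroup.card_le_card_group _
  have hc₁' := card_lt_of_lt hc₁
  have hc₂' := card_lt_of_lt hc₂
  obtain ⟨k₁, hk₁, e₁⟩ := ih _ (maxInv_top_cj_of_mem_norm (cent_le_norm E (hKC hcK)) h₁) R hR
    (by omega)
  obtain ⟨k₂, hk₂, e₂⟩ := ih R hR Q₂ h₂ (by omega)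
  exact ⟨k₂ * k₁ * c, mul_mem (mul_mem hk₂ hk₁) hcK, by rw [e₂, e₁, cj_cj, cj_cj]⟩

omit [Finite G] in
theorem a9_three_subgroup {A B C K : Subgroup G} [K.Normal]
    (h1 : ⁅⁅B, C⁆, A⁆ ≤ K) (h2 : ⁅⁅C, A⁆, B⁆ ≤ K) : ⁅⁅A, B⁆, C⁆ ≤ K := by
  rw [← QuotientGroup.ker_mk' K, ← Subgroup.map_eq_bot_iff] at *
  simp only [Subgroup.map_commutator] at *
  exact Subgroup.commutator_commutator_eq_bot_of_rotate h1 h2

/-- The class two case of the Thompson-Bender lemma, for groups of characteristic `p`. -/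
theorem tb_class_two_aux {p : ℕ} [hp : Fact p.Prime] (hc : 𝐂(pCore p G) ≤ pCore p G)
    {S E Y : Subgroup G} (hS : SylowOf p S ⊤) (h2 : ⁅S, S⁆ ≤ 𝐂(S)) (hES : E ≤ S)
    (hEc : IsMulCommutative E) (hE : S ⊓ 𝐂(E) ≤ E) (hY : PiGrp {p}ᶜ Y) (hn : E ≤ 𝐍(Y)) :
    Y = ⊥ := by
  rw [← piCoreOf_singleton_top hp.out] at hc
  set P := piCoreOf {p} (⊤ : Subgroup G) with hP
  have hPp : IsPGroup p P := pco_isPGroup p _
  have hPπ : PiGrp {p} P := pco_pi _ _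
  have hPn : ∀ X : Subgroup G, X ≤ 𝐍(P) := fun X => le_top.trans (pco_normal _ _).norm
  have hPS : P ≤ S := hS.hall.piCoreOf_le
  have htriv : ∀ W : Subgroup G, W ≤ Y → W ≤ 𝐂(P) → W = ⊥ := fun W h1 h2 =>
    (hY.of_le h1).eq_bot (piGrp_compl_compl.2 (hPπ.of_le (h2.trans hc)))
  have h1 : P ⊓ E ≤ 𝐂(Y) := by
    rw [← commutator_eq_bot_iff', eq_bot_iff, ← hPπ.inf_eq_bot hY]
    exact le_inf ((Subgroup.commutator_mono inf_le_left le_rfl).trans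
      (commutator_le_left_of_norm (hPn Y))) (commutator_le_right_of_norm (inf_le_right.trans hn))
  have hZn : ∀ X : Subgroup G, X ≤ 𝐍(𝐙(P)) := fun X => norms_center (hPn X)
  have h3 : Y ≤ 𝐂(𝐙(P)) := by
    rw [← commutator_eq_bot_iff'']
    by_contra h0
    have hle : ⁅𝐙(P), Y⁆ ≤ P := (commutator_le_left_of_norm (hZn Y)).trans inf_le_left
    refine pgroup_inf_cent_ne_bot (hPp.to_le hle) (hS.isPGroup.to_le hES)
      (norms_commutator (hZn E) hn) h0 (eq_bot_iff.2 ?_)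
    rw [← t1_6d_TI (hZn Y) ((hPπ.inf_left _).coprime hY) (comm_center P)]
    exact le_inf inf_le_left (le_trans (le_inf (inf_le_left.trans hle)
      ((inf_le_inf_right _ (hle.trans hPS)).trans hE)) h1)
  have h4 : ⁅P, E⁆ ≤ 𝐙(P) := by
    have : ⁅P, E⁆ ≤ 𝐂(P) := ((Subgroup.commutator_mono hPS hES).trans h2).trans (cent_anti hPS)
    exact le_inf (this.trans hc) this
  have hYE : ⁅Y, E⁆ ≤ Y := commutator_le_left_of_norm hn
  have h5 : ⁅Y, E⁆ = ⊥ := by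
    haveI : (𝐙(P)).Normal := NormalIn.normal_of_top ⟨le_top, hZn ⊤⟩
    refine htriv _ hYE (t1_9 inf_le_left (hYE.trans h3) ?_ (hPπ.coprime (hY.of_le hYE)))
    rw [Subgroup.commutator_comm]
    refine a9_three_subgroup ?_ ?_
    · rw [Subgroup.commutator_comm E P]
      exact (Subgroup.commutator_mono h4 le_rfl).trans (commutator_le_left_of_norm (hZn Y))
    · exact (Subgroup.commutator_mono (commutator_le_left_of_norm (hPn Y)) le_rfl).trans h4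
  have h6 : Y ≤ 𝐂(E) := commutator_eq_bot_iff'.1 h5
  have hH : P ⊔ E ≤ S := sup_le hPS hES
  have hEC : E ≤ (P ⊔ E) ⊓ 𝐂(Y) := le_inf le_sup_right (cent_symm h6)
  refine htriv Y le_rfl (le_trans (t1_10 (norms_sup (hPn Y) (le_norm_of_le_cent h6))
    ((hS.hall.pi.of_le hH).coprime hY) (nil_of_isPGroup (hS.isPGroup.to_le hH)) ?_)
    (cent_anti le_sup_left))
  exact (inf_le_inf hH (cent_anti hEC)).trans (hE.trans hEC)

theorem tb_class_two_top {p : ℕ} [hp : Fact p.Prime] (hG : IsPConstrained p G)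
    {S E Y : Subgroup G} (hS : SylowOf p S ⊤) (h2 : ⁅S, S⁆ ≤ 𝐂(S)) (hES : E ≤ S)
    (hEc : IsMulCommutative E) (hE : ∀ x ∈ 𝐂(E), PiElt {p} x → x ∈ E) (hY : PiGrp {p}ᶜ Y)
    (hn : E ≤ 𝐍(Y)) : Y ≤ pPrimeCore p G := by
  set f := QuotientGroup.mk' (pPrimeCore p G) with hf
  have hsurj : Function.Surjective f := QuotientGroup.mk'_surjective _
  have hk : (Nat.card f.ker).Coprime p := by
    rw [hf, QuotientGroup.ker_mk']; exact CL.pPrimeCore_coprime p G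
  have hS' : SylowOf p (S.map f) ⊤ := by
    have := hS.hall.map f
    rwa [← MonoidHom.range_eq_map, MonoidHom.range_eq_top.2 hsurj] at this
  rw [← QuotientGroup.ker_mk' (pPrimeCore p G), ← Subgroup.map_eq_bot_iff]
  refine tb_class_two_aux (CL.PL.isPConstrained_iff.1 hG) hS'
    (by rw [← Subgroup.map_commutator]; exact map_le_cent_map h2 f) (Subgroup.map_mono hES)
    (comm_map hEc f) ?_ (hY.map f) (map_le_norm_map hn f)
  rintro x ⟨hx, hx'⟩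
  rw [← CL.PL.map_centralizer_eq f hsurj hk (hS.isPGroup.to_le hES)] at hx'
  obtain ⟨c, hc, rfl⟩ := hx'
  rw [← piPart_eq_self (hS'.hall.pi.piElt hx), ← map_piPart]
  exact Subgroup.mem_map_of_mem f (hE _ (piPart_mem _ hc) (piElt_piPart _ _))

/-- The class two case of the Thompson-Bender lemma in ambient form. -/
theorem tb_class_two_in {p : ℕ} [hp : Fact p.Prime] {X E Y : Subgroup G}
    (hX : IsPConstrained p X) (h2 : ∀ S : Subgroup G, IsPGroup p S → ⁅S, S⁆ ≤ 𝐂(S))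
    (hEX : E ≤ X) (hEp : IsPGroup p E) (hEc : IsMulCommutative E)
    (hE : ∀ x ∈ 𝐂(E), PiElt {p} x → x ∈ E) (hY : Y ≤ X) (hπ : PiGrp {p}ᶜ Y) (hn : E ≤ 𝐍(Y)) :
    Y ≤ piCoreOf {p}ᶜ X := by
  have hinj := X.subtype_injective
  have eE : (E.subgroupOf X).map X.subtype = E := Subgroup.map_subgroupOf_eq_of_le hEX
  have eY : (Y.subgroupOf X).map X.subtype = Y := Subgroup.map_subgroupOf_eq_of_le hY
  obtain ⟨S, hS, hES⟩ := sylow_superset ((isPGroup_map_iff hinj).1 (eE.symm ▸ hEp)) le_top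
  have := tb_class_two_top hX hS ((map_le_cent_map_iff hinj).1 (by
      rw [Subgroup.map_commutator]; exact h2 _ (hS.isPGroup.map _))) hES
    ((comm_map_iff hinj).1 (eE.symm ▸ hEc)) (fun x hx ho => by
      rw [Subgroup.mem_subgroupOf]
      refine hE x (mem_cent.2 fun a ha => ?_) (ho.map X.subtype)
      exact congrArg Subtype.val (mem_cent.1 hx ⟨a, hEX ha⟩ ha))
    (hπ.subgroupOf X) ((map_le_norm_map_iff hinj).1 (by rwa [eE, eY]))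
  rw [piCoreOf_compl_singleton hp.out, ← eY]
  exact Subgroup.map_mono this

/-- Thompson's transitivity theorem for groups all of whose `p`-local subgroups are
`p`-constrained. -/
theorem thompson_transitivity {p : ℕ} [hp : Fact p.Prime]
    (hloc : ∀ T : Subgroup G, IsPGroup p T → T ≠ ⊥ → IsPConstrained p 𝐍(T))
    (h2 : p ≠ 2 ∨ ∀ S : Subgroup G, IsPGroup p S → ⁅S, S⁆ ≤ 𝐂(S))
    {E : Subgroup G} (hEp : IsPGroup p E) (hEc : IsMulCommutative E) (h3 : 3 ≤ rank E)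
    (hE : ∀ x ∈ 𝐂(E), PiElt {p} x → x ∈ E) {q : ℕ} [Fact q.Prime] (hqp : q ≠ p) :
    TransOn (piCoreOf {p}ᶜ 𝐂(E)) E q := by
  have hEπ : PiGrp {p} E := (piGrp_singleton_iff hp.out).2 hEp
  have hSyl : SylowOf p E 𝐂(E) := sylowOf_of_maximal hEp (le_cent_of_comm hEc)
    fun R hR _ hRC x hx => hE x (hRC hx) (((piGrp_singleton_iff hp.out).2 hR).piElt hx)
  have hH : Hall {p}ᶜ (piCoreOf {p}ᶜ 𝐂(E)) 𝐂(E) :=
    (t1_18 hSyl inf_le_left).hall_left (pco_pi _ _) (piGrp_compl_compl.2 hEπ)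
  refine transOn_of_core_cent1 hEπ hEc h3 (fun Y hY hπ => le_piCoreOf_of_hall hH hY hπ)
    (pco_le _ _) (fun a ha ho => ?_) hqp
  have hne : Subgroup.zpowers a ≠ ⊥ := by
    rw [Ne, Subgroup.zpowers_eq_bot]
    rintro rfl
    rw [orderOf_one] at ho
    exact Nat.not_prime_one ho
  have haE : Subgroup.zpowers a ≤ E := Subgroup.zpowers_le.2 ha
  have hX := hloc _ (hEp.to_le haE) hne
  have hEX : E ≤ 𝐍(Subgroup.zpowers a) := (NormalIn.of_comm hEc haE).norm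
  refine ⟨piCoreOf {p}ᶜ 𝐍(Subgroup.zpowers a), pco_pi _ _, pco_norms _ (le_norm_of_le hEX),
    fun Y hY hπ hn => ?_⟩
  have hY' : Y ≤ 𝐍(Subgroup.zpowers a) := le_norm_of_le_cent (by rwa [cent_zpowers])
  rcases h2 with h2 | h2
  · exact thompson_bender_in h2 hX hEX hEp hEc
      (fun x _ hx ho => hE x hx ((piElt_iff_of_orderOf_prime hp.out ho).2 rfl)) hY' hπ hn
  · exact tb_class_two_in hX h2 hEX hEp hEc hE hY' hπ hn

end CL.BG
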