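import Cfsg.Agent.Base

/-!
Bender-Glauberman, Appendix C: the field-theoretic Lemmas C.1 and C.2.
-/

set_option autoImplicit false

namespace CL.BG.AppC

open Polynomial Finset

/-- Lemma C.1, power form. -/
theorem lemmaC1 {F : Type*} [Field F] (p q : ℕ) [hp : Fact p.Prime] [CharP F p] (hq : 0 < q)
    (n : ℕ) (hn : n = ∑ i ∈ range q, p ^ i)
    (hinv : ∀ a : F, a ^ n = 1 → (2 - a) ^ n = 1 → (2 - a⁻¹) ^ n = 1)
    (a : F) (ha1 : a ≠ 1) (ha : a ^ n = 1) (ha2 : (2 - a) ^ n = 1) : p ≤ q := by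
  have hn0 : n ≠ 0 := by
    rw [hn]
    exact (Finset.sum_pos (fun i _ => pow_pos hp.out.pos i) ⟨0, Finset.mem_range.2 hq⟩).ne'
  set h : ℕ → F := fun k => (1 - a) * k + 1 with hh
  have key : ∀ k : ℕ, h k ^ n = 1 ∧ h (k + 1) ^ n = 1 ∧ (2 - h (k + 1) / h k) ^ n = 1 := by
    intro k
    induction k with
    | zero =>
      have e0 : h 0 = 1 := by simp [hh]
      have e1 : h (0 + 1) = 2 - a := by simp [hh]; ring
      rw [e0, e1]
      refine ⟨one_pow _, ha2, ?_⟩
      rw [div_one, sub_sub_cancel]; exact ha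
    | succ k ih =>
      obtain ⟨h0, h1, h2⟩ := ih
      have hk0 : h k ≠ 0 := by
        intro h0'; rw [h0', zero_pow hn0] at h0; exact zero_ne_one h0
      have hk1 : h (k + 1) ≠ 0 := by
        intro h0'; rw [h0', zero_pow hn0] at h1; exact zero_ne_one h1
      have hb : (h (k + 1) / h k) ^ n = 1 := by rw [div_pow, h0, h1, div_one]
      have h3 := hinv _ hb h2
      have e : 2 - (h (k + 1) / h k)⁻¹ = h (k + 1 + 1) / h (k + 1) := by
        rw [inv_div, eq_div_iff hk1, sub_mul, div_mul_cancel₀ _ hk1]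
        simp only [hh]; push_cast; ring
      refine ⟨h1, ?_, ?_⟩
      · rw [e, div_pow, h1, div_one] at h3; exact h3
      · rw [← e, sub_sub_cancel, inv_pow, hb, inv_one]
  have hc : (1 - a) ≠ 0 := sub_ne_zero.2 ha1.symm
  set f : F[X] := ∏ i ∈ range q, (C ((1 - a) ^ p ^ i) * X + C 1) with hf
  have hfdeg : f.natDegree = q := by
    rw [hf, natDegree_prod]
    · rw [Finset.sum_congr rfl (g := fun _ => 1)]
      · simp
      · intro i _
        exact natDegree_linear (pow_ne_zero _ hc)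
    · intro i _ h0
      have := natDegree_linear (b := (1 : F)) (pow_ne_zero (p ^ i) hc)
      rw [h0] at this
      simp at this
  have hfdeg' : (f - C 1).natDegree = q := by rw [natDegree_sub_C, hfdeg]
  have hf0 : f - C 1 ≠ 0 := by
    intro h0; rw [h0] at hfdeg'; simp at hfdeg'; omega
  have hroot : ∀ k : ℕ, (f - C 1).IsRoot (k : F) := by
    intro k
    have := (key k).1
    rw [hn, ← Finset.prod_pow_eq_pow_sum] at this
    rw [IsRoot, eval_sub, eval_C, sub_eq_zero, hf, eval_prod]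
    refine Eq.trans ?_ this
    refine Finset.prod_congr rfl fun i _ => ?_
    simp only [hh, eval_add, eval_mul, eval_C, eval_X]
    rw [add_pow_char_pow, mul_pow, one_pow]
    congr 2
    have := map_natCast (iterateFrobenius F p i) k
    rw [iterateFrobenius_def] at this
    exact this.symm
  classical
  have hsub : (range p).image (fun k : ℕ => (k : F)) ⊆ (f - C 1).roots.toFinset := by
    intro x hx
    obtain ⟨k, _, rfl⟩ := Finset.mem_image.1 hx
    rw [Multiset.mem_toFinset, mem_roots hf0]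
    exact hroot k
  have hcard : ((range p).image (fun k : ℕ => (k : F))).card = p := by
    rw [Finset.card_image_of_injOn, card_range]
    intro x hx y hy hxy
    exact CharP.natCast_injOn_Iio F p (by simpa using hx) (by simpa using hy) hxy
  calc p = _ := hcard.symm
    _ ≤ _ := Finset.card_le_card hsub
    _ ≤ _ := Multiset.toFinset_card_le _
    _ ≤ _ := card_roots' _
    _ = q := hfdeg'

/-- A Jacobi sum of characters that are not both trivial has absolute value at most `√#F`. -/
theorem norm_jacobiSum_sq_le {F : Type*} [Field F] [Fintype F] (χ φ : MulChar F ℂ)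
    (h : χ ≠ 1 ∨ φ ≠ 1) : ‖jacobiSum χ φ‖ ^ 2 ≤ Fintype.card F := by
  classical
  have h1 : (1 : ℝ) ≤ Fintype.card F := by exact_mod_cast Fintype.card_pos
  by_cases hχ : χ = 1
  · have hφ : φ ≠ 1 := by tauto
    rw [hχ, jacobiSum_one_nontrivial hφ]; simpa using h1
  by_cases hφ : φ = 1
  · rw [hφ, jacobiSum_comm, jacobiSum_one_nontrivial hχ]; simpa using h1
  by_cases hχφ : χ * φ = 1
  · have : φ = χ⁻¹ := (eq_inv_of_mul_eq_one_right hχφ)
    rw [this, jacobiSum_nontrivial_inv hχ, norm_neg, ← norm_pow, ← map_pow]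
    simpa using h1
  have hchar : ringChar ℂ ≠ ringChar F := by
    rw [ringChar.eq_zero]
    exact (CharP.ringChar_ne_zero_of_finite F).symm
  have := jacobiSum_mul_jacobiSum_inv hchar hχ hφ hχφ
  have hstar : jacobiSum χ⁻¹ φ⁻¹ = star (jacobiSum χ φ) := by
    simp only [jacobiSum, star_sum, star_mul', MulChar.star_apply']
  rw [hstar] at this
  have h2 := congrArg norm this
  rw [norm_mul, norm_star, ← sq] at h2
  rw [h2]; simp

/-- The character `χ ∘ N` of `F`. -/
noncomputable def normChar {F : Type*} [Field F] (p : ℕ) [Fact p.Prime] [Algebra (ZMod p) F]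
    [Finite F] (χ : MulChar (ZMod p) ℂ) : MulChar F ℂ where
  toMonoidHom := χ.toMonoidHom.comp (Algebra.norm (ZMod p))
  map_nonunit' := by
    intro a ha
    have : a = 0 := by simpa using ha
    simp [this, MulChar.map_zero]

theorem normChar_apply {F : Type*} [Field F] (p : ℕ) [Fact p.Prime] [Algebra (ZMod p) F]
    [Finite F] (χ : MulChar (ZMod p) ℂ) (a : F) :
    normChar p χ a = χ (Algebra.norm (ZMod p) a) := rfl

theorem sum_two_sub {F : Type*} [Field F] [Fintype F] (h2 : (2 : F) ≠ 0) (χ φ : MulChar F ℂ) :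
    ∑ a : F, χ a * φ (2 - a) = χ 2 * φ 2 * jacobiSum χ φ := by
  rw [jacobiSum, Finset.mul_sum, ← Equiv.sum_comp (Equiv.mulLeft₀ (2 : F) h2)]
  refine Finset.sum_congr rfl fun x _ => ?_
  have : (2 : F) - 2 * x = 2 * (1 - x) := by ring
  simp only [Equiv.mulLeft₀_apply, this, map_mul]; ring

theorem norm_mulChar_le {F : Type*} [Field F] [Finite F] (χ : MulChar F ℂ) (a : F) : ‖χ a‖ ≤ 1 := by
  by_cases ha : a = 0
  · simp [ha, MulChar.map_zero]
  · have := Fintype.ofFinite F
    classical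
    have h := MulChar.apply_mem_rootsOfUnity (Units.mk0 a ha) (χ := χ)
    rw [mem_rootsOfUnity] at h
    have h' : (χ a) ^ Fintype.card Fˣ = 1 := by
      have := congrArg (Units.val) h
      simpa using this
    exact (Complex.norm_eq_one_of_pow_eq_one h' Fintype.card_ne_zero).le

/-- Lemma C.2 for large fields. -/
theorem lemmaC2_large {F : Type*} [Field F] [Fintype F] (p : ℕ) [hp : Fact p.Prime]
    [Algebra (ZMod p) F] (hp2 : p ≠ 2) (hF : p ^ 4 ≤ Fintype.card F) :
    ∃ a : F, a ≠ 1 ∧ Algebra.norm (ZMod p) a = 1 ∧ Algebra.norm (ZMod p) (2 - a) = 1 := by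
  classical
  by_contra hcon
  push Not at hcon
  have : CharP F p := by rw [← Algebra.charP_iff (ZMod p) F p]; exact ZMod.charP p
  have h2 : (2 : F) ≠ 0 := by
    intro h
    have := (CharP.cast_eq_zero_iff F p 2).1 (by exact_mod_cast h)
    exact hp2 ((Nat.prime_dvd_prime_iff_eq hp.out Nat.prime_two).1 this)
  have : NeZero p := ⟨hp.out.ne_zero⟩
  have hsum : ∀ x : ZMod p, ∑ χ : DirichletCharacter ℂ p, χ x = if x = 1 then ((p - 1 : ℕ) : ℂ) else 0 := by
    intro x
    rw [DirichletCharacter.sum_characters_eq, Nat.totient_prime hp.out]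
  have hcardD : Fintype.card (DirichletCharacter ℂ p) = p - 1 := by
    rw [Fintype.card_eq_nat_card, DirichletCharacter.card_eq_totient_of_hasEnoughRootsOfUnity,
      Nat.totient_prime hp.out]
  set T : DirichletCharacter ℂ p × DirichletCharacter ℂ p → ℂ :=
    fun c => ∑ a : F, normChar p c.1 a * normChar p c.2 (2 - a) with hT
  have hS : ∑ c, T c = ((p - 1 : ℕ) : ℂ) ^ 2 := by
    simp only [hT]
    rw [Finset.sum_comm]
    have : ∀ a : F, ∑ c : DirichletCharacter ℂ p × DirichletCharacter ℂ p,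
        normChar p c.1 a * normChar p c.2 (2 - a) = if a = 1 then ((p - 1 : ℕ) : ℂ) ^ 2 else 0 := by
      intro a
      rw [Fintype.sum_prod_type]
      simp only [normChar_apply]
      rw [← Finset.sum_mul_sum, hsum, hsum]
      by_cases ha : a = 1
      · have : (2 : F) - 1 = 1 := by ring
        simp [ha, this, sq]
      · rw [if_neg ha]
        by_cases h1 : Algebra.norm (ZMod p) a = 1
        · rw [if_neg (hcon a ha h1), mul_zero]
        · rw [if_neg h1, zero_mul]
    simp [this]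
  set r : ℝ := Real.sqrt (Fintype.card F) with hr
  have hr2 : r ^ 2 = Fintype.card F := Real.sq_sqrt (by positivity)
  have hr0 : 0 ≤ r := Real.sqrt_nonneg _
  have hQ2 : (2 : ℝ) ≤ Fintype.card F := by exact_mod_cast Fintype.one_lt_card
  have hone : ∀ c : DirichletCharacter ℂ p × DirichletCharacter ℂ p,
      normChar (F := F) p c.1 = 1 → normChar (F := F) p c.2 = 1 →
        (T c).re = Fintype.card F - 2 := by
    intro c h1 h2'
    simp only [hT]
    rw [sum_two_sub h2, h1, h2', jacobiSum_one_one, MulChar.one_apply (IsUnit.mk0 _ h2)]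
    simp
  have hlow : ∀ c, -r ≤ (T c).re := by
    intro c
    by_cases hc : normChar (F := F) p c.1 ≠ 1 ∨ normChar (F := F) p c.2 ≠ 1
    · have h1 := norm_jacobiSum_sq_le _ _ hc
      have h3 : ‖jacobiSum (normChar (F := F) p c.1) (normChar p c.2)‖ ≤ r :=
        Real.le_sqrt_of_sq_le h1
      have h4 : ‖T c‖ ≤ r := by
        simp only [hT]
        rw [sum_two_sub h2, norm_mul, norm_mul]
        have a1 := norm_mulChar_le (normChar (F := F) p c.1) 2
        have a2 := norm_mulChar_le (normChar (F := F) p c.2) 2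
        calc _ ≤ 1 * 1 * r := by gcongr
          _ = r := by ring
      have := Complex.abs_re_le_norm (T c)
      have := neg_abs_le (T c).re
      linarith
    · push Not at hc
      rw [hone c hc.1 hc.2]; linarith
  have h11 : (T (1, 1)).re = Fintype.card F - 2 := by
    apply hone <;>
    · apply MulChar.ext
      intro a
      rw [normChar_apply, MulChar.one_apply_coe, MulChar.one_apply]
      exact a.isUnit.map _
  have hre := congrArg Complex.re hS
  rw [Complex.re_sum, ← Finset.add_sum_erase _ _ (Finset.mem_univ (1, 1)), h11] at hre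
  have hb : ∑ c ∈ Finset.univ.erase ((1, 1) : DirichletCharacter ℂ p × DirichletCharacter ℂ p),
      (-r) ≤ ∑ c ∈ Finset.univ.erase (1, 1), (T c).re := Finset.sum_le_sum fun c _ => hlow c
  rw [Finset.sum_const, Finset.card_erase_of_mem (Finset.mem_univ _), Finset.card_univ,
    Fintype.card_prod, hcardD, nsmul_eq_mul] at hb
  have hp3 : 3 ≤ p := by have := hp.out.two_le; omega
  obtain ⟨m, rfl⟩ : ∃ m, p = m + 1 := ⟨p - 1, by omega⟩
  have hm : 2 ≤ m := by omega
  have hm1 : 1 ≤ m * m := by nlinarith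
  simp only [Nat.add_sub_cancel] at hb hre
  rw [Nat.cast_sub hm1] at hb
  have hre2 : (((m : ℕ) : ℂ) ^ 2).re = (m : ℝ) ^ 2 := by
    rw [← Nat.cast_pow, Complex.natCast_re]; push_cast; ring
  rw [hre2] at hre
  push_cast at hb
  have hmR : (2 : ℝ) ≤ m := by exact_mod_cast hm
  have hrp : ((m : ℝ) + 1) ^ 2 ≤ r := by
    apply Real.le_sqrt_of_sq_le
    have : (((m + 1) ^ 4 : ℕ) : ℝ) ≤ Fintype.card F := by exact_mod_cast hF
    push_cast at this
    nlinarith
  nlinarith

/-- The product of three distinct roots of a monic cubic. -/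
theorem cubic_roots {F : Type*} [Field F] {c r₁ r₂ r₃ : F}
    (h₁ : r₁ * (r₁ - 2) * (r₁ - c) + (r₁ - 1) = 0) (h₂ : r₂ * (r₂ - 2) * (r₂ - c) + (r₂ - 1) = 0)
    (h₃ : r₃ * (r₃ - 2) * (r₃ - c) + (r₃ - 1) = 0) (h12 : r₁ ≠ r₂) (h13 : r₁ ≠ r₃) (h23 : r₂ ≠ r₃) :
    r₁ * r₂ * r₃ = 1 ∧ (2 - r₁) * (2 - r₂) * (2 - r₃) = 1 := by
  have e12 : r₁ ^ 2 + r₁ * r₂ + r₂ ^ 2 - (2 + c) * (r₁ + r₂) + (2 * c + 1) = 0 := by
    apply mul_left_cancel₀ (sub_ne_zero.2 h12); linear_combination h₁ - h₂
  have e13 : r₁ ^ 2 + r₁ * r₃ + r₃ ^ 2 - (2 + c) * (r₁ + r₃) + (2 * c + 1) = 0 := by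
    apply mul_left_cancel₀ (sub_ne_zero.2 h13); linear_combination h₁ - h₃
  have e1 : r₁ + r₂ + r₃ = 2 + c := by
    apply mul_left_cancel₀ (sub_ne_zero.2 h23); linear_combination e12 - e13
  have e2 : r₁ * r₂ + r₁ * r₃ + r₂ * r₃ = 2 * c + 1 := by
    linear_combination (r₁ + r₂) * e1 - e12
  have e3 : r₁ * r₂ * r₃ = 1 := by
    linear_combination h₁ - r₁ ^ 2 * e1 + r₁ * e2
  exact ⟨e3, by linear_combination -4 * e1 + 2 * e2 - e3⟩

/-- Lemma C.2 for fields of order `p ^ 3`. -/
theorem lemmaC2_three {F : Type*} [Field F] [Fintype F] (p : ℕ) [hp : Fact p.Prime]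
    [Algebra (ZMod p) F] (hp2 : p ≠ 2) (hF : Fintype.card F = p ^ 3) :
    ∃ a : F, a ≠ 1 ∧ a ^ (1 + p + p ^ 2) = 1 ∧ (2 - a) ^ (1 + p + p ^ 2) = 1 := by
  classical
  have : CharP F p := by rw [← Algebra.charP_iff (ZMod p) F p]; exact ZMod.charP p
  have : NeZero p := ⟨hp.out.ne_zero⟩
  have h2 : (2 : ZMod p) ≠ 0 := by
    intro h
    have := (CharP.cast_eq_zero_iff (ZMod p) p 2).1 (by exact_mod_cast h)
    exact hp2 ((Nat.prime_dvd_prime_iff_eq hp.out Nat.prime_two).1 this)
  obtain ⟨c, hc⟩ : ∃ c : ZMod p, ∀ d : ZMod p, d * (d - 2) * (d - c) + (d - 1) ≠ 0 := by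
    by_contra hcon
    push Not at hcon
    set g : ZMod p → ZMod p := fun d => d + (d - 1) / (d * (d - 2)) with hg
    have hsub : (Finset.univ : Finset (ZMod p)) ⊆ (Finset.univ.erase 0).image g := by
      intro c _
      obtain ⟨d, hd⟩ := hcon c
      have hd0 : d ≠ 0 := by rintro rfl; simp at hd
      have hd2 : d - 2 ≠ 0 := by
        intro h; rw [h] at hd
        have : d = 2 := sub_eq_zero.1 h
        rw [this] at hd; norm_num at hd
      refine Finset.mem_image.2 ⟨d, by simp [hd0], ?_⟩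
      simp only [hg]
      field_simp
      linear_combination hd
    have h1 := Finset.card_le_card hsub
    have h3 := Finset.card_image_le (s := (Finset.univ.erase (0 : ZMod p))) (f := g)
    rw [Finset.card_erase_of_mem (Finset.mem_univ _)] at h3
    have := Fintype.card_pos (α := ZMod p)
    rw [Finset.card_univ] at h1 h3
    omega
  set f : (ZMod p)[X] := X * (X - C 2) * (X - C c) + (X - C 1) with hf
  have hdeg : f.natDegree = 3 := by rw [hf]; compute_degree!
  have hf0 : f ≠ 0 := by intro h; rw [h] at hdeg; simp at hdeg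
  have hirr : Irreducible f := by
    rw [irreducible_iff_roots_eq_zero_of_degree_le_three (by omega) (by omega)]
    rw [Multiset.eq_zero_iff_forall_notMem]
    intro d hd
    rw [mem_roots hf0, IsRoot, hf] at hd
    apply hc d
    simpa using hd
  have : Fact (Irreducible f) := ⟨hirr⟩
  have hrank : Module.finrank (ZMod p) (AdjoinRoot f) ∣ Module.finrank (ZMod p) F := by
    rw [(AdjoinRoot.powerBasis hf0).finrank, AdjoinRoot.powerBasis_dim, hdeg]
    have := FiniteField.pow_finrank_eq_card p F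
    rw [hF] at this
    rw [Nat.pow_right_injective hp.out.two_le this]
  obtain ⟨φ⟩ := FiniteField.nonempty_algHom_of_finrank_dvd hrank
  set a : F := φ (AdjoinRoot.root f) with ha
  have hroot : aeval a f = 0 := by
    rw [ha, aeval_algHom_apply, AdjoinRoot.aeval_eq, AdjoinRoot.mk_self, map_zero]
  set c' : F := algebraMap (ZMod p) F c with hc'
  have hr : a * (a - 2) * (a - c') + (a - 1) = 0 := by
    rw [hf] at hroot
    simpa [map_ofNat] using hroot
  have hc'p : c' ^ p = c' := by rw [hc', ← map_pow, ZMod.pow_card]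
  have h2p : (2 : F) ^ p = 2 := by
    have := map_ofNat (frobenius F p) 2
    rwa [frobenius_def] at this
  have hfrob : ∀ x : F, x * (x - 2) * (x - c') + (x - 1) = 0 →
      x ^ p * (x ^ p - 2) * (x ^ p - c') + (x ^ p - 1) = 0 := by
    intro x hx
    have := congrArg (frobenius F p) hx
    simpa only [map_add, map_mul, map_sub, map_zero, map_one, frobenius_def, hc'p, h2p] using this
  have hne : a ≠ a ^ p := by
    intro h
    obtain ⟨k, hk⟩ := (mem_bot_iff_intCast p F).1 ((Subfield.mem_bot_iff_pow_eq_self F p).2 h.symm)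
    apply hc (k : ZMod p)
    apply (algebraMap (ZMod p) F).injective
    simp only [map_add, map_mul, map_sub, map_intCast, map_ofNat, map_one, map_zero, hk]
    exact hr
  have hinj : ∀ x y : F, x ^ p = y ^ p → x = y := fun x y h => frobenius_inj F p h
  have hppp : ((a ^ p) ^ p) ^ p = a := by
    rw [← pow_mul, ← pow_mul, show p * (p * p) = p ^ 3 by ring, ← hF, FiniteField.pow_card]
  have h23 : a ^ p ≠ (a ^ p) ^ p := fun h => hne (hinj _ _ h)
  have h13 : a ≠ (a ^ p) ^ p := by
    intro h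
    apply hne
    rw [← h] at hppp
    exact hppp.symm
  obtain ⟨e1, e2⟩ := cubic_roots hr (hfrob _ hr) (hfrob _ (hfrob _ hr)) hne h13 h23
  refine ⟨a, fun h => hne (by rw [h, one_pow]), ?_, ?_⟩
  · rw [← e1]; ring
  · rw [← e2, pow_add, pow_add, pow_one, sq, pow_mul, sub_pow_char, sub_pow_char, h2p, h2p]

theorem geom_eq {p q : ℕ} (hp : 2 ≤ p) : (p ^ q - 1) / (p - 1) = ∑ i ∈ range q, p ^ i :=
  (Nat.geomSum_eq hp q).symm

theorem norm_eq_one_iff {F : Type*} [Field F] [Finite F] (p q : ℕ) [hp : Fact p.Prime]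
    [Algebra (ZMod p) F] (hF : Nat.card F = p ^ q) (x : F) :
    Algebra.norm (ZMod p) x = 1 ↔ x ^ ((p ^ q - 1) / (p - 1)) = 1 := by
  have := FiniteField.algebraMap_norm_eq_pow (K := ZMod p) (x := x)
  rw [hF, Nat.card_zmod] at this
  rw [← this, ← (algebraMap (ZMod p) F).injective.eq_iff, map_one]

/-- Lemma C.2, power form. -/
theorem lemmaC2 {F : Type*} [Field F] [Fintype F] (p q : ℕ) [hp : Fact p.Prime] [CharP F p]
    (hp2 : p ≠ 2) (hq : 3 ≤ q) (hF : Fintype.card F = p ^ q) :
    ∃ a : F, a ≠ 1 ∧ a ^ ((p ^ q - 1) / (p - 1)) = 1 ∧ (2 - a) ^ ((p ^ q - 1) / (p - 1)) = 1 := by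
  let : Algebra (ZMod p) F := ZMod.algebra F p
  rcases hq.eq_or_lt with h | h
  · subst h
    rw [geom_eq hp.out.two_le]
    have : ∑ i ∈ range 3, p ^ i = 1 + p + p ^ 2 := by simp [Finset.sum_range_succ]
    rw [this]
    exact lemmaC2_three p hp2 hF
  · obtain ⟨a, h1, h2, h3⟩ := lemmaC2_large (F := F) p hp2
      (by rw [hF]; exact Nat.pow_le_pow_right hp.out.pos h)
    have hF' : Nat.card F = p ^ q := by rw [Nat.card_eq_fintype_card, hF]
    exact ⟨a, h1, (norm_eq_one_iff p q hF' _).1 h2, (norm_eq_one_iff p q hF' _).1 h3⟩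

end CL.BG.AppC
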