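import Cfsg.Agent.Base

/-!
Bender-Glauberman, Appendix C: the group-theoretic Lemma C.3.
-/

set_option autoImplicit false

namespace CL.BG.AppC

/-- The cancellation argument in the abelian group `Q`, written additively. -/
theorem periodic_cancel {A : Type*} [AddCommGroup A] (p : ℕ) (Y : ℤ → A)
    (hper : ∀ r, Y (r + p) = Y r) (htor : ∀ z : A, p • z = 0 → z = 0) (i j : ℤ)
    (hrel : ∀ m : ℤ, -Y (i + j + 2 + m) + Y (i + j + 1 + m) + -Y (1 + m) + Y m =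
      -Y (i + 2 + m) + Y (i + m)) :
    Y 0 + Y (i + j + 1) = Y i + Y (i + 1) := by
  set T : ℤ → A := fun r => ∑ m ∈ Finset.range p, Y (r + m) with hT
  have hT1 : ∀ r, T (r + 1) = T r := by
    intro r
    have h1 := Finset.sum_range_succ (fun m : ℕ => Y (r + m)) p
    have h2 := Finset.sum_range_succ' (fun m : ℕ => Y (r + m)) p
    rw [h1, hper] at h2
    simp only [Nat.cast_zero, add_zero, add_left_inj] at h2
    simp only [hT]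
    rw [h2]
    refine Finset.sum_congr rfl fun m _ => ?_
    congr 1; push_cast; ring
  have hT0 : ∀ r, T r = T 0 := by
    intro r
    induction r using Int.induction_on with
    | zero => rfl
    | succ n ih => rw [hT1, ih]
    | pred n ih => rw [← ih, ← hT1 (-(n : ℤ) - 1)]; congr 1; ring
  set Z : ℕ → A := fun m => Y (0 + m) + Y (i + j + 1 + m) - Y (i + m) - Y (i + 1 + m) with hZ
  have hZ0 : ∀ m, Z m = Z 0 := by
    intro m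
    induction m with
    | zero => rfl
    | succ m ih =>
      rw [← ih]
      have := hrel m
      simp only [hZ]
      push_cast
      rw [show (0 : ℤ) + (m + 1) = 1 + m by ring, show i + j + 1 + (m + 1) = i + j + 2 + m by ring,
        show i + (m + 1) = i + 1 + m by ring, show i + 1 + (m + 1) = i + 2 + m by ring, zero_add]
      linear_combination (norm := abel) -this
  have hsum : ∑ m ∈ Finset.range p, Z m = 0 := by
    simp only [hZ, Finset.sum_sub_distrib, Finset.sum_add_distrib]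
    change T 0 + T (i + j + 1) - T i - T (i + 1) = 0
    rw [hT0 (i + j + 1), hT0 i, hT0 (i + 1)]; abel
  rw [Finset.sum_congr rfl (fun m _ => hZ0 m), Finset.sum_const, Finset.card_range] at hsum
  have := htor _ hsum
  simp only [hZ, Nat.cast_zero, add_zero] at this
  linear_combination (norm := abel) this

/-- The hypotheses of Lemma C.3 (conjugation written on the right). -/
structure Hyp {G F : Type*} [Group G] [Field F] (p n : ℕ) (P U Q : Subgroup G) (f ψ : G → F)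
    (s y : G) : Prop where
  prime : p.Prime
  odd : Odd p
  char : CharP F p
  cop : n.Coprime (p - 1)
  finj : Set.InjOn f P
  fadd : ∀ x ∈ P, ∀ z ∈ P, f (x * z) = f x + f z
  nPU : U ≤ Subgroup.normalizer (P : Set G)
  fconj : ∀ u ∈ U, ∀ x ∈ P, f (u⁻¹ * x * u) = ψ u * f x
  ψmul : ∀ u ∈ U, ∀ v ∈ U, ψ (u * v) = ψ u * ψ v
  ψinj : Set.InjOn ψ U
  ψpow : ∀ u ∈ U, ψ u ^ n = 1
  split : ∀ z : F, z ≠ 0 → ∃ u ∈ U, ∃ k : ℤ, z = ψ u * k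
  Une : ∃ u ∈ U, u ≠ 1
  Qcomm : IsMulCommutative Q
  Qtor : ∀ x ∈ Q, x ^ p = 1 → x = 1
  sP : s ∈ P
  fs : f s = 1
  nQs : s ∈ Subgroup.normalizer (Q : Set G)
  yQ : y ∈ Q
  nUt : y⁻¹ * s * y ∈ Subgroup.normalizer (U : Set G)

namespace Hyp

variable {G F : Type*} [Group G] [Field F] {p n : ℕ} {P U Q : Subgroup G} {f ψ : G → F} {s y : G}
  (h : Hyp p n P U Q f ψ s y)
include h

theorem conjP {u x : G} (hu : u ∈ U) (hx : x ∈ P) : u⁻¹ * x * u ∈ P := by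
  have := (Subgroup.mem_normalizer_iff.1 (h.nPU (U.inv_mem hu)) x).1 hx
  simpa using this

theorem f_one : f 1 = 0 := by
  have := h.fadd 1 P.one_mem 1 P.one_mem
  rw [mul_one] at this
  exact left_eq_add.1 this

theorem f_inv {x : G} (hx : x ∈ P) : f x⁻¹ = -f x := by
  have := h.fadd x hx x⁻¹ (P.inv_mem hx)
  rw [mul_inv_cancel, h.f_one] at this
  linear_combination -this

theorem f_zpow {x : G} (hx : x ∈ P) (k : ℤ) : f (x ^ k) = k * f x := by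
  induction k using Int.induction_on with
  | zero => simp [h.f_one]
  | succ k ih => rw [zpow_add_one, h.fadd _ (P.zpow_mem hx _) _ hx, ih]; push_cast; ring
  | pred k ih =>
    rw [zpow_sub_one, h.fadd _ (P.zpow_mem hx _) _ (P.inv_mem hx), ih, h.f_inv hx]; push_cast; ring

theorem f_s (k : ℤ) : f (s ^ k) = k := by rw [h.f_zpow h.sP, h.fs, mul_one]

theorem eq_one_of_f {x : G} (hx : x ∈ P) (h0 : f x = 0) : x = 1 :=
  h.finj hx P.one_mem (h0.trans h.f_one.symm)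

theorem Pcomm {x z : G} (hx : x ∈ P) (hz : z ∈ P) : x * z = z * x :=
  h.finj (P.mul_mem hx hz) (P.mul_mem hz hx) (by rw [h.fadd _ hx _ hz, h.fadd _ hz _ hx, add_comm])

theorem Ppow {x : G} (hx : x ∈ P) : x ^ p = 1 := by
  have := h.char
  apply h.eq_one_of_f (P.pow_mem hx _)
  rw [← zpow_natCast, h.f_zpow hx]
  simp

theorem ψ_one : ψ 1 = 1 := by
  have := h.fconj 1 U.one_mem s h.sP
  simpa [h.fs] using this.symm

theorem ψ_ne {u : G} (hu : u ∈ U) : ψ u ≠ 0 := by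
  have := h.ψmul u hu u⁻¹ (U.inv_mem hu)
  rw [mul_inv_cancel, h.ψ_one] at this
  exact left_ne_zero_of_mul_eq_one this.symm

theorem ψ_pow {u : G} (hu : u ∈ U) (k : ℕ) : ψ (u ^ k) = ψ u ^ k := by
  induction k with
  | zero => simp [h.ψ_one]
  | succ k ih => rw [pow_succ, h.ψmul _ (U.pow_mem hu _) _ hu, ih, pow_succ]

theorem eq_one_of_ψ {u : G} (hu : u ∈ U) (h1 : ψ u = 1) : u = 1 :=
  h.ψinj hu U.one_mem (h1.trans h.ψ_one.symm)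

theorem Ucomm {u v : G} (hu : u ∈ U) (hv : v ∈ U) : u * v = v * u :=
  h.ψinj (U.mul_mem hu hv) (U.mul_mem hv hu) (by rw [h.ψmul _ hu _ hv, h.ψmul _ hv _ hu, mul_comm])

theorem tiPU {x : G} (hx : x ∈ P) (hu : x ∈ U) : x = 1 := by
  apply h.eq_one_of_ψ hu
  have := h.fconj x hu s h.sP
  rw [mul_assoc, h.Pcomm h.sP hx, inv_mul_cancel_left, h.fs, mul_one] at this
  exact this.symm

theorem tiPQ {x : G} (hx : x ∈ P) (hq : x ∈ Q) : x = 1 := h.Qtor x hq (h.Ppow hx)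

theorem eq_one_of_pow_p {u : G} (hu : u ∈ U) (h1 : ψ u ^ p = ψ u) : u = 1 := by
  apply h.eq_one_of_ψ hu
  have h2 : ψ u ^ (p - 1) = 1 := by
    apply mul_right_cancel₀ (h.ψ_ne hu)
    rw [← pow_succ, Nat.sub_add_cancel h.prime.pos, h1, one_mul]
  have := pow_gcd_eq_one.2 ⟨h.ψpow u hu, h2⟩
  rwa [h.cop, pow_one] at this

theorem intCast_pow (k : ℤ) : (k : F) ^ p = k := by
  have := h.char
  have : Fact p.Prime := ⟨h.prime⟩
  have := map_intCast (frobenius F p) k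
  rwa [frobenius_def] at this

/-- Step 2. -/
theorem step2 {u : G} (hu : u ∈ U) {i j : ℤ} (hi : s ^ i ≠ 1) (hU : s ^ i * u * s ^ j ∈ U) :
    u = 1 ∧ s ^ (i + j) = 1 := by
  have := h.char
  have : Fact p.Prime := ⟨h.prime⟩
  have hsi := P.zpow_mem h.sP i
  have hsj := P.zpow_mem h.sP j
  have h1 : u⁻¹ * s ^ i * u * s ^ j = 1 := by
    apply h.tiPU (P.mul_mem (h.conjP hu hsi) hsj)
    have := U.mul_mem (U.inv_mem hu) hU
    simpa only [mul_assoc] using this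
  have h2 := congrArg f h1
  rw [h.fadd _ (h.conjP hu hsi) _ hsj, h.fconj _ hu _ hsi, h.f_s, h.f_s, h.f_one] at h2
  have hi0 : (i : F) ≠ 0 := fun h0 => hi (h.eq_one_of_f hsi (by rw [h.f_s, h0]))
  have h3 : ψ u = ((-j : ℤ) : F) / i := by
    rw [eq_div_iff hi0]; push_cast; linear_combination h2
  have hu1 : u = 1 := by
    apply h.eq_one_of_pow_p hu
    rw [h3, div_pow, h.intCast_pow, h.intCast_pow]
  refine ⟨hu1, ?_⟩
  rw [hu1] at h1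
  simpa [zpow_add] using h1

theorem decomp {x : G} (hx : x ∈ P ⊔ U) : ∃ z ∈ P, ∃ u ∈ U, x = z * u := by
  have : x ∈ ((P ⊔ U : Subgroup G) : Set G) := hx
  rw [Subgroup.coe_mul_of_right_le_normalizer_left P U h.nPU] at this
  obtain ⟨z, hz, u, hu, rfl⟩ := this
  exact ⟨z, hz, u, hu, rfl⟩

theorem exists_conj {x z : G} (hx : x ∈ P) (hx1 : x ≠ 1) (hz : z ∈ P) :
    ∃ u ∈ U, ∃ k : ℤ, z = u⁻¹ * x ^ k * u := by
  by_cases hz1 : z = 1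
  · exact ⟨1, U.one_mem, 0, by simp [hz1]⟩
  have hfx : f x ≠ 0 := fun h0 => hx1 (h.eq_one_of_f hx h0)
  have hfz : f z ≠ 0 := fun h0 => hz1 (h.eq_one_of_f hz h0)
  obtain ⟨u, hu, k, hk⟩ := h.split (f z / f x) (div_ne_zero hfz hfx)
  refine ⟨u, hu, k, h.finj hz (h.conjP hu (P.zpow_mem hx k)) ?_⟩
  rw [h.fconj _ hu _ (P.zpow_mem hx k), h.f_zpow hx, ← mul_assoc, ← hk, div_mul_cancel₀ _ hfx]

theorem s_ne_one : s ≠ 1 := by
  intro h1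
  have := h.fs
  rw [h1, h.f_one] at this
  exact zero_ne_one this

theorem s_sq_ne_one : s ^ (2 : ℤ) ≠ 1 := by
  intro h1
  obtain ⟨k, hk⟩ := h.odd
  have := h.Ppow h.sP
  rw [hk, pow_succ, pow_mul, ← zpow_natCast s 2, Nat.cast_ofNat, h1, one_pow, one_mul] at this
  exact h.s_ne_one this

/-- Step 1. -/
theorem step1 {x : G} (hx : x ∈ P ⊔ U) : ∃ u ∈ U, ∃ v ∈ U, ∃ k : ℤ, x = u * s ^ k * v := by
  obtain ⟨z, hz, w, hw, rfl⟩ := h.decomp hx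
  obtain ⟨u, hu, k, rfl⟩ := h.exists_conj h.sP h.s_ne_one hz
  exact ⟨u⁻¹, U.inv_mem hu, u * w, U.mul_mem hu hw, k, by group⟩

theorem mem_P_of_pow {x : G} (hx : x ∈ P ⊔ U) (hp : x ^ p = 1) : x ∈ P := by
  have := h.char
  have : Fact p.Prime := ⟨h.prime⟩
  obtain ⟨z, hz, w, hw, rfl⟩ := h.decomp hx
  have key : ∀ k : ℕ, ∃ z' ∈ P, (z * w) ^ k = z' * w ^ k := by
    intro k
    induction k with
    | zero => exact ⟨1, P.one_mem, by simp⟩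
    | succ k ih =>
      obtain ⟨z', hz', e⟩ := ih
      refine ⟨z' * ((w ^ k)⁻¹⁻¹ * z * (w ^ k)⁻¹), P.mul_mem hz'
        (h.conjP (U.inv_mem (U.pow_mem hw k)) hz), ?_⟩
      rw [pow_succ, e, pow_succ]; group
  obtain ⟨z', hz', e⟩ := key p
  rw [hp] at e
  have h1 : w ^ p = 1 := by
    apply h.tiPU _ (U.pow_mem hw p)
    rw [eq_inv_of_mul_eq_one_right e.symm]
    exact P.inv_mem hz'
  have h2 : w = 1 := by
    apply h.eq_one_of_ψ hw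
    apply frobenius_inj F p
    rw [frobenius_def, map_one, ← h.ψ_pow hw, h1, h.ψ_one]
  rw [h2, mul_one]; exact hz

theorem conjQ {x : G} (hx : x ∈ Q) (k : ℤ) : (s ^ k)⁻¹ * x * s ^ k ∈ Q := by
  have h1 := (Subgroup.normalizer (Q : Set G)).inv_mem ((Subgroup.normalizer (Q : Set G)).zpow_mem h.nQs k)
  have := (Subgroup.mem_normalizer_iff.1 h1 x).1 hx
  simpa using this

theorem conjU {u : G} (hu : u ∈ U) (k : ℤ) :
    (y⁻¹ * s * y) ^ k * u * ((y⁻¹ * s * y) ^ k)⁻¹ ∈ U :=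
  (Subgroup.mem_normalizer_iff.1 ((Subgroup.normalizer (U : Set G)).zpow_mem h.nUt k) u).1 hu

theorem Qcomm' {x z : G} (hx : x ∈ Q) (hz : z ∈ Q) : x * z = z * x := by
  have := h.Qcomm
  exact congrArg Subtype.val (mul_comm' (⟨x, hx⟩ : Q) ⟨z, hz⟩)

omit h in
theorem t_zpow (k : ℤ) : (y⁻¹ * s * y) ^ k = y⁻¹ * s ^ k * y := by
  have := conj_zpow (i := k) (a := y⁻¹) (b := s)
  simpa using this

/-- Step 3. -/
theorem step3 {k : ℤ} (hk : s ^ k ≠ 1) {x : G} (hx : x ∈ P ⊔ U)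
    (hx' : (y⁻¹ * s * y) ^ k * x * ((y⁻¹ * s * y) ^ k)⁻¹ ∈ P ⊔ U) : x ∈ U := by
  obtain ⟨z, hz, w, hw, rfl⟩ := h.decomp hx
  by_cases hz1 : z = 1
  · rw [hz1, one_mul]; exact hw
  exfalso
  have hU : ∀ u ∈ U, (y⁻¹ * s * y) ^ k * u * ((y⁻¹ * s * y) ^ k)⁻¹ ∈ U := fun u hu => h.conjU hu k
  have ht := t_zpow (s := s) (y := y) k
  set τ := (y⁻¹ * s * y) ^ k with hτ
  have hle : U ≤ P ⊔ U := le_sup_right
  have h1 : τ * z * τ⁻¹ ∈ P ⊔ U := by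
    have := (P ⊔ U).mul_mem hx' ((P ⊔ U).inv_mem (hle (hU w hw)))
    convert this using 1; group
  have hσ := P.zpow_mem h.sP k
  obtain ⟨u, hu, i, e⟩ := h.exists_conj hz hz1 hσ
  have h2 : τ * s ^ k * τ⁻¹ ∈ P ⊔ U := by
    have := (P ⊔ U).mul_mem ((P ⊔ U).mul_mem ((P ⊔ U).inv_mem (hle (hU u hu)))
      ((P ⊔ U).zpow_mem h1 i)) (hle (hU u hu))
    convert this using 1
    rw [e, conj_zpow]; group
  have h3 : τ * s ^ k * τ⁻¹ ∈ P := by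
    apply h.mem_P_of_pow h2
    rw [conj_pow, h.Ppow hσ]; group
  have h4 : τ * s ^ k * τ⁻¹ * (s ^ k)⁻¹ = 1 := by
    apply h.tiPQ (P.mul_mem h3 (P.inv_mem hσ))
    have := Q.mul_mem (Q.mul_mem (Q.mul_mem (Q.inv_mem h.yQ) (h.conjQ h.yQ (-k)))
      (h.conjQ (Q.inv_mem h.yQ) (-(2 * k)))) (h.conjQ h.yQ (-k))
    convert this using 1
    rw [ht]; group
  have h5 : Commute (s ^ k)⁻¹ τ := by
    have : τ * s ^ k = s ^ k * τ := by
      calc τ * s ^ k = (τ * s ^ k * τ⁻¹ * (s ^ k)⁻¹) * (s ^ k * τ) := by group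
        _ = s ^ k * τ := by rw [h4, one_mul]
    exact (Commute.symm this).inv_left
  have h6 : (s ^ k)⁻¹ * τ = 1 := by
    apply h.Qtor
    · have := Q.mul_mem (h.conjQ (Q.inv_mem h.yQ) k) h.yQ
      convert this using 1
      rw [ht]; group
    · rw [h5.mul_pow, inv_pow, h.Ppow hσ, ht]
      have := conj_pow (i := p) (a := y⁻¹) (b := s ^ k)
      rw [inv_inv, h.Ppow hσ] at this
      rw [this]; group
  have h7 : τ = s ^ k := (inv_mul_eq_one.1 h6).symm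
  obtain ⟨u', hu', hu1⟩ := h.Une
  have h8 := hU u' hu'
  rw [h7, ← zpow_neg] at h8
  exact hu1 (h.step2 hu' hk h8).1

theorem modP {c u v : G} (hc : c ∈ U) (hu : u ∈ U) (hv : v ∈ U) {m l k : ℤ}
    (e : s ^ m * c * s ^ l = u * s ^ k * v) : c = u * v := by
  have h1 : c⁻¹ * (u * v) = 1 := by
    apply h.tiPU _ (U.mul_mem (U.inv_mem hc) (U.mul_mem hu hv))
    have := P.mul_mem (P.mul_mem (h.conjP hc (P.zpow_mem h.sP m)) (P.zpow_mem h.sP l))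
      (P.inv_mem (h.conjP hv (P.zpow_mem h.sP k)))
    convert this using 1
    calc c⁻¹ * (u * v) = c⁻¹ * (u * s ^ k * v) * (v⁻¹ * s ^ k * v)⁻¹ := by group
      _ = _ := by rw [← e]; group
  exact inv_mul_eq_one.1 h1

theorem sUs_iff {u v : G} (hu : u ∈ U) (hv : v ∈ U) (m l k : ℤ) :
    s ^ m * (u * v) * s ^ l = u * s ^ k * v ↔ ψ (u * v) * m + l = ψ v * k := by
  have huv := U.mul_mem hu hv
  have hA := P.mul_mem (h.conjP huv (P.zpow_mem h.sP m)) (P.zpow_mem h.sP l)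
  have hB := h.conjP hv (P.zpow_mem h.sP k)
  have e1 : f ((u * v)⁻¹ * s ^ m * (u * v) * s ^ l) = ψ (u * v) * m + l := by
    rw [h.fadd _ (h.conjP huv (P.zpow_mem h.sP m)) _ (P.zpow_mem h.sP l),
      h.fconj _ huv _ (P.zpow_mem h.sP m), h.f_s, h.f_s]
  have e2 : f (v⁻¹ * s ^ k * v) = ψ v * k := by rw [h.fconj _ hv _ (P.zpow_mem h.sP k), h.f_s]
  rw [← e1, ← e2, h.finj.eq_iff hA hB]
  constructor
  · intro e
    calc (u * v)⁻¹ * s ^ m * (u * v) * s ^ l = (u * v)⁻¹ * (s ^ m * (u * v) * s ^ l) := by group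
      _ = _ := by rw [e]; group
  · intro e
    calc s ^ m * (u * v) * s ^ l = (u * v) * ((u * v)⁻¹ * s ^ m * (u * v) * s ^ l) := by group
      _ = _ := by rw [e]; group

theorem Upow {u v : G} (hu : u ∈ U) (hv : v ∈ U) (k : ℕ) : (u * v) ^ k = u ^ k * v ^ k :=
  Commute.mul_pow (h.Ucomm hu hv) k

theorem sUs_pow {c u v : G} (hc : c ∈ U) (hu : u ∈ U) (hv : v ∈ U) {m l k : ℤ}
    (e : s ^ m * c * s ^ l = u * s ^ k * v) : s ^ m * c ^ p * s ^ l = u ^ p * s ^ k * v ^ p := by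
  have := h.char
  have : Fact p.Prime := ⟨h.prime⟩
  have hcuv := h.modP hc hu hv e
  subst hcuv
  rw [h.sUs_iff hu hv] at e
  rw [h.Upow hu hv, h.sUs_iff (U.pow_mem hu p) (U.pow_mem hv p), ← h.Upow hu hv, h.ψ_pow hc,
    h.ψ_pow hv]
  have := congrArg (· ^ p) e
  simpa only [add_pow_char, mul_pow, h.intCast_pow] using this

theorem q_mem (i : ℤ) : (s ^ i)⁻¹ * (y⁻¹ * s * y) ^ i ∈ Q := by
  have := Q.mul_mem (h.conjQ (Q.inv_mem h.yQ) i) h.yQ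
  convert this using 1
  rw [t_zpow]; group

/-- The basic relation between the three double-coset decompositions. -/
theorem rel {a b t : G} (ht : t = y⁻¹ * s * y) (ha : a ∈ U) (hb : b ∈ U) (hab : ψ a + ψ b = 2) :
    (s ^ (3 : ℤ) * ((t ^ (2 : ℤ))⁻¹ * (a * b⁻¹) * t ^ (2 : ℤ)) * s ^ (-1 : ℤ)) * t⁻¹ *
      (s ^ (2 : ℤ) * (t⁻¹ * b * t) * s ^ (-3 : ℤ)) * t ^ (2 : ℤ) *
      (s ^ (1 : ℤ) * ((t ^ (3 : ℤ))⁻¹ * a⁻¹ * t ^ (3 : ℤ)) * s ^ (-2 : ℤ)) * t⁻¹ = 1 := by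
  have hs2 : a⁻¹ * s * a * (b⁻¹ * s * b) = s ^ (2 : ℤ) := by
    apply h.finj (P.mul_mem (h.conjP ha h.sP) (h.conjP hb h.sP)) (P.zpow_mem h.sP 2)
    rw [h.fadd _ (h.conjP ha h.sP) _ (h.conjP hb h.sP), h.fconj _ ha _ h.sP, h.fconj _ hb _ h.sP,
      h.f_s, h.fs]
    push_cast; linear_combination hab
  have q1 := h.q_mem 1
  have q2 := h.q_mem 2
  have q3 := h.q_mem 3
  rw [← ht] at q1 q2 q3
  have c12 := h.Qcomm' q1 q2
  have c13 := h.Qcomm' q1 q3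
  have c23 := h.Qcomm' q2 q3
  have hA : t⁻¹ = s ^ (2 : ℤ) * t ^ (-3 : ℤ) * s * t ^ (2 : ℤ) * s ^ (-3 : ℤ) := by
    calc t⁻¹ = s ^ (2 : ℤ) * (((s ^ (3 : ℤ))⁻¹ * t ^ (3 : ℤ))⁻¹ *
        (((s ^ (3 : ℤ))⁻¹ * t ^ (3 : ℤ)) * ((s ^ (2 : ℤ))⁻¹ * t ^ (2 : ℤ))) *
        ((s ^ (2 : ℤ))⁻¹ * t ^ (2 : ℤ))⁻¹) * (s ^ (2 : ℤ))⁻¹ * t⁻¹ := by group
      _ = _ := by rw [← c23]; group
  have hB : t⁻¹ = s * t ^ (-2 : ℤ) * s * t * s ^ (-2 : ℤ) := by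
    calc t⁻¹ = s * (((s ^ (2 : ℤ))⁻¹ * t ^ (2 : ℤ))⁻¹ *
        (((s ^ (2 : ℤ))⁻¹ * t ^ (2 : ℤ)) * ((s ^ (1 : ℤ))⁻¹ * t ^ (1 : ℤ))) *
        ((s ^ (1 : ℤ))⁻¹ * t ^ (1 : ℤ))⁻¹) * s⁻¹ * t⁻¹ := by group
      _ = _ := by rw [← c12]; group
  have hC : t ^ (2 : ℤ) = s ^ (3 : ℤ) * t⁻¹ * s ^ (-2 : ℤ) * t ^ (3 : ℤ) * s⁻¹ := by
    calc t ^ (2 : ℤ) = s ^ (3 : ℤ) * (((s ^ (1 : ℤ))⁻¹ * t ^ (1 : ℤ))⁻¹ *
        (((s ^ (1 : ℤ))⁻¹ * t ^ (1 : ℤ)) * ((s ^ (3 : ℤ))⁻¹ * t ^ (3 : ℤ))) *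
        ((s ^ (3 : ℤ))⁻¹ * t ^ (3 : ℤ))⁻¹) * (s ^ (3 : ℤ))⁻¹ * t ^ (2 : ℤ) := by group
      _ = _ := by rw [c13]; group
  calc _ = (s ^ (3 : ℤ) * ((t ^ (2 : ℤ))⁻¹ * (a * b⁻¹) * t ^ (2 : ℤ)) * s ^ (-1 : ℤ)) *
      (s * t ^ (-2 : ℤ) * s * t * s ^ (-2 : ℤ)) *
      (s ^ (2 : ℤ) * (t⁻¹ * b * t) * s ^ (-3 : ℤ)) *
      (s ^ (3 : ℤ) * t⁻¹ * s ^ (-2 : ℤ) * t ^ (3 : ℤ) * s⁻¹) *
      (s ^ (1 : ℤ) * ((t ^ (3 : ℤ))⁻¹ * a⁻¹ * t ^ (3 : ℤ)) * s ^ (-2 : ℤ)) *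
      (s ^ (2 : ℤ) * t ^ (-3 : ℤ) * s * t ^ (2 : ℤ) * s ^ (-3 : ℤ)) := by rw [← hA, ← hB, ← hC]
    _ = s ^ (3 : ℤ) * (t ^ (2 : ℤ))⁻¹ * (a * (b⁻¹ * s * b) * (s ^ (2 : ℤ))⁻¹ * a⁻¹ * s) *
      t ^ (2 : ℤ) * s ^ (-3 : ℤ) := by group
    _ = 1 := by rw [← hs2]; group

/-- The consequence of `t s^k t = s^j t² s^i` obtained by computing in `Q`. -/
theorem final_rel {t : G} (ht : t = y⁻¹ * s * y) {i j k : ℤ}
    (e : t * s ^ k * t = s ^ j * t ^ (2 : ℤ) * s ^ i) :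
    s ^ j * t ^ (i + 1) * (s ^ i)⁻¹ = t ^ (j + 1) := by
  have hcomm := h.Qcomm
  let Y : ℤ → Q := fun m => ⟨(s ^ m)⁻¹ * y * s ^ m, h.conjQ h.yQ m⟩
  have hY : ∀ m, (Y m : G) = (s ^ m)⁻¹ * y * s ^ m := fun m => rfl
  have e1 : t * s ^ k * t = s ^ (k + 2) * ((Y (k + 2))⁻¹ * Y (k + 1) * (Y 1)⁻¹ * Y 0 : Q) := by
    simp only [Subgroup.coe_mul, Subgroup.coe_inv, hY, ht]; group
  have e2 : s ^ j * t ^ (2 : ℤ) * s ^ i = s ^ (i + j + 2) * ((Y (i + 2))⁻¹ * Y i : Q) := by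
    simp only [Subgroup.coe_mul, Subgroup.coe_inv, hY, ht, t_zpow]; group
  have hk : s ^ k = s ^ (i + j) := by
    have h1 : (s ^ (i + j))⁻¹ * s ^ k = 1 := by
      apply h.tiPQ (P.mul_mem (P.inv_mem (P.zpow_mem h.sP _)) (P.zpow_mem h.sP _))
      have := (((Y (i + 2))⁻¹ * Y i) * ((Y (k + 2))⁻¹ * Y (k + 1) * (Y 1)⁻¹ * Y 0)⁻¹ : Q).2
      convert this using 1
      rw [e1, e2] at e
      rw [Subgroup.coe_mul, Subgroup.coe_inv]
      calc (s ^ (i + j))⁻¹ * s ^ k = (s ^ (i + j + 2))⁻¹ *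
          (s ^ (k + 2) * ((Y (k + 2))⁻¹ * Y (k + 1) * (Y 1)⁻¹ * Y 0 : Q)) *
          (((Y (k + 2))⁻¹ * Y (k + 1) * (Y 1)⁻¹ * Y 0 : Q) : G)⁻¹ := by group
        _ = _ := by rw [e]; group
    exact (inv_mul_eq_one.1 h1).symm
  rw [hk] at e
  have hrel : ∀ m : ℤ, (Y (i + j + 2 + m))⁻¹ * Y (i + j + 1 + m) * (Y (1 + m))⁻¹ * Y m =
      (Y (i + 2 + m))⁻¹ * Y (i + m) := by
    intro m
    apply Subtype.ext
    simp only [Subgroup.coe_mul, Subgroup.coe_inv, hY]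
    calc _ = (s ^ m)⁻¹ * (s ^ (i + j + 2))⁻¹ * (t * s ^ (i + j) * t) * s ^ m := by rw [ht]; group
      _ = _ := by rw [e, ht, t_zpow]; group
  have hper : ∀ r, Y (r + p) = Y r := by
    intro r
    apply Subtype.ext
    simp only [hY]
    rw [zpow_add, zpow_natCast, h.Ppow h.sP, mul_one]
  let _ : CommGroup Q := { (inferInstance : Group Q) with mul_comm := fun a b => mul_comm' a b }
  have := periodic_cancel (A := Additive Q) p (fun m => Additive.ofMul (Y m))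
    (fun r => by simp only [hper])
    (fun z hz => by
      have h1 : (Additive.toMul z) ^ p = 1 := by rw [← toMul_nsmul, hz]; rfl
      have h2 := h.Qtor _ (Additive.toMul z).2 (by simpa using congrArg Subtype.val h1)
      exact Additive.toMul.injective (Subtype.ext h2)) i j
    (fun m => by simpa only [ofMul_mul, ofMul_inv] using congrArg Additive.ofMul (hrel m))
  have h3 : Y 0 * Y (i + j + 1) = Y i * Y (i + 1) := by
    apply Additive.ofMul.injective; simpa only [ofMul_mul] using this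
  have h4 : (Y (i + 1))⁻¹ * Y 0 = (Y (i + j + 1))⁻¹ * Y i := by
    rw [inv_mul_eq_iff_eq_mul, mul_left_comm, eq_inv_mul_iff_mul_eq, mul_comm, h3, mul_comm]
  have h5 := congrArg Subtype.val h4
  simp only [Subgroup.coe_mul, Subgroup.coe_inv, hY] at h5
  calc s ^ j * t ^ (i + 1) * (s ^ i)⁻¹ = s ^ (i + j + 1) * (((s ^ (i + 1))⁻¹ * y * s ^ (i + 1))⁻¹ *
      ((s ^ (0 : ℤ))⁻¹ * y * s ^ (0 : ℤ))) * (s ^ i)⁻¹ := by rw [ht, t_zpow]; group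
    _ = _ := by rw [h5, ht, t_zpow]; group

theorem eq_one_of_pow_mul_inv {w : G} (hw : w ∈ U) (e : w ^ p = w) : w = 1 :=
  h.eq_one_of_pow_p hw (by rw [← h.ψ_pow hw, e])

/-- The main step of Lemma C.3. -/
theorem main_step {a b t : G} (ht : t = y⁻¹ * s * y) (ha : a ∈ U) (hb : b ∈ U)
    (hab : ψ a + ψ b = 2) :
    ∃ v ∈ U, ψ ((t ^ (3 : ℤ))⁻¹ * a⁻¹ * t ^ (3 : ℤ)) + ψ v = 2 := by
  have := h.char
  have : Fact p.Prime := ⟨h.prime⟩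
  have hU : ∀ (k : ℤ), ∀ u ∈ U, t ^ k * u * (t ^ k)⁻¹ ∈ U := fun k u hu => ht ▸ h.conjU hu k
  have hU' : ∀ (k : ℤ), ∀ u ∈ U, (t ^ k)⁻¹ * u * t ^ k ∈ U := fun k u hu => by
    simpa using hU (-k) u hu
  have hU1 : ∀ u ∈ U, t * u * t⁻¹ ∈ U := fun u hu => by simpa using hU 1 u hu
  have hU1' : ∀ u ∈ U, t⁻¹ * u * t ∈ U := fun u hu => by simpa using hU' 1 u hu
  have hleU : U ≤ P ⊔ U := le_sup_right
  have hs : ∀ k : ℤ, s ^ k ∈ P ⊔ U := fun k => (le_sup_left : P ≤ P ⊔ U) (P.zpow_mem h.sP k)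
  have hmem : ∀ (m l : ℤ), ∀ c ∈ U, s ^ m * c * s ^ l ∈ P ⊔ U := fun m l c hc =>
    (P ⊔ U).mul_mem ((P ⊔ U).mul_mem (hs m) (hleU hc)) (hs l)
  have hc1 := hU' 3 _ (U.inv_mem ha)
  have hc2 := hU' 2 _ (U.mul_mem ha (U.inv_mem hb))
  have hc3 := hU1' _ hb
  obtain ⟨u1, hu1, v1, hv1, i, e1⟩ := h.step1 (hmem 1 (-2) _ hc1)
  obtain ⟨u2, hu2, v2, hv2, k, e2⟩ := h.step1 (hmem 3 (-1) _ hc2)
  obtain ⟨u3, hu3, v3, hv3, j, e3⟩ := h.step1 (hmem 2 (-3) _ hc3)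
  have hi : s ^ i ≠ 1 := by
    intro hi
    rw [hi, mul_one] at e1
    have := (h.step2 hc1 (i := 1) (j := -2) (by simpa using h.s_ne_one)
      (e1 ▸ U.mul_mem hu1 hv1)).2
    exact h.s_ne_one (by simpa using this)
  have hj : s ^ j ≠ 1 := by
    intro hj
    rw [hj, mul_one] at e3
    have := (h.step2 hc3 (i := 2) (j := -3) h.s_sq_ne_one (e3 ▸ U.mul_mem hu3 hv3)).2
    exact h.s_ne_one (by simpa using this)
  have R := h.rel ht ha hb hab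
  rw [e1, e2, e3] at R
  have habp : ψ (a ^ p) + ψ (b ^ p) = 2 := by
    rw [h.ψ_pow ha, h.ψ_pow hb, ← add_pow_char, hab]
    exact_mod_cast h.intCast_pow 2
  have R' := h.rel ht (U.pow_mem ha p) (U.pow_mem hb p) habp
  have conjp : ∀ g x : G, (g⁻¹ * x * g) ^ p = g⁻¹ * x ^ p * g := fun g x => by
    simpa using conj_pow (i := p) (a := g⁻¹) (b := x)
  have e1' := h.sUs_pow hc1 hu1 hv1 e1
  have e2' := h.sUs_pow hc2 hu2 hv2 e2
  have e3' := h.sUs_pow hc3 hu3 hv3 e3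
  rw [conjp, inv_pow] at e1'
  rw [conjp, h.Upow ha (U.inv_mem hb), inv_pow] at e2'
  rw [conjp] at e3'
  rw [e1', e2', e3'] at R'
  set w1 := t * v2 * t⁻¹ * u3 with hw1
  set w2 := v3 * (t ^ (2 : ℤ) * u1 * (t ^ (2 : ℤ))⁻¹) with hw2
  set w3 := v1 * (t⁻¹ * u2 * t) with hw3
  have mw1 : w1 ∈ U := U.mul_mem (hU1 _ hv2) hu3
  have mw2 : w2 ∈ U := U.mul_mem hv3 (hU 2 _ hu1)
  have mw3 : w3 ∈ U := U.mul_mem hv1 (hU1' _ hu2)
  have D : t * s ^ (-k) * t = w1 * s ^ j * w2 * t ^ (2 : ℤ) * s ^ i * w3 := by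
    calc t * s ^ (-k) * t = t * s ^ (-k) * u2⁻¹ * (u2 * s ^ k * v2 * t⁻¹ * (u3 * s ^ j * v3) *
        t ^ (2 : ℤ) * (u1 * s ^ i * v1) * t⁻¹) * u2 * t := by rw [R]; group
      _ = _ := by rw [hw1, hw2, hw3]; group
  have D' : t * s ^ (-k) * t = w1 ^ p * s ^ j * w2 ^ p * t ^ (2 : ℤ) * s ^ i * w3 ^ p := by
    rw [hw1, hw2, hw3, h.Upow (hU1 _ hv2) hu3, h.Upow hv3 (hU 2 _ hu1), h.Upow hv1 (hU1' _ hu2),
      conj_pow, conj_pow, conjp]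
    calc t * s ^ (-k) * t = t * s ^ (-k) * (u2 ^ p)⁻¹ * (u2 ^ p * s ^ k * v2 ^ p * t⁻¹ *
        (u3 ^ p * s ^ j * v3 ^ p) * t ^ (2 : ℤ) * (u1 ^ p * s ^ i * v1 ^ p) * t⁻¹) * u2 ^ p * t := by
          rw [R']; group
      _ = _ := by group
  have g1 := U.pow_mem mw1 p
  have g2 := U.pow_mem mw2 p
  have g3 := U.pow_mem mw3 p
  have E : t ^ (2 : ℤ) * (s ^ i * (w3 ^ p * w3⁻¹) * s ^ (-i)) * (t ^ (2 : ℤ))⁻¹ =
      (w2 ^ p)⁻¹ * (s ^ (-j) * ((w1 ^ p)⁻¹ * w1) * s ^ j) * w2 := by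
    calc _ = (w1 ^ p * s ^ j * w2 ^ p)⁻¹ * (w1 ^ p * s ^ j * w2 ^ p * t ^ (2 : ℤ) * s ^ i * w3 ^ p) *
        w3⁻¹ * (s ^ i)⁻¹ * (t ^ (2 : ℤ))⁻¹ := by group
      _ = _ := by rw [← D', D]; group
  have m3 := U.mul_mem g3 (U.inv_mem mw3)
  have m1 := U.mul_mem (U.inv_mem g1) mw1
  have hw3' : w3 ^ p * w3⁻¹ = 1 := by
    refine (h.step2 m3 (j := -i) hi (h.step3 h.s_sq_ne_one (hmem _ _ _ m3) ?_)).1
    rw [← ht, E]
    exact (P ⊔ U).mul_mem ((P ⊔ U).mul_mem (hleU (U.inv_mem g2)) (hmem _ _ _ m1)) (hleU mw2)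
  rw [hw3'] at E
  have E' : s ^ (-j) * ((w1 ^ p)⁻¹ * w1) * s ^ j = w2 ^ p * w2⁻¹ := by
    calc _ = w2 ^ p * ((w2 ^ p)⁻¹ * (s ^ (-j) * ((w1 ^ p)⁻¹ * w1) * s ^ j) * w2) * w2⁻¹ := by group
      _ = _ := by rw [← E]; group
  have hw1' : (w1 ^ p)⁻¹ * w1 = 1 :=
    (h.step2 m1 (i := -j) (j := j) (by simpa using hj) (E' ▸ U.mul_mem g2 (U.inv_mem mw2))).1
  have hw2' : w2 ^ p * w2⁻¹ = 1 := by rw [← E', hw1']; group
  have z1 := h.eq_one_of_pow_mul_inv mw1 (inv_mul_eq_one.1 hw1')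
  have z2 := h.eq_one_of_pow_mul_inv mw2 (mul_inv_eq_one.1 hw2')
  have z3 := h.eq_one_of_pow_mul_inv mw3 (mul_inv_eq_one.1 hw3')
  rw [z1, z2, z3, one_mul, mul_one, mul_one] at D
  have F := h.final_rel ht D
  have hi1 : s ^ (i + 1) = 1 := by
    by_contra hi1
    obtain ⟨u, hu, hne⟩ := h.Une
    apply hne
    refine (h.step2 hu (i := -i) (j := i) (by simpa using hi) (h.step3 hi1 (hmem _ _ _ hu) ?_)).1
    rw [← ht]
    have := hmem (-j) j _ (hU (j + 1) u hu)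
    convert this using 1
    rw [← F]; group
  have hi2 : s ^ i = s ^ (-1 : ℤ) := by
    calc s ^ i = s ^ (i + 1) * s ^ (-1 : ℤ) := by group
      _ = _ := by rw [hi1, one_mul]
  rw [hi2] at e1
  have hc := h.modP hc1 hu1 hv1 e1
  rw [hc] at e1 ⊢
  rw [h.sUs_iff hu1 hv1] at e1
  refine ⟨v1, hv1, ?_⟩
  push_cast at e1
  linear_combination e1

/-- Lemma C.3. -/
theorem lemmaC3 {a b : G} (ha : a ∈ U) (hb : b ∈ U) (hab : ψ a + ψ b = 2) :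
    ∃ v ∈ U, ψ a⁻¹ + ψ v = 2 := by
  obtain ⟨t, ht⟩ : ∃ t, t = y⁻¹ * s * y := ⟨_, rfl⟩
  have hU' : ∀ (k : ℤ), ∀ u ∈ U, (t ^ k)⁻¹ * u * t ^ k ∈ U := fun k u hu => by
    simpa [← ht] using h.conjU hu (-k)
  have key : ∀ k : ℕ, ∃ v ∈ U, ψ ((t ^ (6 * k : ℤ))⁻¹ * a * t ^ (6 * k : ℤ)) + ψ v = 2 := by
    intro k
    induction k with
    | zero => exact ⟨b, hb, by simpa using hab⟩
    | succ k ih =>
      obtain ⟨v, hv, e⟩ := ih
      obtain ⟨v', hv', e'⟩ := h.main_step ht (hU' _ _ ha) hv e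
      obtain ⟨v'', hv'', e''⟩ := h.main_step ht (hU' _ _ (U.inv_mem (hU' _ _ ha))) hv' e'
      refine ⟨v'', hv'', ?_⟩
      rw [← e'']
      congr 2
      push_cast; group
  obtain ⟨k, hk⟩ := h.odd
  obtain ⟨v, hv, e⟩ := key k
  obtain ⟨v', hv', e'⟩ := h.main_step ht (hU' _ _ ha) hv e
  refine ⟨v', hv', ?_⟩
  rw [← e']
  have htp : t ^ (6 * k + 3 : ℤ) = 1 := by
    have : (6 * k + 3 : ℤ) = (p : ℤ) * 3 := by rw [hk]; push_cast; ring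
    rw [this, ht, t_zpow, zpow_mul, zpow_natCast, h.Ppow h.sP]; group
  congr 2
  calc a⁻¹ = (t ^ (6 * k + 3 : ℤ))⁻¹ * a⁻¹ * t ^ (6 * k + 3 : ℤ) := by rw [htp]; group
    _ = _ := by group

end Hyp

end CL.BG.AppC
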