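import Cfsg.Agent.BG.Defs

/-! BG section 11: Hypothesis 11.1 -/

namespace CL.BG

open Cfsg

variable {G : Type*} [Group G]

/-- Hypothesis 11.1 of BG: `M` is an exceptional maximal subgroup. -/
structure Exceptional (p : ℕ) (M A₀ A : Subgroup G) : Prop where
  coatom : IsCoatom M
  not_sigma : p ∉ sigma M
  elem₀ : ElemN p 1 M A₀
  norm₀ : 𝐍(A₀) ≤ M
  elem : ElemN p 2 M A
  le : A₀ ≤ A

end CL.BG
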