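import Cfsg.Agent.Base

/-!
# Images and preimages of ambient subgroups under a homomorphism defined on a subgroup

For `K : Subgroup G` and `f : K →* Q` we define `mim f H` (the image of `H ⊓ K`) and
`mpre f Hb` (the preimage, as a subgroup of `G`).
-/

set_option autoImplicit false

namespace CL.BG

open Subgroup

variable {G Q : Type*} [Group G] [Group Q] {K : Subgroup G}

/-- Image of (the part inside `K` of) an ambient subgroup `H` under `f : K →* Q`. -/
def mim (f : K →* Q) (H : Subgroup G) : Subgroup Q := (H.subgroupOf K).map f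

/-- Preimage of a subgroup of `Q` under `f : K →* Q`, as a subgroup of `G`. -/
def mpre (f : K →* Q) (Hb : Subgroup Q) : Subgroup G := (Hb.comap f).map K.subtype

variable (f : K →* Q)

theorem mem_mim {H : Subgroup G} {y : Q} :
    y ∈ mim f H ↔ ∃ x : G, ∃ hx : x ∈ K, x ∈ H ∧ f ⟨x, hx⟩ = y := by
  constructor
  · rintro ⟨⟨x, hx⟩, h1, h2⟩
    exact ⟨x, hx, h1, h2⟩
  · rintro ⟨x, hx, h1, h2⟩
    exact ⟨⟨x, hx⟩, h1, h2⟩

theorem mem_mim_of_mem {H : Subgroup G} (x : K) (hx : (x : G) ∈ H) : f x ∈ mim f H :=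
  ⟨x, hx, rfl⟩

theorem mem_mpre {Hb : Subgroup Q} {x : G} :
    x ∈ mpre f Hb ↔ ∃ hx : x ∈ K, f ⟨x, hx⟩ ∈ Hb := by
  constructor
  · rintro ⟨⟨y, hy⟩, h1, rfl⟩
    exact ⟨hy, h1⟩
  · rintro ⟨hx, h⟩
    exact ⟨⟨x, hx⟩, h, rfl⟩

theorem coe_mem_mpre {Hb : Subgroup Q} {x : K} : (x : G) ∈ mpre f Hb ↔ f x ∈ Hb := by
  rw [mem_mpre]
  exact ⟨fun ⟨_, h⟩ => h, fun h => ⟨x.2, h⟩⟩

theorem mpre_le (Hb : Subgroup Q) : mpre f Hb ≤ K := map_subtype_le _

theorem mpre_subgroupOf (Hb : Subgroup Q) : (mpre f Hb).subgroupOf K = Hb.comap f := by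
  ext x
  rw [mem_subgroupOf, coe_mem_mpre, mem_comap]

theorem mim_mono {H₁ H₂ : Subgroup G} (h : H₁ ≤ H₂) : mim f H₁ ≤ mim f H₂ :=
  map_mono (subgroupOf_mono _ h)

theorem mpre_mono {H₁ H₂ : Subgroup Q} (h : H₁ ≤ H₂) : mpre f H₁ ≤ mpre f H₂ :=
  map_mono (comap_mono h)

theorem mim_inf_dom (H : Subgroup G) : mim f (H ⊓ K) = mim f H := by
  simp only [mim, inf_subgroupOf_right]

theorem mim_dom_inf (H : Subgroup G) : mim f (K ⊓ H) = mim f H := by
  rw [inf_comm, mim_inf_dom]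

theorem mim_le_iff' {H : Subgroup G} {Hb : Subgroup Q} :
    mim f H ≤ Hb ↔ H ⊓ K ≤ mpre f Hb := by
  constructor
  · rintro h x ⟨hxH, hxK⟩
    exact (mem_mpre f).2 ⟨hxK, h (mem_mim_of_mem f ⟨x, hxK⟩ hxH)⟩
  · rintro h y ⟨x, hx, rfl⟩
    exact (coe_mem_mpre f).1 (h ⟨hx, x.2⟩)

theorem mim_le_iff {H : Subgroup G} (hH : H ≤ K) {Hb : Subgroup Q} :
    mim f H ≤ Hb ↔ H ≤ mpre f Hb := by
  rw [mim_le_iff', inf_eq_left.2 hH]

theorem le_mpre_mim {H : Subgroup G} (hH : H ≤ K) : H ≤ mpre f (mim f H) :=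
  (mim_le_iff f hH).1 le_rfl

theorem mim_mpre_le (Hb : Subgroup Q) : mim f (mpre f Hb) ≤ Hb :=
  (mim_le_iff f (mpre_le f Hb)).2 le_rfl

theorem mim_bot : mim f ⊥ = ⊥ := by simp [mim]

theorem mim_top : mim f ⊤ = f.range := by simp [mim, MonoidHom.range_eq_map]

theorem mim_dom : mim f K = f.range := by simp [mim, MonoidHom.range_eq_map]

theorem mim_le_range (H : Subgroup G) : mim f H ≤ f.range := map_le_range _ _

theorem mpre_top : mpre f ⊤ = K := by
  simp [mpre, ← MonoidHom.range_eq_map]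

theorem mpre_bot_le (Hb : Subgroup Q) : mpre f ⊥ ≤ mpre f Hb := mpre_mono f bot_le

theorem mim_eq_bot_iff' {H : Subgroup G} : mim f H = ⊥ ↔ H ⊓ K ≤ mpre f ⊥ := by
  rw [← le_bot_iff, mim_le_iff']

theorem mim_eq_bot_iff {H : Subgroup G} (hH : H ≤ K) : mim f H = ⊥ ↔ H ≤ mpre f ⊥ := by
  rw [← le_bot_iff, mim_le_iff f hH]

theorem mim_mpre (Hb : Subgroup Q) : mim f (mpre f Hb) = f.range ⊓ Hb := by
  rw [mim, mpre_subgroupOf, map_comap_eq]

theorem mim_mpre_of_le_range {Hb : Subgroup Q} (h : Hb ≤ f.range) : mim f (mpre f Hb) = Hb := by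
  rw [mim_mpre, inf_eq_right.2 h]

theorem mim_mpre_of_surjective (hf : Function.Surjective f) (Hb : Subgroup Q) :
    mim f (mpre f Hb) = Hb :=
  mim_mpre_of_le_range f (fun x _ => hf x)

theorem mpre_mim' (H : Subgroup G) : mpre f (mim f H) = (H ⊓ K) ⊔ mpre f ⊥ := by
  rw [mpre, mim, comap_map_eq, Subgroup.map_sup, subgroupOf_map_subtype]
  rfl

theorem mpre_mim {H : Subgroup G} (hH : H ≤ K) : mpre f (mim f H) = H ⊔ mpre f ⊥ := by
  rw [mpre_mim', inf_eq_left.2 hH]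

theorem mpre_mim_of_ker_le {H : Subgroup G} (hH : H ≤ K) (hk : mpre f ⊥ ≤ H) :
    mpre f (mim f H) = H := by
  rw [mpre_mim f hH, sup_eq_left.2 hk]

theorem mim_le_mim_iff {H₁ H₂ : Subgroup G} (h₁ : H₁ ≤ K) (h₂ : H₂ ≤ K) :
    mim f H₁ ≤ mim f H₂ ↔ H₁ ≤ H₂ ⊔ mpre f ⊥ := by
  rw [mim_le_iff f h₁, mpre_mim f h₂]

theorem mim_le_mim_iff_of_ker_le {H₁ H₂ : Subgroup G} (h₁ : H₁ ≤ K) (hk : mpre f ⊥ ≤ H₂) :
    mim f H₁ ≤ mim f H₂ ↔ H₁ ≤ H₂ := by
  refine ⟨fun h => ?_, mim_mono f⟩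
  rw [mim_le_iff f h₁, mpre_mim'] at h
  exact h.trans (sup_le inf_le_left hk)

theorem mim_inj {H₁ H₂ : Subgroup G} (h₁ : H₁ ≤ K) (h₂ : H₂ ≤ K) (k₁ : mpre f ⊥ ≤ H₁)
    (k₂ : mpre f ⊥ ≤ H₂) (h : mim f H₁ = mim f H₂) : H₁ = H₂ :=
  le_antisymm ((mim_le_mim_iff_of_ker_le f h₁ k₂).1 h.le) ((mim_le_mim_iff_of_ker_le f h₂ k₁).1 h.ge)

theorem mpre_le_mpre_iff {A B : Subgroup Q} (hA : A ≤ f.range) :
    mpre f A ≤ mpre f B ↔ A ≤ B := by
  rw [← mim_le_iff f (mpre_le f A), mim_mpre_of_le_range f hA]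

theorem mim_sup {H₁ H₂ : Subgroup G} (h₁ : H₁ ≤ K) (h₂ : H₂ ≤ K) :
    mim f (H₁ ⊔ H₂) = mim f H₁ ⊔ mim f H₂ := by
  rw [mim, subgroupOf_sup h₁ h₂, Subgroup.map_sup]
  rfl

theorem mim_sup_ker {H : Subgroup G} (h : H ≤ K) : mim f (H ⊔ mpre f ⊥) = mim f H := by
  rw [mim_sup f h (mpre_le f _), mim_mpre, inf_bot_eq, sup_bot_eq]

theorem mim_iSup {ι : Sort*} {H : ι → Subgroup G} (h : ∀ i, H i ≤ K) :
    mim f (⨆ i, H i) = ⨆ i, mim f (H i) := by
  apply le_antisymm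
  · rw [mim_le_iff f (iSup_le h)]
    exact iSup_le fun i => (mim_le_iff f (h i)).1 (le_iSup (fun i => mim f (H i)) i)
  · exact iSup_le fun i => mim_mono f (le_iSup H i)

theorem mim_inf_le (H₁ H₂ : Subgroup G) : mim f (H₁ ⊓ H₂) ≤ mim f H₁ ⊓ mim f H₂ :=
  le_inf (mim_mono f inf_le_left) (mim_mono f inf_le_right)

theorem mim_inf_mpre (H : Subgroup G) (Hb : Subgroup Q) :
    mim f (H ⊓ mpre f Hb) = mim f H ⊓ Hb := by
  apply le_antisymm
  · exact (mim_inf_le f _ _).trans (inf_le_inf_left _ (mim_mpre_le f Hb))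
  · rintro y ⟨⟨x, hx, rfl⟩, hy⟩
    exact mem_mim_of_mem f x ⟨hx, (coe_mem_mpre f).2 hy⟩

/-- If the kernel lies in `H₂` then the image commutes with the intersection. -/
theorem mim_inf_of_ker_le (H₁ : Subgroup G) {H₂ : Subgroup G} (hk : mpre f ⊥ ≤ H₂) :
    mim f (H₁ ⊓ H₂) = mim f H₁ ⊓ mim f H₂ := by
  apply le_antisymm (mim_inf_le f _ _)
  rw [← mim_inf_mpre, mpre_mim']
  exact mim_mono f (inf_le_inf_left _ (sup_le inf_le_left hk))

theorem mpre_inf (A B : Subgroup Q) : mpre f (A ⊓ B) = mpre f A ⊓ mpre f B := by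
  rw [mpre, comap_inf, map_inf _ _ _ K.subtype_injective]
  rfl

theorem mpre_sup {A B : Subgroup Q} (hA : A ≤ f.range) (hB : B ≤ f.range) :
    mpre f (A ⊔ B) = mpre f A ⊔ mpre f B := by
  rw [mpre, ← comap_sup_eq_of_le_range f hA hB, Subgroup.map_sup]
  rfl

theorem subgroupOf_commutator {H₁ H₂ : Subgroup G} (h₁ : H₁ ≤ K) (h₂ : H₂ ≤ K) :
    ⁅H₁, H₂⁆.subgroupOf K = ⁅H₁.subgroupOf K, H₂.subgroupOf K⁆ := by
  apply map_injective K.subtype_injective
  rw [map_commutator, map_subgroupOf_eq_of_le h₁, map_subgroupOf_eq_of_le h₂,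
    map_subgroupOf_eq_of_le ((commutator_le_sup _ _).trans (sup_le h₁ h₂))]

theorem mim_commutator {H₁ H₂ : Subgroup G} (h₁ : H₁ ≤ K) (h₂ : H₂ ≤ K) :
    mim f ⁅H₁, H₂⁆ = ⁅mim f H₁, mim f H₂⁆ := by
  rw [mim, subgroupOf_commutator h₁ h₂, map_commutator]
  rfl

theorem mim_closure {s : Set G} (hs : s ⊆ K) :
    mim f (closure s) = closure {y | ∃ x : K, (x : G) ∈ s ∧ f x = y} := by
  apply le_antisymm
  · rw [mim_le_iff f ((closure_le _).2 hs), closure_le]
    intro x hx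
    exact (mem_mpre f).2 ⟨hs hx, subset_closure ⟨⟨x, hs hx⟩, hx, rfl⟩⟩
  · rw [closure_le]
    rintro y ⟨x, hx, rfl⟩
    exact mem_mim_of_mem f x (subset_closure hx)

theorem mim_zpowers (x : K) : mim f (zpowers (x : G)) = zpowers (f x) := by
  apply le_antisymm
  · rw [mim_le_iff f ((zpowers_le_of_mem x.2)), zpowers_le]
    exact (coe_mem_mpre f).2 (mem_zpowers _)
  · rw [zpowers_le]
    exact mem_mim_of_mem f x (mem_zpowers _)

theorem mim_normalizer {A H : Subgroup G} (h : A ≤ normalizer (H : Set G)) :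
    mim f A ≤ normalizer (mim f H : Set Q) := by
  rw [le_normalizer_iff] at h ⊢
  rintro _ ⟨a, ha, rfl⟩ _ ⟨x, hx, rfl⟩
  rw [← map_inv, ← map_mul, ← map_mul]
  exact mem_mim_of_mem f _ (h a ha x hx)

theorem mim_centralizer {A H : Subgroup G} (h : A ≤ centralizer (H : Set G)) :
    mim f A ≤ centralizer (mim f H : Set Q) := by
  rintro _ ⟨a, ha, rfl⟩
  rw [mem_centralizer_iff]
  rintro _ ⟨x, hx, rfl⟩
  rw [← map_mul, ← map_mul]
  congr 1
  exact Subtype.ext (h ha x hx)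

theorem mim_inf_centralizer_le (A H : Subgroup G) :
    mim f (A ⊓ centralizer (H : Set G)) ≤ mim f A ⊓ centralizer (mim f H : Set Q) :=
  le_inf (mim_mono f inf_le_left) (mim_centralizer f inf_le_right)

theorem mim_inf_normalizer_le (A H : Subgroup G) :
    mim f (A ⊓ normalizer (H : Set G)) ≤ mim f A ⊓ normalizer (mim f H : Set Q) :=
  le_inf (mim_mono f inf_le_left) (mim_normalizer f inf_le_right)

theorem mim_centralizer_singleton {A : Subgroup G} (x : K) (h : A ≤ centralizer {(x : G)}) :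
    mim f A ≤ centralizer {f x} := by
  rintro _ ⟨a, ha, rfl⟩
  rw [mem_centralizer_singleton_iff, ← map_mul, ← map_mul]
  congr 1
  exact Subtype.ext (mem_centralizer_singleton_iff.1 (h ha))

theorem mpre_normalizer {A H : Subgroup Q} (h : A ≤ normalizer (H : Set Q)) :
    mpre f A ≤ normalizer (mpre f H : Set G) := by
  rw [le_normalizer_iff] at h ⊢
  rintro _ ⟨a, ha, rfl⟩ _ ⟨x, hx, rfl⟩
  refine ⟨a * x * a⁻¹, ?_, rfl⟩
  change f _ ∈ H
  rw [map_mul, map_mul, map_inv]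
  exact h _ ha _ hx

/-- `A` (inside the domain) normalizes a preimage iff its image normalizes the subgroup. -/
theorem le_normalizer_mpre {A : Subgroup G} (hA : A ≤ K) {H : Subgroup Q}
    (h : mim f A ≤ normalizer (H : Set Q)) : A ≤ normalizer (mpre f H : Set G) :=
  (le_mpre_mim f hA).trans (mpre_normalizer f h)

theorem dom_le_normalizer_ker : K ≤ normalizer (mpre f ⊥ : Set G) :=
  le_normalizer_mpre f le_rfl le_normalizer_of_normal

theorem mim_le_centralizer_iff {A H : Subgroup G} (hA : A ≤ K) (hH : H ≤ K) :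
    mim f A ≤ centralizer (mim f H : Set Q) ↔ ⁅A, H⁆ ≤ mpre f ⊥ := by
  rw [← commutator_eq_bot_iff_le_centralizer, ← mim_commutator f hA hH,
    mim_eq_bot_iff f ((commutator_le_sup _ _).trans (sup_le hA hH))]

theorem mim_normal_of_surjective (hf : Function.Surjective f) {H : Subgroup G}
    (h : K ≤ normalizer (H : Set G)) : (mim f H).Normal := by
  rw [← normalizer_eq_top_iff, eq_top_iff, ← f.range_eq_top_of_surjective hf, ← mim_dom]
  exact mim_normalizer f h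

/-- The surjection `H → mim f H` for `H ≤ K`. -/
def mimHom {H : Subgroup G} (h : H ≤ K) : H →* mim f H :=
  (f.comp (inclusion h)).codRestrict _ fun x => mem_mim_of_mem f (inclusion h x) x.2

theorem coe_mimHom {H : Subgroup G} (h : H ≤ K) (x : H) :
    (mimHom f h x : Q) = f ⟨x, h x.2⟩ := rfl

theorem mimHom_surjective {H : Subgroup G} (h : H ≤ K) : Function.Surjective (mimHom f h) := by
  rintro ⟨_, ⟨x, hx, rfl⟩⟩
  exact ⟨⟨x, hx⟩, rfl⟩

theorem ker_mimHom {H : Subgroup G} (h : H ≤ K) : (mimHom f h).ker = (mpre f ⊥).subgroupOf H := by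
  ext x
  rw [MonoidHom.mem_ker, mem_subgroupOf, mem_mpre, Subtype.ext_iff, coe_mimHom]
  exact ⟨fun h' => ⟨h x.2, h'⟩, fun ⟨_, h'⟩ => h'⟩

theorem card_mim {H : Subgroup G} (h : H ≤ K) :
    Nat.card (mim f H) = (mpre f ⊥).relIndex H := by
  rw [relIndex, ← ker_mimHom f h, index_ker, (mimHom f h).range_eq_top_of_surjective
    (mimHom_surjective f h), card_top]

theorem card_mim_dvd (H : Subgroup G) : Nat.card (mim f H) ∣ Nat.card H := by
  rw [← mim_inf_dom]
  exact (card_dvd_of_surjective _ (mimHom_surjective f inf_le_right)).trans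
    (card_dvd_of_le inf_le_left)

theorem card_mpre {Hb : Subgroup Q} (h : Hb ≤ f.range) :
    Nat.card (mpre f Hb) = Nat.card (mpre f ⊥) * Nat.card Hb := by
  have h1 := card_mim f (mpre_le f Hb)
  rw [mim_mpre_of_le_range f h] at h1
  rw [h1, relIndex, ← card_mul_index ((mpre f ⊥).subgroupOf (mpre f Hb))]
  congr 1
  exact (Nat.card_congr (subgroupOfEquivOfLe (mpre_bot_le f Hb)).toEquiv)

theorem relIndex_mim {A B : Subgroup G} (hA : A ≤ K) (hB : B ≤ K) :
    (mim f A).relIndex (mim f B) = (A ⊔ mpre f ⊥).relIndex (B ⊔ mpre f ⊥) := by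
  rw [mim, mim, relIndex_map_map]
  have : f.ker = (mpre f ⊥).subgroupOf K := by rw [mpre_subgroupOf]; rfl
  rw [this, ← subgroupOf_sup hA (mpre_le f _), ← subgroupOf_sup hB (mpre_le f _),
    relIndex_subgroupOf (sup_le hB (mpre_le f _))]

theorem relIndex_mpre {A B : Subgroup Q} (hB : B ≤ f.range) :
    (mpre f A).relIndex (mpre f B) = A.relIndex B := by
  rw [mpre, mpre, relIndex_map_map_of_injective _ _ K.subtype_injective, relIndex_comap,
    map_comap_eq_self hB]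

/-- If the kernel lies in `A`, the relative index is preserved. -/
theorem relIndex_mim_of_ker_le {A B : Subgroup G} (hB : B ≤ K) (hk : mpre f ⊥ ≤ A) :
    (mim f A).relIndex (mim f B) = A.relIndex B := by
  have h1 : (mim f A).comap f = A.subgroupOf K := by
    rw [mim, comap_map_eq_self]
    intro x hx
    exact hk ((coe_mem_mpre f).2 hx)
  have h2 := relIndex_comap (H := mim f A) f (B.subgroupOf K)
  rw [h1, relIndex_subgroupOf hB] at h2
  exact h2.symm

theorem relIndex_mim_dvd {A B : Subgroup G} (hAB : A ≤ B) (hB : B ≤ K) :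
    (mim f A).relIndex (mim f B) ∣ A.relIndex B := by
  have hA : A ≤ K := hAB.trans hB
  rw [← mim_sup_ker f hA, relIndex_mim_of_ker_le f hB le_sup_right]
  exact relIndex_dvd_of_le_left _ le_sup_left

theorem mim_isPGroup {p : ℕ} {H : Subgroup G} (h : IsPGroup p H) : IsPGroup p (mim f H) :=
  (h.comap_of_injective K.subtype K.subtype_injective).map f

theorem mpre_isPGroup {p : ℕ} {Hb : Subgroup Q} (h : IsPGroup p Hb) (hk : IsPGroup p (mpre f ⊥)) :
    IsPGroup p (mpre f Hb) := by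
  refine IsPGroup.map (h.comap_of_ker_isPGroup f ?_) _
  have : f.ker = (mpre f ⊥).subgroupOf K := by rw [mpre_subgroupOf]; rfl
  rw [this]
  exact hk.comap_of_injective K.subtype K.subtype_injective

theorem mim_isMulCommutative {H : Subgroup G} (h : IsMulCommutative H) :
    IsMulCommutative (mim f H) := by
  rw [← le_centralizer_iff_isMulCommutative] at h ⊢
  exact mim_centralizer f h

theorem mim_isMulCommutative_iff {H : Subgroup G} (hH : H ≤ K) :
    IsMulCommutative (mim f H) ↔ ⁅H, H⁆ ≤ mpre f ⊥ := by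
  rw [← le_centralizer_iff_isMulCommutative, mim_le_centralizer_iff f hH hH]

theorem mim_isCyclic {H : Subgroup G} (h : IsCyclic H) : IsCyclic (mim f H) := by
  rw [← mim_inf_dom]
  have : IsCyclic (H ⊓ K : Subgroup G) := isCyclic_of_le inf_le_left
  exact isCyclic_of_surjective _ (mimHom_surjective f inf_le_right)

theorem mim_isSolvable {H : Subgroup G} (h : Group.IsSolvable H) : Group.IsSolvable (mim f H) := by
  rw [← mim_inf_dom]
  have : Group.IsSolvable (H ⊓ K : Subgroup G) :=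
    Group.isSolvable_of_isSolvable_injective (inclusion_injective inf_le_left)
  exact Group.isSolvable_of_surjective (mimHom_surjective f inf_le_right)

theorem mim_isNilpotent {H : Subgroup G} (h : Group.IsNilpotent H) :
    Group.IsNilpotent (mim f H) := by
  rw [← mim_inf_dom]
  have : Group.IsNilpotent (H ⊓ K : Subgroup G) :=
    Group.nilpotent_of_mulEquiv (subgroupOfEquivOfLe (inf_le_left : H ⊓ K ≤ H))
  exact Group.nilpotent_of_surjective _ (mimHom_surjective f inf_le_right)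

theorem mpre_isSolvable {Hb : Subgroup Q} (h : Group.IsSolvable Hb)
    (hk : Group.IsSolvable (mpre f ⊥)) : Group.IsSolvable (mpre f Hb) := by
  let g : mpre f Hb →* Hb := ((f.comp (inclusion (mpre_le f Hb))).codRestrict Hb
    fun x => (coe_mem_mpre f).1 x.2)
  refine Group.isSolvable_of_ker_le_range (inclusion (mpre_bot_le f Hb)) g ?_
  intro x hx
  exact ⟨⟨x, (mem_mpre f).2 ⟨mpre_le f Hb x.2, congrArg Subtype.val hx⟩⟩, rfl⟩

theorem mim_isElementaryAbelian {p : ℕ} {H : Subgroup G} (h : Cfsg.IsElementaryAbelian p H) :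
    Cfsg.IsElementaryAbelian p (mim f H) := by
  refine ⟨mim_isMulCommutative f h.1, ?_⟩
  rintro _ ⟨x, hx, rfl⟩
  rw [← map_pow]
  have : x ^ p = 1 := Subtype.ext (h.2 x hx)
  rw [this, map_one]

theorem mim_omegaOne_le (p : ℕ) {H : Subgroup G} (hH : H ≤ K) :
    mim f (Cfsg.omegaOne p H) ≤ Cfsg.omegaOne p (mim f H) := by
  have h1 : Cfsg.omegaOne p H ≤ H := (closure_le _).2 fun x hx => hx.1
  rw [mim_le_iff f (h1.trans hH), Cfsg.omegaOne, closure_le]
  rintro x ⟨hx, hxp⟩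
  refine (mem_mpre f).2 ⟨hH hx, subset_closure ⟨mem_mim_of_mem f _ hx, ?_⟩⟩
  rw [← map_pow]
  have : (⟨x, hH hx⟩ : K) ^ p = 1 := Subtype.ext hxp
  rw [this, map_one]

end CL.BG
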