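import Cfsg.Agent.BG.T5_5
import Cfsg.Agent.BG.T1_2

set_option autoImplicit false

namespace CL.BG

open Cfsg Subgroup

variable {G : Type*} [Group G] [Finite G]

/-- If all `O_q(H)` are narrow then `H'` is nilpotent. -/
theorem der_le_fit_of_narrow {H : Subgroup G} (hsol : Group.IsSolvable H)
    (hodd : Odd (Nat.card H)) (h : ∀ q : ℕ, q.Prime → Narrow q (piCoreOf {q} H)) :
    ⁅H, H⁆ ≤ fittingOf H := by
  refine t1_2b hsol (NormalIn.refl H) (NormalIn.der H).le fun V U hUV hU => ?_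
  obtain ⟨p, hp, he⟩ := hUV.exists_elem (solvable_of_le hsol hUV.normalU.le)
  have : Fact p.Prime := ⟨hp⟩
  have hHV := hUV.normV
  have hmin := hUV.minNormal
  have hUp : IsPGroup p (quot V U) := EA.isPGroup he
  obtain ⟨P, hP⟩ := sylow_exists p U
  have hPU : quot V P = quot V U :=
    ((hP.quot hUV.norm_U_V).eq_of_le' hUp (quot_mono V hP.le) le_rfl).symm
  have hPR : P ≤ piCoreOf {p} H := le_pcore_of_le_fit (hP.le.trans hU) hP.isPGroup
  have hDH : ⁅H, H⁆ ≤ H := (NormalIn.der H).le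
  have h1 := t5_5a' (isPGroup_piCoreOf hp H) (odd_card_of_le hodd (piCoreOf_le _ _)) (h p hp)
    (le_norm_piCoreOf _ H) hsol hodd
  obtain ⟨S, hS⟩ := sylow_exists p ⁅H, H⁆
  have h2 : S ⊔ 𝐂(piCoreOf {p} H) ⊓ ⁅H, H⁆ = ⁅H, H⁆ :=
    Hall.sup_eq_of_idx hS inf_le_right (by rwa [inf_relIndex_right])
  have h3 := pgroup_inf_cent_ne_bot hUp (quot_isPGroup V hS.isPGroup)
    ((quot_mono V (hS.le.trans hDH)).trans hmin.norm) hmin.ne_bot
  have h4 : quot V ⁅H, H⁆ ≤ 𝐂(quot V U ⊓ 𝐂(quot V S)) := by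
    rw [← h2, quot_sup (hS.le.trans (hDH.trans hHV)) (inf_le_right.trans (hDH.trans hHV))]
    refine sup_le (cent_symm inf_le_right) ?_
    refine (quot_centralizer V (inf_le_left.trans (cent_anti hPR))).trans ?_
    rw [hPU]
    exact cent_anti inf_le_left
  have h5 := hmin.le_of_inf_ne_bot (norms_cent (quot_normalizer V (NormalIn.der H).norm))
    (ne_bot_of_le h3 (le_inf inf_le_left (cent_symm h4)))
  rwa [← quot_le_centralizer_iff hUV.norm_U_V (hDH.trans hHV)]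

/-- BG 5.7. -/
theorem t5_7 {p : ℕ} [Fact p.Prime] {H E : Subgroup G} (hsol : Group.IsSolvable H)
    (hodd : Odd (Nat.card H)) (hE : E ≤ fittingOf H) (hEe : IsElementaryAbelian p E)
    (hr : rank (fittingOf H ⊓ 𝐂(E)) ≤ 2) : ⁅H, H⁆ ≤ fittingOf H := by
  have hp : p.Prime := Fact.out
  refine der_le_fit_of_narrow hsol hodd fun q hq hq3 => ?_
  have : Fact q.Prime := ⟨hq⟩
  have hRF := pcore_le_fit q H
  have hr' : pRank q (piCoreOf {q} H ⊓ 𝐂(E)) ≤ 2 :=
    (pRank_mono hq (inf_le_inf_right _ hRF)).trans ((pRank_le_rank hq _).trans hr)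
  have hRE : ¬ piCoreOf {q} H ≤ 𝐂(E) := fun h => by
    rw [inf_eq_left.2 h] at hr'
    omega
  obtain rfl : q = p := by
    by_contra hqp
    exact hRE (nil_cent_of_coprime (fit_nil H) hRF hE (coprime_card_of_isPGroup_of_ne hq hp hqp
      (isPGroup_piCoreOf hq H) (EA.isPGroup hEe)))
  set R := piCoreOf {q} H with hRdef
  have hR : IsPGroup q R := isPGroup_piCoreOf hq H
  have hER : E ≤ R := le_pcore_of_le_fit hE (EA.isPGroup hEe)
  have hne : R ≠ ⊥ := fun h => hRE (h ▸ bot_le)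
  have hZE : omegaOne q 𝐙(R) ≤ 𝐂(E) := (omegaOne_center_le_cent q R).trans (cent_anti hER)
  have hB : IsElementaryAbelian q (E ⊔ omegaOne q 𝐙(R)) :=
    elemAb_sup hEe (elemAb_omegaOne_center q R) hZE
  obtain ⟨n, hn⟩ := exists_elemN_of_elemAb hq hB (sup_le hER (omegaOne_center_le q R))
  obtain ⟨m, hm⟩ := exists_elemN_of_elemAb hq (elemAb_omegaOne_center q R)
    (omegaOne_center_le q R)
  have h1 : n ≤ 2 := ((hn.of_le (le_inf hn.le (sup_le (EA.le_centralizer hEe) hZE))).le_pRank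
    hq).trans hr'
  have h2 : m < n := hm.lt_of_lt hn hq (lt_of_le_of_ne le_sup_right fun h =>
    hRE (cent_symm ((le_sup_left.trans h.ge).trans (omegaOne_center_le_cent q R))))
  have h3 : m ≠ 0 := by
    rintro rfl
    exact omegaOne_center_ne_bot hq hR hne (elemN_zero_iff.1 hm)
  obtain rfl : n = 2 := by omega
  exact ⟨_, hn, hn.maxElem_of_pRank_le hq
    ((pRank_mono hq (inf_le_inf_left R (cent_anti le_sup_left))).trans hr')⟩

end CL.BG
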