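import Cfsg.Agent.BG.T5_6
import Cfsg.Agent.BG.T5_7

set_option autoImplicit false

namespace CL.BG

open Cfsg Subgroup

variable {G : Type*} [Group G] [Finite G]

/-- The notion of narrowness of the statements implies the one of the library. -/
theorem narrow_of_isNarrow {p : ℕ} [Fact p.Prime] {R : Subgroup G} (hR : IsPGroup p R)
    (h : IsNarrow p R) : Narrow p R := by
  have hp : p.Prime := Fact.out
  intro hr
  rcases h with h | ⟨R₀, R₁, h0, h1, h2, h3, h4⟩
  · have := (pRank_le_iff hp).2 h
    omega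
  set S := R₀.map R.subtype with hS
  set C := R₁.map R.subtype with hC
  have hSR : S ≤ R := map_subtype_le _
  have hSc : Nat.card S = p := by rw [hS, card_map_subtype', h0]
  have hCc : IsCyclic C := (isCyclic_map_subtype_iff _).2 h1
  have hdp : DP S C (R ⊓ 𝐂(S)) := by
    have : DP R₀ R₁ (centralizer (R₀ : Set R)) := ⟨h4, le_cent_iff.2 fun b hb a ha => h3 a ha b hb, h2⟩
    have := this.map R.subtype_injective
    rwa [map_subtype_cent] at this
  have hrk : pRank p (R ⊓ 𝐂(S)) ≤ 2 := by
    rw [hdp.pRank_eq hp]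
    have := pRank_le_one_of_isCyclic hp hCc
    have := pRank_le_one_of_isCyclic hp (isCyclic_of_card_prime (hSc ▸ hp))
    omega
  have hne : R ≠ ⊥ := by
    rintro rfl
    rw [pRank_bot hp] at hr
    omega
  obtain ⟨m, hm⟩ := exists_elemN_of_elemAb hp (elemAb_omegaOne_center p R)
    (omegaOne_center_le p R)
  obtain ⟨Z, hZ⟩ := hm.exists_one hp (Nat.pos_of_ne_zero (by
    rintro rfl
    exact omegaOne_center_ne_bot hp hR hne (elemN_zero_iff.1 hm)))
  have hZR : Z ≤ 𝐂(R) := hZ.le.trans (omegaOne_center_le_cent p R)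
  have hSZ : S ≠ Z := by
    intro e
    rw [inf_eq_left.2 (cent_symm (e ▸ hZR))] at hrk
    omega
  have hE := (elemN_one_of_card hp hSR hSc).sup_of_ne (hZ.mono (omegaOne_center_le p R)) hp hSZ
    (hZR.trans (cent_anti hSR))
  exact ⟨_, hE, hE.maxElem_of_pRank_le hp
    ((pRank_mono hp (inf_le_inf_left R (cent_anti le_sup_left))).trans hrk)⟩

end CL.BG
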