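import Cfsg.Agent.Base

/-!
# Fixed vectors of `p`-groups in characteristic `p`
-/

set_option autoImplicit false

namespace CL.BG

/-- A finite `p`-group acting additively on an abelian group in which some nonzero element is
killed by `p` fixes a nonzero element. -/
theorem exists_fixed_ne_zero_of_isPGroup_addMonoidEnd {V : Type*} [AddCommGroup V]
    {p : ℕ} [Fact p.Prime] {P : Type*} [Group P] [Finite P] (hP : IsPGroup p P)
    (ρ : P →* AddMonoid.End V) {v : V} (hv : v ≠ 0) (hpv : p • v = 0) :
    ∃ w : V, w ≠ 0 ∧ p • w = 0 ∧ ∀ g, ρ g w = w := by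
  let W : AddSubgroup V := AddSubgroup.closure (Set.range fun g => ρ g v)
  have hWp : ∀ w ∈ W, p • w = 0 := by
    intro w hw
    induction hw using AddSubgroup.closure_induction with
    | mem x hx => obtain ⟨g, rfl⟩ := hx; rw [← map_nsmul, hpv, map_zero]
    | zero => simp
    | add x y _ _ hx hy => rw [nsmul_add, hx, hy, add_zero]
    | neg x _ hx => rw [neg_nsmul, hx, neg_zero]
  have hWinv : ∀ g : P, ∀ w ∈ W, ρ g w ∈ W := by
    intro g w hw
    induction hw using AddSubgroup.closure_induction with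
    | mem x hx =>
      obtain ⟨h, rfl⟩ := hx
      exact AddSubgroup.subset_closure ⟨g * h, by simp⟩
    | zero => simp
    | add x y _ _ hx hy => rw [map_add]; exact W.add_mem hx hy
    | neg x _ hx => rw [map_neg]; exact W.neg_mem hx
  have hfg : AddGroup.FG W := AddGroup.closure_finite_fg _
  have hp0 : 0 < p := (Fact.out : p.Prime).pos
  have hfin : Finite W := AddCommGroup.finite_of_fg_isAddTorsion W fun w =>
    isOfFinAddOrder_iff_nsmul_eq_zero.mpr ⟨p, hp0, Subtype.ext (hWp w w.2)⟩
  let : MulAction P W :=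
    { smul := fun g w => ⟨ρ g w, hWinv g w w.2⟩
      one_smul := fun w => Subtype.ext (by change ρ 1 w = w; simp)
      mul_smul := fun g h w => Subtype.ext (by change ρ (g * h) w = ρ g (ρ h w); simp) }
  have hvW : v ∈ W := AddSubgroup.subset_closure ⟨1, by simp⟩
  have hdvd : p ∣ Nat.card W := by
    have h1 : addOrderOf (⟨v, hvW⟩ : W) = p :=
      addOrderOf_eq_prime (Subtype.ext hpv) (fun h => hv (congrArg Subtype.val h))
    exact h1 ▸ addOrderOf_dvd_natCard _
  have h0 : (0 : W) ∈ MulAction.fixedPoints P W := fun g => Subtype.ext (by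
    change ρ g 0 = 0; simp)
  obtain ⟨w, hw, hw0⟩ := hP.exists_fixed_point_of_prime_dvd_card_of_fixed_point W hdvd h0
  exact ⟨w, fun h => hw0 (Subtype.ext h.symm), hWp w w.2, fun g => congrArg Subtype.val (hw g)⟩

/-- A finite `p`-group acting linearly on a nonzero vector space in characteristic `p` fixes a
nonzero vector. -/
theorem exists_fixed_ne_zero_of_isPGroup {F V : Type*} [Field F] [AddCommGroup V] [Module F V]
    [Nontrivial V] (p : ℕ) [Fact p.Prime] [CharP F p] {P : Type*} [Group P] [Finite P]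
    (hP : IsPGroup p P) (ρ : P →* Module.End F V) : ∃ w : V, w ≠ 0 ∧ ∀ g, ρ g w = w := by
  obtain ⟨v, hv⟩ := exists_ne (0 : V)
  let φ : Module.End F V →* AddMonoid.End V :=
    { toFun := fun f => f.toAddMonoidHom
      map_one' := rfl
      map_mul' := fun _ _ => rfl }
  obtain ⟨w, hw, -, hw'⟩ := exists_fixed_ne_zero_of_isPGroup_addMonoidEnd hP (φ.comp ρ) hv
    (by rw [← Nat.cast_smul_eq_nsmul F, CharP.cast_eq_zero, zero_smul])
  exact ⟨w, hw, hw'⟩

end CL.BG
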