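import Cfsg.Agent.BG.OddGL2

/-!
# Two quadratic elements generating a group of odd order (BG Appendix A, Theorem A.1 - A.3)
-/

set_option autoImplicit false

namespace CL.BG

open Matrix
open scoped commutatorElement

section Linear

variable {K : Type*} [Field K]

/-- An odd order subgroup of `SL₂(K)` containing `[[1, c], [0, 1]]` and `[[1, 0], [1, 1]]`
forces `c = 0` (in characteristic `p`). -/
theorem eq_zero_of_transvections_mem (p : ℕ) [Fact p.Prime] [CharP K p]
    (S : Subgroup (Matrix.SpecialLinearGroup (Fin 2) K)) [Finite S] (hodd : Odd (Nat.card S)) {c : K}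
    {x y : Matrix.SpecialLinearGroup (Fin 2) K} (hx : (x : Matrix (Fin 2) (Fin 2) K) = !![1, c; 0, 1])
    (hy : (y : Matrix (Fin 2) (Fin 2) K) = !![1, 0; 1, 1]) (hxS : x ∈ S) (hyS : y ∈ S) :
    c = 0 := by
  have hp := odd_mat2_commutator_isPGroup hodd p
    (Matrix.SpecialLinearGroup.coeMonoidHom.comp S.subtype)
    (Subtype.val_injective.comp S.subtype_injective)
  have hmem : ⁅(⟨x, hxS⟩ : S), (⟨y, hyS⟩ : S)⁆ ∈ commutator S :=
    Subgroup.commutator_mem_commutator (Subgroup.mem_top _) (Subgroup.mem_top _)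
  obtain ⟨k, hk⟩ := hp ⟨_, hmem⟩
  have hk1 : (⁅x, y⁆ : Matrix.SpecialLinearGroup (Fin 2) K) ^ p ^ k = 1 :=
    congrArg (fun z : commutator S => ((z : S) : Matrix.SpecialLinearGroup (Fin 2) K)) hk
  set u : Matrix (Fin 2) (Fin 2) K := (⁅x, y⁆ : Matrix.SpecialLinearGroup (Fin 2) K).1 with hu
  have hk2 : u ^ p ^ k = 1 := by
    rw [hu, ← Matrix.SpecialLinearGroup.coe_pow, hk1, Matrix.SpecialLinearGroup.coe_one]
  have : CharP (Matrix (Fin 2) (Fin 2) K) p := charP_of_injective_algebraMap' K p
  have hnil : IsNilpotent (u - 1) :=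
    ⟨p ^ k, by rw [sub_pow_char_pow_of_commute p k (Commute.one_right u), hk2, one_pow, sub_self]⟩
  have htr := (Matrix.isNilpotent_trace_of_isNilpotent hnil).eq_zero
  have hu' : u = !![1, c; 0, 1] * !![1, 0; 1, 1] * !![1, -c; 0, 1] * !![1, 0; -1, 1] := by
    rw [hu, commutatorElement_def]
    simp only [Matrix.SpecialLinearGroup.coe_mul, Matrix.SpecialLinearGroup.coe_inv, hx, hy,
      Matrix.adjugate_fin_two_of, neg_zero]
  rw [hu'] at htr
  simp only [Matrix.mul_fin_two, Matrix.trace_fin_two, Matrix.sub_apply, Matrix.of_apply,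
    Matrix.cons_val', Matrix.cons_val_zero, Matrix.cons_val_one, Matrix.cons_val_fin_one,
    Matrix.one_apply_eq] at htr
  have : c ^ 2 = 0 := by linear_combination htr
  exact pow_eq_zero_iff (two_ne_zero) |>.mp this

/-- Two quadratic elements of an odd order group have a common nonzero fixed vector. -/
theorem exists_fixed_of_quadratic_pair [IsAlgClosed K] (p : ℕ) [Fact p.Prime] [CharP K p]
    {V : Type*} [AddCommGroup V] [Module K V] [FiniteDimensional K V] [Nontrivial V]
    {H : Type*} [Group H] [Finite H] (hodd : Odd (Nat.card H)) (ρ : H →* Module.End K V)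
    {a b : H} (ha : (ρ a - 1) * (ρ a - 1) = 0) (hb : (ρ b - 1) * (ρ b - 1) = 0) :
    ∃ w : V, w ≠ 0 ∧ ρ a w = w ∧ ρ b w = w := by
  set A := ρ a - 1 with hA
  set B := ρ b - 1 with hB
  have hAa : ∀ v, ρ a v = A v + v := fun v => by simp [hA]
  have hBb : ∀ v, ρ b v = B v + v := fun v => by simp [hB]
  have hAA : ∀ v, A (A v) = 0 := fun v => congrArg (fun f : Module.End K V => f v) ha
  have hBB : ∀ v, B (B v) = 0 := fun v => congrArg (fun f : Module.End K V => f v) hb
  obtain ⟨c, hc⟩ := Module.End.exists_eigenvalue (A * B + B * A)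
  obtain ⟨v, hv⟩ := hc.exists_hasEigenvector
  have hv1 : A (B v) + B (A v) = c • v := hv.apply_eq_smul
  obtain ⟨w, hw0, hwA, hwc⟩ : ∃ w : V, w ≠ 0 ∧ A w = 0 ∧ A (B w) = c • w := by
    by_cases h : A v = 0
    · exact ⟨v, hv.2, h, by rw [← hv1, h, map_zero, add_zero]⟩
    · refine ⟨A v, h, hAA v, ?_⟩
      have := congrArg A hv1
      rwa [map_add, hAA, zero_add, map_smul] at this
  by_cases hwB : B w = 0
  · exact ⟨w, hw0, by rw [hAa, hwA, zero_add], by rw [hBb, hwB, zero_add]⟩
  suffices hc0 : c = 0 by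
    exact ⟨B w, hwB, by rw [hAa, hwc, hc0, zero_smul, zero_add], by rw [hBb, hBB, zero_add]⟩
  let ι : (Fin 2 → K) → V := fun t => t 0 • w + t 1 • B w
  have hι : Function.Injective ι := by
    intro s t hst
    have h1 : (s 0 - t 0) • w + (s 1 - t 1) • B w = 0 := by
      have : s 0 • w + s 1 • B w = t 0 • w + t 1 • B w := hst
      rw [sub_smul, sub_smul, sub_add_sub_comm, this, sub_self]
    have h2 := congrArg B h1
    rw [map_add, map_smul, map_smul, hBB, smul_zero, add_zero, map_zero] at h2
    have h3 : s 0 - t 0 = 0 := (smul_eq_zero.mp h2).resolve_right hwB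
    rw [h3, zero_smul, zero_add] at h1
    have h4 : s 1 - t 1 = 0 := (smul_eq_zero.mp h1).resolve_right hwB
    ext i
    fin_cases i
    · exact sub_eq_zero.mp h3
    · exact sub_eq_zero.mp h4
  let T : Subgroup (H × Matrix.SpecialLinearGroup (Fin 2) K) :=
    { carrier := {z | ∀ t, ρ z.1 (ι t) = ι ((z.2 : Matrix (Fin 2) (Fin 2) K) *ᵥ t)}
      mul_mem' := fun {x y} hx hy t => by
        simp only [Prod.fst_mul, Prod.snd_mul, map_mul, Module.End.mul_apply,
          Matrix.SpecialLinearGroup.coe_mul, ← Matrix.mulVec_mulVec]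
        rw [hy t, hx]
      one_mem' := fun t => by simp
      inv_mem' := fun {x} hx t => by
        have h1 := hx (((x.2⁻¹ : Matrix.SpecialLinearGroup (Fin 2) K) : Matrix (Fin 2) (Fin 2) K) *ᵥ t)
        rw [Matrix.mulVec_mulVec, ← Matrix.SpecialLinearGroup.coe_mul, mul_inv_cancel,
          Matrix.SpecialLinearGroup.coe_one, Matrix.one_mulVec] at h1
        rw [← h1, ← Module.End.mul_apply, ← map_mul, Prod.fst_inv, inv_mul_cancel, map_one]
        rfl }
  have hinj : Function.Injective ((MonoidHom.fst _ _).comp T.subtype) := by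
    rw [injective_iff_map_eq_one]
    rintro ⟨⟨x, M⟩, hz⟩ h1
    have hx : x = 1 := h1
    subst hx
    have hM : ∀ t, (M : Matrix (Fin 2) (Fin 2) K) *ᵥ t = t := fun t => (hι (by
      have := hz t
      simpa using this)).symm
    have : M = 1 := by
      apply Subtype.ext
      ext i j
      have := congrFun (hM (Pi.single j 1)) i
      rw [Matrix.mulVec_single_one] at this
      simpa [Matrix.one_apply, Pi.single_apply] using this
    subst this
    rfl
  have hTfin : Finite T := Finite.of_injective _ hinj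
  have hTodd : Odd (Nat.card T) :=
    hodd.of_dvd_nat (Subgroup.card_dvd_of_injective _ hinj)
  let S := ((MonoidHom.snd _ _).comp T.subtype).range
  have hSfin : Finite S := Finite.of_surjective _ (MonoidHom.rangeRestrict_surjective _)
  have hSodd : Odd (Nat.card S) :=
    hTodd.of_dvd_nat (Subgroup.card_dvd_of_surjective _ (MonoidHom.rangeRestrict_surjective _))
  let x : Matrix.SpecialLinearGroup (Fin 2) K := ⟨!![1, c; 0, 1], by simp⟩
  let y : Matrix.SpecialLinearGroup (Fin 2) K := ⟨!![1, 0; 1, 1], by simp⟩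
  have hxT : (a, x) ∈ T := fun t => by
    simp only [ι, x, map_add, map_smul, hAa, hwA, hwc, Matrix.mulVec, dotProduct,
      Fin.sum_univ_two, Matrix.of_apply, Matrix.cons_val', Matrix.cons_val_zero,
      Matrix.cons_val_one, Matrix.cons_val_fin_one]
    module
  have hyT : (b, y) ∈ T := fun t => by
    simp only [ι, y, map_add, map_smul, hBb, hBB, Matrix.mulVec, dotProduct,
      Fin.sum_univ_two, Matrix.of_apply, Matrix.cons_val', Matrix.cons_val_zero,
      Matrix.cons_val_one, Matrix.cons_val_fin_one]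
    module
  exact eq_zero_of_transvections_mem p S hSodd (x := x) (y := y) rfl rfl ⟨⟨_, hxT⟩, rfl⟩
    ⟨⟨_, hyT⟩, rfl⟩

theorem quadratic_pair_aux [IsAlgClosed K] (p : ℕ) [Fact p.Prime] [CharP K p]
    {H : Type*} [Group H] [Finite H] (hodd : Odd (Nat.card H)) {a b : H}
    (hab : Subgroup.closure {a, b} = ⊤) {h : H} (hh : (orderOf h).Coprime p) (n : ℕ) :
    ∀ {V : Type*} [AddCommGroup V] [Module K V] [FiniteDimensional K V],
      Module.finrank K V ≤ n → ∀ (ρ : H →* Module.End K V), (ρ a - 1) * (ρ a - 1) = 0 →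
        (ρ b - 1) * (ρ b - 1) = 0 → ρ h = 1 := by
  induction n with
  | zero =>
    intro V _ _ _ hn ρ _ _
    have : Subsingleton V := Module.finrank_zero_iff.mp (Nat.le_zero.mp hn)
    exact Subsingleton.elim _ _
  | succ n ih =>
    intro V _ _ _ hn ρ ha hb
    rcases subsingleton_or_nontrivial V with hV | hV
    · exact Subsingleton.elim _ _
    obtain ⟨w, hw0, hwa, hwb⟩ := exists_fixed_of_quadratic_pair p hodd ρ ha hb
    have hfix : ∀ x : H, ρ x w = w := by
      intro x
      have hx : x ∈ Subgroup.closure {a, b} := hab ▸ Subgroup.mem_top x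
      induction hx using Subgroup.closure_induction with
      | mem y hy =>
        rcases hy with rfl | rfl
        · exact hwa
        · exact hwb
      | one => simp
      | mul y z _ _ hy hz => rw [map_mul, Module.End.mul_apply, hz, hy]
      | inv y _ hy =>
        conv_lhs => rw [← hy]
        rw [← Module.End.mul_apply, ← map_mul, inv_mul_cancel, map_one, Module.End.one_apply]
    let W : Submodule K V := Submodule.span K {w}
    have hWfix : ∀ x : H, ∀ v ∈ W, ρ x v = v := by
      intro x v hv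
      obtain ⟨t, rfl⟩ := Submodule.mem_span_singleton.mp hv
      rw [map_smul, hfix]
    have hW : ∀ x : H, W ≤ W.comap (ρ x) := fun x v hv => by
      rw [Submodule.mem_comap, hWfix x v hv]; exact hv
    let ρ' : H →* Module.End K (V ⧸ W) := Representation.quotient ρ W hW
    have hρ' : ∀ (x : H) (v : V), ρ' x (W.mkQ v) = W.mkQ (ρ x v) := fun x v => rfl
    have hq : ∀ x : H, (ρ x - 1) * (ρ x - 1) = 0 → (ρ' x - 1) * (ρ' x - 1) = 0 := by
      intro x hx
      apply LinearMap.ext
      intro q
      obtain ⟨v, rfl⟩ := W.mkQ_surjective q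
      have h1 : ρ x (ρ x v - v) - (ρ x v - v) = 0 :=
        congrArg (fun f : Module.End K V => f v) hx
      change ρ' x (ρ' x (W.mkQ v) - W.mkQ v) - (ρ' x (W.mkQ v) - W.mkQ v) = 0
      rw [hρ', ← map_sub, hρ', ← map_sub, h1, map_zero]
    have hrank : Module.finrank K (V ⧸ W) ≤ n := by
      have h1 := Submodule.finrank_quotient_add_finrank W
      have h2 : Module.finrank K W = 1 := finrank_span_singleton hw0
      omega
    have h1 := ih hrank ρ' (hq a ha) (hq b hb)
    have h2 : (ρ h - 1) * (ρ h - 1) = 0 := by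
      apply LinearMap.ext
      intro v
      have h3 : ρ h v - v ∈ W := by
        rw [← Submodule.Quotient.eq]
        change W.mkQ (ρ h v) = W.mkQ v
        rw [← hρ', h1, Module.End.one_apply]
      change ρ h (ρ h v - v) - (ρ h v - v) = 0
      rw [hWfix h _ h3, sub_self]
    have h3 := pow_eq_of_sub_one_sq_eq_zero h2 (orderOf h)
    rw [← map_pow, pow_orderOf_eq_one, map_one] at h3
    have h4 : ((orderOf h : ℕ) : K) • (ρ h - 1) = 0 := by
      rw [Nat.cast_smul_eq_nsmul, nsmul_eq_mul]
      exact (left_eq_add.mp h3)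
    have h5 : ((orderOf h : ℕ) : K) ≠ 0 := fun h6 =>
      (Nat.Prime.coprime_iff_not_dvd Fact.out).mp hh.symm ((CharP.cast_eq_zero_iff K p _).mp h6)
    exact sub_eq_zero.mp ((smul_eq_zero.mp h4).resolve_left h5)

/-- If an odd order group is generated by two elements acting quadratically on a vector space in
characteristic `p`, its `p'`-elements act trivially. -/
theorem quadratic_pair_eq_one (p : ℕ) [Fact p.Prime] [CharP K p]
    {V : Type*} [AddCommGroup V] [Module K V] [FiniteDimensional K V]
    {H : Type*} [Group H] [Finite H] (hodd : Odd (Nat.card H)) {a b : H}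
    (hab : Subgroup.closure {a, b} = ⊤) (ρ : H →* Module.End K V)
    (ha : (ρ a - 1) * (ρ a - 1) = 0) (hb : (ρ b - 1) * (ρ b - 1) = 0)
    {h : H} (hh : (orderOf h).Coprime p) : ρ h = 1 := by
  classical
  let L := AlgebraicClosure K
  let e := Module.finBasis K V
  let Φ : Module.End K V →+* Module.End L (Fin (Module.finrank K V) → L) :=
    (Matrix.toLinAlgEquiv' (R := L)).toRingEquiv.toRingHom.comp
      (((algebraMap K L).mapMatrix).comp (LinearMap.toMatrixAlgEquiv e).toRingEquiv.toRingHom)
  have hΦ : Function.Injective Φ :=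
    (Matrix.toLinAlgEquiv' (R := L)).injective.comp
      ((Matrix.map_injective (algebraMap K L).injective).comp
        (LinearMap.toMatrixAlgEquiv e).injective)
  have hq : ∀ x : H, (ρ x - 1) * (ρ x - 1) = 0 → (Φ (ρ x) - 1) * (Φ (ρ x) - 1) = 0 := by
    intro x hx
    rw [← map_one Φ, ← map_sub, ← map_mul, hx, map_zero]
  have := quadratic_pair_aux p hodd hab hh _ le_rfl (Φ.toMonoidHom.comp ρ) (hq a ha) (hq b hb)
  exact hΦ (this.trans (map_one Φ).symm)

end Linear

theorem quadratic_pair_addMonoidEnd_eq_one (p : ℕ) [Fact p.Prime] {V : Type*} [AddCommGroup V]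
    [Finite V] [Module (ZMod p) V]
    {H : Type*} [Group H] [Finite H] (hodd : Odd (Nat.card H)) {a b : H}
    (hab : Subgroup.closure {a, b} = ⊤) (φ : H →* AddMonoid.End V)
    (ha : ∀ v, φ a (φ a v - v) = φ a v - v) (hb : ∀ v, φ b (φ b v - v) = φ b v - v)
    {h : H} (hh : (orderOf h).Coprime p) : φ h = 1 := by
  let ρ : H →* Module.End (ZMod p) V :=
    { toFun := fun x => AddMonoidHom.toZModLinearMap p (φ x)
      map_one' := by rw [map_one]; rfl
      map_mul' := fun x y => by rw [map_mul]; rfl }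
  have hq : ∀ x : H, (∀ v, φ x (φ x v - v) = φ x v - v) → (ρ x - 1) * (ρ x - 1) = 0 := by
    intro x hx
    apply LinearMap.ext
    intro v
    exact sub_eq_zero.mpr (hx v)
  have := quadratic_pair_eq_one p hodd hab ρ (hq a ha) (hq b hb) hh
  ext v
  exact congrArg (fun f : Module.End (ZMod p) V => f v) this

theorem quadratic_pair_mulAut_eq_one_aux (p : ℕ) [Fact p.Prime] {W : Type*} [CommGroup W]
    [Finite W] (hW : ∀ w : W, w ^ p = 1)
    {H : Type*} [Group H] [Finite H] (hodd : Odd (Nat.card H)) {a b : H}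
    (hab : Subgroup.closure {a, b} = ⊤) (φ : H →* MulAut W)
    (ha : ∀ w, φ a (φ a w * w⁻¹) = φ a w * w⁻¹) (hb : ∀ w, φ b (φ b w * w⁻¹) = φ b w * w⁻¹)
    {h : H} (hh : (orderOf h).Coprime p) : φ h = 1 := by
  let ψ : H →* AddMonoid.End (Additive W) :=
    { toFun := fun x => MonoidHom.toAdditive (φ x).toMonoidHom
      map_one' := by rw [map_one]; rfl
      map_mul' := fun x y => by rw [map_mul]; rfl }
  have hq : ∀ x : H, (∀ w, φ x (φ x w * w⁻¹) = φ x w * w⁻¹) →
      ∀ v, ψ x (ψ x v - v) = ψ x v - v := by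
    intro x hx v
    rw [sub_eq_add_neg]
    exact congrArg Additive.ofMul (hx v.toMul)
  have := @quadratic_pair_addMonoidEnd_eq_one p _ (Additive W) _ _
    (AddCommGroup.zmodModule fun x => hW x.toMul) H _ _ hodd a b hab ψ (hq a ha) (hq b hb) h hh
  ext w
  exact congrArg Additive.toMul (congrArg (fun f : AddMonoid.End (Additive W) =>
    f (Additive.ofMul w)) this)

/-- The same for an action on an elementary abelian `p`-group. -/
theorem quadratic_pair_mulAut_eq_one (p : ℕ) [Fact p.Prime] {W : Type*} [Group W] [Finite W]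
    [IsMulCommutative W] (hW : ∀ w : W, w ^ p = 1)
    {H : Type*} [Group H] [Finite H] (hodd : Odd (Nat.card H)) {a b : H}
    (hab : Subgroup.closure {a, b} = ⊤) (φ : H →* MulAut W)
    (ha : ∀ w, φ a (φ a w * w⁻¹) = φ a w * w⁻¹) (hb : ∀ w, φ b (φ b w * w⁻¹) = φ b w * w⁻¹)
    {h : H} (hh : (orderOf h).Coprime p) : φ h = 1 :=
  @quadratic_pair_mulAut_eq_one_aux p _ W { ‹Group W› with mul_comm := mul_comm' } _ hW H _ _ hodd
    a b hab φ ha hb h hh

end CL.BG
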