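import Cfsg.Agent.Base
import Cfsg.Agent.BG.QuadPair
import Cfsg.Agent.BG.Defs
import Cfsg.Agent.Invol.BaerSuzuki
import Cfsg.Agent.S0012
import Cfsg.Agent.Solv.Coprime

/-!
# Groups of odd order are `p`-stable (BG Appendix A, Theorem A.4)
-/

set_option autoImplicit false

namespace CL.BG

open Cfsg Subgroup
open scoped commutatorElement

variable {G : Type*} [Group G]

theorem closure_pair_subtype_eq_top {a b : G} :
    closure ({⟨a, subset_closure (by simp)⟩, ⟨b, subset_closure (by simp)⟩} :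
      Set (closure ({a, b} : Set G))) = ⊤ := by
  apply map_injective (closure ({a, b} : Set G)).subtype_injective
  rw [MonoidHom.map_closure, ← MonoidHom.range_eq_map, range_subtype]
  congr 1
  simp [Set.image_pair]

/-- Burnside: a coprime action that is trivial modulo the Frattini subgroup is trivial. -/
theorem le_centralizer_of_trivial_mod_frattini [Finite G] (A K : Subgroup G) [K.Normal]
    (hcop : (Nat.card A).Coprime (Nat.card (frattini K)))
    (htriv : ∀ a ∈ A, ∀ k ∈ K, a * k * a⁻¹ * k⁻¹ ∈ (frattini K).map K.subtype) :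
    A ≤ 𝐂(K) := by
  have hF : Group.IsSolvable ((frattini K).map K.subtype) :=
    haveI : Group.IsNilpotent (frattini K) := frattini_nilpotent
    Group.isSolvable_of_surjective
      (f := ((frattini K).equivMapOfInjective K.subtype K.subtype_injective).toMonoidHom)
      (MulEquiv.surjective _)
  have h1 : frattini K ⊔ (𝐂(A)).subgroupOf K = ⊤ := by
    rw [eq_top_iff]
    rintro ⟨k, hk⟩ -
    obtain ⟨_, ⟨n, hn, rfl⟩, c, hc, h⟩ := CL.coprime_fixed_mod (A := A) (K := K)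
      (N := (frattini K).map K.subtype) le_normalizer_of_normal
      (by rwa [CL.card_map_subtype]) (Or.inr hF) (map_subtype_le _) hk (fun a ha => htriv a ha k hk)
    have : (⟨k, hk⟩ : K) = n * ⟨c, hc.1⟩ := Subtype.ext h
    rw [this]
    exact mul_mem_sup hn hc.2
  have h2 := frattini_nongenerating (sup_comm (frattini K) _ ▸ h1)
  rw [subgroupOf_eq_top] at h2
  exact le_centralizer_iff.mp h2

/-- A `p'`-element of an odd order group generated by two elements acting quadratically on a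
normal `p`-subgroup `P` centralises `P`. -/
theorem mem_centralizer_of_quadratic_pair [Finite G] {p : ℕ} [Fact p.Prime] {P : Subgroup G}
    [P.Normal] (hP : IsPGroup p P) {a b : G} (hodd : Odd (Nat.card (closure ({a, b} : Set G))))
    (ha : ∀ x ∈ P, a * (a * x * a⁻¹ * x⁻¹) * a⁻¹ = a * x * a⁻¹ * x⁻¹)
    (hb : ∀ x ∈ P, b * (b * x * b⁻¹ * x⁻¹) * b⁻¹ = b * x * b⁻¹ * x⁻¹)
    {h : G} (hh : h ∈ closure ({a, b} : Set G)) (hcop : (orderOf h).Coprime p) :
    h ∈ 𝐂(P) := by
  let Φ : Subgroup G := (frattini P).map P.subtype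
  let V : Subgroup (G ⧸ Φ) := P.map (QuotientGroup.mk' Φ)
  have hVn : V.Normal := Normal.map inferInstance _ (QuotientGroup.mk'_surjective Φ)
  obtain ⟨h1, h2⟩ := Cfsg.Agent.S0012.result p hP
  have hVc : IsMulCommutative V := by
    apply IsMulCommutative.of_comm
    rintro ⟨_, x, hx, rfl⟩ ⟨_, y, hy, rfl⟩
    apply Subtype.ext
    change QuotientGroup.mk' Φ x * QuotientGroup.mk' Φ y =
      QuotientGroup.mk' Φ y * QuotientGroup.mk' Φ x
    rw [← commutatorElement_eq_one_iff_mul_comm, ← map_commutatorElement,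
      QuotientGroup.mk'_apply, QuotientGroup.eq_one_iff]
    exact ⟨⁅(⟨x, hx⟩ : P), (⟨y, hy⟩ : P)⁆, h1 (commutator_mem_commutator (mem_top _) (mem_top _)),
      rfl⟩
  have hVp : ∀ w : V, w ^ p = 1 := by
    rintro ⟨_, x, hx, rfl⟩
    apply Subtype.ext
    change QuotientGroup.mk' Φ x ^ p = 1
    rw [← map_pow, QuotientGroup.mk'_apply, QuotientGroup.eq_one_iff]
    exact ⟨(⟨x, hx⟩ : P) ^ p, h2 _, rfl⟩
  let φ : closure ({a, b} : Set G) →* MulAut V :=
    MulAut.conjNormal.comp ((QuotientGroup.mk' Φ).comp (closure ({a, b} : Set G)).subtype)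
  have hq : ∀ c : closure ({a, b} : Set G),
      (∀ x ∈ P, (c : G) * (c * x * (c : G)⁻¹ * x⁻¹) * (c : G)⁻¹ = c * x * (c : G)⁻¹ * x⁻¹) →
      ∀ w, φ c (φ c w * w⁻¹) = φ c w * w⁻¹ := by
    rintro c hc ⟨_, x, hx, rfl⟩
    apply Subtype.ext
    exact congrArg (QuotientGroup.mk' Φ) (hc x hx)
  have key := quadratic_pair_mulAut_eq_one p hVp hodd closure_pair_subtype_eq_top φ
    (hq _ ha) (hq _ hb) (h := ⟨h, hh⟩) (by rwa [← orderOf_coe])
  have hz : zpowers h ≤ MonoidHom.ker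
      ((MulAut.conjNormal (H := V)).comp (QuotientGroup.mk' Φ)) := zpowers_le.mpr key
  refine le_centralizer_of_trivial_mod_frattini (zpowers h) P ?_ ?_ (mem_zpowers h)
  · obtain ⟨k, hk⟩ := IsPGroup.iff_card.mp (hP.to_subgroup (frattini P))
    rw [hk, Nat.card_zpowers]
    exact hcop.pow_right k
  · intro y hy k hk
    have h3 := congrArg (fun f : MulAut V => (f ⟨_, k, hk, rfl⟩ : G ⧸ Φ)) (hz hy)
    simp only [MonoidHom.comp_apply, MulAut.conjNormal_apply, MulAut.one_apply] at h3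
    rw [← QuotientGroup.eq_one_iff (N := Φ)]
    change QuotientGroup.mk' Φ _ = 1
    rw [map_mul, map_mul, map_mul, map_inv, map_inv, h3, mul_inv_cancel]

theorem quadratic_elt_of_commutator_eq_bot {P A : Subgroup G} (hq : ⁅⁅P, A⁆, A⁆ = ⊥) {a : G}
    (ha : a ∈ A) : ∀ x ∈ P, a * (a * x * a⁻¹ * x⁻¹) * a⁻¹ = a * x * a⁻¹ * x⁻¹ := by
  intro x hx
  have h1 : ⁅a, x⁆ ∈ ⁅P, A⁆ := commutator_comm A P ▸ commutator_mem_commutator ha hx
  have h2 := commutator_eq_bot_iff_le_centralizer.mp hq h1 a ha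
  rw [mul_inv_eq_iff_eq_mul]
  exact h2

/-- element form of `p`-stability for groups of odd order -/
theorem odd_mem_pCore_of_quadratic [Finite G] (hodd : Odd (Nat.card G)) {p : ℕ} [Fact p.Prime]
    {P : Subgroup G} [P.Normal] (hP : IsPGroup p P) (C : Subgroup G) [C.Normal] (hC : 𝐂(P) ≤ C)
    {a : G} (ha : ∀ x ∈ P, a * (a * x * a⁻¹ * x⁻¹) * a⁻¹ = a * x * a⁻¹ * x⁻¹) :
    (QuotientGroup.mk a : G ⧸ C) ∈ pCore p (G ⧸ C) := by
  apply CL.Invol.mem_pCore_of_baerSuzuki
  intro g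
  obtain ⟨g, rfl⟩ := QuotientGroup.mk_surjective g
  have hb : ∀ x ∈ P, (g * a * g⁻¹) * ((g * a * g⁻¹) * x * (g * a * g⁻¹)⁻¹ * x⁻¹) *
      (g * a * g⁻¹)⁻¹ = (g * a * g⁻¹) * x * (g * a * g⁻¹)⁻¹ * x⁻¹ := by
    intro x hx
    have := ha _ (Normal.conj_mem' inferInstance x hx g)
    calc _ = g * (a * (a * (g⁻¹ * x * g) * a⁻¹ * (g⁻¹ * x * g)⁻¹) * a⁻¹) * g⁻¹ := by group
      _ = _ := by rw [this]; group
  have hmap : closure ({(a : G ⧸ C), (g : G ⧸ C) * a * (g : G ⧸ C)⁻¹} : Set (G ⧸ C)) =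
      (closure ({a, g * a * g⁻¹} : Set G)).map (QuotientGroup.mk' C) := by
    rw [MonoidHom.map_closure]
    congr 1
    simp [Set.image_pair]
  rw [hmap]
  rintro ⟨_, x, hx, rfl⟩
  have hx0 : orderOf x ≠ 0 := (orderOf_pos x).ne'
  refine ⟨(orderOf x).factorization p, Subtype.ext ?_⟩
  change QuotientGroup.mk' C x ^ _ = 1
  rw [← map_pow, QuotientGroup.mk'_apply, QuotientGroup.eq_one_iff]
  apply hC
  refine mem_centralizer_of_quadratic_pair hP (hodd.of_dvd_nat (card_subgroup_dvd_card _)) ha hb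
    (pow_mem hx _) ?_
  rw [orderOf_pow_of_dvd (pow_ne_zero _ (Fact.out : p.Prime).ne_zero) (Nat.ordProj_dvd _ _)]
  exact (Nat.coprime_ordCompl Fact.out hx0).symm

/-- **BG A.4(c)**: a group of odd order acts `p`-stably on each normal `p`-subgroup. -/
theorem odd_isPStableOn [Finite G] (hodd : Odd (Nat.card G)) {p : ℕ} [Fact p.Prime]
    (P : Subgroup G) [P.Normal] (hP : IsPGroup p P) : IsPStableOn p P := fun a ha =>
  odd_mem_pCore_of_quadratic hodd hP _ le_rfl
    (quadratic_elt_of_commutator_eq_bot ha (mem_zpowers a))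

/-- subgroup form -/
theorem odd_map_le_pCore_of_quadratic [Finite G] (hodd : Odd (Nat.card G)) {p : ℕ} [Fact p.Prime]
    {P : Subgroup G} [P.Normal] (hP : IsPGroup p P) (C : Subgroup G) [C.Normal] (hC : 𝐂(P) ≤ C)
    {A : Subgroup G} (hq : ⁅⁅P, A⁆, A⁆ = ⊥) :
    A.map (QuotientGroup.mk' C) ≤ pCore p (G ⧸ C) := by
  rintro _ ⟨a, ha, rfl⟩
  exact odd_mem_pCore_of_quadratic hodd hP C hC (quadratic_elt_of_commutator_eq_bot hq ha)

/-- **BG A.5(a)**: an abelian subgroup normalised by a normal `p`-subgroup `P` maps into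
`O_p(G / C(P))`. -/
theorem odd_map_le_pCore_of_abelian [Finite G] (hodd : Odd (Nat.card G)) {p : ℕ} [Fact p.Prime]
    {P : Subgroup G} [P.Normal] (hP : IsPGroup p P) (C : Subgroup G) [C.Normal] (hC : 𝐂(P) ≤ C)
    {B : Subgroup G} (hB : IsMulCommutative B) (hPB : P ≤ 𝐍(B)) :
    B.map (QuotientGroup.mk' C) ≤ pCore p (G ⧸ C) := by
  apply odd_map_le_pCore_of_quadratic hodd hP C hC
  rw [eq_bot_iff, ← commutator_self_eq_bot_iff.mpr hB]
  exact commutator_mono (le_normalizer_iff_commutator_le_right.mp hPB) le_rfl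

end CL.BG
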