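import Cfsg.Agent.BG.Conj
import Cfsg.Agent.Solv.Hall
import Cfsg.Agent.Transfer.SylowIn
import Cfsg.Agent.Auto.ACL_BG_primesOfNat_8872e2

/-!
# `π`-numbers, `π`-groups, `π`-elements, Hall and Sylow subgroups of ambient subgroups
-/

namespace CL.BG

open Cfsg Subgroup

variable {G G' : Type*} [Group G] [Group G'] {H K L M N A B X Y P Q R : Subgroup G} {g x y : G}
  {π ρ : Set ℕ} {p q m n : ℕ}

/-! ### `π`-numbers -/

theorem piNat_iff : PiNat π n ↔ ∀ p : ℕ, p.Prime → p ∣ n → p ∈ π := Iff.rfl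

theorem piNat_iff_isPiNum : PiNat π n ↔ IsPiNum π n := Iff.rfl

theorem PiNat.mono' (h : PiNat π n) (hπ : ∀ p : ℕ, p.Prime → p ∣ n → p ∈ π → p ∈ ρ) :
    PiNat ρ n := fun p hp hd => hπ p hp hd (h p hp hd)

theorem piNat_congr (h : ∀ p : ℕ, p.Prime → p ∣ n → (p ∈ π ↔ p ∈ ρ)) : PiNat π n ↔ PiNat ρ n :=
  ⟨fun h' => h'.mono' fun p hp hd => (h p hp hd).1, fun h' => h'.mono' fun p hp hd => (h p hp hd).2⟩

theorem piNat_one (π : Set ℕ) : PiNat π 1 := IsPiNum.one π

theorem PiNat.not_dvd (h : PiNat π n) (hp : p.Prime) (hπ : p ∉ π) : ¬ p ∣ n :=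
  fun hd => hπ (h p hp hd)

theorem piNat_prime_iff (hp : p.Prime) : PiNat π p ↔ p ∈ π := IsPiNum.prime_iff hp

theorem piNat_compl_singleton_iff (hp : p.Prime) : PiNat {p}ᶜ n ↔ ¬ p ∣ n :=
  IsPiNum.compl_singleton_iff hp

theorem piNat_singleton_iff (hp : p.Prime) (hn : n ≠ 0) : PiNat {p} n ↔ ∃ k, n = p ^ k :=
  IsPiNum.singleton_iff hp hn

theorem mem_primesOfNat : p ∈ primesOfNat n ↔ p.Prime ∧ p ∣ n := Iff.rfl

theorem piNat_primesOfNat (n : ℕ) : PiNat (primesOfNat n) n := fun _ hp hd => ⟨hp, hd⟩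

theorem piNat_iff_subset : PiNat π n ↔ primesOfNat n ⊆ π :=
  ⟨fun h p hp => h p hp.1 hp.2, fun h _ hp hd => h ⟨hp, hd⟩⟩

theorem piNat_compl_primesOfNat_iff : PiNat (primesOfNat n)ᶜ m ↔ m.Coprime n :=
  ⟨fun h => (IsPiNum.coprime (piNat_primesOfNat n) h).symm, fun h _ hp hd hn =>
    hp.ne_one (Nat.eq_one_of_dvd_coprimes h hd hn.2)⟩

theorem piNat_primesNotDvd_iff : PiNat (primesNotDvd n) m ↔ m.Coprime n := by
  rw [← piNat_compl_primesOfNat_iff]
  exact piNat_congr fun p hp _ => by simp [primesNotDvd, primesOfNat, hp]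

/-! ### `π`-groups -/

theorem piGrp_iff : PiGrp π H ↔ ∀ p : ℕ, p.Prime → p ∣ Nat.card H → p ∈ π := Iff.rfl

theorem mem_primesOf : p ∈ primesOf H ↔ p.Prime ∧ p ∣ Nat.card H := Iff.rfl

theorem piGrp_bot (π : Set ℕ) : PiGrp π (⊥ : Subgroup G) := by
  unfold PiGrp; rw [card_bot]; exact piNat_one π

theorem piGrp_primesOf (H : Subgroup G) : PiGrp (primesOf H) H := piNat_primesOfNat _

theorem piGrp_iff_subset : PiGrp π H ↔ primesOf H ⊆ π := piNat_iff_subset

theorem piGrp_congr (h : ∀ p : ℕ, p.Prime → p ∣ Nat.card H → (p ∈ π ↔ p ∈ ρ)) :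
    PiGrp π H ↔ PiGrp ρ H := piNat_congr h

theorem piGrp_compl_primesOf_iff : PiGrp (primesOf K)ᶜ H ↔ (Nat.card H).Coprime (Nat.card K) :=
  piNat_compl_primesOfNat_iff

theorem piGrp_compl_singleton_iff (hp : p.Prime) : PiGrp {p}ᶜ H ↔ ¬ p ∣ Nat.card H :=
  IsPiNum.compl_singleton_iff hp

theorem piGrp_compl_singleton_iff_coprime (hp : p.Prime) :
    PiGrp {p}ᶜ H ↔ (Nat.card H).Coprime p := IsPiNum.compl_singleton_iff_coprime hp

theorem piGrp_singleton_iff [Finite G] (hp : p.Prime) : PiGrp {p} H ↔ IsPGroup p H :=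
  (Pi.isPGroup_iff_isPiNum hp).symm

theorem piGrp_of_isPGroup [Finite G] (hp : p.Prime) (h : IsPGroup p H) (hπ : p ∈ π) :
    PiGrp π H := Pi.isPiNum_card_of_isPGroup hp hπ h

theorem piGrp_iff_of_card_prime (hp : p.Prime) (h : Nat.card X = p) : PiGrp π X ↔ p ∈ π := by
  unfold PiGrp; rw [h]; exact piNat_prime_iff hp

theorem isPGroup_of_card_prime (h : Nat.card X = p) : IsPGroup p X :=
  IsPGroup.of_card (n := 1) (by rw [h, pow_one])

theorem dvd_card_of_isPGroup [Finite G] (hp : p.Prime) (h : IsPGroup p H) (hne : H ≠ ⊥) :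
    p ∣ Nat.card H := by
  obtain ⟨q, hq, hd⟩ := exists_prime_dvd_card hne
  have := (piGrp_singleton_iff hp).2 h q hq hd
  rwa [Set.mem_singleton_iff.1 this] at hd

theorem piGrp_iff_of_isPGroup [Finite G] (hp : p.Prime) (h : IsPGroup p H) (hne : H ≠ ⊥) :
    PiGrp π H ↔ p ∈ π :=
  ⟨fun h' => h' p hp (dvd_card_of_isPGroup hp h hne), piGrp_of_isPGroup hp h⟩

theorem piGrp_iff_piElt [Finite G] : PiGrp π H ↔ ∀ x ∈ H, PiElt π x :=
  Pi.isPiNum_card_subgroup_iff_orderOf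

theorem piGrp_zpowers : PiGrp π (zpowers x) ↔ PiElt π x := by
  unfold PiGrp PiElt; rw [Nat.card_zpowers]

theorem piGrp_map_iff {f : G →* G'} (hf : Function.Injective f) :
    PiGrp π (H.map f) ↔ PiGrp π H := by
  unfold PiGrp; rw [card_map_of_injective hf]

theorem piGrp_cj : PiGrp π (cj g H) ↔ PiGrp π H := piGrp_map_iff (conj_injective g)

theorem disj_of_coprime (h : (Nat.card H).Coprime (Nat.card K)) : H ⊓ K = ⊥ :=
  (disjoint_of_coprime_natCard h).eq_bot

namespace PiGrp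

theorem of_le (h : PiGrp π H) (hK : K ≤ H) : PiGrp π K := Pi.isPiNum_card_of_le h hK

theorem mono (h : PiGrp π H) (hπ : π ⊆ ρ) : PiGrp ρ H := IsPiNum.mono h hπ

theorem mono' (h : PiGrp π H) (hπ : ∀ p : ℕ, p.Prime → p ∣ Nat.card H → p ∈ π → p ∈ ρ) :
    PiGrp ρ H := PiNat.mono' h hπ

theorem inter (h₁ : PiGrp π H) (h₂ : PiGrp ρ H) : PiGrp (π ∩ ρ) H := IsPiNum.inter h₁ h₂

theorem inf_left (h : PiGrp π H) (K : Subgroup G) : PiGrp π (H ⊓ K) := h.of_le inf_le_left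

theorem inf_right (h : PiGrp π H) (K : Subgroup G) : PiGrp π (K ⊓ H) := h.of_le inf_le_right

/-- the join of two `π`-groups one of which normalises the other -/
theorem sup (hK : PiGrp π K) (hH : PiGrp π H) (h : H ≤ 𝐍(K) ∨ K ≤ 𝐍(H)) : PiGrp π (K ⊔ H) := by
  rcases h with h | h
  · rw [sup_comm]; exact Pi.isPiNum_card_sup h hH hK
  · exact Pi.isPiNum_card_sup h hK hH

theorem map (h : PiGrp π H) (f : G →* G') : PiGrp π (H.map f) := Pi.isPiNum_card_map h f

theorem cj (h : PiGrp π H) (g : G) : PiGrp π (cj g H) := h.map _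

theorem subgroupOf (h : PiGrp π H) (L : Subgroup G) : PiGrp π (H.subgroupOf L) :=
  Pi.isPiNum_card_subgroupOf h L

theorem coprime (hH : PiGrp π H) (hK : PiGrp πᶜ K) : (Nat.card H).Coprime (Nat.card K) :=
  IsPiNum.coprime hH hK

theorem coprime' (hH : PiGrp πᶜ H) (hK : PiGrp π K) : (Nat.card H).Coprime (Nat.card K) :=
  (IsPiNum.coprime hK hH).symm

theorem coprime_of_disjoint (hH : PiGrp π H) (hK : PiGrp ρ K) (h : Disjoint π ρ) :
    (Nat.card H).Coprime (Nat.card K) := IsPiNum.coprime_of_disjoint hH hK h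

theorem inf_eq_bot (hH : PiGrp π H) (hK : PiGrp πᶜ K) : H ⊓ K = ⊥ :=
  disj_of_coprime (hH.coprime hK)

theorem inf_eq_bot' (hH : PiGrp πᶜ H) (hK : PiGrp π K) : H ⊓ K = ⊥ :=
  disj_of_coprime (hH.coprime' hK)

theorem eq_bot (h : PiGrp π H) (h' : PiGrp πᶜ H) : H = ⊥ := by
  simpa using h.inf_eq_bot h'

theorem piElt (h : PiGrp π H) (hx : x ∈ H) : PiElt π x :=
  IsPiNum.of_dvd h (orderOf_dvd_card' hx)

theorem isPGroup [Finite G] (h : PiGrp {p} H) (hp : p.Prime) : IsPGroup p H :=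
  (piGrp_singleton_iff hp).1 h

theorem not_dvd (h : PiGrp π H) (hp : p.Prime) (hπ : p ∉ π) : ¬ p ∣ Nat.card H :=
  PiNat.not_dvd h hp hπ

theorem mem (h : PiGrp π H) (hp : p ∈ primesOf H) : p ∈ π := h p hp.1 hp.2

theorem mem_of_isPGroup [Finite G] (h : PiGrp π H) (hp : p.Prime) (hP : IsPGroup p P)
    (hne : P ≠ ⊥) (hle : P ≤ H) : p ∈ π :=
  (piGrp_iff_of_isPGroup hp hP hne).1 (h.of_le hle)

theorem relIndex (h : PiGrp π H) (K : Subgroup G) : PiNat π (K.relIndex H) :=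
  IsPiNum.of_dvd h (relIndex_dvd_card K H)

/-- an extension of a `π`-group by a `π`-index is a `π`-group -/
theorem of_relIndex (h : PiGrp π N) (hi : PiNat π (N.relIndex H)) : PiGrp π H := by
  unfold PiGrp
  rw [← card_inf_mul_relIndex N H]
  exact IsPiNum.mul (h.inf_left H) hi

/-- a `π`-group lies in a normal subgroup of `π'`-index -/
theorem le_of_relIndex (h : PiGrp π K) (hN : N ⊴ H) (hK : K ≤ H) (hi : PiNat πᶜ (N.relIndex H)) :
    K ≤ N := by
  rw [← relIndex_eq_one]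
  exact IsPiNum.eq_one (h.relIndex N) (IsPiNum.of_dvd hi (relIndex_dvd_of_normalIn hN hK))

/-- normalising each other, a `π`-group and a `π'`-group commute -/
theorem le_cent (hH : PiGrp π H) (hK : PiGrp πᶜ K) (h₁ : H ≤ 𝐍(K)) (h₂ : K ≤ 𝐍(H)) :
    H ≤ 𝐂(K) := le_cent_of_norm_of_disj h₁ h₂ (hH.inf_eq_bot hK)

end PiGrp

theorem piGrp_compl_compl : PiGrp πᶜᶜ H ↔ PiGrp π H := by rw [compl_compl]

theorem primesOf_mono (h : H ≤ K) : primesOf H ⊆ primesOf K :=
  piGrp_iff_subset.1 ((piGrp_primesOf K).of_le h)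

theorem primesOf_cj (g : G) (H : Subgroup G) : primesOf (cj g H) = primesOf H := by
  unfold primesOf; rw [card_cj]

theorem primesOf_map {f : G →* G'} (hf : Function.Injective f) (H : Subgroup G) :
    primesOf (H.map f) = primesOf H := by
  unfold primesOf; rw [card_map_of_injective hf]

theorem primesOf_nonempty [Finite G] (h : H ≠ ⊥) : (primesOf H).Nonempty :=
  exists_prime_dvd_card h

theorem mem_primesOf_of_isPGroup [Finite G] (hp : p.Prime) (hP : IsPGroup p P) (hne : P ≠ ⊥)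
    (hle : P ≤ H) : p ∈ primesOf H := (piGrp_primesOf H).mem_of_isPGroup hp hP hne hle

theorem mem_primesOf_of_card_eq (hp : p.Prime) (hX : Nat.card X = p) (hle : X ≤ H) :
    p ∈ primesOf H := ⟨hp, hX ▸ card_dvd_of_le hle⟩

theorem primesOf_sup (h : H ≤ 𝐍(K) ∨ K ≤ 𝐍(H)) : primesOf (K ⊔ H) = primesOf K ∪ primesOf H := by
  apply Set.Subset.antisymm
  · exact piGrp_iff_subset.1 (((piGrp_primesOf K).mono Set.subset_union_left).sup
      ((piGrp_primesOf H).mono Set.subset_union_right) h)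
  · exact Set.union_subset (primesOf_mono le_sup_left) (primesOf_mono le_sup_right)

theorem coprime_card_of_isPGroup [Finite G] (hp : p.Prime) (hP : IsPGroup p P)
    (hH : PiGrp {p}ᶜ H) : (Nat.card P).Coprime (Nat.card H) :=
  ((piGrp_singleton_iff hp).2 hP).coprime hH

theorem coprime_card_of_isPGroup_of_ne [Finite G] (hp : p.Prime) (hq : q.Prime) (hpq : p ≠ q)
    (hP : IsPGroup p P) (hQ : IsPGroup q Q) : (Nat.card P).Coprime (Nat.card Q) :=
  coprime_card_of_isPGroup hp hP (piGrp_of_isPGroup hq hQ hpq.symm)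

theorem coprime_card_mono (h : (Nat.card H).Coprime (Nat.card K)) (hA : A ≤ H) (hB : B ≤ K) :
    (Nat.card A).Coprime (Nat.card B) :=
  Nat.Coprime.coprime_dvd_left (card_dvd_of_le hA) (h.coprime_dvd_right (card_dvd_of_le hB))

theorem isPGroup_sup_of_norm (hP : IsPGroup p P) (hQ : IsPGroup p Q) (h : Q ≤ 𝐍(P) ∨ P ≤ 𝐍(Q)) :
    IsPGroup p ↥(P ⊔ Q) := by
  rcases h with h | h
  · exact IsPGroup.to_sup_of_normal_left' hP hQ h
  · exact IsPGroup.to_sup_of_normal_right' hP hQ h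

/-! ### `π`-elements and `π`-parts -/

theorem piElt_iff : PiElt π x ↔ ∀ p : ℕ, p.Prime → p ∣ orderOf x → p ∈ π := Iff.rfl

theorem piElt_one (π : Set ℕ) : PiElt π (1 : G) := by
  unfold PiElt; rw [orderOf_one]; exact piNat_one π

theorem piElt_conj : PiElt π (g * x * g⁻¹) ↔ PiElt π x := by
  rw [← piGrp_zpowers, ← piGrp_zpowers, ← cj_zpowers, piGrp_cj]

theorem piElt_inv : PiElt π x⁻¹ ↔ PiElt π x := by unfold PiElt; rw [orderOf_inv]

theorem piElt_iff_of_orderOf_prime (hp : p.Prime) (h : orderOf x = p) : PiElt π x ↔ p ∈ π := by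
  unfold PiElt; rw [h]; exact piNat_prime_iff hp

namespace PiElt

theorem mono (h : PiElt π x) (hπ : π ⊆ ρ) : PiElt ρ x := IsPiNum.mono h hπ

theorem of_mem_zpowers (h : PiElt π x) (hy : y ∈ zpowers x) : PiElt π y :=
  (piGrp_zpowers.2 h).piElt hy

theorem pow (h : PiElt π x) (n : ℕ) : PiElt π (x ^ n) := h.of_mem_zpowers (npow_mem_zpowers x n)

theorem zpow (h : PiElt π x) (n : ℤ) : PiElt π (x ^ n) := h.of_mem_zpowers (zpow_mem_zpowers x n)

theorem inv (h : PiElt π x) : PiElt π x⁻¹ := piElt_inv.2 h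

theorem conj (h : PiElt π x) (g : G) : PiElt π (g * x * g⁻¹) := piElt_conj.2 h

theorem mul (hx : PiElt π x) (hy : PiElt π y) (h : Commute x y) : PiElt π (x * y) :=
  IsPiNum.of_dvd (IsPiNum.mul hx hy) h.orderOf_mul_dvd_mul_orderOf

theorem eq_one (h : PiElt π x) (h' : PiElt πᶜ x) : x = 1 :=
  orderOf_eq_one_iff.1 (IsPiNum.eq_one h h')

theorem map (h : PiElt π x) (f : G →* G') : PiElt π (f x) :=
  IsPiNum.of_dvd h (orderOf_map_dvd f x)

end PiElt

/-- a nonidentity element has a power of prime order -/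
theorem exists_prime_order_mem_zpowers [Finite G] (hx : x ≠ 1) :
    ∃ p : ℕ, p.Prime ∧ p ∣ orderOf x ∧ ∃ y ∈ zpowers x, orderOf y = p := by
  obtain ⟨p, hp, hd⟩ := exists_prime_dvd_card (H := zpowers x) (by simpa using hx)
  exact ⟨p, hp, by rwa [Nat.card_zpowers] at hd, exists_orderOf_eq_of_dvd_card hp hd⟩

theorem exists_piPart [Finite G] (π : Set ℕ) (x : G) :
    ∃ y : G, y ∈ zpowers x ∧ PiElt π y ∧ PiElt πᶜ (y⁻¹ * x) := by
  obtain ⟨a, b, ha, hb, hab⟩ := IsPiNum.exists_mul_eq π (orderOf_pos x).ne'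
  have hcop : a.Coprime b := ha.coprime hb
  obtain ⟨u, v, huv⟩ : ∃ u v : ℤ, a * u + b * v = 1 :=
    ⟨a.gcdA b, a.gcdB b, by rw [← Nat.gcd_eq_gcd_ab, hcop.gcd_eq_one]; rfl⟩
  have hx1 : x ^ ((a : ℤ) * b) = 1 := by
    rw [← Nat.cast_mul, ← hab, zpow_natCast, pow_orderOf_eq_one]
  refine ⟨x ^ ((b : ℤ) * v), zpow_mem_zpowers _ _, ?_, ?_⟩
  · refine IsPiNum.of_dvd ha (orderOf_dvd_of_pow_eq_one ?_)
    rw [← zpow_natCast, ← zpow_mul, show (b : ℤ) * v * a = a * b * v by ring, zpow_mul, hx1,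
      one_zpow]
  · have : (x ^ ((b : ℤ) * v))⁻¹ * x = x ^ ((a : ℤ) * u) := by
      rw [← zpow_neg, ← zpow_add_one]; congr 1; linarith
    rw [this]
    refine IsPiNum.of_dvd hb (orderOf_dvd_of_pow_eq_one ?_)
    rw [← zpow_natCast, ← zpow_mul, show (a : ℤ) * u * b = a * b * u by ring, zpow_mul, hx1,
      one_zpow]

section piPart
variable [Finite G]

theorem piPart_spec (π : Set ℕ) (x : G) :
    piPart π x ∈ zpowers x ∧ PiElt π (piPart π x) ∧ PiElt πᶜ ((piPart π x)⁻¹ * x) := by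
  unfold piPart
  rw [dif_pos (exists_piPart π x)]
  exact (exists_piPart π x).choose_spec

theorem piPart_mem_zpowers (π : Set ℕ) (x : G) : piPart π x ∈ zpowers x := (piPart_spec π x).1

theorem piElt_piPart (π : Set ℕ) (x : G) : PiElt π (piPart π x) := (piPart_spec π x).2.1

theorem piPart_mem (π : Set ℕ) (hx : x ∈ H) : piPart π x ∈ H :=
  zpowers_le.2 hx (piPart_mem_zpowers π x)

omit [Finite G] in
theorem commute_of_mem_zpowers {a b : G} (ha : a ∈ zpowers x) (hb : b ∈ zpowers x) :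
    Commute a b := by
  obtain ⟨i, rfl⟩ := mem_zpowers_iff.1 ha
  obtain ⟨j, rfl⟩ := mem_zpowers_iff.1 hb
  exact Commute.zpow_zpow_self x i j

/-- uniqueness of the decomposition into commuting `π`- and `π'`-elements -/
theorem piPart_mul_eq {a b : G} (ha : PiElt π a) (hb : PiElt πᶜ b) (h : Commute a b) :
    piPart π (a * b) = a := by
  obtain ⟨h1, h2, h3⟩ := piPart_spec π (a * b)
  set c := piPart π (a * b)
  have hca : Commute c a := by
    obtain ⟨i, hi⟩ := mem_zpowers_iff.1 h1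
    rw [← hi]; exact ((Commute.refl a).mul_left h.symm).zpow_left i
  have hcb : Commute c b := by
    obtain ⟨i, hi⟩ := mem_zpowers_iff.1 h1
    rw [← hi]; exact (h.mul_left (Commute.refl b)).zpow_left i
  have e1 : PiElt π (c⁻¹ * a) := h2.inv.mul ha hca.inv_left
  have e2 : PiElt πᶜ (c⁻¹ * a) := by
    have : c⁻¹ * a = (c⁻¹ * (a * b)) * b⁻¹ := by group
    rw [this]
    exact h3.mul hb.inv ((hcb.inv_left.mul_left (h.mul_left (Commute.refl b))).inv_right)
  exact inv_mul_eq_one.1 (e1.eq_one e2)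

theorem piPart_eq_self (h : PiElt π x) : piPart π x = x := by
  simpa using piPart_mul_eq h (piElt_one πᶜ) (Commute.one_right x)

theorem piPart_eq_one (h : PiElt πᶜ x) : piPart π x = 1 := by
  simpa using piPart_mul_eq (piElt_one π) h (Commute.one_left x)

theorem piPart_eq_one_iff : piPart π x = 1 ↔ PiElt πᶜ x :=
  ⟨fun h => by simpa [h] using (piPart_spec π x).2.2, piPart_eq_one⟩

theorem piPart_compl (π : Set ℕ) (x : G) : piPart πᶜ x = (piPart π x)⁻¹ * x := by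
  obtain ⟨h1, h2, h3⟩ := piPart_spec π x
  have hc : Commute ((piPart π x)⁻¹ * x) (piPart π x) :=
    commute_of_mem_zpowers (mul_mem (inv_mem h1) (mem_zpowers x)) h1
  have := piPart_mul_eq (π := πᶜ) h3 (by rwa [compl_compl]) hc
  rwa [hc.eq, mul_inv_cancel_left] at this

theorem piPart_mul_piPart_compl (π : Set ℕ) (x : G) : piPart π x * piPart πᶜ x = x := by
  rw [piPart_compl, mul_inv_cancel_left]

theorem commute_piPart (π ρ : Set ℕ) (x : G) : Commute (piPart π x) (piPart ρ x) :=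
  commute_of_mem_zpowers (piPart_mem_zpowers π x) (piPart_mem_zpowers ρ x)

theorem cent1_le_cent1_piPart (π : Set ℕ) (x : G) : 𝐂₁(x) ≤ 𝐂₁(piPart π x) := by
  rw [← cent_zpowers x]; exact cent_le_cent1 (piPart_mem_zpowers π x)

theorem map_piPart [Finite G'] (f : G →* G') (π : Set ℕ) (x : G) :
    f (piPart π x) = piPart π (f x) := by
  conv_rhs => rw [← piPart_mul_piPart_compl π x, map_mul]
  exact (piPart_mul_eq ((piElt_piPart π x).map f) ((piElt_piPart πᶜ x).map f)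
    ((commute_piPart π πᶜ x).map f)).symm

theorem piPart_conj (π : Set ℕ) (g x : G) : piPart π (g * x * g⁻¹) = g * piPart π x * g⁻¹ :=
  (map_piPart (MulAut.conj g).toMonoidHom π x).symm

theorem piPart_mul_of_commute (π : Set ℕ) (h : Commute x y) :
    piPart π (x * y) = piPart π x * piPart π y := by
  have c : ∀ σ τ : Set ℕ, Commute (piPart σ x) (piPart τ y) := fun σ τ => by
    obtain ⟨i, hi⟩ := mem_zpowers_iff.1 (piPart_mem_zpowers σ x)
    obtain ⟨j, hj⟩ := mem_zpowers_iff.1 (piPart_mem_zpowers τ y)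
    rw [← hi, ← hj]; exact h.zpow_zpow i j
  have e : x * y = (piPart π x * piPart π y) * (piPart πᶜ x * piPart πᶜ y) := by
    conv_lhs => rw [← piPart_mul_piPart_compl π x, ← piPart_mul_piPart_compl π y]
    rw [mul_assoc, mul_assoc, ← mul_assoc (piPart πᶜ x), (c πᶜ π).eq, mul_assoc]
  rw [e]
  refine piPart_mul_eq ((piElt_piPart π x).mul (piElt_piPart π y) (c π π))
    ((piElt_piPart πᶜ x).mul (piElt_piPart πᶜ y) (c πᶜ πᶜ)) ?_
  exact ((commute_piPart π πᶜ x).mul_left (c πᶜ π).symm).mul_right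
    ((c π πᶜ).mul_left (commute_piPart π πᶜ y))

theorem piPart_congr (h : ∀ p : ℕ, p.Prime → p ∣ orderOf x → (p ∈ π ↔ p ∈ ρ)) :
    piPart π x = piPart ρ x := by
  have hd : ∀ σ : Set ℕ, orderOf (piPart σ x) ∣ orderOf x := fun σ =>
    orderOf_dvd_of_mem_zpowers (piPart_mem_zpowers σ x)
  conv_rhs => rw [← piPart_mul_piPart_compl π x]
  refine (piPart_mul_eq ?_ ?_ (commute_piPart π πᶜ x)).symm
  · exact PiNat.mono' (piElt_piPart π x) fun p hp hpd => (h p hp (hpd.trans (hd π))).1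
  · exact PiNat.mono' (piElt_piPart πᶜ x) fun p hp hpd hπ hρ =>
      hπ ((h p hp (hpd.trans (hd πᶜ))).2 hρ)

theorem piPart_piPart (π ρ : Set ℕ) (x : G) : piPart π (piPart ρ x) = piPart (π ∩ ρ) x := by
  have h1 : piPart ρ x ∈ zpowers x := piPart_mem_zpowers ρ x
  have m : ∀ σ : Set ℕ, piPart σ (piPart ρ x) ∈ zpowers x := fun σ => piPart_mem σ h1
  have e : x = piPart π (piPart ρ x) * (piPart πᶜ (piPart ρ x) * piPart ρᶜ x) := by
    rw [← mul_assoc, piPart_mul_piPart_compl, piPart_mul_piPart_compl]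
  conv_rhs => rw [e]
  refine (piPart_mul_eq ?_ ?_ ?_).symm
  · exact IsPiNum.inter (piElt_piPart π _)
      ((piElt_piPart ρ x).of_mem_zpowers (piPart_mem_zpowers π _))
  · refine PiElt.mul ((piElt_piPart πᶜ _).mono fun p hp h => hp h.1)
      ((piElt_piPart ρᶜ x).mono fun p hp h => hp h.2) ?_
    exact commute_of_mem_zpowers (m _) (piPart_mem_zpowers _ _)
  · exact commute_of_mem_zpowers (m _) (mul_mem (m _) (piPart_mem_zpowers _ _))

theorem piPart_ne_one (hp : p.Prime) (hd : p ∣ orderOf x) (hπ : p ∈ π) : piPart π x ≠ 1 :=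
  fun h => piPart_eq_one_iff.1 h p hp hd hπ

end piPart

end CL.BG
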