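import Cfsg.Agent.Base
import Cfsg.Agent.BG.Defs

/-!
# The Puig series of a subgroup, inside an ambient group (BG Appendix B, Lemmas B.1, B.2)
-/

set_option autoImplicit false

namespace CL.BG

open Cfsg

variable {G : Type*} [Group G]

/-- `L_D(X)`: the subgroup generated by the abelian subgroups of `D` normalised by `X`. -/
def puigStepIn (D X : Subgroup G) : Subgroup G :=
  sSup {A : Subgroup G | A ≤ D ∧ IsMulCommutative A ∧ X ≤ 𝐍(A)}

/-- `L_n(D)` -/
def puigSeqIn (D : Subgroup G) : ℕ → Subgroup G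
  | 0 => ⊥
  | n + 1 => puigStepIn D (puigSeqIn D n)

/-- The Puig subgroup `L(D)` as a subgroup of the ambient group. -/
def puigOf (D : Subgroup G) : Subgroup G := ⨅ n : ℕ, puigSeqIn D (2 * n + 1)

/-- `L_*(D)` as a subgroup of the ambient group. -/
def puigLowerOf (D : Subgroup G) : Subgroup G := ⨆ n : ℕ, puigSeqIn D (2 * n)

theorem puigSeqIn_zero (D : Subgroup G) : puigSeqIn D 0 = ⊥ := rfl

theorem puigSeqIn_succ (D : Subgroup G) (n : ℕ) :
    puigSeqIn D (n + 1) = puigStepIn D (puigSeqIn D n) := rfl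

theorem le_puigStepIn {D X A : Subgroup G} (hA : A ≤ D) (hc : IsMulCommutative A)
    (hX : X ≤ 𝐍(A)) : A ≤ puigStepIn D X :=
  le_sSup ⟨hA, hc, hX⟩

theorem puigStepIn_le_of {D X Y : Subgroup G}
    (h : ∀ A : Subgroup G, A ≤ D → IsMulCommutative A → X ≤ 𝐍(A) → A ≤ Y) : puigStepIn D X ≤ Y :=
  sSup_le fun A hA => h A hA.1 hA.2.1 hA.2.2

theorem puigStepIn_le (D X : Subgroup G) : puigStepIn D X ≤ D :=
  puigStepIn_le_of fun _ h _ _ => h

theorem puigStepIn_mono {D E X Y : Subgroup G} (hDE : D ≤ E) (hXY : Y ≤ X) :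
    puigStepIn D X ≤ puigStepIn E Y :=
  puigStepIn_le_of fun _ h1 h2 h3 => le_puigStepIn (h1.trans hDE) h2 (hXY.trans h3)

/-- If `L_E(X) ≤ D` then `L_E(X) ≤ L_D(Y)` for `Y ≤ X`. -/
theorem puigStepIn_le_of_le {D E X Y : Subgroup G} (h : puigStepIn E X ≤ D) (hXY : Y ≤ X) :
    puigStepIn E X ≤ puigStepIn D Y :=
  puigStepIn_le_of fun _ h1 h2 h3 =>
    le_puigStepIn ((le_puigStepIn h1 h2 h3).trans h) h2 (hXY.trans h3)

theorem puigSeqIn_le (D : Subgroup G) : ∀ n, puigSeqIn D n ≤ D
  | 0 => bot_le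
  | _ + 1 => puigStepIn_le _ _

theorem puigSeqIn_one (D : Subgroup G) : puigSeqIn D 1 = D :=
  le_antisymm (puigSeqIn_le D 1) fun x hx =>
    le_puigStepIn (A := Subgroup.zpowers x) (Subgroup.zpowers_le.mpr hx) inferInstance bot_le
      (Subgroup.mem_zpowers x)

theorem puigSeqIn_even_le_aux (D : Subgroup G) (n : ℕ) :
    puigSeqIn D (2 * n) ≤ puigSeqIn D (2 * n + 2) ∧
      puigSeqIn D (2 * n + 3) ≤ puigSeqIn D (2 * n + 1) := by
  induction n with
  | zero => exact ⟨bot_le, puigStepIn_mono le_rfl bot_le⟩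
  | succ n ih =>
    have h1 : puigSeqIn D (2 * n + 2) ≤ puigSeqIn D (2 * n + 4) := puigStepIn_mono le_rfl ih.2
    exact ⟨h1, puigStepIn_mono le_rfl h1⟩

theorem puigSeqIn_even_mono (D : Subgroup G) : Monotone fun n => puigSeqIn D (2 * n) :=
  monotone_nat_of_le_succ fun n => (puigSeqIn_even_le_aux D n).1

theorem puigSeqIn_odd_anti (D : Subgroup G) : Antitone fun n => puigSeqIn D (2 * n + 1) :=
  antitone_nat_of_succ_le fun n => (puigSeqIn_even_le_aux D n).2

theorem puigSeqIn_even_le_odd_aux (D : Subgroup G) (n : ℕ) :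
    puigSeqIn D (2 * n) ≤ puigSeqIn D (2 * n + 1) := by
  induction n with
  | zero => exact bot_le
  | succ n ih =>
    have h1 : puigSeqIn D (2 * n + 2) ≤ puigSeqIn D (2 * n + 1) := puigStepIn_mono le_rfl ih
    exact puigStepIn_mono le_rfl h1

theorem puigSeqIn_even_le_odd (D : Subgroup G) (n m : ℕ) :
    puigSeqIn D (2 * n) ≤ puigSeqIn D (2 * m + 1) :=
  ((puigSeqIn_even_mono D (le_max_left n m)).trans (puigSeqIn_even_le_odd_aux D _)).trans
    (puigSeqIn_odd_anti D (le_max_right n m))

theorem puigOf_le_seq (D : Subgroup G) (n : ℕ) : puigOf D ≤ puigSeqIn D (2 * n + 1) :=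
  iInf_le _ n

theorem seq_le_puigLowerOf (D : Subgroup G) (n : ℕ) : puigSeqIn D (2 * n) ≤ puigLowerOf D :=
  le_iSup (fun n => puigSeqIn D (2 * n)) n

theorem puigOf_le (D : Subgroup G) : puigOf D ≤ D :=
  (puigOf_le_seq D 0).trans (puigSeqIn_le D _)

theorem puigLowerOf_le_puigOf (D : Subgroup G) : puigLowerOf D ≤ puigOf D :=
  iSup_le fun n => le_iInf fun m => puigSeqIn_even_le_odd D n m

theorem puigLowerOf_le (D : Subgroup G) : puigLowerOf D ≤ D :=
  (puigLowerOf_le_puigOf D).trans (puigOf_le D)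

/-- The even and the odd terms of the Puig series are eventually constant. -/
theorem puigSeqIn_limit [Finite G] (D : Subgroup G) : ∃ k : ℕ, ∀ n : ℕ, k ≤ n →
    puigSeqIn D (2 * n) = puigLowerOf D ∧ puigSeqIn D (2 * n + 1) = puigOf D := by
  obtain ⟨k, hk⟩ := WellFoundedGT.monotone_chain_condition
    (⟨fun n => puigSeqIn D (2 * n), puigSeqIn_even_mono D⟩ : ℕ →o Subgroup G)
  have hk' : ∀ m, k ≤ m → puigSeqIn D (2 * k) = puigSeqIn D (2 * m) := hk
  refine ⟨k, fun n hn => ⟨le_antisymm (seq_le_puigLowerOf D n) (iSup_le fun m => ?_),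
    le_antisymm (le_iInf fun m => ?_) (puigOf_le_seq D n)⟩⟩
  · rw [← hk' n hn, hk' (max m k) (le_max_right _ _)]
    exact puigSeqIn_even_mono D (le_max_left _ _)
  · have : puigSeqIn D (2 * n + 1) = puigSeqIn D (2 * (max m k) + 1) := by
      rw [puigSeqIn_succ, puigSeqIn_succ, ← hk' n hn, hk' (max m k) (le_max_right _ _)]
    rw [this]
    exact puigSeqIn_odd_anti D (le_max_left _ _)

theorem puigStepIn_puigLowerOf [Finite G] (D : Subgroup G) :
    puigStepIn D (puigLowerOf D) = puigOf D := by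
  obtain ⟨k, hk⟩ := puigSeqIn_limit D
  rw [← (hk k le_rfl).1, ← (hk k le_rfl).2, puigSeqIn_succ]

theorem puigStepIn_puigOf [Finite G] (D : Subgroup G) :
    puigStepIn D (puigOf D) = puigLowerOf D := by
  obtain ⟨k, hk⟩ := puigSeqIn_limit D
  rw [← (hk k le_rfl).2, ← (hk (k + 1) (Nat.le_succ k)).1]
  rfl

/-! ### transport along injective homomorphisms -/

section Map

variable {G' : Type*} [Group G']

theorem map_puigStepIn {f : G →* G'} (hf : Function.Injective f) (D X : Subgroup G) :
    (puigStepIn D X).map f = puigStepIn (D.map f) (X.map f) := by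
  apply le_antisymm
  · rw [Subgroup.map_le_iff_le_comap]
    refine puigStepIn_le_of fun A h1 h2 h3 => ?_
    rw [← Subgroup.map_le_iff_le_comap]
    exact le_puigStepIn (Subgroup.map_mono h1) inferInstance
      ((Subgroup.map_mono h3).trans (Subgroup.le_normalizer_map f))
  · refine puigStepIn_le_of fun B h1 h2 h3 => ?_
    have hB : B ≤ f.range := h1.trans (Subgroup.map_le_range f D)
    rw [← Subgroup.map_comap_eq_self hB]
    apply Subgroup.map_mono
    refine le_puigStepIn ?_ (Subgroup.comap_injective_isMulCommutative B hf) ?_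
    · exact (Subgroup.comap_mono h1).trans (Subgroup.comap_map_eq_self_of_injective hf D).le
    · exact (Subgroup.map_le_iff_le_comap.mp h3).trans (Subgroup.le_normalizer_comap f)

theorem map_puigSeqIn {f : G →* G'} (hf : Function.Injective f) (D : Subgroup G) (n : ℕ) :
    (puigSeqIn D n).map f = puigSeqIn (D.map f) n := by
  induction n with
  | zero => exact Subgroup.map_bot f
  | succ n ih => rw [puigSeqIn_succ, map_puigStepIn hf, ih, puigSeqIn_succ]

theorem map_puigOf {f : G →* G'} (hf : Function.Injective f) (D : Subgroup G) :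
    (puigOf D).map f = puigOf (D.map f) := by
  simp only [puigOf, ← map_puigSeqIn hf]
  exact Subgroup.map_iInf f hf _

theorem map_puigLowerOf {f : G →* G'} (hf : Function.Injective f) (D : Subgroup G) :
    (puigLowerOf D).map f = puigLowerOf (D.map f) := by
  simp only [puigLowerOf, ← map_puigSeqIn hf, Subgroup.map_iSup]

end Map

theorem puigStepIn_top (X : Subgroup G) : puigStepIn ⊤ X = puigStep X := by
  simp [puigStepIn, puigStep]

theorem puigSeqIn_top (n : ℕ) : puigSeqIn (⊤ : Subgroup G) n = puigSeq G n := by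
  induction n with
  | zero => rfl
  | succ n ih => rw [puigSeqIn_succ, ih, puigStepIn_top]; rfl

theorem puigOf_top : puigOf (⊤ : Subgroup G) = puigSubgroup G := by
  simp only [puigOf, puigSeqIn_top, puigSubgroup]

theorem puigLowerOf_top : puigLowerOf (⊤ : Subgroup G) = puigLower G := by
  simp only [puigLowerOf, puigSeqIn_top, puigLower]

theorem map_subtype_puigSeq (D : Subgroup G) (n : ℕ) :
    (puigSeq D n).map D.subtype = puigSeqIn D n := by
  rw [← puigSeqIn_top, map_puigSeqIn D.subtype_injective, ← MonoidHom.range_eq_map,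
    Subgroup.range_subtype]

theorem map_subtype_puigSubgroup (D : Subgroup G) :
    (puigSubgroup D).map D.subtype = puigOf D := by
  rw [← puigOf_top, map_puigOf D.subtype_injective, ← MonoidHom.range_eq_map,
    Subgroup.range_subtype]

theorem map_subtype_puigLower (D : Subgroup G) :
    (puigLower D).map D.subtype = puigLowerOf D := by
  rw [← puigLowerOf_top, map_puigLowerOf D.subtype_injective, ← MonoidHom.range_eq_map,
    Subgroup.range_subtype]

/-- transport along a homomorphism that is injective on `D` -/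
theorem map_puigOf_of_inf_ker {G' : Type*} [Group G'] {f : G →* G'} {D : Subgroup G}
    (hf : D ⊓ f.ker = ⊥) : (puigOf D).map f = puigOf (D.map f) := by
  have hinj : Function.Injective (f.comp D.subtype) := by
    rw [← MonoidHom.ker_eq_bot_iff, eq_bot_iff]
    intro x hx
    have : (x : G) ∈ D ⊓ f.ker := ⟨x.2, hx⟩
    rw [hf] at this
    exact Subtype.ext this
  rw [← map_subtype_puigSubgroup, Subgroup.map_map, ← puigOf_top, map_puigOf hinj,
    ← Subgroup.map_map, ← MonoidHom.range_eq_map, Subgroup.range_subtype]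

theorem cj_puigOf (g : G) (D : Subgroup G) : cj g (puigOf D) = puigOf (cj g D) :=
  map_puigOf (MulAut.conj g).injective D

theorem cj_puigLowerOf (g : G) (D : Subgroup G) : cj g (puigLowerOf D) = puigLowerOf (cj g D) :=
  map_puigLowerOf (MulAut.conj g).injective D

theorem normalizer_le_normalizer_puigSeqIn (D : Subgroup G) (n : ℕ) :
    𝐍(D) ≤ 𝐍(puigSeqIn D n) := fun g hg => by
  rw [Subgroup.mem_normalizer_iff_map_conj_eq] at hg ⊢
  exact (map_puigSeqIn (MulAut.conj g).injective D n).trans (congrArg (puigSeqIn · n) hg)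

theorem normalizer_le_normalizer_puigOf (D : Subgroup G) : 𝐍(D) ≤ 𝐍(puigOf D) := fun g hg => by
  rw [Subgroup.mem_normalizer_iff_map_conj_eq] at hg ⊢
  exact (map_puigOf (MulAut.conj g).injective D).trans (congrArg puigOf hg)

theorem normalizer_le_normalizer_puigLowerOf (D : Subgroup G) : 𝐍(D) ≤ 𝐍(puigLowerOf D) :=
  fun g hg => by
  rw [Subgroup.mem_normalizer_iff_map_conj_eq] at hg ⊢
  exact (map_puigLowerOf (MulAut.conj g).injective D).trans (congrArg puigLowerOf hg)

theorem normalizer_le_normalizer_inf_centralizer (X : Subgroup G) : 𝐍(X) ≤ 𝐍(𝐙(X)) := by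
  refine le_trans (le_inf le_rfl ?_) Subgroup.inf_normalizer_le_normalizer_inf
  rw [Subgroup.le_normalizer_iff]
  intro g hg c hc
  rw [Subgroup.mem_centralizer_iff] at hc ⊢
  intro x hx
  have := hc _ ((Subgroup.mem_normalizer_iff''.mp hg x).mp hx)
  calc x * (g * c * g⁻¹) = g * (g⁻¹ * x * g * c) * g⁻¹ := by group
    _ = g * (c * (g⁻¹ * x * g)) * g⁻¹ := by rw [this]
    _ = g * c * g⁻¹ * x := by group

/-- `Z(L(D))` is normalised by `N(D)`. -/
theorem normalizer_le_normalizer_center_puigOf (D : Subgroup G) : 𝐍(D) ≤ 𝐍(𝐙(puigOf D)) :=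
  (normalizer_le_normalizer_puigOf D).trans (normalizer_le_normalizer_inf_centralizer _)

theorem puigSubgroup_characteristic : (puigSubgroup G).Characteristic := by
  rw [Subgroup.characteristic_iff_map_eq]
  intro φ
  rw [← puigOf_top]
  exact (map_puigOf φ.injective ⊤).trans
    (congrArg puigOf (Subgroup.map_top_of_surjective _ φ.surjective))

theorem puigLower_characteristic : (puigLower G).Characteristic := by
  rw [Subgroup.characteristic_iff_map_eq]
  intro φ
  rw [← puigLowerOf_top]
  exact (map_puigLowerOf φ.injective ⊤).trans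
    (congrArg puigLowerOf (Subgroup.map_top_of_surjective _ φ.surjective))

theorem puigOf_charIn (D : Subgroup G) : CharIn (puigOf D) D := by
  refine ⟨puigOf_le D, ?_⟩
  rw [← map_subtype_puigSubgroup, Subgroup.subgroupOf,
    Subgroup.comap_map_eq_self_of_injective D.subtype_injective]
  exact puigSubgroup_characteristic

theorem puigOf_normalIn (D : Subgroup G) : puigOf D ⊴ D :=
  ⟨puigOf_le D, Subgroup.le_normalizer.trans (normalizer_le_normalizer_puigOf D)⟩

theorem puigLowerOf_normalIn (D : Subgroup G) : puigLowerOf D ⊴ D :=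
  ⟨puigLowerOf_le D, Subgroup.le_normalizer.trans (normalizer_le_normalizer_puigLowerOf D)⟩

theorem center_puigOf_normalIn (D : Subgroup G) : 𝐙(puigOf D) ⊴ D :=
  ⟨inf_le_left.trans (puigOf_le D),
    Subgroup.le_normalizer.trans (normalizer_le_normalizer_center_puigOf D)⟩

/-! ### abelian normal subgroups -/

theorem le_puigSeqIn_of_normal_abelian {D A : Subgroup G} (hA : A ⊴ D) (hc : IsMulCommutative A)
    {n : ℕ} (hn : 0 < n) : A ≤ puigSeqIn D n := by
  obtain ⟨m, rfl⟩ := Nat.exists_eq_succ_of_ne_zero hn.ne'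
  exact le_puigStepIn hA.le hc ((puigSeqIn_le D m).trans hA.norm)

theorem le_puigLowerOf_of_normal_abelian {D A : Subgroup G} (hA : A ⊴ D)
    (hc : IsMulCommutative A) : A ≤ puigLowerOf D :=
  (le_puigSeqIn_of_normal_abelian hA hc (by norm_num : 0 < 2 * 1)).trans (seq_le_puigLowerOf D 1)

theorem le_puigOf_of_normal_abelian {D A : Subgroup G} (hA : A ⊴ D)
    (hc : IsMulCommutative A) : A ≤ puigOf D :=
  (le_puigLowerOf_of_normal_abelian hA hc).trans (puigLowerOf_le_puigOf D)

/-- **BG B.2** -/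
theorem puigOf_eq_of_le [Finite G] {H D : Subgroup G} (hHD : H ≤ D) (hL : puigOf D ≤ H) :
    puigOf H = puigOf D := by
  have hA : ∀ k, puigOf D ≤ puigSeqIn H (2 * k + 1) := by
    intro k
    induction k with
    | zero => rwa [mul_zero, zero_add, puigSeqIn_one]
    | succ k ih =>
      have h1 : puigSeqIn H (2 * k + 2) ≤ puigLowerOf D := by
        rw [← puigStepIn_puigOf]
        exact puigStepIn_mono hHD ih
      rw [← puigStepIn_puigLowerOf] at hL ⊢
      exact puigStepIn_le_of_le hL h1
  have hB : ∀ k, puigSeqIn H (2 * k + 1) ≤ puigSeqIn D (2 * k + 1) := by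
    intro k
    induction k with
    | zero => rwa [mul_zero, zero_add, puigSeqIn_one, puigSeqIn_one]
    | succ k ih =>
      have h0 : puigSeqIn D (2 * k + 2) ≤ H :=
        ((seq_le_puigLowerOf D (k + 1)).trans (puigLowerOf_le_puigOf D)).trans hL
      have h1 : puigSeqIn D (2 * k + 2) ≤ puigSeqIn H (2 * k + 2) := puigStepIn_le_of_le h0 ih
      exact puigStepIn_mono hHD h1
  exact le_antisymm (iInf_mono hB) (le_iInf hA)

end CL.BG
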