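import Cfsg.Agent.BG.Puig
import Cfsg.Agent.S0015

/-!
# The Puig series of a nilpotent group (BG Appendix B, Lemma B.1 (f), (g))
-/

set_option autoImplicit false

namespace CL.BG

open Cfsg

variable {G : Type*} [Group G]

/-- A finite nilpotent group has an abelian normal subgroup which is its own centraliser. -/
theorem exists_normal_abelian_centralizer_eq [Finite G] [Group.IsNilpotent G] :
    ∃ A : Subgroup G, A.Normal ∧ IsMulCommutative A ∧ 𝐂(A) = A := by
  obtain ⟨A, hA⟩ := Set.Finite.exists_maximal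
    (Set.toFinite {A : Subgroup G | A.Normal ∧ IsMulCommutative A})
    ⟨⊥, inferInstance, inferInstance⟩
  have := hA.prop.1
  have := hA.prop.2
  exact ⟨A, inferInstance, inferInstance, Cfsg.Agent.S0015.result A fun M h1 h2 h3 =>
    le_antisymm (hA.le_of_ge ⟨h1, h2⟩ h3) h3⟩

/-- ambient form -/
theorem exists_normalIn_abelian_cent_le [Finite G] {D : Subgroup G} (hD : Group.IsNilpotent D) :
    ∃ A : Subgroup G, A ⊴ D ∧ IsMulCommutative A ∧ D ⊓ 𝐂(A) ≤ A := by
  obtain ⟨A, h1, h2, h3⟩ := exists_normal_abelian_centralizer_eq (G := D)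
  refine ⟨A.map D.subtype, ⟨Subgroup.map_subtype_le A, ?_⟩, inferInstance, ?_⟩
  · have := Subgroup.le_normalizer_map (H := A) D.subtype
    rwa [Subgroup.normalizer_eq_top, ← MonoidHom.range_eq_map, Subgroup.range_subtype] at this
  · rintro x ⟨hxD, hxc⟩
    refine ⟨⟨x, hxD⟩, ?_, rfl⟩
    rw [← h3]
    intro a ha
    exact Subtype.ext (hxc a ⟨a, ha, rfl⟩)

theorem cent_puigSeqIn_le [Finite G] {D : Subgroup G} (hD : Group.IsNilpotent D) {n : ℕ}
    (hn : 0 < n) : D ⊓ 𝐂(puigSeqIn D n) ≤ puigSeqIn D n := by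
  obtain ⟨A, h1, h2, h3⟩ := exists_normalIn_abelian_cent_le hD
  have h4 := le_puigSeqIn_of_normal_abelian h1 h2 hn
  exact ((inf_le_inf_left D (Subgroup.centralizer_le h4)).trans h3).trans h4

theorem cent_puigLowerOf_le [Finite G] {D : Subgroup G} (hD : Group.IsNilpotent D) :
    D ⊓ 𝐂(puigLowerOf D) ≤ puigLowerOf D := by
  obtain ⟨A, h1, h2, h3⟩ := exists_normalIn_abelian_cent_le hD
  have h4 := le_puigLowerOf_of_normal_abelian h1 h2
  exact ((inf_le_inf_left D (Subgroup.centralizer_le h4)).trans h3).trans h4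

theorem cent_puigOf_le [Finite G] {D : Subgroup G} (hD : Group.IsNilpotent D) :
    D ⊓ 𝐂(puigOf D) ≤ puigOf D := by
  obtain ⟨A, h1, h2, h3⟩ := exists_normalIn_abelian_cent_le hD
  have h4 := le_puigOf_of_normal_abelian h1 h2
  exact ((inf_le_inf_left D (Subgroup.centralizer_le h4)).trans h3).trans h4

/-- `Z(D) ≤ Z(L(D))`. -/
theorem center_le_center_puigOf (D : Subgroup G) : 𝐙(D) ≤ 𝐙(puigOf D) := by
  refine le_inf (le_puigOf_of_normal_abelian ⟨inf_le_left, Subgroup.le_normalizer.trans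
    (normalizer_le_normalizer_inf_centralizer D)⟩ ?_)
    (inf_le_right.trans (Subgroup.centralizer_le (puigOf_le D)))
  exact Subgroup.le_centralizer_iff_isMulCommutative.mp
    (inf_le_right.trans (Subgroup.centralizer_le inf_le_left))

theorem center_ne_bot_of_nilpotent {D : Subgroup G} (hD : Group.IsNilpotent D) (h : D ≠ ⊥) :
    𝐙(D) ≠ ⊥ := by
  have : Nontrivial D := (Subgroup.nontrivial_iff_ne_bot D).mpr h
  have h1 : Subgroup.center D ≠ ⊥ := Group.IsNilpotent.center_ne_bot D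
  intro h3
  apply h1
  rw [eq_bot_iff]
  intro x hx
  have : (x : G) ∈ 𝐙(D) := ⟨x.2, fun y hy =>
    congrArg Subtype.val (Subgroup.mem_center_iff.mp hx ⟨y, hy⟩)⟩
  rw [h3] at this
  exact Subtype.ext this

/-- `Z(L(D)) ≠ 1` for a nontrivial nilpotent group `D`. -/
theorem center_puigOf_ne_bot {D : Subgroup G} (hD : Group.IsNilpotent D) (h : D ≠ ⊥) :
    𝐙(puigOf D) ≠ ⊥ := fun h1 =>
  center_ne_bot_of_nilpotent hD h (eq_bot_iff.mpr ((center_le_center_puigOf D).trans h1.le))

end CL.BG
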