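import Cfsg.Agent.BG.PStable
import Cfsg.Agent.BG.PuigP
import Cfsg.Agent.Solv.Fitting
import Cfsg.Agent.Solv.Coprime
import Cfsg.Agent.PLocal.ZJTheorem

/-!
# BG Theorem A.5(b), Lemma B.3, Theorem B.4, Theorems 6.1 and 6.2 (whole-group forms)
-/

set_option autoImplicit false

namespace CL.BG

open Cfsg Subgroup

variable {G : Type*} [Group G] [Finite G] {p : ℕ} [Fact p.Prime]

/-- If `O_p(G)` contains its centraliser and `P ⊴ G` satisfies `C_{O_p(G)}(P) ≤ P`, then
`C_G(P)` is a `p`-group. -/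
theorem isPGroup_centralizer_of_constrained (hc : 𝐂(pCore p G) ≤ pCore p G) {P : Subgroup G}
    [P.Normal] (hP : pCore p G ⊓ 𝐂(P) ≤ P) : IsPGroup p 𝐂(P) := by
  rintro ⟨x, hx⟩
  have hx0 : orderOf x ≠ 0 := (orderOf_pos x).ne'
  have hT := pCore_isPGroup p G
  set y := x ^ p ^ (orderOf x).factorization p with hy
  have hcop : (orderOf y).Coprime p := by
    rw [hy, orderOf_pow_of_dvd (pow_ne_zero _ (Fact.out : p.Prime).ne_zero) (Nat.ordProj_dvd _ _)]
    exact (Nat.coprime_ordCompl Fact.out hx0).symm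
  have hyC : zpowers y ≤ 𝐂(P) := zpowers_le.mpr (pow_mem hx _)
  have h1 : ⁅pCore p G, zpowers y⁆ ≤ P :=
    ((commutator_mono le_rfl hyC).trans (commutator_le_inf _ _)).trans hP
  have h2 : ⁅⁅pCore p G, zpowers y⁆, zpowers y⁆ = ⊥ := by
    rw [eq_bot_iff]
    refine (commutator_mono h1 hyC).trans ?_
    rw [le_bot_iff, commutator_comm, commutator_eq_bot_iff_le_centralizer]
  have h3 : ⁅pCore p G, zpowers y⁆ = ⊥ := by
    refine CL.coprime_commutator_eq_bot le_normalizer_of_normal ?_ (Or.inr ?_) h2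
    · rw [Nat.card_zpowers]
      exact (coprime_card_of_isPGroup hT hcop).symm
    · have := hT.isNilpotent
      infer_instance
  have h4 : y ∈ pCore p G := by
    rw [commutator_comm, commutator_eq_bot_iff_le_centralizer] at h3
    exact hc (h3 (mem_zpowers y))
  obtain ⟨k, hk⟩ := hT ⟨y, h4⟩
  refine ⟨(orderOf x).factorization p + k, Subtype.ext ?_⟩
  have hk' : y ^ p ^ k = 1 := congrArg Subtype.val hk
  change x ^ _ = 1
  rw [pow_add, pow_mul]
  exact hk'

/-- **BG A.5(b)** for one abelian subgroup. -/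
theorem odd_abelian_le_pCore (hodd : Odd (Nat.card G)) (hc : 𝐂(pCore p G) ≤ pCore p G)
    {P : Subgroup G} [P.Normal] (hP : IsPGroup p P) (hCP : pCore p G ⊓ 𝐂(P) ≤ P)
    {B : Subgroup G} (hB : IsMulCommutative B) (hPB : P ≤ 𝐍(B)) : B ≤ pCore p G := by
  have h1 := odd_map_le_pCore_of_abelian hodd hP 𝐂(P) le_rfl hB hPB
  rw [map_le_iff_le_comap] at h1
  refine h1.trans (comap_pCore_le _ ?_)
  rw [QuotientGroup.ker_mk']
  exact isPGroup_centralizer_of_constrained hc hCP

theorem normal_puigSeqIn (T : Subgroup G) [T.Normal] (n : ℕ) : (puigSeqIn T n).Normal := by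
  rw [← normalizer_eq_top_iff, eq_top_iff, ← normalizer_eq_top T]
  exact normalizer_le_normalizer_puigSeqIn T n

theorem normal_center_puigOf (T : Subgroup G) [T.Normal] : (𝐙(puigOf T)).Normal := by
  rw [← normalizer_eq_top_iff, eq_top_iff, ← normalizer_eq_top T]
  exact normalizer_le_normalizer_center_puigOf T

theorem puig_pCore_sylow_aux (hodd : Odd (Nat.card G)) (hc : 𝐂(pCore p G) ≤ pCore p G)
    (S : Sylow p G) (k : ℕ) : puigSeqIn (S : Subgroup G) (2 * k) ≤ puigSeqIn (pCore p G) (2 * k) := by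
  induction k with
  | zero => exact bot_le
  | succ k ih =>
    have h1 : puigSeqIn (pCore p G) (2 * k + 1) ≤ puigSeqIn (S : Subgroup G) (2 * k + 1) :=
      puigStepIn_mono (pCore_le_sylow S) ih
    have hT := pCore_isPGroup p G
    have := normal_puigSeqIn (pCore p G) (2 * k + 1)
    refine puigStepIn_le_of fun A _ hA hn => le_puigStepIn ?_ hA (h1.trans hn)
    exact odd_abelian_le_pCore hodd hc (hT.to_le (puigSeqIn_le _ _))
      (cent_puigSeqIn_le hT.isNilpotent (Nat.succ_pos _)) hA (h1.trans hn)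

/-- **BG B.3**, first inclusion. -/
theorem puigLowerOf_sylow_le (hodd : Odd (Nat.card G)) (hc : 𝐂(pCore p G) ≤ pCore p G)
    (S : Sylow p G) : puigLowerOf (S : Subgroup G) ≤ puigLowerOf (pCore p G) :=
  iSup_mono (puig_pCore_sylow_aux hodd hc S)

/-- **BG B.3**, last inclusion. -/
theorem puigOf_pCore_le (hodd : Odd (Nat.card G)) (hc : 𝐂(pCore p G) ≤ pCore p G)
    (S : Sylow p G) : puigOf (pCore p G) ≤ puigOf (S : Subgroup G) :=
  iInf_mono fun k => puigStepIn_mono (pCore_le_sylow S) (puig_pCore_sylow_aux hodd hc S k)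

/-- **BG B.4(b)**: `Z(L(S))` is normal. -/
theorem center_puigOf_sylow_normal (hodd : Odd (Nat.card G)) (hc : 𝐂(pCore p G) ≤ pCore p G)
    (S : Sylow p G) : (𝐙(puigOf (S : Subgroup G))).Normal := by
  have hT := pCore_isPGroup p G
  have hS := S.isPGroup'
  set T := pCore p G with hTdef
  set Y := 𝐙(puigOf T) with hY
  have hYn : Y.Normal := normal_center_puigOf T
  have hYT : Y ≤ T := inf_le_left.trans (puigOf_le T)
  have hYc : IsMulCommutative Y := le_centralizer_iff_isMulCommutative.mp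
    (inf_le_right.trans (centralizer_le inf_le_left))
  have hZY : 𝐙(puigOf (S : Subgroup G)) ≤ Y := by
    refine le_inf ?_ (inf_le_right.trans (centralizer_le (puigOf_pCore_le hodd hc S)))
    refine le_trans (inf_le_inf (puigOf_le _) (centralizer_le (puigLowerOf_le_puigOf _))) ?_
    exact ((cent_puigLowerOf_le hS.isNilpotent).trans (puigLowerOf_sylow_le hodd hc S)).trans
      (puigLowerOf_le_puigOf T)
  let C : Subgroup G := (pCore p (G ⧸ 𝐂(Y))).comap (QuotientGroup.mk' 𝐂(Y))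
  have hLC : puigOf (S : Subgroup G) ≤ C := by
    rw [← puigStepIn_puigLowerOf]
    refine puigStepIn_le_of fun A _ hA hn => ?_
    rw [← map_le_iff_le_comap]
    refine odd_map_le_pCore_of_abelian hodd (hT.to_le hYT) _ le_rfl hA (le_trans ?_ hn)
    exact le_puigLowerOf_of_normal_abelian
      ⟨hYT.trans (pCore_le_sylow S), le_normalizer_of_normal⟩ hYc
  have hL : puigOf ((S : Subgroup G) ⊓ C) = puigOf (S : Subgroup G) :=
    puigOf_eq_of_le inf_le_left (le_inf (puigOf_le _) hLC)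
  have hN : 𝐍((S : Subgroup G) ⊓ C) ≤ 𝐍(𝐙(puigOf (S : Subgroup G))) := by
    rw [← hL]
    exact normalizer_le_normalizer_center_puigOf _
  rw [← normalizer_eq_top_iff, eq_top_iff, ← CL.ZJ.normalizer_sylow_inf_sup S C, sup_le_iff]
  refine ⟨hN, (CL.ZJ.le_sylow_sup_of_pow_mem S C 𝐂(Y) fun k hk => ?_).trans (sup_le ?_ ?_)⟩
  · obtain ⟨n, hn⟩ := pCore_isPGroup p (G ⧸ 𝐂(Y)) ⟨_, hk⟩
    refine ⟨n, ?_⟩
    rw [← QuotientGroup.eq_one_iff, QuotientGroup.mk_pow]
    exact congrArg Subtype.val hn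
  · exact le_normalizer.trans (normalizer_le_normalizer_center_puigOf _)
  · exact (centralizer_le hZY).trans (centralizer_le_normalizer _)

theorem map_center_of_inf_ker {G' : Type*} [Group G'] {f : G →* G'} {D : Subgroup G}
    (hf : D ⊓ f.ker = ⊥) : (𝐙(D)).map f = 𝐙(D.map f) := by
  apply le_antisymm
  · rintro _ ⟨x, ⟨hxD, hxc⟩, rfl⟩
    refine ⟨⟨x, hxD, rfl⟩, ?_⟩
    rintro _ ⟨y, hy, rfl⟩
    rw [← map_mul, ← map_mul, hxc y hy]
  · rintro _ ⟨⟨x, hxD, rfl⟩, hxc⟩
    refine ⟨x, ⟨hxD, fun y hy => ?_⟩, rfl⟩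
    have h1 : (y * x) * (x * y)⁻¹ ∈ D ⊓ f.ker := by
      refine mem_inf.mpr ⟨D.mul_mem (D.mul_mem hy hxD) (D.inv_mem (D.mul_mem hxD hy)), ?_⟩
      rw [MonoidHom.mem_ker, map_mul, map_inv, mul_inv_eq_one, map_mul, map_mul]
      exact hxc _ ⟨y, hy, rfl⟩
    rw [hf, mem_bot, mul_inv_eq_one] at h1
    exact h1

variable [Group.IsSolvable G]

theorem centralizer_pCore_quotient_le (p : ℕ) [Fact p.Prime] :
    𝐂(pCore p (G ⧸ pPrimeCore p G)) ≤ pCore p (G ⧸ pPrimeCore p G) :=
  centralizer_pCore_le (pPrimeCore_quotient_pPrimeCore p G)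

omit [Group.IsSolvable G] [Finite G] in
theorem odd_card_quotient (hodd : Odd (Nat.card G)) (N : Subgroup G) [N.Normal] :
    Odd (Nat.card (G ⧸ N)) :=
  hodd.of_dvd_nat (card_quotient_dvd_card N)

/-- **BG 6.2** in Puig form: `O_{p'}(G) Z(L(S))` is normal. -/
theorem pPrimeCore_sup_center_puigOf_normal (hodd : Odd (Nat.card G)) (S : Sylow p G) :
    (pPrimeCore p G ⊔ 𝐙(puigOf (S : Subgroup G))).Normal := by
  have hsurj := QuotientGroup.mk'_surjective (pPrimeCore p G)
  have h1 := center_puigOf_sylow_normal (odd_card_quotient hodd _)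
    (centralizer_pCore_quotient_le p) (S.mapSurjective hsurj)
  have hk : (S : Subgroup G) ⊓ (QuotientGroup.mk' (pPrimeCore p G)).ker = ⊥ := by
    rw [QuotientGroup.ker_mk']
    exact inf_pPrimeCore_eq_bot S.isPGroup'
  rw [Sylow.coe_mapSurjective, ← map_puigOf_of_inf_ker hk, ← map_center_of_inf_ker
    (eq_bot_iff.mpr ((inf_le_inf_right _ (puigOf_le _)).trans hk.le))] at h1
  have h2 := h1.comap (QuotientGroup.mk' (pPrimeCore p G))
  rwa [comap_map_eq, QuotientGroup.ker_mk', sup_comm] at h2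

omit [Group.IsSolvable G] in
/-- Frattini argument: if `K Z` is normal with `K` a normal `p'`-subgroup and `Z` a `p`-subgroup
then `G = K N(Z)`. -/
theorem sup_normalizer_eq_top_of_sup_normal {K Z : Subgroup G} [K.Normal]
    (hK : (Nat.card K).Coprime p) (hZ : IsPGroup p Z) [hn : (K ⊔ Z).Normal] :
    K ⊔ 𝐍(Z) = ⊤ := by
  have h1 : IsPGroup p (Z.subgroupOf (K ⊔ Z)) := hZ.comap_subtype
  have h2 : ¬ p ∣ (Z.subgroupOf (K ⊔ Z)).index := by
    intro h
    have h3 := card_mul_relIndex_of_le (le_sup_right : Z ≤ K ⊔ Z)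
    have h4 := card_sup_dvd_mul Z K
    rw [sup_comm, ← h3] at h4
    have h5 := Nat.dvd_of_mul_dvd_mul_left Nat.card_pos h4
    exact (Nat.Prime.coprime_iff_not_dvd Fact.out).mp hK.symm (h.trans h5)
  have h3 := Sylow.normalizer_sup_eq_top (h1.toSylow h2)
  rw [IsPGroup.toSylow_coe, map_subgroupOf_eq_of_le le_sup_right] at h3
  rw [eq_top_iff, ← h3]
  exact sup_le le_sup_right (sup_le le_sup_left (le_normalizer.trans le_sup_right))

/-- **BG B.4(a)**, Puig factorisation. -/
theorem pPrimeCore_sup_normalizer_center_puigOf (hodd : Odd (Nat.card G)) (S : Sylow p G) :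
    pPrimeCore p G ⊔ 𝐍(𝐙(puigOf (S : Subgroup G))) = ⊤ :=
  haveI := pPrimeCore_sup_center_puigOf_normal hodd S
  sup_normalizer_eq_top_of_sup_normal (pPrimeCore_coprime p G)
    (S.isPGroup'.to_le (inf_le_left.trans (puigOf_le _)))

/-- **BG 6.1**: abelian subgroups normalised by a Sylow `p`-subgroup lie in `O_{p',p}(G)`. -/
theorem odd_abelian_le_pPrimePCore (hodd : Odd (Nat.card G)) (S : Sylow p G) {A : Subgroup G}
    (hA : IsMulCommutative A) (hS : (S : Subgroup G) ≤ 𝐍(A)) : A ≤ pPrimePCore p G := by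
  have hsurj := QuotientGroup.mk'_surjective (pPrimeCore p G)
  rw [pPrimePCore, ← map_le_iff_le_comap]
  refine odd_abelian_le_pCore (odd_card_quotient hodd _) (centralizer_pCore_quotient_le p)
    (pCore_isPGroup p _) inf_le_left inferInstance ?_
  refine (pCore_le_sylow (S.mapSurjective hsurj)).trans ?_
  rw [Sylow.coe_mapSurjective]
  exact (map_mono hS).trans (le_normalizer_map _)

end CL.BG
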