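import Cfsg.Agent.BG.Prod
import Cfsg.Agent.PGrp.Critical

set_option autoImplicit false
open Cfsg Subgroup

namespace CL.BG
variable {G : Type*} [Group G] [Finite G]

omit [Finite G] in
/-- the order of the automorphism of `H` induced by a normalising element divides its order -/
theorem orderOf_normalizerMonoidHom_dvd {H : Subgroup G} {a : G} (ha : a ∈ 𝐍(H)) :
    orderOf (H.normalizerMonoidHom ⟨a, ha⟩) ∣ orderOf a := by
  rw [← orderOf_mk a ha]
  exact orderOf_map_dvd _ _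

omit [Finite G] in
theorem normalizerMonoidHom_eq_one_iff {H : Subgroup G} {a : G} (ha : a ∈ 𝐍(H)) :
    H.normalizerMonoidHom ⟨a, ha⟩ = 1 ↔ a ∈ 𝐂(H) := by
  rw [← MonoidHom.mem_ker, normalizerMonoidHom_ker, mem_subgroupOf]

omit [Finite G] in
theorem normalizerMonoidHom_apply_eq_iff {H : Subgroup G} {a : G} (ha : a ∈ 𝐍(H)) (x : H) :
    H.normalizerMonoidHom ⟨a, ha⟩ x = x ↔ a * x = x * a := by
  rw [Subtype.ext_iff, normalizerMonoidHom_apply_apply_coe, mul_inv_eq_iff_eq_mul]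

/-- BG 1.11 with the hypothesis on elements and coprimality to `p`. -/
theorem t1_11' {p : ℕ} [Fact p.Prime] (hp : p ≠ 2) {A H : Subgroup G} (hH : IsPGroup p H)
    (hA : A ≤ 𝐍(H)) (hcop : (Nat.card A).Coprime p) (h : ∀ x ∈ H, x ^ p = 1 → A ≤ 𝐂₁(x)) :
    A ≤ 𝐂(H) := by
  intro a ha
  rw [← normalizerMonoidHom_eq_one_iff (hA ha)]
  refine CL.PGrp.aut_eq_one_of_omega hp hH _ (hcop.coprime_dvd_left
    ((orderOf_normalizerMonoidHom_dvd (hA ha)).trans (orderOf_dvd_card' ha))) fun x hx => ?_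
  rw [normalizerMonoidHom_apply_eq_iff]
  exact mem_cent1.1 (h x x.2 (congrArg Subtype.val hx) ha)

/-- a group acting coprimely on a nontrivial `p`-group is a `p'`-group -/
theorem coprime_prime_of_coprime_pgroup {p : ℕ} [hp : Fact p.Prime] {A H : Subgroup G}
    (hH : IsPGroup p H) (hne : H ≠ ⊥) (hcop : (Nat.card H).Coprime (Nat.card A)) :
    (Nat.card A).Coprime p :=
  (hcop.coprime_dvd_left (dvd_card_of_isPGroup hp.out hH hne)).symm

theorem coprime_pgroup_of_coprime_prime {p : ℕ} [hp : Fact p.Prime] {A H : Subgroup G}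
    (hH : IsPGroup p H) (hcop : (Nat.card A).Coprime p) : (Nat.card H).Coprime (Nat.card A) :=
  coprime_card_of_isPGroup hp.out hH ((piGrp_compl_singleton_iff_coprime hp.out).2 hcop)

/-- BG 1.11 (`coprime_odd_faithful_Ohm1`). -/
theorem t1_11 {p : ℕ} [Fact p.Prime] (hp : p ≠ 2) {A H : Subgroup G} (hH : IsPGroup p H)
    (hA : A ≤ 𝐍(H)) (hcop : (Nat.card H).Coprime (Nat.card A)) (h : A ≤ 𝐂(omegaOne p H)) :
    A ≤ 𝐂(H) := by
  by_cases hne : H = ⊥
  · rw [hne, cent_bot]; exact le_top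
  exact t1_11' hp hH hA (coprime_prime_of_coprime_pgroup hH hne hcop)
    fun x hx h1 => h.trans (cent_le_cent1 (subset_closure ⟨hx, h1⟩))

end CL.BG
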