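import Cfsg.Agent.BG.T1_10
import Cfsg.Agent.BG.T1_11

set_option autoImplicit false
open Cfsg Subgroup

namespace CL.BG
variable {G : Type*} [Group G] [Finite G]

/-- BG 1.12 (`coprime_odd_faithful_cent_abelem`). -/
theorem t1_12 {p : ℕ} [Fact p.Prime] (hp : p ≠ 2) {A H E : Subgroup G} (hH : IsPGroup p H)
    (hEH : E ≤ H) (hE : IsElementaryAbelian p E)
    (hA : A ≤ 𝐍(H)) (hcop : (Nat.card H).Coprime (Nat.card A))
    (h : ∀ x ∈ H ⊓ 𝐂(E), x ^ p = 1 → A ≤ 𝐂₁(x)) : A ≤ 𝐂(H) := by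
  by_cases hne : H = ⊥
  · rw [hne, cent_bot]; exact le_top
  have hAp := coprime_prime_of_coprime_pgroup hH hne hcop
  have hEC : E ≤ H ⊓ 𝐂(A) := by
    refine le_inf hEH fun x hx => le_cent1_iff.1 (h x ⟨hEH hx, le_cent_of_comm hE.1 hx⟩ (hE.2 x hx))
  refine t1_10 hA hcop (nil_of_isPGroup hH) (le_inf inf_le_left (cent_symm ?_))
  refine t1_11' hp (hH.to_le inf_le_left)
    (norms_inf_cent hA (norms_inf_cent hA (le_norm_self A))) hAp fun x hx h1 => ?_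
  exact h x ⟨hx.1, cent_anti hEC hx.2⟩ h1

end CL.BG
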