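import Cfsg.Agent.BG.T10_2
import Cfsg.Agent.BG.T1_5s
import Cfsg.Agent.BG.T1_12

/-! BG Lemma 10.3 -/

namespace CL.BG

open Cfsg

variable {G : Type*} [Group G] [Finite G]

/-- BG 10.3 -/
theorem t10_3 (hG : IsMinSimpleOddOrder G) {M : Subgroup G} (hM : IsCoatom M) {X : Subgroup G}
    (hXM : X ≤ M) (hX : PiGrp (alpha M)ᶜ X) (hr : 2 ≤ rank (alphaCore M ⊓ 𝐂(X))) :
    InUniqueMaximal (M ⊓ 𝐂(X)) := by
  obtain ⟨p, pp, B, hB⟩ := le_rank_iff.1 hr
  have := Fact.mk pp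
  have hBα : B ≤ alphaCore M := hB.le.trans inf_le_left
  have hBC : B ≤ 𝐂(X) := hB.le.trans inf_le_right
  have hp : p ∈ alpha M := (piGrp_alphaCore M).mem ((hB.of_le hBα).mem_primesOf pp two_pos)
  have hne : M ⊓ 𝐂(X) ≠ ⊤ := mmax_sub_ne_top hM inf_le_left
  by_cases hU : InUniqueMaximal B
  · exact inU_mono hU (le_inf (hBα.trans (alphaCore_le M)) hBC) hne
  have hrC : rank 𝐂(B) ≤ 2 := by
    by_contra h
    exact hU (t9_6b hG (hB.rank_eq pp).ge (by omega))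
  obtain ⟨P, hP, hXP, hBP⟩ := t1_5b_sylow (le_norm_alphaCore hXM) (coprime_alphaCore hX)
    (Or.inl (mmax_sub_sol hG hM (alphaCore_le M))) hBα hB.isPGroup
    (le_norm_of_le_cent (cent_symm hBC))
  have hmax : MaxElem p P B := (hB.of_le hBP).maxElem_of_pRank_le pp
    ((pRank_le_rank pp _).trans ((rank_mono inf_le_right).trans hrC))
  have hXC : X ≤ 𝐂(P) := by
    refine t1_12 (mFT_ne_two_of_dvd hG (hB.dvd_card two_pos)) hP.isPGroup hBP hB.elem hXP
      (coprime_card_mono (coprime_alphaCore hX) hP.le le_rfl) fun x hx hxp => ?_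
    exact le_cent1_iff.2 (hBC (hmax.mem hx.1 hx.2 hxp))
  have hPM := (sylowOf_alphaCore_iff hG hM hp).1 hP
  exact t9_6a hG hne (((mem_alpha_iff_sylow hPM).1 hp).trans_le
    (rank_mono (le_inf hPM.le (cent_symm hXC))))

end CL.BG
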