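import Cfsg.Agent.BG.A3_6
import Cfsg.Agent.BG.T1_5
import Cfsg.Agent.BG.T1_8
import Cfsg.Agent.BG.T1_21

set_option autoImplicit false

namespace CL.BG

open Cfsg Subgroup

universe u

/-- BG 3.6 when `O_{p'}(H) = 1` and `O_p(H)` is elementary abelian -/
theorem a36_reduced {G : Type*} [Group G] [Finite G] (p : ℕ) [hp : Fact p.Prime]
    {H R R₀ : Subgroup G} (hRH : R ≤ 𝐍(H)) (hsol : Group.IsSolvable H)
    (hodd : Odd (Nat.card ↥(H ⊔ R₀))) (hcop : (Nat.card H).Coprime (Nat.card R)) (hR₀ : R₀ ≤ R)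
    (hR₀p : (Nat.card R₀).Prime) (hZ : IsZGroup ↥(H ⊓ 𝐂(R₀))) (hHR : ⁅H, R⁆ = H)
    (hO : piCoreOf {p}ᶜ H = ⊥) (hV : IsElementaryAbelian p (piCoreOf {p} H)) :
    ¬ p ∣ (piCoreOf {p} H).relIndex H := by
  intro hdvd
  have hCV := inf_cent_core_le hsol hO
  have hVH := piCoreOf_normalIn {p} H
  have hRV : R ≤ 𝐍(piCoreOf {p} H) := norms_piCoreOf _ hRH
  have hO' := piCoreOf_quot_piCoreOf {p} H
  set V := piCoreOf {p} H with hVdef
  have hVp := isPGroup_of_isElementaryAbelian hV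
  have hVπ : PiGrp {p} V := (piGrp_singleton_iff hp.out).2 hVp
  have hR₀H := hR₀.trans hRH
  have hcop₀ : (Nat.card H).Coprime (Nat.card R₀) := coprime_card_mono hcop le_rfl hR₀
  have hR₀p' : (Nat.card R₀).Coprime p :=
    (hcop₀.of_dvd_left (hdvd.trans (relIndex_dvd_card _ _))).symm
  have cop : ∀ {X Y : Subgroup G}, IsPGroup p X → (Nat.card Y).Coprime p →
      (Nat.card X).Coprime (Nat.card Y) := fun hX hY =>
    coprime_card_of_isPGroup hp.out hX ((piGrp_compl_singleton_iff_coprime hp.out).2 hY)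
  set F := fittingOf (quot V H) with hF
  have hFπ : PiGrp {p}ᶜ F := fit_pi_of_core_compl_eq_bot (by rwa [compl_compl])
  have hqsol := quot_isSolvable V hsol
  have hU : coquot V F ⊴ H := coquot_normalIn hVH (fit_normal _)
  have hRU : R ≤ 𝐍(coquot V F) := le_normalizer_coquot hRV (norms_fit (quot_normalizer V hRH))
  obtain ⟨K, hK, hRK⟩ := t1_5a {p}ᶜ hRU (coprime_card_mono hcop hU.le le_rfl)
    (solvable_of_le hsol hU.le)
  have hKH : K ≤ H := hK.le.trans hU.le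
  have hKV : K ≤ 𝐍(V) := hKH.trans hVH.norm
  have hKp : (Nat.card K).Coprime p := (piGrp_compl_singleton_iff_coprime hp.out).1 hK.pi
  have hVK : V ⊓ K = ⊥ := hVπ.inf_eq_bot hK.pi
  have hqK : quot V K = F := by
    have h1 := hK.quot (V := V) (coquot_le_normalizer V F)
    rw [quot_coquot] at h1
    exact h1.eq_self_iff.2 hFπ
  have hVKU : K ⊔ V = coquot V F := by rw [← hqK, coquot_quot hKV]
  have hN : V ⊔ (H ⊓ 𝐍(K)) = H := by
    have h1 := hall_frattini (solvable_of_le hsol hU.le) hU hK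
    rw [← hVKU, sup_comm K V, sup_assoc, sup_eq_right.2 (le_inf hKH le_normalizer)] at h1
    exact h1
  have hR₀K := hR₀.trans hRK
  have hR₀V := hR₀.trans hRV
  obtain ⟨P, hP, hR₀P⟩ := t1_5a_sylow p (norms_inf_norm hR₀H hR₀K)
    (coprime_card_mono hcop₀ inf_le_left le_rfl) (Or.inr (solvable_of_card_prime hR₀p))
  have hPH : P ≤ H := hP.le.trans inf_le_left
  have hPK : P ≤ 𝐍(K) := hP.le.trans inf_le_right
  have hPV : P ≤ 𝐍(V) := hPH.trans hVH.norm
  have hqH : p ∣ Nat.card (quot V H) := by rwa [card_quot hVH.norm]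
  have hPC : ¬ P ≤ 𝐂(K) := by
    intro h
    have h1 := hP.quot (V := V) (inf_le_left.trans hVH.norm)
    rw [← quot_self_sup (H := H ⊓ 𝐍(K)) (inf_le_left.trans hVH.norm), hN] at h1
    refine h1.ne_bot_iff.2 hqH (PiGrp.eq_bot h1.pi (hFπ.of_le ?_))
    exact le_fit_of_le_cent hqsol h1.le (hF ▸ hqK ▸ quot_centralizer V h)
  have hKR : ⁅K, R₀⁆ ≠ ⊥ := by
    intro e
    have hKn : Group.IsNilpotent K :=
      haveI : Group.IsNilpotent (quot V K) := hqK ▸ fit_nil _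
      Group.nilpotent_of_mulEquiv (quotEquivOfDisjoint hKV hVK).symm
    have h1 := quot_isCyclic V (nil_isCyclic_of_isZGroup hKn
      (isZGroup_of_le hZ (le_inf hKH (commutator_eq_bot_iff'.1 e))))
    rw [hqK] at h1
    have h2 := cyc_der_le_cent h1 (A := quot V H ⊔ quot V R)
      (sup_le (fit_normal _).norm (norms_fit (quot_normalizer V hRH)))
    have h3 := (commutator_mono le_sup_left le_sup_right).trans h2
    rw [← quot_commutator hVH.norm hRV, hHR] at h3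
    exact (hFπ.of_le (le_fit_of_le_cent hqsol le_rfl h3)).not_dvd hp.out (by simp) hqH
  set W := ⁅V, K⁆ with hW
  have hWV : W ≤ V := commutator_le_left_of_norm hKV
  have hWp : IsPGroup p W := hVp.to_le hWV
  have hKW : K ≤ 𝐍(W) := normalizer_commutator_ge_right V K
  have hPW : P ≤ 𝐍(W) := norms_commutator hPV hPK
  have hR₀W : R₀ ≤ 𝐍(W) := norms_commutator hR₀V hR₀K
  have hf : K ⊓ 𝐂(W) = ⊥ := by
    rw [eq_bot_iff, ← hVK]
    refine le_inf (le_trans (le_inf (inf_le_left.trans hKH) ?_) hCV) inf_le_left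
    rw [← t1_6a hKV (cop hVp hKp) (Or.inl (solvable_of_isPGroup hVp)), cent_sup]
    exact le_inf inf_le_right (inf_le_left.trans (cent_symm inf_le_right))
  have hKR₀ : (Nat.card K).Coprime (Nat.card R₀) := coprime_card_mono hcop₀ hKH le_rfl
  have hsd := SDP.of_coprime hR₀K hKR₀
  have hWR : W ⊓ 𝐂(R₀) ≠ ⊥ := fun e => hKR (eq_bot_iff.2 (hf ▸ le_inf
    (commutator_le_left_of_norm hR₀K) (t3_4 hsd (odd_card_of_le hodd (sup_le_sup_right hKH _))
      hKR₀ hR₀p (solvable_of_isPGroup hWp) (sup_le hKW hR₀W)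
      (cop hWp (by rw [← hsd.card]; exact hKp.mul_left hR₀p')) e)))
  have hWP : W ⊓ P = ⊥ := by
    rw [eq_bot_iff, ← t1_6d_TI hKV (cop hVp hKp) hV.1]
    refine le_inf inf_le_left (commutator_eq_bot_iff'.1 (eq_bot_iff.2 (hVK ▸ le_inf ?_ ?_)))
    · exact (commutator_mono (inf_le_left.trans hWV) le_rfl).trans hWV
    · exact commutator_le_right_of_norm (inf_le_right.trans hPK)
  have hWPp : IsPGroup p ↥(W ⊔ P) := isPGroup_sup_of_norm hWp hP.isPGroup (Or.inl hPW)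
  have hS : IsCyclic ↥((W ⊔ P) ⊓ 𝐂(R₀)) :=
    nil_isCyclic_of_isZGroup (nil_of_isPGroup hWPp.to_inf_left)
      (isZGroup_of_le hZ (inf_le_inf_right _ (sup_le (hWV.trans hVH.le) hPH)))
  have hPR : P ⊓ 𝐂(R₀) = ⊥ := by
    rcases cyc_le_total hS hWPp.to_inf_left (inf_le_inf_right _ le_sup_left)
      (inf_le_inf_right _ le_sup_right) with h | h
    · exact absurd (eq_bot_iff.2 (hWP ▸ le_inf inf_le_left (h.trans inf_le_left))) hWR
    · exact eq_bot_iff.2 (hWP ▸ le_inf (h.trans inf_le_left) inf_le_left)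
  have hPR' := t1_6a hR₀P (cop hP.isPGroup hR₀p') (Or.inl (solvable_of_isPGroup hP.isPGroup))
  rw [hPR, sup_bot_eq] at hPR'
  exact hPC (a36_core (isElementaryAbelian_of_le hV hWV) hP.isPGroup hR₀p hodd
    (hPH.trans le_sup_left) le_sup_right hPW hR₀W hR₀P hR₀p'
    (isCyclic_of_le hS (inf_le_inf_right _ le_sup_left)) hPR' K (hKH.trans le_sup_left)
    (solvable_of_le hsol hKH) hKW hPK hR₀K hKp hKR₀ hf
    (isZGroup_of_le hZ (inf_le_inf_right _ hKH)))

theorem a36_main (p : ℕ) [hp : Fact p.Prime] (n : ℕ) : ∀ {G : Type u} [Group G] [Finite G]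
    {H R R₀ : Subgroup G}, Nat.card H = n → R ≤ 𝐍(H) → Group.IsSolvable H →
    Odd (Nat.card ↥(H ⊔ R₀)) → (Nat.card H).Coprime (Nat.card R) → R₀ ≤ R →
    (Nat.card R₀).Prime → IsZGroup ↥(H ⊓ 𝐂(R₀)) → ⁅H, R⁆ = H → PLengthLE p 1 H := by
  induction n using Nat.strong_induction_on with
  | _ n ih =>
  intro G _ _ H R R₀ hn hRH hsol hodd hcop hR₀ hR₀p hZ hHR
  have hcop₀ : (Nat.card H).Coprime (Nat.card R₀) := coprime_card_mono hcop le_rfl hR₀
  have ihq : ∀ X : Subgroup G, X ⊴ H → R ≤ 𝐍(X) → X ≠ ⊥ → PLengthLE p 1 (quot X H) := by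
    intro X hX hRX hX1
    have hR₀X := hR₀.trans hRX
    refine ih _ (hn ▸ card_quot_lt hX.norm (by rwa [inf_eq_left.2 hX.le])) rfl
      (R := quot X R) (R₀ := quot X R₀) (quot_normalizer X hRH) (quot_isSolvable X hsol) ?_
      (quot_coprime X hcop) (quot_mono X hR₀) ?_ ?_ ?_
    · rw [← quot_sup hX.norm hR₀X]
      exact quot_odd X hodd
    · rwa [card_quot_of_disjoint hR₀X (disj_of_coprime (coprime_card_mono hcop₀ hX.le le_rfl))]
    · rw [← quot_inf_cent_of_coprime'' hX.norm hR₀X (hR₀.trans hRH) hcop₀ (Or.inl hsol)]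
      exact IsZGroup.of_surjective (quotHom_surjective (inf_le_left.trans hX.norm))
    · rw [← quot_commutator hX.norm hRX, hHR]
  by_cases hO : piCoreOf {p}ᶜ H = ⊥
  swap
  · have h1 := (pLen1_iff_of_core_bot (piCoreOf_quot_piCoreOf {p}ᶜ H)).1
      (ihq _ (piCoreOf_normalIn _ H) (norms_piCoreOf _ hRH) hO)
    have h2 := h1.not_dvd
    rw [← quot_pPrimePCoreOf, relIndex_quot (le_norm_piCoreOf _ H)
      (piCoreOf_le_pPrimePCoreOf H)] at h2
    exact pLen1_iff_not_dvd.2 h2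
  have hVH := piCoreOf_normalIn {p} H
  have hVp : IsPGroup p (piCoreOf {p} H) := isPGroup_piCoreOf hp.out H
  rw [pLen1_iff_of_core_bot hO]
  refine SylowOf.mk' hVH.le hVp ?_
  by_cases hΦ : frattiniOf (piCoreOf {p} H) = ⊥
  · exact a36_reduced p hRH hsol hodd hcop hR₀ hR₀p hZ hHR hO ((phi_eq_bot_iff hVp).1 hΦ)
  have hCV := inf_cent_core_le hsol hO
  have hΦH := phi_normal_trans hVH
  have hΦπ : PiGrp {p} (frattiniOf (piCoreOf {p} H)) := (piGrp_piCoreOf _ H).of_le (phi_le _)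
  have hq := quot_piCoreOf hΦH hΦπ
  have h0 := ihq _ hΦH (norms_phi (norms_piCoreOf _ hRH)) hΦ
  set V := piCoreOf {p} H
  set Φ := frattiniOf V
  have hO' : piCoreOf {p}ᶜ (quot Φ H) = ⊥ := by
    have hY := coquot_piCoreOf_normalIn {p}ᶜ hΦH
    obtain ⟨Y, hY1⟩ := hall_exists {p}ᶜ (solvable_of_le hsol hY.le)
    have hYH := hY1.le.trans hY.le
    have h1 := hY1.quot (V := Φ) (coquot_le_normalizer _ _)
    rw [quot_coquot] at h1
    have h2 := h1.eq_self_iff.2 (piGrp_piCoreOf _ _)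
    have h3 : ⁅V, Y⁆ ≤ Φ := by
      rw [← quot_le_centralizer_iff (hVH.le.trans hΦH.norm) (hYH.trans hΦH.norm), h2, hq]
      exact cent_symm (core_compl_le_cent_core _ _)
    have h4 := t1_8 ((piGrp_piCoreOf {p} H).coprime hY1.pi) h3
    have h5 : Y = ⊥ := PiGrp.eq_bot ((piGrp_piCoreOf {p} H).of_le ((le_inf hYH h4).trans hCV))
      hY1.pi
    rw [← h2, h5, quot_bot]
  have h1 := ((pLen1_iff_of_core_bot hO').1 h0).not_dvd
  rwa [← hq, relIndex_quot hΦH.norm (phi_le _)] at h1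

variable {G : Type*} [Group G] [Finite G]

/-- BG 3.6 (Coq `odd_sdprod_Zgroup_cent_prime_plength1`). -/
theorem t3_6 (p : ℕ) [Fact p.Prime] {H R R₀ L : Subgroup G} (hL : SDP H R L)
    (hsol : Group.IsSolvable L) (hodd : Odd (Nat.card L))
    (hcop : (Nat.card H).Coprime (Nat.card R)) (hR₀ : R₀ ≤ R) (hR₀p : (Nat.card R₀).Prime)
    (hZ : IsZGroup ↥(H ⊓ 𝐂(R₀))) : PLengthLE p 1 ↥⁅H, R⁆ := by
  have hle : ⁅H, R⁆ ≤ H := commutator_le_left_of_norm hL.norm
  have hH := solvable_of_le hsol hL.left_le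
  exact a36_main p _ rfl (normalizer_commutator_ge_right H R) (solvable_of_le hH hle)
    (odd_card_of_le hodd (sup_le (hle.trans hL.left_le) (hR₀.trans hL.right_le)))
    (coprime_card_mono hcop hle le_rfl) hR₀ hR₀p (isZGroup_of_le hZ (inf_le_inf_right _ hle))
    (t1_6b hL.norm hcop (Or.inl hH))

end CL.BG
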