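import Cfsg.Agent.BG.T10_4
import Cfsg.Agent.BG.T3_6
import Cfsg.Agent.BG.T6_3

/-! BG Theorem 10.6 -/

namespace CL.BG

open Cfsg

variable {G : Type*} [Group G] [Finite G]

/-- BG 10.6 -/
theorem t10_6 (hG : IsMinSimpleOddOrder G) (p : ℕ) [Fact p.Prime] {H : Subgroup G} (hH : H ≠ ⊤) :
    PLengthLE p 1 H := by
  have pp : p.Prime := Fact.out
  obtain ⟨M, hM, hHM⟩ := mmax_exists hH
  refine t1_21a hHM ?_
  by_cases hp : p ∈ alpha M
  swap
  · exact pLen1_iff_not_dvd.2 ((piNat_compl_singleton_iff pp).1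
      (t4_18e (mmax_sol hG hM) (mFT_odd hG M) ((not_mem_alpha_iff pp).1 hp)).2)
  obtain ⟨K, hK⟩ := (t10_2a hG hM).exists_sdp (alphaCore_normal M).norm
  have hKh := hK.hall_right_of_left (t10_2a hG hM)
  have hcop := coprime_alphaCore hKh.pi
  have hlt := der_lt_of_solvable (mmax_sol hG hM) (mmax_ne_bot hG hM)
  obtain ⟨q, qq, hq⟩ := Nat.exists_prime_and_dvd
    (fun h => hlt.not_ge (Subgroup.relIndex_eq_one.1 h))
  have := Fact.mk qq
  have hqσ := t10_4a hG hM hq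
  obtain ⟨Q, hQ, hQK⟩ := hKh.exists_sylow (p := q) fun h => hqσ (alpha_sub_sigma hG hM h)
  obtain ⟨x, hx, -, hxo, -, hZ⟩ := t10_4b hG hM hqσ hQ
    (hQ.ne_bot_iff.2 (hq.trans (Subgroup.relIndex_dvd_card _ _)))
  have hα := t3_6 p hK (mmax_sol hG hM) (mFT_odd hG M) hcop
    (Subgroup.zpowers_le.2 (hQK (omegaOne_center_le q Q hx)))
    (by rwa [Nat.card_zpowers, hxo]) (by rwa [cent_zpowers])
  rw [(t6_3a hK hcop (mmax_sub_sol hG hM (alphaCore_le M)) (alphaCore_le_der hG hM)).1] at hα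
  obtain ⟨S, hS⟩ := sylow_exists p (alphaCore M)
  refine pLen1_of_normal ((sylowOf_alphaCore_iff hG hM hp).1 hS)
    ((alphaCore_normal M).piCoreOf_trans {p}ᶜ)
    ((piGrp_compl_singleton_iff_coprime pp).1 (piGrp_piCoreOf _ _)) ?_
  rw [t6_6a1 hS hα]
  exact (alphaCore_normal M).pPrimePCoreOf_trans.norm

end CL.BG
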