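import Cfsg.Agent.BG.T10_8

/-! BG Lemma 10.8(b), quotient form -/

namespace CL.BG

open Cfsg

variable {G : Type*} [Group G] [Finite G]

/-- BG 10.8(b): `M' / M_β` is nilpotent -/
theorem t10_8b_nil_quot (hG : IsMinSimpleOddOrder G) {M : Subgroup G} (hM : IsCoatom M) :
    Group.IsNilpotent (quot (betaCore M) ⁅M, M⁆) :=
  t10_8_aux hG hM

end CL.BG
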