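import Cfsg.Agent.BG.Exceptional
import Cfsg.Agent.BG.T10_4
import Cfsg.Agent.BG.T10_5

/-! BG section 11: Hypothesis 11.1 and the remarks following it -/

namespace CL.BG

open Cfsg

variable {G : Type*} [Group G] [Finite G]

theorem Exceptional.pRank_eq (hG : IsMinSimpleOddOrder G) {p : ℕ} [Fact p.Prime]
    {M A₀ A : Subgroup G} (h : Exceptional p M A₀ A) : pRank p M = 2 :=
  t10_5a hG h.coatom h.not_sigma h.elem₀.isPGroup h.norm₀

theorem Exceptional.maxElem (hG : IsMinSimpleOddOrder G) {p : ℕ} [Fact p.Prime]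
    {M A₀ A : Subgroup G} (h : Exceptional p M A₀ A) : MaxElem p ⊤ A :=
  t10_4c hG h.coatom h.not_sigma h.elem

theorem Exceptional.cent_le {p : ℕ} {M A₀ A : Subgroup G} (h : Exceptional p M A₀ A) :
    𝐂(A) ≤ M :=
  (cent_anti h.le).trans ((cent_le_norm A₀).trans h.norm₀)

theorem Exceptional.not_norm_le {p : ℕ} [Fact p.Prime] {M A₀ A : Subgroup G}
    (h : Exceptional p M A₀ A) {P : Subgroup G} (hP : SylowOf p P M) : ¬ 𝐍(P) ≤ M :=
  not_norm_le_of_not_mem_sigma h.coatom.1 h.not_sigma hP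

end CL.BG
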