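import Cfsg.Agent.BG.A7_Core
import Cfsg.Agent.BG.T1_5s

namespace CL.BG

open Cfsg

variable {G : Type*} [Group G] [Finite G]

theorem t7_1_step (hG : IsMinSimpleOddOrder G) {π : Set ℕ} {A : Subgroup G}
    (hA : NormedConstrained π A) {q : ℕ} [Fact q.Prime] (hq : q ∉ π) {Q₁ Q₂ H : Subgroup G}
    (h₁ : Q₁ ∈ maxInvSubgroups ⊤ A {q}) (h₂ : Q₂ ∈ maxInvSubgroups ⊤ A {q})
    (hH : H ≠ ⊤) (hAH : A ≤ H) :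
    ∃ h ∈ piCoreOf πᶜ 𝐂(A), ∃ Q₃ ∈ maxInvSubgroups ⊤ A {q},
      cj h (H ⊓ Q₁) ≤ Q₃ ∧ H ⊓ Q₂ ≤ Q₃ := by
  set L := piCoreOf πᶜ H with hL
  have hAL : A ≤ 𝐍(L) := pco_norms _ (le_norm_of_le hAH)
  have hcop : (Nat.card L).Coprime (Nat.card A) := (pco_pi _ H).coprime' hA.piGrp
  have hsol : Group.IsSolvable L ∨ Group.IsSolvable A := Or.inr (hA.sol hG)
  have key : ∀ Q ∈ maxInvSubgroups ⊤ A {q},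
      ∃ R : Subgroup G, SylowOf q R L ∧ A ≤ 𝐍(R) ∧ H ⊓ Q ≤ R := by
    intro Q hQ
    have hp : IsPGroup q ↥(H ⊓ Q) := (maxInv_isPGroup hQ).to_le inf_le_right
    have hn : A ≤ 𝐍(H ⊓ Q) := norms_inf (le_norm_of_le hAH) (maxInv_norm hQ)
    exact t1_5b_sylow hAL hcop hsol
      (hA.le_core H _ hAH hH inf_le_left (piGrp_compl_of_isPGroup hp hq) hn) hp hn
  obtain ⟨R₁, hR₁, hn₁, hle₁⟩ := key Q₁ h₁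
  obtain ⟨R₂, hR₂, hn₂, hle₂⟩ := key Q₂ h₂
  obtain ⟨h, hh, e⟩ := t1_5c_sylow hAL hcop hsol hR₁ hn₁ hR₂ hn₂
  obtain ⟨Q₃, hQ₃, hle₃⟩ := maxInv_exists_p hR₂.isPGroup hn₂
  refine ⟨h, hA.le_core_cent hG inf_le_right ((pco_pi _ H).inf_left _) hh, Q₃, hQ₃, ?_,
    hle₂.trans hle₃⟩
  exact (cj_mono h hle₁).trans (e ▸ hle₃)

theorem t7_1_meet (hG : IsMinSimpleOddOrder G) {π : Set ℕ} {A : Subgroup G}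
    (hA : NormedConstrained π A) {q : ℕ} [Fact q.Prime] (hq : q ∉ π) (n : ℕ) :
    ∀ {Q₁ Q₂ : Subgroup G}, Q₁ ∈ maxInvSubgroups ⊤ A {q} → Q₂ ∈ maxInvSubgroups ⊤ A {q} →
      Q₁ ⊓ Q₂ ≠ ⊥ → Nat.card G - Nat.card ↥(Q₁ ⊓ Q₂) < n →
      ∃ k ∈ piCoreOf πᶜ 𝐂(A), Q₂ = cj k Q₁ := by
  induction n with
  | zero => intro _ _ _ _ _ h; omega
  | succ n ih =>
    intro Q₁ Q₂ h₁ h₂ hne hn
    by_cases heq : Q₂ = Q₁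
    · exact ⟨1, one_mem _, by rw [cj_one, heq]⟩
    have hp₁ := maxInv_isPGroup h₁
    have hp₂ := maxInv_isPGroup h₂
    have hlt₁ : Q₁ ⊓ Q₂ < Q₁ := inf_lt_left.2 fun h => heq (maxInv_max h₁ hp₂ (maxInv_norm h₂) h)
    have hlt₂ : Q₁ ⊓ Q₂ < Q₂ :=
      inf_lt_right.2 fun h => heq (maxInv_max h₂ hp₁ (maxInv_norm h₁) h).symm
    have hN₁ := lt_inf_norm_of_isPGroup hp₁ hlt₁
    have hN₂ := lt_inf_norm_of_isPGroup hp₂ hlt₂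
    rw [inf_comm Q₁ 𝐍(Q₁ ⊓ Q₂)] at hN₁
    rw [inf_comm Q₂ 𝐍(Q₁ ⊓ Q₂)] at hN₂
    obtain ⟨h, hh, Q₃, hQ₃, hle₁, hle₂⟩ := t7_1_step hG hA hq h₁ h₂
      (mFT_norm_pgroup_ne_top hG (hp₁.to_le inf_le_left) hne)
      (norms_inf (maxInv_norm h₁) (maxInv_norm h₂))
    have hhN : h ∈ 𝐍(A) := cent_le_norm A (pco_le _ _ hh)
    have hc₁ : Nat.card ↥(Q₁ ⊓ Q₂) < Nat.card ↥(cj h Q₁ ⊓ Q₃) := by
      refine (card_lt_of_lt hN₁).trans_le ?_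
      rw [← card_cj h]
      exact Subgroup.card_le_of_le (le_inf (cj_mono h inf_le_right) hle₁)
    have hc₂ : Nat.card ↥(Q₁ ⊓ Q₂) < Nat.card ↥(Q₃ ⊓ Q₂) :=
      (card_lt_of_lt hN₂).trans_le (Subgroup.card_le_of_le (le_inf hle₂ inf_le_right))
    have hb₁ : Nat.card ↥(cj h Q₁ ⊓ Q₃) ≤ Nat.card G := Subgroup.card_le_card_group _
    have hb₂ : Nat.card ↥(Q₃ ⊓ Q₂) ≤ Nat.card G := Subgroup.card_le_card_group _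
    have hpos := card_pos' (Q₁ ⊓ Q₂)
    obtain ⟨k₁, hk₁, e₁⟩ := ih (maxInv_top_cj_of_mem_norm hhN h₁) hQ₃
      (by intro h0; rw [h0, Subgroup.card_bot] at hc₁; omega) (by omega)
    obtain ⟨k₂, hk₂, e₂⟩ := ih hQ₃ h₂
      (by intro h0; rw [h0, Subgroup.card_bot] at hc₂; omega) (by omega)
    exact ⟨k₂ * k₁ * h, mul_mem (mul_mem hk₂ hk₁) hh, by rw [e₂, e₁, cj_cj, cj_cj]⟩

/-- BG Lemma 7.1 -/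
theorem t7_1 (hG : IsMinSimpleOddOrder G) {π : Set ℕ} {A : Subgroup G}
    (hA : NormedConstrained π A) {q : ℕ} [Fact q.Prime] (hq : q ∉ π) {Q₁ Q₂ H : Subgroup G}
    (h₁ : Q₁ ∈ maxInvSubgroups ⊤ A {q}) (h₂ : Q₂ ∈ maxInvSubgroups ⊤ A {q})
    (hH : H ≠ ⊤) (hAH : A ≤ H) (hH₁ : H ⊓ Q₁ ≠ ⊥) (hH₂ : H ⊓ Q₂ ≠ ⊥) :
    ∃ k ∈ piCoreOf πᶜ 𝐂(A), Q₂ = cj k Q₁ := by
  obtain ⟨h, hh, Q₃, hQ₃, hle₁, hle₂⟩ := t7_1_step hG hA hq h₁ h₂ hH hAH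
  have hhN : h ∈ 𝐍(A) := cent_le_norm A (pco_le _ _ hh)
  obtain ⟨k₁, hk₁, e₁⟩ := t7_1_meet hG hA hq _ (maxInv_top_cj_of_mem_norm hhN h₁) hQ₃
    (ne_bot_of_le (fun h0 => hH₁ (cj_eq_bot_iff.1 h0)) (le_inf (cj_mono h inf_le_right) hle₁))
    (Nat.lt_succ_self _)
  obtain ⟨k₂, hk₂, e₂⟩ := t7_1_meet hG hA hq _ hQ₃ h₂
    (ne_bot_of_le hH₂ (le_inf hle₂ inf_le_right)) (Nat.lt_succ_self _)
  exact ⟨k₂ * k₁ * h, mul_mem (mul_mem hk₂ hk₁) hh, by rw [e₂, e₁, cj_cj, cj_cj]⟩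

end CL.BG
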