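import Cfsg.Agent.BG.T11_0
import Cfsg.Agent.BG.T10_2
import Cfsg.Agent.BG.T7_1
import Cfsg.Agent.BG.T7_5

/-! BG Lemma 11.1 -/

namespace CL.BG

open Cfsg

variable {G : Type*} [Group G] [Finite G]

/-- an `A`-invariant Sylow `q`-subgroup of `G` is a maximal `A`-invariant `q`-subgroup -/
theorem SylowOf.mem_maxInv {q : ℕ} {Q A : Subgroup G} (hQ : SylowOf q Q ⊤) (hA : A ≤ 𝐍(Q)) :
    Q ∈ maxInvSubgroups ⊤ A {q} :=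
  mem_maxInvSubgroups.2 ⟨mem_invSubgroups.2 ⟨le_top, hQ.hall.pi, hA⟩, fun _ hR hle =>
    hQ.hall.eq_of_le le_top (mem_invSubgroups.1 hR).2.1 hle⟩

/-- BG 11.1 -/
theorem t11_1 (hG : IsMinSimpleOddOrder G) {p : ℕ} [hp : Fact p.Prime] {M A₀ A : Subgroup G}
    (h : Exceptional p M A₀ A) {g : G} (hg : g ∉ M) (hAg : A ≤ cj g M) {q : ℕ} [hq : Fact q.Prime]
    {Q₁ Q₂ : Subgroup G} (h₁ : SylowOf q Q₁ (sigmaCore M)) (hA₁ : A ≤ 𝐍(Q₁))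
    (h₂ : SylowOf q Q₂ (cj g (sigmaCore M))) (hA₂ : A ≤ 𝐍(Q₂)) :
    Q₁ ⊓ Q₂ = ⊥ ∧ ∀ X : Subgroup G, ElemN p 1 A X → Q₁ ⊓ 𝐂(X) = ⊥ ∨ Q₂ ⊓ 𝐂(X) = ⊥ := by
  have hM := h.coatom
  by_cases hQ1 : Q₁ = ⊥
  · subst hQ1
    exact ⟨bot_inf_eq _, fun X _ => Or.inl (bot_inf_eq _)⟩
  have hqs : q ∈ sigma M :=
    (piGrp_sigmaCore M).mem_of_isPGroup hq.out h₁.isPGroup hQ1 h₁.le
  have hqs' : q ∈ sigma (cj g M) := by rwa [sigma_cj]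
  have hqp : q ∉ ({p} : Set ℕ) := fun he => h.not_sigma (Set.mem_singleton_iff.1 he ▸ hqs)
  have h₁M : SylowOf q Q₁ M := (sylowOf_sigmaCore_iff hG hM hqs).1 h₁
  have h₂M : SylowOf q Q₂ (cj g M) :=
    (sylowOf_sigmaCore_iff hG (mmax_cj g hM) hqs').1 (by rwa [sigmaCore_cj])
  have key : ∀ H : Subgroup G, H ≠ ⊤ → A ≤ H → H ⊓ Q₁ ≠ ⊥ → H ⊓ Q₂ ≠ ⊥ → False := by
    intro H hH hAH n₁ n₂
    obtain ⟨k, hk, he⟩ := t7_1 hG (t7_5a hG (h.elem.ne_bot hp.out two_pos) (h.maxElem hG)) hqp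
      ((sigma_sylow_top hqs h₁M).mem_maxInv hA₁) ((sigma_sylow_top hqs' h₂M).mem_maxInv hA₂)
      hH hAH n₁ n₂
    have hkM : k ∈ M := h.cent_le (piCoreOf_le _ _ hk)
    exact hg (t10_1d' hqs (he ▸ h₁M.hall.cj_of_mem hkM) h₂M.le)
  refine ⟨?_, fun X hX => ?_⟩
  · by_contra hne
    refine key M hM.1 h.elem.le (by rwa [inf_eq_right.2 h₁M.le]) fun hb => hne ?_
    rw [eq_bot_iff, ← hb]
    exact inf_le_inf_right _ h₁M.le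
  · by_contra hcon
    push Not at hcon
    exact key 𝐂(X) (mFT_cent_ne_top hG (hX.ne_bot hp.out one_pos))
      (h.elem.le_cent_of_le le_rfl hX.le) (by rw [inf_comm]; exact hcon.1)
      (by rw [inf_comm]; exact hcon.2)

end CL.BG
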