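import Cfsg.Agent.Base
import Cfsg.Agent.BG.Fit
import Cfsg.Agent.BG.T10_12
import Cfsg.Agent.BG.T12_15

namespace CL.BG

open Cfsg

variable {G : Type*} [Group G] [Finite G]

/-- a `σ(M)`-subgroup of `G` is proper -/
theorem ne_top_of_piGrp_sigma (hG : IsMinSimpleOddOrder G) {M Y : Subgroup G} (hM : IsCoatom M)
    (hY : PiGrp (sigma M) Y) : Y ≠ ⊤ := by
  rintro rfl
  exact mmax_sub_ne_top hM (sigmaCore_le M) ((t10_2b_top hG hM).eq_self_iff.2 hY)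

private theorem t12_16_setup (hG : IsMinSimpleOddOrder G) {M Y : Subgroup G} (hM : IsCoatom M)
    (hY : PiGrp (sigma M) Y) (hY1 : Y ≠ ⊥) : ∃ (g : G) (q : ℕ), q ∈ sigma M ∧
      piCoreOf {q} (cj g Y) ≠ ⊥ ∧ piCoreOf {q} (cj g Y) ≤ M := by
  obtain ⟨q, hq, hX1⟩ := exists_pcore_ne_bot (mFT_sol hG (ne_top_of_piGrp_sigma hG hM hY)) hY1
  have := Fact.mk hq
  have hX := isPGroup_piCoreOf hq Y
  have hσ : q ∈ sigma M := hY.mem_of_isPGroup hq hX hX1 (piCoreOf_le _ Y)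
  obtain ⟨Q, hQ⟩ := sylow_exists q M
  obtain ⟨g, -, hg⟩ := sylow_conj_le (sigma_sylow_top hσ hQ) hX le_top
  exact ⟨g, q, hσ, by rwa [← cj_piCoreOf, Ne, cj_eq_bot_iff],
    by rw [← cj_piCoreOf]; exact hg.trans hQ.le⟩

/-- the factorisation of a maximal overgroup of `N(X)` used in the proof of 12.16 -/
private theorem t12_16_fact (hG : IsMinSimpleOddOrder G) {M X : Subgroup G} (hM : IsCoatom M)
    {q : ℕ} (hq : q ∈ sigma M) (hXM : X ≤ M) (hX : IsPGroup q X) (hX1 : X ≠ ⊥) :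
    ∃ L K : Subgroup G, IsCoatom L ∧ 𝐍(X) ≤ L ∧ (L = M ∨ ∀ g : G, L ≠ cj g M) ∧
      K ⊔ (M ⊓ L) = L ∧ M ⊓ L ≤ 𝐍(K) ∧ PiGrp (sigma M)ᶜ K ∧
      ∀ p ∈ primesOf M, ¬ IsIdealPrime p G → ¬ p ∣ Nat.card K := by
  have := Fact.mk (prime_of_mem_sigma hq)
  obtain ⟨L, hL, hNL⟩ := mmax_exists (mFT_norm_pgroup_ne_top hG hX hX1)
  by_cases hLM : L = M
  · subst hLM
    refine ⟨L, ⊥, hL, hNL, Or.inl rfl, by simp, by rw [norm_bot]; exact le_top, piGrp_bot _,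
      fun p hp _ h => hp.1.one_lt.ne' (by simpa using h)⟩
  obtain ⟨hnj, -, hd, he⟩ := t12_15 hG hM hq hXM hX hX1 hL hLM hNL
  have hnj' : ∀ g : G, M ≠ cj g L := fun g hg => hnj g⁻¹ (by rw [hg, cj_inv_cj])
  by_cases hqL : q ∈ sigma L
  · refine ⟨L, betaCore L, hL, hNL, Or.inr hnj, (hd hqL).1, le_norm_betaCore inf_le_right,
      (piGrp_betaCore L).mono fun p hp => ?_, fun p hp hβ => ?_⟩
    · exact Set.disjoint_left.1 (t10_12a hG hL hM hnj').2 (beta_sub_alpha L hp)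
    · exact (piGrp_betaCore L).not_dvd hp.1 fun h => hβ (ideal_of_mem_beta h)
  · obtain ⟨h2, hβ, hE⟩ := he hqL
    refine ⟨L, sigmaCore L, hL, hNL, Or.inr hnj, (sdprod_sigma hG hL hE).sup,
      le_norm_sigmaCore inf_le_right, (piGrp_sigmaCore L).mono fun p hp => ?_,
      fun p hp hi => ?_⟩
    · exact Set.disjoint_left.1 (t12_6f hG hL h2 hM hnj').2 hp
    · exact (piGrp_sigmaCore L).not_dvd hp.1 fun h => hi (ideal_of_mem_beta (hβ ⟨hp, h⟩))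

/-- BG 12.16, first assertion -/
theorem t12_16a (hG : IsMinSimpleOddOrder G) {M Y : Subgroup G} (hM : IsCoatom M)
    (hY : PiGrp (sigma M) Y) : ∃ g : G, cj g Y ≤ sigmaCore M := by
  by_cases hY1 : Y = ⊥
  · exact ⟨1, by rw [hY1, cj_bot]; exact bot_le⟩
  obtain ⟨g, q, hq, hX1, hXM⟩ := t12_16_setup hG hM hY hY1
  obtain ⟨L, K, hL, hNL, -, hdL, hK, hKσ, -⟩ :=
    t12_16_fact hG hM hq hXM (isPGroup_piCoreOf hq.1 _) hX1
  obtain ⟨W, hW⟩ := hall_exists (sigma M) (mmax_sub_sol hG hM (inf_le_left : M ⊓ L ≤ M))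
  have hWL : Hall (sigma M) W L :=
    hW.trans_idx inf_le_right (IsPiNum.of_dvd hKσ (prod_relIndex_dvd hdL hK))
  obtain ⟨x, -, hx⟩ := hall_conj_le (mmax_sol hG hL) hWL ((le_norm_piCoreOf _ _).trans hNL)
    (hY.cj g)
  refine ⟨x * g, ?_⟩
  rw [cj_mul]
  exact le_sigmaCore hG hM (hx.trans (hW.le.trans inf_le_left)) ((hY.cj g).cj x)

/-- BG 12.16 (a), (b) -/
theorem t12_16b (hG : IsMinSimpleOddOrder G) {M Y H : Subgroup G} (hM : IsCoatom M)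
    (hY : PiGrp (sigma M) Y) (hY1 : Y ≠ ⊥) {p : ℕ} (hpM : p ∈ primesOf M) (hpσ : p ∉ sigma M)
    (hpβ : ¬ IsIdealPrime p G) (hH : IsCoatom H) (hYH : Y ≤ H) (hnj : ∀ g : G, H ≠ cj g M) :
    pRank p (H ⊓ 𝐍(Y)) ≤ 1 ∧ (p ∈ tau1 M → ¬ p ∣ Nat.card ↥⁅H ⊓ 𝐍(Y), H ⊓ 𝐍(Y)⁆) := by
  have hp := hpM.1
  obtain ⟨g, q, hq, hX1, hXM⟩ := t12_16_setup hG hM hY hY1
  have hX := isPGroup_piCoreOf hq.1 (cj g Y)
  obtain ⟨L, K, hL, hNL, hLM, hdL, hK, -, hKp⟩ := t12_16_fact hG hM hq hXM hX hX1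
  have hpK := hKp p hpM hpβ
  have hNY : 𝐍(cj g Y) ≤ L := (norm_le_norm_piCoreOf _ _).trans hNL
  have pre : ∀ H' : Subgroup G, IsCoatom H' → H' ≠ M → piCoreOf {q} (cj g Y) ≤ H' →
      pRank p (M ⊓ H') ≤ 1 := by
    intro H' hH' hne hXH'
    by_contra hlt
    obtain ⟨A, hA⟩ := exists_elemN_of_le_pRank hp (not_le.1 hlt)
    have hAM := hA.mono inf_le_left
    refine hX1 (le_bot_iff.1 ?_)
    rw [← t12_5e hG hM (s12_tau2_of_elemN hG hM hp hpσ hAM) hAM hH' hne (hA.le.trans inf_le_right)]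
    exact le_inf (le_sigmaCore hG hM hXM (piGrp_of_isPGroup hq.1 hX hq)) hXH'
  rw [← pRank_cj p g, ← card_cj g, cj_commutator, cj_inf, cj_norm]
  refine ⟨?_, fun h1 hd => ?_⟩
  · rcases hLM with rfl | hLM
    · refine (pRank_mono hp (le_inf (inf_le_right.trans hNY) inf_le_left)).trans
        (pre (cj g H) (mmax_cj g hH) (fun h => hnj g⁻¹ (by rw [← h, cj_inv_cj]))
          ((piCoreOf_le _ _).trans (cj_mono g hYH)))
    · refine (pRank_mono hp (inf_le_right.trans hNY)).trans ?_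
      rw [← prod_pRank_eq hdL hK hp hpK]
      exact pre L hL (fun h => hLM 1 (by rw [cj_one, h])) ((le_norm_self _).trans hNL)
  · refine prod_not_dvd_der hdL hK hp hpK (fun h => (mem_tau1_iff.1 h1).2.2.2 ?_) ?_
    · exact h.trans (Subgroup.card_dvd_of_le (Subgroup.commutator_mono inf_le_left inf_le_left))
    · exact hd.trans (Subgroup.card_dvd_of_le (Subgroup.commutator_mono
        (inf_le_right.trans hNY) (inf_le_right.trans hNY)))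

end CL.BG
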