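import Cfsg.Agent.Base
import Cfsg.Agent.BG.Sigma
import Cfsg.Agent.BG.Max
import Cfsg.Agent.BG.Nil
import Cfsg.Agent.BG.QuotPi
import Cfsg.Agent.BG.T1_5
import Cfsg.Agent.BG.T1_6
import Cfsg.Agent.BG.T1_13
import Cfsg.Agent.BG.T3_7
import Cfsg.Agent.BG.T9_6
import Cfsg.Agent.BG.T10_2
import Cfsg.Agent.BG.T10_3
import Cfsg.Agent.BG.T10_9
import Cfsg.Agent.BG.T12_2

namespace CL.BG

open Cfsg

variable {G : Type*} [Group G] [Finite G]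

/-- If a group `P` of prime order acts without fixed points on `Q` and on the section `N / V`,
then `Q` centralises `N / V`. -/
theorem commutator_le_of_prime_reg {N V P Q : Subgroup G} (hP : (Nat.card P).Prime)
    (hV : V ⊴ N) (hQV : Q ≤ 𝐍(V)) (hPV : P ≤ 𝐍(V)) (hQN : Q ≤ 𝐍(N)) (hPN : P ≤ 𝐍(N))
    (hPQ : P ≤ 𝐍(Q)) (hN : Group.IsSolvable N) (hQ : Group.IsSolvable Q)
    (hNQ : (Nat.card N).Coprime (Nat.card Q)) (hNP : (Nat.card N).Coprime (Nat.card P))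
    (hQP : (Nat.card Q).Coprime (Nat.card P)) (hCN : N ⊓ 𝐂(P) ≤ V) (hCQ : Q ⊓ 𝐂(P) = ⊥) :
    ⁅N, Q⁆ ≤ V := by
  have hK : N ⊔ Q ≤ 𝐍(V) := sup_le hV.norm hQV
  have hsol := solvable_sup hQN hN hQ
  have hC : (N ⊔ Q) ⊓ 𝐂(P) ≤ V := by
    rw [← ((SDP.of_coprime hQN hNQ).inf_cent hPN hPQ).sup, hCQ, sup_bot_eq]
    exact hCN
  have hcop : (Nat.card ↥(N ⊔ Q)).Coprime (Nat.card P) :=
    (Nat.Coprime.mul_left hNP hQP).coprime_dvd_left (card_sup_dvd hQN)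
  have hnil : Group.IsNilpotent (quot V (N ⊔ Q)) := by
    refine t3_7 (R := quot V P) (quot_normalizer V (norms_sup hPN hPQ)) (quot_isSolvable V hsol)
      ?_ ?_
    · rwa [card_quot_of_disjoint hPV
        (disj_of_coprime (hNP.coprime_dvd_left (Subgroup.card_dvd_of_le hV.le)))]
    · rw [← quot_inf_cent_of_coprime'' hK hPV (norms_sup hPN hPQ) hcop (Or.inl hsol)]
      exact quot_eq_bot hC
  exact (quot_le_centralizer_iff hV.norm hQV).1 (nil_cent_of_coprime hnil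
    (quot_mono V le_sup_left) (quot_mono V le_sup_right) (quot_coprime V hNQ))

/-- BG 12.18(a) -/
theorem t12_18a (hG : IsMinSimpleOddOrder G) {M P Q : Subgroup G} (hM : IsCoatom M) {p q : ℕ}
    [Fact q.Prime] (hp : p ∈ tau1 M) (hqp : q ≠ p) (hP : ElemN p 1 M P) (hQ1 : Q ≠ ⊥)
    (hPQ : P ≤ 𝐍(Q)) (hreg : Q ⊓ 𝐂(P) = ⊥) (hnu : ¬ UniqMax 𝐍(Q) M)
    (hα : alphaCore M ≠ ⊥) (hq : q ∉ alpha M) (hQ : IsPGroup q Q) (hQM : Q ≤ M) :
    alphaCore M ⊓ 𝐂(P) ≠ ⊥ ∧ alphaCore M ⊓ 𝐂(P ⊔ Q) = ⊥ := by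
  have hqq : q.Prime := Fact.out
  have hpp := prime_of_mem_tau1 hp
  have := Fact.mk hpp
  have hPα : PiGrp (alpha M)ᶜ P := hP.piGrp hpp
    ((not_mem_alpha_iff hpp).2 (by rw [pRank_of_mem_tau1 hp]; omega))
  have hQα : PiGrp (alpha M)ᶜ Q := piGrp_of_isPGroup hqq hQ hq
  have hPQM : P ⊔ Q ≤ M := sup_le hP.le hQM
  have hcop := coprime_alphaCore (hPα.sup hQα (Or.inr hPQ))
  have hsol := mmax_sub_sol hG hM (alphaCore_le M)
  have hQP : (Nat.card Q).Coprime (Nat.card P) :=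
    coprime_card_of_isPGroup_of_ne hqq hpp hqp hQ hP.isPGroup
  have rQ : ¬ 2 ≤ rank (alphaCore M ⊓ 𝐂(Q)) := fun h => hnu
    ((inU_uniqMax (t10_3 hG hM hQM hQα h) hM inf_le_left).mono
      (inf_le_right.trans (cent_le_norm Q)) (mFT_norm_pgroup_ne_top hG hQ hQ1))
  have rP : ¬ 2 ≤ rank (alphaCore M ⊓ 𝐂(P)) := fun h => by
    have hN : 𝐍(P) ≤ M := (inU_uniqMax (t10_3 hG hM hP.le hPα h) hM inf_le_left).le_of_le
      (inf_le_right.trans (cent_le_norm P))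
      (mFT_norm_pgroup_ne_top hG hP.isPGroup (hP.ne_bot hpp one_pos))
    exact (t12_2a hG hM hP.isPGroup hN).elim (not_mem_sigma_of_tau1 hp) (not_mem_tau2_of_tau1 hp)
  have hnc : ∀ {r : ℕ} {R : Subgroup G}, r ∈ alpha M → SylowOf r R (alphaCore M) →
      ¬ Q ≤ 𝐂(R) := by
    intro r R hr hR hc
    have := Fact.mk (prime_of_mem_alpha hr)
    have h3 := (mem_alpha_iff_sylow (hR.trans_hall (t10_2a hG hM) hr)).1 hr
    have h4 := rank_mono (le_inf hR.le (cent_symm hc))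
    omega
  have key : ∀ {N V : Subgroup G}, N ≤ alphaCore M → V ⊴ N → P ⊔ Q ≤ 𝐍(V) → P ⊔ Q ≤ 𝐍(N) →
      N ⊓ 𝐂(P) ≤ V → ⁅N, Q⁆ ≤ V := fun hN hV h1 h2 h3 =>
    commutator_le_of_prime_reg (hP.card_prime hpp) hV (le_sup_right.trans h1)
      (le_sup_left.trans h1) (le_sup_right.trans h2) (le_sup_left.trans h2) hPQ
      (solvable_of_le hsol hN) (solvable_of_isPGroup hQ)
      (coprime_card_mono hcop hN le_sup_right) (coprime_card_mono hcop hN le_sup_left) hQP h3 hreg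
  refine ⟨fun hC => ?_, ?_⟩
  · obtain ⟨r, hr, hd⟩ := exists_prime_dvd_card hα
    obtain ⟨R, hR, hn⟩ := t1_5a {r} (le_norm_alphaCore hPQM) hcop hsol
    refine hnc (piGrp_alphaCore M r hr hd) hR (commutator_eq_bot_iff''.1 (le_bot_iff.1 ?_))
    exact key hR.le (NormalIn.bot R) (by rw [norm_bot]; exact le_top) hn
      ((inf_le_inf_right _ hR.le).trans hC.le)
  by_contra hC
  obtain ⟨r, hr, hd⟩ := exists_prime_dvd_card hC
  have := Fact.mk hr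
  obtain ⟨X, hX⟩ := exists_elemN_one_of_dvd hr hd
  have hXc : X ≤ 𝐂(P ⊔ Q) := hX.le.trans inf_le_right
  obtain ⟨R, hR, hn, hXR⟩ := t1_5b (π := {r}) (le_norm_alphaCore hPQM) hcop hsol
    (hX.le.trans inf_le_left) (hX.piGrp hr rfl) (le_norm_of_le_cent (cent_symm hXc))
  have hrα : r ∈ alpha M :=
    piGrp_alphaCore M r hr (hd.trans (Subgroup.card_dvd_of_le inf_le_left))
  have hRr : IsPGroup r R := hR.pi.isPGroup hr
  have hR1 : R ≠ ⊥ := ne_bot_of_le (hX.ne_bot hr one_pos) hXR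
  obtain ⟨R₁, hch, -, -, hexp, hcrit⟩ := t1_13 (mFT_ne_two_of_pgroup hG hRr hR1) hRr hR1
  have hn₁ : P ⊔ Q ≤ 𝐍(R₁) := hch.norms hn
  have hlt : R₁ ⊓ 𝐂(Q) < R₁ := by
    refine lt_of_le_of_ne inf_le_left fun h => hnc hrα hR (hcrit Q (le_sup_right.trans hn) ?_ ?_)
    · exact (Nat.Coprime.symm ((Nat.Prime.coprime_iff_not_dvd hr).2 (hQα.not_dvd hr (by simpa))))
    · exact cent_symm (h.ge.trans inf_le_right)
  have hn₀ : P ⊔ Q ≤ 𝐍(R₁ ⊓ 𝐂(Q)) := norms_inf_cent hn₁ (sup_le hPQ (le_norm_self Q))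
  have hlt' := lt_inf_norm_of_isPGroup (hRr.to_le hch.le) hlt
  have hcyc : IsCyclic ↥(R ⊓ 𝐂(P)) := by
    refine isCyclic_of_pRank_le_one hr (hRr.to_le inf_le_left) (mFT_odd hG _) ?_
    have h1 := pRank_le_rank hr (R ⊓ 𝐂(P))
    have h2 := rank_mono (inf_le_inf_right 𝐂(P) hR.le)
    omega
  have hXΩ := (hX.of_le (le_inf hXR (hXc.trans (cent_anti le_sup_left)))).eq_omegaOne_of_isCyclic
    hr hcyc
  have hNα : R₁ ⊓ 𝐍(R₁ ⊓ 𝐂(Q)) ≤ alphaCore M := inf_le_left.trans (hch.le.trans hR.le)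
  have hcomm := key hNα ⟨hlt'.le, inf_le_right⟩ hn₀ (norms_inf_norm hn₁ hn₀) fun x hx =>
    ⟨hx.1.1, cent_anti le_sup_right (hXc (hXΩ ▸ mem_omegaOne ⟨hch.le hx.1.1, hx.2⟩ (hexp x hx.1.1)))⟩
  refine hlt'.not_ge (le_inf inf_le_left (cent_symm (t1_6c
    (le_sup_right.trans (norms_inf_norm hn₁ hn₀)) (coprime_card_mono hcop hNα le_sup_right) ?_)))
  exact commutator_eq_bot_iff'.2 (hcomm.trans inf_le_right)

/-- BG 12.18(b) -/
theorem t12_18b (hG : IsMinSimpleOddOrder G) {M P Q : Subgroup G} (hM : IsCoatom M) {p q : ℕ}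
    [Fact q.Prime] (hp : p ∈ tau1 M) (hqp : q ≠ p) (hP : ElemN p 1 M P) (hQ1 : Q ≠ ⊥)
    (hPQ : P ≤ 𝐍(Q)) (hreg : Q ⊓ 𝐂(P) = ⊥) (hnu : ¬ UniqMax 𝐍(Q) M) (hQ : SylowOf q Q M) :
    alpha M = beta M ∧ alphaCore M ≠ ⊥ ∧ q ∉ alpha M ∧
      alphaCore M ⊓ 𝐂(P) ≠ ⊥ ∧ alphaCore M ⊓ 𝐂(P ⊔ Q) = ⊥ := by
  have hqq : q.Prime := Fact.out
  have hpp := prime_of_mem_tau1 hp
  have hQq := hQ.isPGroup
  have hNQ := mFT_norm_pgroup_ne_top hG hQq hQ1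
  have hqα : q ∉ alpha M := fun h => hnu ((inU_uniqMax
    (t9_6a hG (mFT_pgroup_ne_top hG hQq) ((mem_alpha_iff_sylow hQ).1 h)) hM hQ.le).mono
      (le_norm_self Q) hNQ)
  have hQM' : Q ≤ ⁅M, M⁆ := by
    have h := t1_6a hPQ (coprime_card_of_isPGroup_of_ne hqq hpp hqp hQq hP.isPGroup)
      (Or.inl (solvable_of_isPGroup hQq))
    rw [hreg, sup_bot_eq] at h
    exact h.ge.trans (Subgroup.commutator_mono hQ.le hP.le)
  have hα : alphaCore M ≠ ⊥ := fun h => by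
    have h1 := t10_2d_normal hG hM (hQ.hall.restrict hQM' (NormalIn.der M).le)
    rw [h, bot_sup_eq] at h1
    rw [mmax_normal hG hM h1 hQ1] at hnu
    exact hnu (mmax_uniqMax hM)
  refine ⟨Set.Subset.antisymm (fun r hr => ?_) (beta_sub_alpha M), hα, hqα,
    t12_18a hG hM hp hqp hP hQ1 hPQ hreg hnu hα hqα hQq hQ.le⟩
  by_contra hβ
  have := Fact.mk (prime_of_mem_alpha hr)
  refine hnu ((inU_uniqMax ((t10_9a hG hM hβ (fun h => hqα (beta_sub_alpha M h)) hQq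
    (Or.inl ⟨fun h => hqα (h ▸ hr), hQM'⟩)).2.1 hr) hM inf_le_left).mono
      (inf_le_right.trans (cent_le_norm Q)) hNQ)

end CL.BG
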