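import Cfsg.Agent.BG.A13_Basic
import Cfsg.Agent.BG.A12_Basic
import Cfsg.Agent.BG.T1_19
import Cfsg.Agent.BG.T10_0
import Cfsg.Agent.BG.T10_2
import Cfsg.Agent.BG.T10_8
import Cfsg.Agent.BG.T10_12
import Cfsg.Agent.BG.T12_1
import Cfsg.Agent.BG.T12_16

/-! # Bender-Glauberman Lemma 13.1 -/

namespace CL.BG

open Cfsg Subgroup

variable {G : Type*} [Group G] [Finite G]

/-- for `p ∈ σ(H) ∪ τ₃(H)` the `p`-subgroups of `H` lie in `H'` -/
theorem a13_le_der (hG : IsMinSimpleOddOrder G) {H P : Subgroup G} (hH : IsCoatom H) {p : ℕ}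
    (hp : p ∈ sigma H ∨ p ∈ tau3 H) (hPH : P ≤ H) (hP : IsPGroup p P) : P ≤ ⁅H, H⁆ := by
  rcases hp with hp | hp
  · exact (le_sigmaCore hG hH hPH (piGrp_of_isPGroup hp.1 hP hp)).trans (t10_2c hG hH)
  · have := Fact.mk hp.1
    obtain ⟨S, hS, hPS⟩ := sylow_superset hP hPH
    rcases t1_19a hS (tau13_isCyclic hG (Or.inr hp) hS.le hS.isPGroup) with h | h
    · have h1 : SylowOf p (S ⊓ ⁅H, H⁆) ⁅H, H⁆ := Hall.inf_normal hS (NormalIn.der H)
      exact absurd h (h1.ne_bot_iff.2 hp.2.2.1)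
    · exact hPS.trans h

/-- Frattini argument for a Sylow subgroup of `H'` -/
theorem a13_beta_sup_norm (hG : IsMinSimpleOddOrder G) {H Y : Subgroup G} (hH : IsCoatom H)
    {q : ℕ} (hq : q.Prime) (hY : SylowOf q Y ⁅H, H⁆) : betaCore H ⊔ (H ⊓ 𝐍(Y)) = H := by
  have := Fact.mk hq
  have h1 : SylowOf q Y (betaCore H ⊔ Y) := Hall.restrict hY le_sup_right
    (sup_le ((betaCore_le_sigmaCore hG hH).trans (t10_2c hG hH)) hY.le)
  have h2 := h1.frattini (t10_8b_normal hG hH hY)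
  rwa [sup_assoc, sup_eq_right.2 (le_inf (hY.le.trans (NormalIn.der H).le) le_normalizer)] at h2

/-- BG 13.1 (Coq `Msigma_setI_mmax_central`). -/
theorem t13_1 (hG : IsMinSimpleOddOrder G) {M E H : Subgroup G} (hM : IsCoatom M)
    (hE : Hall (sigma M)ᶜ E M) (hH : IsCoatom H) {p : ℕ} (hpE : p ∈ primesOf E)
    (hpH : p ∈ primesOf H) (ht : p ∉ tau1 H) (hne : ⁅sigmaCore M ⊓ H, M ⊓ H⁆ ≠ ⊥)
    (hnc : ∀ g : G, H ≠ cj g M) :
    (∀ P : Subgroup G, P ≤ M ⊓ H → IsPGroup p P → P ≤ 𝐂(sigmaCore M ⊓ H)) ∧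
      p ∉ tau2 H ∧ (p ∈ tau1 M → IsIdealPrime p G) := by
  have hp : p.Prime := hpE.1
  have := Fact.mk hp
  have hpσ : p ∉ sigma M := hE.pi.mem hpE
  have hpM : p ∈ primesOf M := primesOf_mono hE.le hpE
  have hn : M ⊓ H ≤ 𝐍(sigmaCore M ⊓ H) :=
    norms_inf (a13_norm_sigma inf_le_left) (le_norm_of_le inf_le_right)
  obtain ⟨q, hq, hqd⟩ := exists_prime_dvd_card hne
  have := Fact.mk hq
  have hqσ : q ∈ sigma M := (a13_sigma_pi M).mem
    ⟨hq, hqd.trans (card_dvd_of_le ((commutator_le_left_of_norm hn).trans inf_le_left))⟩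
  obtain ⟨Y, hY⟩ := sylow_exists q ⁅H, H⁆
  have hY1 : Y ≠ ⊥ := hY.ne_bot_iff.2
    (hqd.trans (card_dvd_of_le (commutator_mono inf_le_right inf_le_right)))
  have hYH : Y ≤ H := hY.le.trans (NormalIn.der H).le
  have hF := a13_beta_sup_norm hG hH hq hY
  have hβ : ¬ IsIdealPrime p G → ¬ p ∣ Nat.card (betaCore H) := fun h =>
    (a13_beta_pi H).not_dvd hp fun h' => h h'.2
  have h16 := fun h => t12_16b hG hM (piGrp_of_isPGroup hq hY.isPGroup hqσ) hY1 hpM hpσ h hH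
    hYH hnc
  have hb : p ∉ tau2 H := fun h => by
    have hni := (t12_1g hG hH h).1
    have h1 := (h16 hni).1
    rw [← a13_pRank_of_sup hp (a13_norm_beta inf_le_left) hF (hβ hni), a13_tau2_pRank h] at h1
    omega
  have hs : p ∈ sigma H ∨ p ∈ tau3 H := by
    have := (partition_pi_mmax hG hH).1 hpH
    tauto
  refine ⟨fun P hPle hP => ?_, hb, fun h => ?_⟩
  · obtain ⟨S, hS, hPS⟩ := sylow_superset hP (a13_le_der hG hH hs (hPle.trans inf_le_right) hP)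
    have hN := t10_8b_normal hG hH hS
    have hd := (t10_12a hG hH hM (a13_notConj_symm hnc)).2
    refine a13_le_cent ((a13_sigma_pi M).inf_left H) (N := betaCore H ⊔ S) ?_ (hPle.trans hn)
      (inf_le_right.trans hN.norm) (hPS.trans le_sup_right)
    refine PiGrp.sup ((a13_beta_pi H).mono fun r hr hr' => ?_)
      (piGrp_of_isPGroup hp hS.isPGroup hpσ)
      (Or.inl (a13_norm_beta (hS.le.trans (NormalIn.der H).le)))
    exact Set.disjoint_left.1 hd hr.1 hr'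
  · by_contra hni
    obtain ⟨X, hX⟩ := exists_elemN_one_of_dvd hp hpH.2
    have h1 : p ∣ Nat.card ↥⁅H, H⁆ := (hX.of_le (a13_le_der hG hH hs hX.le hX.isPGroup)).dvd_card'
      one_pos
    refine (h16 hni).2 h (a13_dvd_of_le_sup (K := betaCore H)
      (a13_norm_beta ((NormalIn.der _).le.trans inf_le_left)) ?_ hp h1 (hβ hni))
    have := a13_der_sup_le (K := betaCore H) (N := H ⊓ 𝐍(Y)) (a13_norm_beta inf_le_left)
    rwa [hF] at this

end CL.BG
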