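import Cfsg.Agent.BG.T13_7
import Cfsg.Agent.BG.T13_8

/-! # Bender-Glauberman Theorem 13.10 -/

namespace CL.BG

open Cfsg Subgroup

variable {G : Type*} [Group G] [Finite G]

/-- a nontrivial coprime action on a cyclic `q`-group has no fixed points -/
theorem a13_reg_of_isCyclic {Q P : Subgroup G} {q : ℕ} (hq : q.Prime) (hQ : IsPGroup q Q)
    (hc : IsCyclic Q) (hPQ : P ≤ 𝐍(Q)) (hcop : (Nat.card Q).Coprime (Nat.card P))
    (h : ¬ Q ≤ 𝐂(P)) : Q ⊓ 𝐂(P) = ⊥ := by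
  have hd := t1_6d hPQ hcop (comm_of_isCyclic hc)
  rcases le_total_of_isCyclic hq hc hQ hd.left_le hd.right_le with h1 | h1
  · exact absurd (commutator_eq_bot_iff'.1 (by rw [← hd.disj, inf_eq_left.2 h1])) h
  · rw [← hd.disj, inf_eq_right.2 h1]

/-- BG 13.10 (Coq `tau13_regular`). -/
theorem t13_10 (hG : IsMinSimpleOddOrder G) {M E E₁ E₂ E₃ P : Subgroup G} (hM : IsCoatom M)
    (hE : SigmaCompl M E E₁ E₂ E₃) {p : ℕ} (hp : p.Prime) (hP : ElemN p 1 E₁ P)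
    (hPE : ¬ P ≤ 𝐂(E₃)) :
    Semiregular E₃ E₁ ∧ Semiregular (sigmaCore M) E₃ ∧ sigmaCore M ⊓ 𝐂(P) ≠ ⊥ := by
  have hp1 : p ∈ tau1 M := hE.hall1.pi.mem (hP.mem_primesOf hp one_pos)
  have hP1 := hP.ne_bot hp one_pos
  have hPE' : P ≤ E := hP.le.trans hE.hall1.le
  have hPM : P ≤ M := hPE'.trans hE.hallE.le
  have hE₃M := hE.hall3.le.trans hE.hallE.le
  obtain ⟨-, hn₃⟩ := t12_1b hG hM hE.hallE hE.hall3
  have hc₃ := t12_1d3 hG hM hE₃M hE.hall3.pi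
  obtain ⟨q, hq, hqd, Q, hQ, hQP⟩ : ∃ q : ℕ, q.Prime ∧ q ∣ Nat.card E₃ ∧ ∃ Q : Subgroup G,
      SylowOf q Q E₃ ∧ ¬ Q ≤ 𝐂(P) := by
    by_contra hc
    push Not at hc
    refine hPE (cent_symm (le_of_forall_exists_sylow_le fun q hq hd => ?_))
    have := Fact.mk hq
    obtain ⟨Q, hQ⟩ := sylow_exists q E₃
    exact ⟨Q, hQ, hc q hq hd Q hQ⟩
  have := Fact.mk hq
  have hq3 : q ∈ tau3 M := hE.hall3.pi.mem ⟨hq, hqd⟩
  have hqp : q ≠ p := fun h => a13_tau1_not_tau3 hp1 (h ▸ hq3)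
  have hQ1 : Q ≠ ⊥ := fun h => hQP (h ▸ bot_le)
  have hPQ : P ≤ 𝐍(Q) := hPE'.trans (hn₃.of_isCyclic hc₃ hQ.le).norm
  have hcop := coprime_card_of_isPGroup_of_ne hq hp hqp hQ.isPGroup hP.isPGroup
  have hreg := a13_reg_of_isCyclic hq hQ.isPGroup (isCyclic_of_le hc₃ hQ.le) hPQ hcop hQP
  have hQM : SylowOf q Q M := (hQ.trans_hall hE.hall3 hq3).trans_hall hE.hallE hq3.2.1
  obtain ⟨H, hH, hNH⟩ := a13_exists_mmax_norm hG hM hQM.le hQ1
  have hnj := t12_2b hG hM hH hQ.isPGroup hQM.le hNH (Or.inr (Or.inr hq3))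
  have hHM := a13_notConj_ne hnj
  obtain ⟨-, -, -, hC1, hC2⟩ := t12_18b hG hM hp1 hqp (hP.of_le hPM) hQ1 hPQ hreg
    (fun h => hHM (h.uniq H hH hNH)) hQM
  have hασ := alphaCore_le_sigmaCore hG hM
  refine ⟨?_, ?_, ne_bot_of_le hC1 (inf_le_inf_right _ hασ)⟩
  · by_contra h
    have h7 := (t13_7 hG hM hE h).a13_cent_eq (hP.le.trans le_sup_right) hP1
    refine hC1 (eq_bot_iff.2 (hC2 ▸ le_inf inf_le_left ?_))
    refine (((inf_le_inf_right _ hασ).trans h7.le).trans inf_le_right).trans (cent_anti ?_)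
    exact sup_le (hP.le.trans le_sup_right) (hQ.le.trans le_sup_left)
  by_contra h
  obtain ⟨_, hr, X, hX, hXC⟩ := a13_exists_of_not_semiregular h
  have hpr₃ := t13_3b hG hM hE.hallE hE.hall3
  rw [hpr₃.a13_cent_eq hX.le (hX.ne_bot hr one_pos), ← hpr₃.a13_cent_eq hQ.le hQ1] at hXC
  have hQH : Q ≤ H := le_normalizer.trans hNH
  have hPH : P ≤ H := hPQ.trans hNH
  have hCH : sigmaCore M ⊓ 𝐂(Q) ≤ sigmaCore M ⊓ H :=
    inf_le_inf_left _ ((cent_le_norm Q).trans hNH)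
  obtain ⟨h2a, h2b, -⟩ := t13_2 hG hM hE.hallE (Or.inr hq3) hQM.le hQ.isPGroup hH hNH
  have hKQ := cent_symm (h2a Q (le_inf hQM.le hQH) hQ.isPGroup)
  obtain ⟨u, hu, hud⟩ := exists_prime_dvd_card (ne_bot_of_le hXC hCH)
  have := Fact.mk hu
  have huσ : u ∈ sigma M := ((a13_sigma_pi M).inf_left H).mem ⟨hu, hud⟩
  obtain ⟨U, hU, hPU⟩ := t1_5a_sylow u (norms_inf (a13_norm_sigma hPM) (le_norm_of_le hPH))
    (a13_coprime_sigma (hP.piGrp hp hp1.2.1) inf_le_left) (Or.inr hP.solvable)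
  have hU1 : U ≠ ⊥ := hU.ne_bot_iff.2 hud
  have hUσ : U ≤ sigmaCore M := hU.le.trans inf_le_left
  have hUM : U ≤ M := hUσ.trans (a13_sigma_normal M).le
  have key : 𝐍(U) ≤ M ∧ U ⊓ 𝐂(P) = ⊥ := by
    by_cases hβ : u ∈ beta M
    · refine ⟨t10_14d hG hM hUM (piGrp_of_isPGroup hu hU.isPGroup hβ) hU1, eq_bot_iff.2 ?_⟩
      rw [← hC2, cent_sup]
      exact le_inf (inf_le_left.trans (le_alphaCore hG hM hUM
        (piGrp_of_isPGroup hu hU.isPGroup hβ.1)))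
        (le_inf inf_le_right (inf_le_left.trans (hU.le.trans hKQ)))
    · obtain ⟨S, hS, -, hSE⟩ := a13_exists_sylow_cent_der hG hM hE.hallE hu hβ
      have hQE : Q ≤ ⁅E, E⁆ := hQ.le.trans (t12_1b hG hM hE.hallE hE.hall3).1
      have hS' : SylowOf u S (sigmaCore M ⊓ H) := Hall.restrict hS
        ((le_inf hS.le (hSE.trans (cent_anti hQE))).trans hCH) inf_le_left
      have hU' : SylowOf u U (sigmaCore M) := Hall.of_card_eq hS hUσ (Hall.card_eq hU hS')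
      refine ⟨a13_norm_sylow_le huσ ((sylowOf_sigmaCore_iff hG hM huσ).1 hU'), ?_⟩
      by_contra hc
      obtain ⟨Y, hY⟩ := exists_elemN_one_of_isPGroup hu (hU.isPGroup.to_le inf_le_left) hc
      exact hHM (((t13_6 hG hM hE.hallE hE.hall1 hP.le hP1 hu
        (hY.mono (inf_le_inf_right _ hUσ))).2 U hU').uniq H hH (hU.le.trans inf_le_right))
  have hpH : p ∈ tau1 H := by
    by_contra hc
    refine hU1 (eq_bot_iff.2 (key.2 ▸ le_inf le_rfl (hU.le.trans ?_)))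
    exact cent_symm (h2b P (le_inf hPE' hPH) (hP.piGrp hp hc))
  have hhall : Hall (sigma M) (sigmaCore M ⊓ H) (M ⊓ H) := by
    have := (t10_2b hG hM).inf_of_normal (a13_sigma_normal M).norm (inf_le_left : M ⊓ H ≤ M)
    rwa [← inf_assoc, inf_eq_left.2 (a13_sigma_normal M).le] at this
  exact t13_8 hG hM hH hnj hp1 hpH (hP.of_le (le_inf hPM hPH)) hq hu
    (Hall.restrict hQM (le_inf hQM.le hQH) inf_le_left) (hU.trans_hall hhall huσ) hPQ hPU hreg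
    key.2 hNH key.1

end CL.BG
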