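import Cfsg.Agent.BG.T13_9
import Cfsg.Agent.BG.T13_11
import Cfsg.Agent.BG.T13_12
import Cfsg.Agent.BG.T12_9

/-! # Bender-Glauberman Lemma 13.13 -/

namespace CL.BG

open Cfsg Subgroup

variable {G : Type*} [Group G] [Finite G]

/-- the form of 13.6 for `τ₁(M) ∪ τ₃(M)` -/
theorem t13_6'' (hG : IsMinSimpleOddOrder G) {M P X : Subgroup G} (hM : IsCoatom M) {p : ℕ}
    (hP : ElemN p 1 M P) (hp : p ∈ tau1 M ∨ p ∈ tau3 M)
    {q : ℕ} (hq : q.Prime) (hX : ElemN q 1 (sigmaCore M ⊓ 𝐂(P)) X) :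
    UniqMax 𝐂(X) M ∧ ∀ S : Subgroup G, SylowOf q S (sigmaCore M) → UniqMax S M := by
  have hpp := a13_tau13_prime hp
  have hP1 := hP.ne_bot hpp one_pos
  rcases hp with hp | hp
  · exact t13_6' hG hM hP.le (hP.piGrp hpp hp) hP1 hq hX
  obtain ⟨E, hE, hPE⟩ := ex_sigma_compl hG hM hP.le (hP.piGrp hpp hp.2.1)
  obtain ⟨E₁, E₂, E₃, hc⟩ := ex_sigmaCompl hG hM hE
  have hP₃ : P ≤ E₃ :=
    hc.hall3.le_of_normal (t12_1b hG hM hE hc.hall3).2.norm hPE (hP.piGrp hpp hp)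
  obtain ⟨h1, -, hpr, -⟩ := t13_11 hG hM hc fun h =>
    ne_bot_of_le (hX.ne_bot hq one_pos) hX.le (h.a13_cent_eq hP₃ hP1)
  refine t13_6 hG hM hE hc.hall1 le_rfl h1 hq ?_
  rwa [hpr.a13_cent_eq hc.hall1.le h1, ← hpr.a13_cent_eq hPE hP1]

/-- BG 13.13 (Coq `tau13_nonregular_sigma`). -/
theorem t13_13 (hG : IsMinSimpleOddOrder G) {M P L : Subgroup G} (hM : IsCoatom M) {p : ℕ}
    (hP : ElemN p 1 M P) (hp : p ∈ tau1 M ∨ p ∈ tau3 M) (hC : sigmaCore M ⊓ 𝐂(P) ≠ ⊥)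
    (hL : IsCoatom L) (hNL : 𝐍(P) ≤ L) : p ∈ sigma L := by
  have hpp := a13_tau13_prime hp
  have := Fact.mk hpp
  have hP1 := hP.ne_bot hpp one_pos
  by_contra hpσ
  have hp2 : p ∈ tau2 L := (t12_2a hG hL hP.isPGroup hNL).resolve_left hpσ
  have hnc := t12_2b hG hM hL hP.isPGroup hP.le hNL (Or.inr hp)
  obtain ⟨q, hq, Q, hQ⟩ := a13_exists_elem hC
  have hQP : Q ≤ 𝐂(P) := hQ.le.trans inf_le_right
  have hqσ : q ∈ sigma M := ((a13_sigma_pi M).inf_left _).mem (hQ.mem_primesOf hq one_pos)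
  have hPL : P ≤ L := le_normalizer.trans hNL
  have hQL : Q ≤ L := (hQP.trans (cent_le_norm P)).trans hNL
  obtain ⟨E, hE, hPQE⟩ := ex_sigma_compl hG hL (sup_le hPL hQL) (PiGrp.sup (hP.piGrp hpp hpσ)
    (hQ.piGrp hq (t13_9 hG hM hL hnc q hqσ)) (Or.inl (le_norm_of_le_cent hQP)))
  obtain ⟨A, hA⟩ := ex_tau2Elem hG hL hE hp2
  have hPA : P ≤ A :=
    (((t12_6a hG hL hE hp2 hA).2 P).1 (hP.of_le (le_sup_left.trans hPQE))).le
  have hQE : ElemN q 1 E Q := hQ.of_le (le_sup_right.trans hPQE)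
  have hAQ : ¬ A ≤ 𝐂(Q) := fun h => by
    have h1 := (hA.of_le (h.trans (t13_6'' hG hM hP hp hq hQ).1.le)).le_pRank hpp
    have h2 := a13_tau13_pRank hp
    omega
  have hq1 : q ∈ tau1 L := by
    by_contra h
    exact hAQ (cent_symm ((t12_10c hG hL hE hp2 hA).2.2 Q hQE.le (hQ.piGrp hq h)))
  have hPAQ : P ≤ A ⊓ 𝐂(Q) := le_inf hPA (cent_symm hQP)
  obtain ⟨-, -, h1, h2⟩ := t12_9 hG hL hE hp2 hA hq1 hQE
    (t13_12 hG hL hE hq1 hQE hp2 hA (ne_bot_of_le hP1 hPAQ))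
    fun h => hAQ (commutator_eq_bot_iff'.1 h)
  exact h2 (((cent_anti hPAQ).trans (cent_le_norm P)).trans hNL)

end CL.BG
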