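import Cfsg.Agent.BG.T13_1
import Cfsg.Agent.BG.T12_2

/-! # Bender-Glauberman Corollary 13.2 -/

namespace CL.BG

open Cfsg Subgroup

variable {G : Type*} [Group G] [Finite G]

/-- BG 13.2 (Coq `cent_norm_tau13_mmax`). -/
theorem t13_2 (hG : IsMinSimpleOddOrder G) {M E H P : Subgroup G} (hM : IsCoatom M)
    (hE : Hall (sigma M)ᶜ E M) {p : ℕ} (hp : p ∈ tau1 M ∨ p ∈ tau3 M) (hPM : P ≤ M)
    (hP : IsPGroup p P) (hH : IsCoatom H) (hNH : 𝐍(P) ≤ H) :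
    (∀ P₁ : Subgroup G, P₁ ≤ M ⊓ H → IsPGroup p P₁ → P₁ ≤ 𝐂(sigmaCore M ⊓ H)) ∧
      (∀ X : Subgroup G, X ≤ E ⊓ H → PiGrp (tau1 H)ᶜ X → X ≤ 𝐂(sigmaCore M ⊓ H)) ∧
      (⁅sigmaCore M ⊓ H, M ⊓ H⁆ ≠ ⊥ → p ∈ sigma H ∧ (p ∈ tau1 M → p ∈ beta H)) := by
  by_cases hne : ⁅sigmaCore M ⊓ H, M ⊓ H⁆ = ⊥
  · have h := commutator_eq_bot_iff''.1 hne
    exact ⟨fun P₁ h1 _ => h1.trans h,
      fun X h1 _ => (h1.trans (inf_le_inf_right _ hE.le)).trans h, fun h' => absurd hne h'⟩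
  have hpp := a13_tau13_prime hp
  have := Fact.mk hpp
  have ha := t12_2a hG hH hP hNH
  have hnc := t12_2b hG hM hH hP hPM hNH (Or.inr hp)
  have hpE : p ∈ primesOf E := (partition_pi_sigma_compl hG hM hE).2 (by tauto)
  have hpH : p ∈ primesOf H := ha.elim a13_sigma_primesOf a13_tau2_primesOf
  have ht : p ∉ tau1 H := fun h => ha.elim h.2.1 (a13_tau1_not_tau2 h)
  obtain ⟨h1, h2, h3⟩ := t13_1 hG hM hE hH hpE hpH ht hne hnc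
  refine ⟨h1, fun X hX hXπ => le_of_forall_exists_sylow_le fun q hq hd => ?_, fun _ =>
    ⟨ha.resolve_right h2, fun h => (mem_beta_iff_sigma hG hH).2 ⟨ha.resolve_right h2, h3 h⟩⟩⟩
  have := Fact.mk hq
  obtain ⟨Q, hQ⟩ := sylow_exists q X
  exact ⟨Q, hQ, (t13_1 hG hM hE hH (primesOf_mono (hX.trans inf_le_left) ⟨hq, hd⟩)
    (primesOf_mono (hX.trans inf_le_right) ⟨hq, hd⟩) (hXπ.mem ⟨hq, hd⟩) hne hnc).1 Q
    ((hQ.le.trans hX).trans (inf_le_inf_right _ hE.le)) hQ.isPGroup⟩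

end CL.BG
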