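import Cfsg.Agent.BG.T13_2

/-! # Bender-Glauberman Corollary 13.3 -/

namespace CL.BG

open Cfsg Subgroup

variable {G : Type*} [Group G] [Finite G]

/-- a maximal subgroup containing the normaliser of a nontrivial subgroup of `M` -/
theorem a13_exists_mmax_norm (hG : IsMinSimpleOddOrder G) {M X : Subgroup G} (hM : IsCoatom M)
    (hX : X ≤ M) (h1 : X ≠ ⊥) : ∃ H, IsCoatom H ∧ 𝐍(X) ≤ H :=
  mmax_exists (mFT_norm_ne_top hG h1 (mmax_sub_ne_top hM hX))

omit [Finite G] in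
theorem a13_cent_le_of_norm_le {K X H A : Subgroup G} (hN : 𝐍(X) ≤ H) (h : A ≤ 𝐂(K ⊓ H)) :
    K ⊓ 𝐂(X) ≤ 𝐂(A) :=
  (inf_le_inf_left _ ((cent_le_norm X).trans hN)).trans (cent_symm h)

/-- BG 13.3(a) (Coq `cyclic_primact_Msigma`). -/
theorem t13_3a (hG : IsMinSimpleOddOrder G) {M E P : Subgroup G} (hM : IsCoatom M)
    (hE : Hall (sigma M)ᶜ E M) {p : ℕ} (hp : p.Prime) (hP : SylowOf p P E) (hc : IsCyclic P) :
    Semiprime (sigmaCore M) P := by
  have := Fact.mk hp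
  refine a13_semiprime_of_prime fun q hq X hX => ?_
  have hX1 := hX.ne_bot hq one_pos
  have hXp : IsPGroup p X := hP.isPGroup.to_le hX.le
  have hXM : X ≤ M := (hX.le.trans hP.le).trans hE.le
  have hpE : p ∈ primesOf E := mem_primesOf_of_isPGroup hp hXp hX1 (hX.le.trans hP.le)
  have h2 : p ∉ tau2 M := fun h => by
    have h1 := (tau2E hG hM hE hp).1 h
    have h2 := pRank_le_one_of_isCyclic hp hc
    rw [hP.pRank_eq hp] at h2
    omega
  have h13 : p ∈ tau1 M ∨ p ∈ tau3 M := by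
    have := (partition_pi_sigma_compl hG hM hE).1 hpE
    tauto
  obtain ⟨H, hH, hNH⟩ := a13_exists_mmax_norm hG hM hXM hX1
  refine a13_cent_le_of_norm_le hNH ((t13_2 hG hM hE h13 hXM hXp hH hNH).1 P
    (le_inf (hP.le.trans hE.le) ?_) hP.isPGroup)
  exact ((le_cent_of_comm_of_le (comm_of_isCyclic hc) le_rfl hX.le).trans
    (cent_le_norm X)).trans hNH

/-- BG 13.3(b) (Coq `tau3_primact_Msigma`). -/
theorem t13_3b (hG : IsMinSimpleOddOrder G) {M E E₃ : Subgroup G} (hM : IsCoatom M)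
    (hE : Hall (sigma M)ᶜ E M) (hE₃ : Hall (tau3 M) E₃ E) :
    Semiprime (sigmaCore M) E₃ := by
  refine a13_semiprime_of_prime fun q hq X hX => ?_
  have hX1 := hX.ne_bot hq one_pos
  have hXM : X ≤ M := (hX.le.trans hE₃.le).trans hE.le
  obtain ⟨H, hH, hNH⟩ := a13_exists_mmax_norm hG hM hXM hX1
  obtain ⟨h1, h2⟩ := t12_1b hG hM hE hE₃
  have hEH : E ≤ H :=
    (h2.of_isCyclic (t12_1d3 hG hM (hE₃.le.trans hE.le) hE₃.pi) hX.le).norm.trans hNH
  refine a13_cent_le_of_norm_le hNH ((t13_2 hG hM hE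
    (Or.inr (hE₃.pi.mem (hX.mem_primesOf hq one_pos))) hXM hX.isPGroup hH hNH).2.1 E₃
    (le_inf hE₃.le (hE₃.le.trans hEH)) ?_)
  exact (a13_der_tau1' H).of_le (h1.trans (commutator_mono hEH hEH))

end CL.BG
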