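import Cfsg.Agent.BG.T13_3
import Cfsg.Agent.BG.T1_5s
import Cfsg.Agent.BG.T1_6
import Cfsg.Agent.BG.T12_13
import Cfsg.Agent.BG.T12_15
import Cfsg.Agent.BG.T12_18

/-! # Bender-Glauberman Theorem 13.4 -/

namespace CL.BG

open Cfsg Subgroup

variable {G : Type*} [Group G] [Finite G]

/-- a `p`-subgroup of two distinct maximal subgroups is abelian -/
theorem a13_comm_of_two_mmax (hG : IsMinSimpleOddOrder G) {M H S : Subgroup G} (hM : IsCoatom M)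
    (hH : IsCoatom H) (hne : H ≠ M) {q : ℕ} (hq : q.Prime) (hS : IsPGroup q S) (hSM : S ≤ M)
    (hSH : S ≤ H) : IsMulCommutative S := by
  have := Fact.mk hq
  by_contra h
  exact hne (inU_eq (t12_13 hG hS h) hH hM hSH hSM)

/-- a coprime operator group that does not centralise `K` does not centralise some invariant
Sylow subgroup -/
theorem a13_le_cent_of_forall_sylow {K R : Subgroup G} (hR : R ≤ 𝐍(K))
    (hcop : (Nat.card K).Coprime (Nat.card R)) (hsol : Group.IsSolvable K ∨ Group.IsSolvable R)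
    (h : ∀ q : ℕ, q.Prime → ∀ S : Subgroup G, SylowOf q S K → R ≤ 𝐍(S) → S ≠ ⊥ → S ≤ 𝐂(R)) :
    K ≤ 𝐂(R) := by
  refine le_of_forall_exists_sylow_le fun q hq hd => ?_
  have := Fact.mk hq
  obtain ⟨S, hS, hRS⟩ := t1_5a_sylow q hR hcop hsol
  exact ⟨S, hS, h q hq S hS hRS (hS.ne_bot_iff.2 hd)⟩

theorem a13_4_aux (hG : IsMinSimpleOddOrder G) {M E P R : Subgroup G} (hM : IsCoatom M)
    (hE : Hall (sigma M)ᶜ E M) {p r : ℕ} (hp : p ∈ tau1 M) (hP : ElemN p 1 E P) (hr : r.Prime)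
    (hR : ElemN r 1 (E ⊓ 𝐂(P)) R) (hnc : ¬ sigmaCore M ⊓ 𝐂(P) ≤ 𝐂(R)) :
    r ∈ tau1 M ∧ alphaCore M ⊓ 𝐂(P) = ⊥ ∧ alphaCore M ⊓ 𝐂(R) ≠ ⊥ := by
  have hpp := hp.1
  have := Fact.mk hpp
  have hPM : P ≤ M := hP.le.trans hE.le
  have hP1 := hP.ne_bot hpp one_pos
  have hRE : R ≤ E := hR.le.trans inf_le_left
  have hRP : R ≤ 𝐂(P) := hR.le.trans inf_le_right
  have hRM : R ≤ M := hRE.trans hE.le
  have hrσ : r ∉ sigma M := hE.pi.mem ((hR.of_le hRE).mem_primesOf hr one_pos)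
  obtain ⟨H, hH, hNH⟩ := a13_exists_mmax_norm hG hM hPM hP1
  have hCH : 𝐂(P) ≤ H := (cent_le_norm P).trans hNH
  have hPH : P ≤ H := le_normalizer.trans hNH
  have hRH : R ≤ H := hRP.trans hCH
  have hnj := t12_2b hG hM hH hP.isPGroup hPM hNH (Or.inr (Or.inl hp))
  have hHM : H ≠ M := a13_notConj_ne hnj
  obtain ⟨h2a, h2b, h2c⟩ := t13_2 hG hM hE (Or.inl hp) hPM hP.isPGroup hH hNH
  have hKP : sigmaCore M ⊓ H ≤ 𝐂(P) := cent_symm (h2a P (le_inf hPM hPH) hP.isPGroup)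
  have hnc' : ¬ sigmaCore M ⊓ H ≤ 𝐂(R) := fun h => hnc ((inf_le_inf_left _ hCH).trans h)
  have hpβ : p ∈ beta H := (h2c fun h => hnc'
    ((commutator_eq_bot_iff'.1 h).trans (cent_anti (le_inf hRM hRH)))).2 hp
  have hrH : r ∈ tau1 H := by
    by_contra h
    exact hnc' (cent_symm (h2b R (le_inf hRE hRH) (hR.piGrp hr h)))
  have hPα : P ≤ alphaCore H := le_alphaCore hG hH hPH (hP.piGrp hpp hpβ.1)
  have hRK : R ≤ 𝐍(sigmaCore M ⊓ H) := norms_inf (a13_norm_sigma hRM) (le_norm_of_le hRH)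
  have hRσ : PiGrp (sigma M)ᶜ R := hE.pi.of_le hRE
  have hcop := a13_coprime_sigma hRσ (inf_le_left : sigmaCore M ⊓ H ≤ _)
  have key : ∀ q : ℕ, q.Prime → ∀ S : Subgroup G, SylowOf q S (sigmaCore M ⊓ H) → R ≤ 𝐍(S) →
      ¬ S ≤ 𝐂(R) → r ∈ tau1 M ∧ q ∉ alpha M ∧ q ∈ sigma H ∧ alphaCore M ⊓ 𝐂(R) ≠ ⊥ ∧
        alphaCore M ⊓ 𝐂(R ⊔ ⁅S, R⁆) = ⊥ := by
    intro q hq S hS hRS hSR
    have := Fact.mk hq
    have hQ1 : ⁅S, R⁆ ≠ ⊥ := fun h => hSR (commutator_eq_bot_iff'.1 h)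
    have hQS : ⁅S, R⁆ ≤ S := commutator_le_left_of_norm hRS
    have hSσ : S ≤ sigmaCore M := hS.le.trans inf_le_left
    have hSM : S ≤ M := hSσ.trans (a13_sigma_normal M).le
    have hSH : S ≤ H := hS.le.trans inf_le_right
    have hQ : IsPGroup q ↥⁅S, R⁆ := hS.isPGroup.to_le hQS
    have hqσ : q ∈ sigma M := (a13_sigma_pi M).mem_of_isPGroup hq hQ hQ1 (hQS.trans hSσ)
    have hqr : q ≠ r := fun h => hrσ (h ▸ hqσ)
    have hab := a13_comm_of_two_mmax hG hM hH hHM hq hS.isPGroup hSM hSH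
    have hreg : ⁅S, R⁆ ⊓ 𝐂(R) = ⊥ := t1_6d_TI hRS (a13_coprime_sigma hRσ hSσ) hab
    have hRQ : R ≤ 𝐍(⁅S, R⁆) := norms_commutator hRS le_normalizer
    have hqH : q ∉ alpha H := fun h =>
      Set.disjoint_left.1 (t10_12a hG hH hM (a13_notConj_symm hnj)).2 h hqσ
    have hu : UniqMax 𝐍(⁅S, R⁆) H := by
      by_contra hu
      have h1 := (t12_18a hG hH hrH hqr (hR.of_le hRH) hQ1 hRQ hreg hu (ne_bot_of_le hP1 hPα)
        hqH hQ (hQS.trans hSH)).2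
      refine hP1 (eq_bot_iff.2 (h1 ▸ le_inf hPα (cent_symm (sup_le hRP ?_))))
      exact hQS.trans (hS.le.trans hKP)
    obtain ⟨-, -, h15c, h15d⟩ := t12_15 hG hM hqσ (hQS.trans hSM) hQ hQ1 hH hHM hu.le
    have hqσH : q ∈ sigma H := by
      by_contra h
      exact (h15d h).2.2.pi.mem_of_isPGroup hpp hP.isPGroup hP1 (le_inf hPM hPH)
        (beta_sub_sigma hG hH hpβ)
    obtain ⟨-, h1, -, hα⟩ := h15c hqσH
    have hr1 : r ∈ tau1 M := (h1 hrH).resolve_right fun h => hrσ (alpha_sub_sigma hG hM h)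
    have hqM : q ∉ alpha M := fun h => Set.disjoint_left.1 (t10_12a hG hM hH hnj).2 h hqσH
    exact ⟨hr1, hqM, hqσH, t12_18a hG hM hr1 hqr (hR.of_le hRM) hQ1 hRQ hreg
      (fun h => hHM (hu.unique h)) hα hqM hQ (hQS.trans hSM)⟩
  have hsol : Group.IsSolvable ↥(sigmaCore M ⊓ H) ∨ Group.IsSolvable R := Or.inr hR.solvable
  obtain ⟨q, hq, S, hS, hRS, hSR⟩ : ∃ q : ℕ, q.Prime ∧ ∃ S : Subgroup G,
      SylowOf q S (sigmaCore M ⊓ H) ∧ R ≤ 𝐍(S) ∧ ¬ S ≤ 𝐂(R) := by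
    by_contra hc
    push Not at hc
    exact hnc' (a13_le_cent_of_forall_sylow hRK hcop hsol fun q hq S h1 h2 _ => hc q hq S h1 h2)
  obtain ⟨hr1, -, hqH, hα, hαQ⟩ := key q hq S hS hRS hSR
  refine ⟨hr1, eq_bot_iff.2 ?_, hα⟩
  have hασ := alphaCore_le_sigmaCore hG hM
  have hQS : ⁅S, R⁆ ≤ S := commutator_le_left_of_norm hRS
  have hSM : S ≤ M := (hS.le.trans inf_le_left).trans (a13_sigma_normal M).le
  have hSH : S ≤ H := hS.le.trans inf_le_right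
  rw [← hαQ, cent_sup]
  refine (inf_le_inf_left _ hCH).trans (le_inf inf_le_left (le_inf ?_ ?_))
  · refine le_of_forall_exists_sylow_le fun t ht hd => ?_
    have := Fact.mk ht
    have htα : t ∈ alpha M := ((a13_alpha_pi M).inf_left H).mem ⟨ht, hd⟩
    obtain ⟨T, hT, hRT⟩ := t1_5a_sylow t hRK hcop hsol
    have hTα : T ≤ alphaCore M := le_alphaCore hG hM
      ((hT.le.trans inf_le_left).trans (a13_sigma_normal M).le)
      (piGrp_of_isPGroup ht hT.isPGroup htα)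
    refine ⟨T, Hall.restrict hT (le_inf hTα (hT.le.trans inf_le_right)) (inf_le_inf_right _ hασ),
      ?_⟩
    by_contra h
    exact (key t ht T hT hRT h).2.1 htα
  · have := Fact.mk hq
    have hSσ : S ≤ sigmaCore H := le_sigmaCore hG hH hSH (piGrp_of_isPGroup hq hS.isPGroup hqH)
    refine le_trans ?_ (cent_anti hQS)
    rw [← commutator_eq_bot_iff', eq_bot_iff, ← (t10_12a hG hM hH hnj).1]
    refine le_inf ((commutator_le_left_of_norm
      (norms_inf (a13_norm_alpha hSM) (le_norm_of_le hSH))).trans inf_le_left) ?_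
    exact (commutator_mono inf_le_right hSσ).trans (a13_sigma_normal H).commutator_le'

/-- BG 13.4 (Coq `cent_tau1Elem_Msigma`). -/
theorem t13_4 (hG : IsMinSimpleOddOrder G) {M E P R : Subgroup G} (hM : IsCoatom M)
    (hE : Hall (sigma M)ᶜ E M) {p r : ℕ} (hp : p ∈ tau1 M) (hP : ElemN p 1 E P) (hr : r.Prime)
    (hR : ElemN r 1 (E ⊓ 𝐂(P)) R) :
    sigmaCore M ⊓ 𝐂(P) ≤ sigmaCore M ⊓ 𝐂(R) := by
  refine le_inf inf_le_left ?_
  by_contra hnc
  obtain ⟨hr1, h1, h2⟩ := a13_4_aux hG hM hE hp hP hr hR hnc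
  refine h2 (a13_4_aux hG hM hE hr1 (hR.mono inf_le_left) hp.1
    (hP.of_le (le_inf hP.le (cent_symm (hR.le.trans inf_le_right)))) fun h => h2 ?_).2.1
  rw [eq_bot_iff, ← h1]
  exact le_inf inf_le_left ((inf_le_inf_right _ (alphaCore_le_sigmaCore hG hM)).trans h)

end CL.BG
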