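import Cfsg.Agent.BG.A14_Sig
import Cfsg.Agent.BG.A14_Cyc
import Cfsg.Agent.BG.Nil
import Cfsg.Agent.BG.A12_Basic
import Cfsg.Agent.BG.T12_5
import Cfsg.Agent.BG.T3_7

/-! # BG Lemma 14.1 -/

namespace CL.BG

open Cfsg Subgroup

variable {G : Type*} [Group G] [Finite G]

/-- BG Lemma 14.1. -/
theorem t14_1 (hG : IsMinSimpleOddOrder G) {M S : Subgroup G} (hM : IsCoatom M) {p : ℕ}
    [Fact p.Prime] (hpM : p ∣ Nat.card M) (hσ : p ∉ sigma M) (hκ : p ∉ kappa M)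
    (hS : SylowOf p S M) :
    Nat.card (omegaOne p S) ≤ p ^ 2 ∧ sigmaCore M ⊓ 𝐂(omegaOne p S) = ⊥ ∧
      Group.IsNilpotent (sigmaCore M) := by
  have hp : p.Prime := Fact.out
  by_cases h2 : p ∈ tau2 M
  · obtain ⟨E, hE, -⟩ := ex_sigma_compl hG hM bot_le (piGrp_bot _)
    obtain ⟨A₀, hA₀⟩ := ex_tau2Elem hG hM hE h2
    obtain ⟨g, hg, hgA⟩ := sylow_conj_le hS hA₀.isPGroup (hA₀.le.trans hE.le)
    have hA : ElemN p 2 M (cj g A₀) := (hA₀.cj g).of_le (hgA.trans hS.le)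
    rw [t12_5b2 hG hM h2 hA hS.isPGroup hS.le hgA]
    exact ⟨hA.card.le, t12_5d hG hM h2 hA, t12_5a hG hM h2⟩
  · have h13 : p ∈ tau1 M ∨ p ∈ tau3 M := by
      have := (partition_pi_mmax hG hM).1 ⟨hp, hpM⟩
      tauto
    have hc := tau13_isCyclic hG h13 hS.le hS.isPGroup
    obtain ⟨X, hX, hXc⟩ := exists_card_eq_of_dvd_card hp
      (dvd_card_of_isPGroup hp hS.isPGroup (hS.ne_bot_iff.2 hpM))
    rw [a14_omegaOne_eq hc hX hXc]
    have hC : sigmaCore M ⊓ 𝐂(X) = ⊥ := by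
      by_contra hne
      exact hκ (mem_kappa_of_cent hG h13 (hX.trans hS.le) hXc hne)
    refine ⟨?_, hC, t3_7 ((hX.trans hS.le).trans (sigmaCore_normal M).norm)
      (mmax_sub_sol hG hM (sigmaCore_normal M).le) (hXc ▸ hp) hC⟩
    rw [hXc]
    exact Nat.le_self_pow two_ne_zero p

/-- a maximal subgroup is not a `σ(M)`-group -/
theorem a14_exists_not_sigma (hG : IsMinSimpleOddOrder G) {M : Subgroup G} (hM : IsCoatom M) :
    ∃ p : ℕ, p.Prime ∧ p ∣ Nat.card M ∧ p ∉ sigma M := by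
  by_contra h
  push Not at h
  have h1 := ((t10_2b hG hM).eq_self_iff.2 h).ge.trans (t10_2c hG hM)
  exact (der_lt_of_solvable (mmax_sol hG hM) (mmax_ne_bot hG hM)).not_ge h1

/-- a maximal subgroup not of type `𝒫₁` has a prime divisor outside `σ(M) ∪ κ(M)` -/
theorem a14_exists_not_sigma_kappa (hG : IsMinSimpleOddOrder G) {M : Subgroup G}
    (hM : IsCoatom M) (h : ¬ TypeP1 M) :
    ∃ p : ℕ, p.Prime ∧ p ∣ Nat.card M ∧ p ∉ sigma M ∧ p ∉ kappa M := by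
  rcases (not_typeP1_iff hM).1 h with h | h
  · obtain ⟨p, hp, hd, hσ⟩ := a14_exists_not_sigma hG hM
    exact ⟨p, hp, hd, hσ, h.not_mem_kappa p⟩
  · exact h.exists_prime

/-- `M ∈ ℳ_ℱ ∪ ℳ_{𝒫₂}` has nilpotent `M_σ`. -/
theorem t14_1_nil (hG : IsMinSimpleOddOrder G) {M : Subgroup G} (hM : IsCoatom M)
    (h : ¬ TypeP1 M) : Group.IsNilpotent (sigmaCore M) := by
  obtain ⟨p, hp, hd, hσ, hκ⟩ := a14_exists_not_sigma_kappa hG hM h
  have := Fact.mk hp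
  obtain ⟨S, hS⟩ := sylow_exists p M
  exact (t14_1 hG hM hd hσ hκ hS).2.2

/-- a nontrivial Hall `(σ(M) ∪ κ(M))'`-subgroup has no fixed points on `M_σ` -/
theorem t14_1_cent (hG : IsMinSimpleOddOrder G) {M U : Subgroup G} (hM : IsCoatom M)
    (hU : Hall (sigma M ∪ kappa M)ᶜ U M) (h1 : U ≠ ⊥) : sigmaCore M ⊓ 𝐂(U) = ⊥ := by
  obtain ⟨p, hp, hd⟩ := exists_prime_dvd_card h1
  have := Fact.mk hp
  have hπ := hU.pi p hp hd
  obtain ⟨S, hS, hSU⟩ := hU.exists_sylow hπ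
  have h := (t14_1 hG hM (hd.trans (card_dvd_of_le hU.le)) (fun h => hπ (Or.inl h))
    (fun h => hπ (Or.inr h)) hS).2.1
  rw [eq_bot_iff, ← h]
  refine inf_le_inf_left _ (cent_anti ?_)
  rw [omegaOne, closure_le]
  exact fun x hx => hSU hx.1

end CL.BG
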