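import Cfsg.Agent.BG.Fit
import Cfsg.Agent.BG.Frob
import Cfsg.Agent.BG.Elem
import Cfsg.Agent.BG.A3_Red
import Cfsg.Agent.BG.T3_3
import Cfsg.Agent.BG.T3_5
import Cfsg.Agent.BG.T3_W

set_option autoImplicit false

namespace CL.BG

open Cfsg Subgroup

variable {G : Type*} [Group G] [Finite G]

/-- BG 3.10(c) in general form: a Frobenius group with complement `R` of prime order acting
coprimely on `M` with `C_M(R)` cyclic. -/
theorem t3_10c {K R L M : Subgroup G} (hF : Frob K R L) (hK : Group.IsSolvable K)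
    (hLM : L ≤ 𝐍(M)) (hM : Group.IsSolvable M) (hcop : (Nat.card M).Coprime (Nat.card L))
    (hR : (Nat.card R).Prime) (hc : IsCyclic ↥(M ⊓ 𝐂(R))) : ⁅K, K⁆ ≤ 𝐂(M) := by
  refine red_cent_of_phi_quot hLM ((NormalIn.der K).le.trans hF.left_le) hcop (Or.inl hM)
    fun p hp P hPM hP hpP hLP => ?_
  have : Fact p.Prime := ⟨hp⟩
  have hL : L ≤ 𝐍(frattiniOf P) := norms_phi hLP
  have hKΦ := hF.left_le.trans hL
  have hRΦ := hF.right_le.trans hL
  have hPL := coprime_card_mono hcop hPM le_rfl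
  have hPR := coprime_card_mono hPL le_rfl hF.right_le
  have hV := quot_phi_elem hP
  have hR' : (Nat.card (quot (frattiniOf P) R)).Prime := by
    rwa [card_quot_of_disjoint hRΦ (disj_of_coprime (coprime_card_mono hPR (phi_le P) le_rfl))]
  have hKR : quot (frattiniOf P) K ⊓ 𝐂(quot (frattiniOf P) R) = ⊥ := by
    rw [← quot_inf_cent_of_coprime'' hKΦ hRΦ hF.norm hF.coprime (Or.inl hK), hF.inf_cent_compl,
      quot_bot]
  have hcyc : IsCyclic ↥(quot (frattiniOf P) P ⊓ 𝐂(quot (frattiniOf P) R)) := by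
    rw [← quot_inf_cent_of_coprime'' (phi_normal P).norm hRΦ (hF.right_le.trans hLP) hPR
      (Or.inl (solvable_of_isPGroup hP))]
    exact quot_isCyclic _ (isCyclic_of_le hc (inf_le_inf_right _ hPM))
  rw [quot_commutator hKΦ hKΦ]
  rcases (Nat.dvd_prime hp).1 (card_dvd_of_elemAb_of_isCyclic
    (isElementaryAbelian_of_le hV inf_le_left) hcyc) with e | e
  · exact (NormalIn.der _).le.trans (t3_3_cent (quot_normalizer _ hF.norm)
      (semiregular_of_card_prime hR' hKR) hV.1 (quot_normalizer _ (hF.left_le.trans hLP))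
      (quot_normalizer _ (hF.right_le.trans hLP))
      (quot_coprime _ (coprime_card_mono hPL le_rfl hF.left_le)) (card_eq_one.1 e))
  · exact t3_5 hp (hF.sdp.quot_of_coprime hL hF.coprime) (quot_isSolvable _ hK) hR' hKR hV
      (quot_normalizer _ hLP) (quot_coprime_left _ (hPL.of_dvd_left hpP).symm) e

/-- BG 3.10 (Coq `Frobenius_primact`): `M` solvable suffices and oddness is not needed. -/
theorem t3_10 {K R L M : Subgroup G} (hF : Frob K R L) (hK : Group.IsSolvable K)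
    (hLM : L ≤ 𝐍(M)) (hM : Group.IsSolvable M) (hM1 : M ≠ ⊥)
    (hcop : (Nat.card M).Coprime (Nat.card L)) (hpr : Semiprime M R) (hC : M ⊓ 𝐂(K) = ⊥) :
    (Nat.card R).Prime ∧ Nat.card M = Nat.card ↥(M ⊓ 𝐂(R)) ^ Nat.card R ∧
      (IsCyclic ↥(M ⊓ 𝐂(R)) → ⁅K, K⁆ ≤ 𝐂(M)) := by
  have h1 := wielandt_frob_card hF hK hLM hcop hM hC
  obtain ⟨R₀, hR₀, hp⟩ := exists_prime_card_le hF.compl_ne
  have hR₀1 := ne_bot_of_card_prime hp
  have hle : K ⊔ R₀ ≤ L := sup_le hF.left_le (hR₀.trans hF.right_le)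
  have h2 := wielandt_frob_card (hF.sub_right hR₀ hR₀1) hK (hle.trans hLM)
    (coprime_card_mono hcop le_rfl hle) hM hC
  rw [hpr.inf_cent_eq hR₀ hR₀1] at h2
  have h3 : 1 < Nat.card ↥(M ⊓ 𝐂(R)) := by
    refine one_lt_card_of_ne_bot fun e => hM1 ?_
    rwa [e, card_bot, one_pow, card_eq_one] at h1
  have hR : (Nat.card R).Prime := Nat.pow_right_injective h3 (h2.symm.trans h1) ▸ hp
  exact ⟨hR, h1, t3_10c hF hK hLM hM hcop hR⟩

end CL.BG
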