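import Cfsg.Agent.BG.A14_2
import Cfsg.Agent.BG.T3_10
import Cfsg.Agent.BG.T1_6
import Cfsg.Agent.BG.T6_5
import Cfsg.Agent.BG.T10_0
import Cfsg.Agent.BG.T10_1
import Cfsg.Agent.BG.T12_16
import Cfsg.Agent.BG.T12_17
import Cfsg.Agent.BG.T12_19
import Cfsg.Agent.BG.T13_13

/-! # BG Proposition 14.2 -/

namespace CL.BG

open Cfsg Subgroup

variable {G : Type*} [Group G] [Finite G]

omit [Finite G] in
theorem a14_hall_of_sdp {π : Set ℕ} {U K E : Subgroup G} (h : SDP U K E) (hU : PiGrp πᶜ U)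
    (hK : PiGrp π K) : Hall πᶜ U E :=
  Hall.mk' (h.sup ▸ le_sup_left) hU (by
    rw [← h.sup, relIndex_sup_of_norm h.norm, compl_compl]; exact hK.relIndex U)

/-- existence of `κ`-complements (part of BG 14.2(a); holds for every maximal subgroup). -/
theorem t14_2_ex (hG : IsMinSimpleOddOrder G) {M K : Subgroup G} (hM : IsCoatom M)
    (hK : Hall (kappa M) K M) : ∃ U : Subgroup G, KappaCompl M U K := by
  by_cases hK1 : K = ⊥
  · obtain ⟨U, hU⟩ := hall_exists (sigma M ∪ kappa M)ᶜ (mmax_sol hG hM)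
    exact ⟨U, hU, hK, hK1 ▸ bot_le⟩
  · obtain ⟨E, hE, hKE⟩ := ex_sigma_compl hG hM hK.le hK.pi.kappa_sigma'
    obtain ⟨-, -, ⟨U, hU, hUπ, -⟩, -⟩ := a14_2_setup hG hM hK hK1 hE hKE
    refine ⟨U, ?_, hK, hU.norm⟩
    rw [Set.compl_union]
    exact (a14_hall_of_sdp hU hUπ hK.pi).trans_inter hE

/-- `U K` is a complement of `M_σ` in `M` -/
theorem KappaCompl.hallE {M U K : Subgroup G} (hU : KappaCompl M U K) :
    Hall (sigma M)ᶜ (U ⊔ K) M :=
  (hU.hallU.sup_union hU.hallK (Or.inl hU.norm)).congr fun p _ _ => by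
    have := kappa_sub_sigma_compl M (a := p)
    simp only [Set.mem_union, Set.mem_compl_iff] at this ⊢
    tauto

omit [Finite G] in
theorem KappaCompl.sdp {M U K : Subgroup G} (hU : KappaCompl M U K) : SDP U K (U ⊔ K) :=
  ⟨rfl, hU.norm, disj_of_coprime hU.coprime⟩

/-- BG 14.2(a) (`kappa_compl_context`), for every maximal subgroup and every `κ`-complement. -/
theorem t14_2a (hG : IsMinSimpleOddOrder G) {M U K : Subgroup G} (hM : IsCoatom M)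
    (hU : KappaCompl M U K) :
    Hall (sigma M)ᶜ (U ⊔ K) M ∧ SDP U K (U ⊔ K) ∧ SDP (sigmaCore M) (U ⊔ K) M ∧
      Semiprime (sigmaCore M) K ∧ Semiregular U K ∧ (K ≠ ⊥ → IsMulCommutative U) := by
  refine ⟨hU.hallE, hU.sdp, sdprod_sigma hG hM hU.hallE, ?_⟩
  by_cases hK1 : K = ⊥
  · subst hK1
    exact ⟨fun x hx h1 => absurd (mem_bot.1 hx) h1, fun x hx h1 => absurd (mem_bot.1 hx) h1,
      fun h => absurd rfl h⟩
  · obtain ⟨hpr, -, ⟨U₀, hU₀, hUπ, hreg, hab⟩, -⟩ :=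
      a14_2_setup hG hM hU.hallK hK1 hU.hallE le_sup_right
    have hle : U ≤ U₀ := (a14_hall_of_sdp hU₀ hUπ hU.hallK.pi).le_of_normal
      (hU₀.sup ▸ (NormalIn.sup_left hU₀.norm).norm) le_sup_left hU.hallU.pi.sigma_kappa'_kappa'
    refine ⟨hpr, fun x hx h1 => ?_, fun _ => comm_of_le hab hle⟩
    rw [eq_bot_iff, ← hreg x hx h1]
    exact inf_le_inf_right _ hle

/-- BG 14.2(a), prime action of `K` on `M_σ`. -/
theorem t14_2a_prime (hG : IsMinSimpleOddOrder G) {M K : Subgroup G} (hM : IsCoatom M)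
    (hK : Hall (kappa M) K M) : Semiprime (sigmaCore M) K :=
  let ⟨_, hU⟩ := t14_2_ex hG hM hK; (t14_2a hG hM hU).2.2.2.1

/-- `C_{M_σ}(X) = K*` for `1 ≠ X ≤ K` -/
theorem t14_2a_cent (hG : IsMinSimpleOddOrder G) {M K X : Subgroup G} (hM : IsCoatom M)
    (hK : Hall (kappa M) K M) (hX : X ≤ K) (hX1 : X ≠ ⊥) : sigmaCore M ⊓ 𝐂(X) = kstar M K :=
  (t14_2a_prime hG hM hK).a14_cent hX hX1

/-- `N_M(X) = K K*` for every nontrivial normal subgroup `X` of `K` -/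
theorem t14_2b_norm (hG : IsMinSimpleOddOrder G) {M K X : Subgroup G} (hM : IsCoatom M)
    (hK : Hall (kappa M) K M) (hX : X ≤ K) (hX1 : X ≠ ⊥) (hn : K ≤ 𝐍(X)) :
    M ⊓ 𝐍(X) = K ⊔ kstar M K := by
  obtain ⟨U, hU⟩ := t14_2_ex hG hM hK
  obtain ⟨hE, hUK, hME, hpr, hreg, -⟩ := t14_2a hG hM hU
  have hsolX := mmax_sub_sol hG hM (hX.trans hK.le)
  rw [← t6_5b hME.sup (sigmaCore_normal M).norm (hX.trans le_sup_right)
    ((piGrp_sigmaCore M).coprime (hK.pi.kappa_sigma'.of_le hX)) (Or.inr hsolX),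
    ← t6_5b hUK.sup (NormalIn.sup_left hU.norm).norm hX
    (coprime_card_mono hU.coprime le_rfl hX) (Or.inr hsolX), hreg.a14_cent hX hX1, bot_sup_eq,
    inf_eq_left.2 hn, hpr.a14_cent hX hX1, sup_comm]

/-- BG 14.2(b)(1): `N_M(K) = K K*`. -/
theorem t14_2b_normK (hG : IsMinSimpleOddOrder G) {M K : Subgroup G} (hM : TypeP M)
    (hK : Hall (kappa M) K M) : M ⊓ 𝐍(K) = K ⊔ kstar M K :=
  t14_2b_norm hG hM.coatom hK le_rfl (hM.hall_ne_bot hK) (le_norm_self K)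

/-- BG 14.2(b)(1): `N_M(K) = K × K*`. -/
theorem t14_2b_dp (hG : IsMinSimpleOddOrder G) {M K : Subgroup G} (hM : TypeP M)
    (hK : Hall (kappa M) K M) : DP K (kstar M K) (M ⊓ 𝐍(K)) := by
  rw [t14_2b_normK hG hM hK]
  exact dp_kstar hK.pi.kappa_sigma'

/-- BG 14.2(b)(1): `N_M(X) = K K*` for `X ∈ ℰ¹(K)`. -/
theorem t14_2b1 (hG : IsMinSimpleOddOrder G) {M K X : Subgroup G} (hM : IsCoatom M)
    (hK : Hall (kappa M) K M) (hX : X ≤ K) (hXp : (Nat.card X).Prime) :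
    M ⊓ 𝐍(X) = K ⊔ kstar M K := by
  have hX1 := ne_bot_of_card_prime hXp
  obtain ⟨E, hE, hKE⟩ := ex_sigma_compl hG hM hK.le hK.pi.kappa_sigma'
  exact t14_2b_norm hG hM hK hX hX1
    ((a14_2_setup hG hM hK (ne_bot_of_le hX1 hX) hE hKE).2.1 X hX hXp)

/-- `C_M(x) ≤ K K*` for `x ∈ K^#` -/
theorem t14_2b_cent1 (hG : IsMinSimpleOddOrder G) {M K : Subgroup G} (hM : IsCoatom M)
    (hK : Hall (kappa M) K M) {x : G} (hx : x ∈ K) (hx1 : x ≠ 1) :
    M ⊓ 𝐂₁(x) ≤ K ⊔ kstar M K := by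
  obtain ⟨X, hX, hXp, -⟩ := a14_exists_prime_le_zpowers hx1
  rw [← t14_2b1 hG hM hK (hX.trans (zpowers_le.2 hx)) hXp]
  exact inf_le_inf_left _ ((a14_cent1_le_cent hX).trans (cent_le_norm X))

/-- BG 14.2(b)(2). -/
theorem t14_2b2 (hG : IsMinSimpleOddOrder G) {M K X Ms : Subgroup G} (hM : IsCoatom M)
    (hK : Hall (kappa M) K M) (hX : X ≤ K) (hXp : (Nat.card X).Prime) (hMs : IsCoatom Ms)
    (hN : 𝐍(X) ≤ Ms) : X ≤ sigmaCore Ms := by
  have hκ := hK.pi _ hXp (card_dvd_of_le hX)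
  have h := t13_13 hG hM ((elemN_one_iff hXp).2 ⟨hX.trans hK.le, rfl⟩) (tau13_of_mem_kappa hκ)
    (kappa_cent_ne hκ (hX.trans hK.le) rfl) hMs hN
  exact le_sigmaCore hG hMs ((le_norm_self X).trans hN) ((piGrp_iff_of_card_prime hXp rfl).2 h)

/-- BG 14.2(c), first part (true for every maximal subgroup). -/
theorem t14_2c_ne (hG : IsMinSimpleOddOrder G) {M K : Subgroup G} (hM : IsCoatom M)
    (hK : Hall (kappa M) K M) : kstar M K ≠ ⊥ := by
  by_cases hK1 : K = ⊥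
  · rw [kstar, hK1, cent_bot, inf_top_eq]
    exact t10_2e hG hM
  · obtain ⟨X, hX, hXp⟩ := a14_exists_prime_le hK1
    rw [← t14_2a_cent hG hM hK hX (ne_bot_of_card_prime hXp)]
    exact kappa_cent_ne (hK.pi _ hXp (card_dvd_of_le hX)) (hX.trans hK.le) rfl

theorem a14_2_uniq (hG : IsMinSimpleOddOrder G) {M K X : Subgroup G} (hM : TypeP M)
    (hK : Hall (kappa M) K M) (hX : X ≤ kstar M K) (hXp : (Nat.card X).Prime) :
    UniqMax 𝐂(X) M ∧ ∀ S : Subgroup G, SylowOf (Nat.card X) S (sigmaCore M) → UniqMax S M := by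
  obtain ⟨E, hE, hKE⟩ := ex_sigma_compl hG hM.coatom hK.le hK.pi.kappa_sigma'
  exact (a14_2_setup hG hM.coatom hK (hM.hall_ne_bot hK) hE hKE).2.2.2 X hX hXp

/-- BG 14.2(c), second part. -/
theorem t14_2c (hG : IsMinSimpleOddOrder G) {M K X : Subgroup G} (hM : TypeP M)
    (hK : Hall (kappa M) K M) (hX : X ≤ kstar M K) (hXp : (Nat.card X).Prime) :
    UniqMax 𝐂(X) M := (a14_2_uniq hG hM hK hX hXp).1

/-- BG 14.2(c), for elements: `C_G(y) ≤ M` for `y ∈ K*^#`. -/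
theorem t14_2c_elt (hG : IsMinSimpleOddOrder G) {M K : Subgroup G} (hM : TypeP M)
    (hK : Hall (kappa M) K M) {y : G} (hy : y ∈ kstar M K) (hy1 : y ≠ 1) : 𝐂₁(y) ≤ M := by
  obtain ⟨X, hX, hXp, -⟩ := a14_exists_prime_le_zpowers hy1
  exact (a14_cent1_le_cent hX).trans (t14_2c hG hM hK (hX.trans (zpowers_le.2 hy)) hXp).le

/-- `N_G(X) ≤ M` for `X ∈ ℰ¹(K*)` -/
theorem t14_2c_norm (hG : IsMinSimpleOddOrder G) {M K X : Subgroup G} (hM : TypeP M)
    (hK : Hall (kappa M) K M) (hX : X ≤ kstar M K) (hXp : (Nat.card X).Prime) : 𝐍(X) ≤ M :=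
  (norm_le_norm_cent X).trans ((t14_2c hG hM hK hX hXp).norm_le hG)

/-- BG 14.2(d), first part. -/
theorem t14_2d1 (hG : IsMinSimpleOddOrder G) {M K : Subgroup G} (hM : TypeP M)
    (hK : Hall (kappa M) K M) {g : G} (hg : g ∉ M) : kstar M K ⊓ cj g M = ⊥ := by
  by_contra hne
  obtain ⟨X, hX, hXp⟩ := a14_exists_prime_le hne
  have := Fact.mk hXp
  have hXK := hX.trans inf_le_left
  exact hg (by
    simpa using inv_mem (t10_1e hG hM.coatom (kstar_pi M K _ hXp (card_dvd_of_le hXK))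
      (isPGroup_of_card_prime rfl) (hXK.trans (kstar_le M K)) (t14_2c hG hM hK hXK hXp).le
      (le_cj_iff_cj_inv_le.1 (hX.trans inf_le_right))))

/-- BG 14.2(d), second part. -/
theorem t14_2d2 (hG : IsMinSimpleOddOrder G) {M K : Subgroup G} (hM : IsCoatom M)
    (hK : Hall (kappa M) K M) {g : G} (hg : g ∈ M) (hgK : g ∉ K ⊔ kstar M K) :
    K ⊓ cj g K = ⊥ := by
  by_contra hne
  obtain ⟨X, hX, hXp⟩ := a14_exists_prime_le hne
  have hK' := hK.cj_of_mem hg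
  have h1 := t14_2b1 hG hM hK (hX.trans inf_le_left) hXp
  have h2 := t14_2b1 hG hM hK' (hX.trans inf_le_right) hXp
  have hKZ : K ≤ M ⊓ 𝐍(X) := h1 ▸ le_sup_left
  have hn : M ⊓ 𝐍(X) ≤ 𝐍(K) := h1 ▸ sup_le (le_norm_self K) (le_norm_of_le_cent (kstar_le_cent M K))
  have hle : cj g K ≤ K :=
    (hK.restrict hKZ inf_le_left).le_of_normal hn (h2 ▸ le_sup_left) hK'.pi
  have hK1 : K ≠ ⊥ := ne_bot_of_le hne inf_le_left
  exact hgK (t14_2b_normK hG (typeP_of_hall_ne_bot hM hK hK1) hK ▸ ⟨hg, mem_norm_of_cj_le hle⟩)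

/-- a maximal subgroup over `N_G(X)`, `X ∈ ℰ¹(K)`, is different from `M` -/
theorem a14_2_ne (hG : IsMinSimpleOddOrder G) {M K X : Subgroup G} (hM : IsCoatom M)
    (hK : Hall (kappa M) K M) (hX : X ≤ K) (hXp : (Nat.card X).Prime) : ¬ 𝐍(X) ≤ M := fun h =>
  ne_bot_of_card_prime hXp (((piGrp_sigmaCore M).of_le (t14_2b2 hG hM hK hX hXp hM h)).eq_bot
    (hK.pi.kappa_sigma'.of_le hX))

/-- BG 14.2(e). -/
theorem t14_2e (hG : IsMinSimpleOddOrder G) {M K S : Subgroup G} (hM : TypeP M)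
    (hK : Hall (kappa M) K M) {p : ℕ} (hp : p.Prime) (hpK : p ∣ Nat.card (kstar M K))
    (hS : SylowOf p S (sigmaCore M)) : UniqMax S M ∧ ¬ S ≤ kstar M K := by
  obtain ⟨X, hX, rfl⟩ := exists_card_eq_of_dvd_card hp hpK
  have hu := (a14_2_uniq hG hM hK hX hp).2 S hS
  refine ⟨hu, fun hSK => ?_⟩
  obtain ⟨Y, hY, hYp⟩ := a14_exists_prime_le (hM.hall_ne_bot hK)
  refine a14_2_ne hG hM.coatom hK hY hYp (hu.le_of_le ?_ (mFT_norm_ne_top hG
    (ne_bot_of_card_prime hYp) (mmax_sub_ne_top hM.coatom (hY.trans hK.le))))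
  exact le_norm_of_le_cent (hSK.trans ((kstar_le_cent M K).trans (cent_anti hY)))

/-- BG 14.2(f). -/
theorem t14_2f (hG : IsMinSimpleOddOrder G) {M K Y : Subgroup G} (hM : TypeP M)
    (hK : Hall (kappa M) K M) (hY : PiGrp (sigma M) Y) (hYK : Y ⊓ kstar M K ≠ ⊥) :
    Y ≤ sigmaCore M := by
  obtain ⟨g, hg⟩ := t12_16a hG hM.coatom hY
  have h1 : Y ≤ cj g⁻¹ M := cj_le_iff_le_cj_inv.1 (hg.trans (sigmaCore_normal M).le)
  have hgM : g⁻¹ ∈ M := by
    by_contra hn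
    refine hYK ?_
    rw [eq_bot_iff, ← t14_2d1 hG hM hK hn]
    exact le_inf inf_le_right (inf_le_left.trans h1)
  rw [cj_eq_of_mem hgM] at h1
  exact le_sigmaCore hG hM.coatom h1 hY

/-- BG 14.2(g). -/
theorem t14_2g (hG : IsMinSimpleOddOrder G) {M K : Subgroup G} (hM : TypeP2 M)
    (hK : Hall (kappa M) K M) :
    sigma M = beta M ∧ (Nat.card K).Prime ∧ Group.IsNilpotent (sigmaCore M) ∧
      NormedTI ((sigmaCore M : Set G) \ {1}) M := by
  have hmax := hM.coatom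
  obtain ⟨U, hU⟩ := t14_2_ex hG hmax hK
  obtain ⟨hE, hUK, hME, hpr, hreg, hab⟩ := t14_2a hG hmax hU
  have hK1 := hM.typeP.hall_ne_bot hK
  have hU1 := (hU.typeP2_iff hM.typeP).1 hM
  have hC := t14_1_cent hG hmax hU.hallU hU1
  have hsolU := mmax_sub_sol hG hmax hU.U_le
  have hσβ : PiGrp (beta M) (sigmaCore M) := by
    obtain ⟨H, hH, hEH⟩ := t12_19 hG hmax hE
    have hUE : U ≤ ⁅U ⊔ K, U ⊔ K⁆ := by
      have := t1_6a hU.norm hU.coprime (Or.inl hsolU)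
      rw [hreg.a14_cent le_rfl hK1, sup_bot_eq] at this
      exact this.ge.trans (commutator_mono le_sup_left le_sup_right)
    have hH1 : H = ⊥ := by
      rw [eq_bot_iff, ← hC]
      exact le_inf hH.le (cent_symm (hUE.trans hEH))
    exact piGrp_compl_compl.1 (hH.eq_bot_iff.1 hH1)
  have hσ : sigma M = beta M := by
    refine Set.Subset.antisymm ?_ (beta_sub_sigma hG hmax)
    rw [← primesOf_sigmaCore hG hmax]
    exact piGrp_iff_subset.1 hσβ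
  refine ⟨hσ, (t3_10 ⟨hUK, hU1, hK1, hreg⟩ hsolU (hE.le.trans (sigmaCore_normal M).norm)
    (mmax_sub_sol hG hmax (sigmaCore_normal M).le) (t10_2e hG hmax) (coprime_sigma_compl hE)
    hpr hC).1, t14_1_nil hG hmax hM.not_typeP1, ?_, fun a ha g => ⟨fun h => ?_, fun hg => ?_⟩⟩
  · obtain ⟨x, hx, hx1⟩ := exists_ne_one_of_ne_bot (t10_2e hG hmax)
    exact ⟨x, hx, hx1⟩
  · by_contra hg
    have h1 := (hσβ.inf_left (cj g M)).eq_bot (t12_17b hG hmax hg).2.1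
    have h2 : g * a * g⁻¹ ∈ sigmaCore M ⊓ cj g M :=
      ⟨h.1, conj_mem_cj.2 ((sigmaCore_normal M).le ha.1)⟩
    exact h.2 (mem_bot.1 (h1 ▸ h2))
  · refine ⟨(sigmaCore_normal M).conj_mem hg ha.1, fun h => ha.2 ?_⟩
    simpa using h

end CL.BG
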