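import Cfsg.Agent.BG.T14_7

/-! BG Corollary 14.8 -/

namespace CL.BG

open Cfsg

variable {G : Type*} [Group G] [Finite G]

/-- BG Corollary 14.8, first part. -/
theorem t14_8a (hG : IsMinSimpleOddOrder G) {M H : Subgroup G} (hM : TypeP1 M)
    (hH : TypeP1 H) : ∃ g : G, H = cj g M := by
  obtain ⟨K, hK⟩ := hall_exists (kappa M) (mmax_sol hG hM.coatom)
  obtain ⟨Ms, h⟩ := t14_7 hG hM.typeP hK
  obtain ⟨g, hg | hg⟩ := h.conj H hH.typeP
  · exact ⟨g, hg⟩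
  · rcases h.typeP2 with h2 | h2
    · exact absurd h2.1 hM.not_typeP2
    · exact absurd (hg ▸ h2.1.cj g) hH.not_typeP2

/-- BG Corollary 14.8, second part. -/
theorem t14_8b (hG : IsMinSimpleOddOrder G) {M : Subgroup G} (hM : TypeP M) :
    ∃ Ms : Subgroup G, TypeP Ms ∧ (∀ g : G, Ms ≠ cj g M) ∧
      ∀ H : Subgroup G, TypeP H → ∃ g : G, H = cj g M ∨ H = cj g Ms := by
  obtain ⟨K, hK⟩ := hall_exists (kappa M) (mmax_sol hG hM.coatom)
  obtain ⟨Ms, h⟩ := t14_7 hG hM hK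
  exact ⟨Ms, h.typePs, h.not_conj, h.conj⟩

end CL.BG
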