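import Cfsg.Agent.BG.Fit
import Cfsg.Agent.BG.Frob
import Cfsg.Agent.BG.T1_4
import Cfsg.Agent.BG.T1_5s
import Cfsg.Agent.BG.T1_6
import Cfsg.Agent.BG.T3_4

set_option autoImplicit false

namespace CL.BG

open Cfsg Subgroup

variable {G : Type*} [Group G] [Finite G]

/-- BG 3.8 for a complement of prime order -/
theorem t3_8_prime {K R : Subgroup G} (hRK : R ≤ 𝐍(K)) (hodd : Odd (Nat.card ↥(K ⊔ R)))
    (hsol : Group.IsSolvable K) (hcop : (Nat.card K).Coprime (Nat.card R))
    (hR : (Nat.card R).Prime) (hF : fittingOf K ⊓ 𝐂(R) = ⊥) : ⁅K, R⁆ ≤ fittingOf K := by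
  have hFK := fit_normal K
  have hRF : R ≤ 𝐍(fittingOf K) := norms_fit hRK
  have hFn := fit_nil K
  have hle : ∀ N : Subgroup G, N ⊴ K → Group.IsNilpotent N → N ≤ fittingOf K := fun N => le_fit
  set F := fittingOf K
  rw [← quot_le_centralizer_iff hFK.norm hRF]
  refine cent_symm (le_trans (le_inf le_rfl (cent_symm ?_))
    (t1_4 (quot_normalizer F hRK) (quot_coprime F hcop) (quot_isSolvable F hsol)))
  refine fit_le_of_forall_pcore_le fun p hp => ?_
  have : Fact p.Prime := ⟨hp⟩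
  have hU := coquot_piCoreOf_normalIn {p} hFK
  have hRU : R ≤ 𝐍(coquot F (piCoreOf {p} (quot F K))) :=
    le_normalizer_coquot hRF (norms_piCoreOf _ (quot_normalizer F hRK))
  have hi := piNat_relIndex_coquot_piCoreOf {p} F K
  obtain ⟨P, hP, hRP⟩ := t1_5a_sylow p hRU (coprime_card_mono hcop hU.le le_rfl)
    (Or.inr (solvable_of_card_prime hR))
  have h1 := hP.quot (V := F) (coquot_le_normalizer _ _)
  rw [quot_coquot] at h1
  have h2 := h1.hall.eq_self_iff.2 (piGrp_piCoreOf _ _)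
  have hPK := hP.le.trans hU.le
  rw [← h2, quot_le_centralizer_iff (hPK.trans hFK.norm) hRF]
  set U := coquot F (piCoreOf {p} (quot F K))
  have hW : piCoreOf {p}ᶜ F ⊴ K := hFK.piCoreOf_trans _
  have hWh := nil_hall_core hFn {p}ᶜ
  set W := piCoreOf {p}ᶜ F
  have hcP := coprime_card_mono hcop hPK le_rfl
  have hsd := SDP.of_coprime hRP hcP
  have h3 := t3_4 hsd (odd_card_of_le hodd (sup_le_sup_right hPK _)) hcP hR
    (solvable_of_le hsol hW.le) (sup_le (hPK.trans hW.norm) (norms_piCoreOf _ hRF))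
    (by
      rw [← hsd.card]
      exact (hWh.pi.coprime' hP.pi).mul_right (coprime_card_mono hcop hW.le le_rfl))
    (eq_bot_iff.2 (hF ▸ inf_le_inf_right _ hWh.le))
  refine le_trans (le_inf ((commutator_le_left_of_norm hRP).trans hP.le) h3) (hle _ ?_ ?_)
  · exact ⟨inf_le_left.trans hU.le, norms_inf_cent hU.norm hW.norm⟩
  · have hn : U ⊓ 𝐂(W) ≤ 𝐍(W) := le_norm_of_le_cent inf_le_right
    refine nil_of_quot_of_le_cent (inf_le_left.trans (cent_symm inf_le_right)) hn
      (nil_of_isPGroup (p := p) (IsPGroup.to_le ?_ (quot_mono W inf_le_left)))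
    rw [isPGroup_quot_iff (hU.le.trans hW.norm),
      ← relIndex_mul_relIndex W F U hWh.le (le_coquot _ _)]
    exact IsPiNum.mul (compl_compl ({p} : Set ℕ) ▸ hWh.idx) hi

/-- BG 3.8 (Coq `odd_sdprod_primact_commg_sub_Fitting`). -/
theorem t3_8 {K R L : Subgroup G} (hL : SDP K R L) (hodd : Odd (Nat.card L))
    (hsol : Group.IsSolvable K) (hcop : (Nat.card K).Coprime (Nat.card R))
    (hpr : Semiprime K R) (hF : fittingOf K ⊓ 𝐂(R) = ⊥) : ⁅K, R⁆ ≤ fittingOf K := by
  by_cases hR : R = ⊥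
  · rw [hR, commutator_bot_right]; exact bot_le
  obtain ⟨R₀, hR₀, hp⟩ := exists_prime_card_le hR
  have hC := hpr.inf_cent_eq hR₀ (ne_bot_of_card_prime hp)
  have hcop₀ := coprime_card_mono hcop le_rfl hR₀
  have h1 := t3_8_prime (hR₀.trans hL.norm)
    (odd_card_of_le hodd (sup_le hL.left_le (hR₀.trans hL.right_le))) hsol hcop₀ hp
    (by rw [← inf_eq_left.2 (fit_le K), inf_assoc, hC, ← inf_assoc, inf_eq_left.2 (fit_le K), hF])
  have h2 := t1_6a (hR₀.trans hL.norm) hcop₀ (Or.inl hsol)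
  have hFK := fit_normal K
  have hRF : R ≤ 𝐍(fittingOf K) := norms_fit hL.norm
  rw [← quot_le_centralizer_iff hFK.norm hRF]
  have h3 : K ≤ fittingOf K ⊔ K ⊓ 𝐂(R) := by
    conv_lhs => rw [← h2, hC]
    exact sup_le_sup_right h1 _
  refine (quot_mono _ h3).trans ?_
  rw [quot_self_sup (inf_le_left.trans hFK.norm)]
  exact quot_centralizer _ inf_le_right

end CL.BG
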