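import Cfsg.Agent.BG.T15_1
import Cfsg.Agent.BG.A14_Sig
import Cfsg.Agent.BG.T1_5
import Cfsg.Agent.BG.T1_6
import Cfsg.Agent.BG.T1_9
import Cfsg.Agent.BG.T3_7
import Cfsg.Agent.BG.T3_8
import Cfsg.Agent.BG.T3_10
import Cfsg.Agent.BG.T6_3
import Cfsg.Agent.BG.T10_8
import Cfsg.Agent.BG.T14_1

/-! # Bender-Glauberman Theorem 15.2 -/

namespace CL.BG

open Cfsg Subgroup

variable {G : Type*} [Group G] [Finite G]

/-- a section of `M_σ` on which `K` acts without fixed points is nilpotent -/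
theorem a15_nil_quot (hG : IsMinSimpleOddOrder G) {M K V L : Subgroup G} (hM : TypeP M)
    (hK : Hall (kappa M) K M) (hV : V ≤ sigmaCore M) (hL : L ≤ sigmaCore M) (hLV : L ≤ 𝐍(V))
    (hKV : K ≤ 𝐍(V)) (hKL : K ≤ 𝐍(L)) (h : kstar M K ⊓ L ≤ V) :
    Group.IsNilpotent (quot V L) := by
  obtain ⟨r, hr, X, hX⟩ := a13_exists_elem (hM.hall_ne_bot hK)
  have hXσ : PiGrp (sigma M)ᶜ X := hK.pi.kappa_sigma'.of_le hX.le
  have hsol : Group.IsSolvable L := mmax_sub_sol hG hM.coatom (hL.trans (sigmaCore_le M))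
  refine t3_7 (R := quot V X) (quot_normalizer V (hX.le.trans hKL)) (quot_isSolvable V hsol) ?_ ?_
  · rw [card_quot_of_disjoint (hX.le.trans hKV)
      (((piGrp_sigmaCore M).of_le hV).inf_eq_bot hXσ)]
    exact hX.card_prime hr
  · rw [← quot_inf_cent_of_coprime'' hLV (hX.le.trans hKV) (hX.le.trans hKL)
      (a13_coprime_sigma hXσ hL) (Or.inl hsol)]
    refine quot_eq_bot (le_trans (le_inf ?_ inf_le_left) h)
    rw [← t14_2a_cent hG hM.coatom hK hX.le (hX.ne_bot hr one_pos)]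
    exact inf_le_inf_right _ hL

/-- the first half of the proof of 15.2 -/
theorem a15_2_setup (hG : IsMinSimpleOddOrder G) {M K : Subgroup G} (hM : IsCoatom M)
    (hK : Hall (kappa M) K M) (hne : fittingHallOf M ≠ sigmaCore M) :
    TypeP1 M ∧ SDP (sigmaCore M) K M ∧ sigmaCore M = ⁅M, M⁆ ∧ (Nat.card (kstar M K)).Prime ∧
      kstar M K ≤ piCoreOf {Nat.card (kstar M K)} M ∧
      SylowOf (Nat.card (kstar M K)) (piCoreOf {Nat.card (kstar M K)} M) (sigmaCore M) ∧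
      Group.IsNilpotent (quot (piCoreOf {Nat.card (kstar M K)} M) (sigmaCore M)) := by
  have hnn : ¬ Group.IsNilpotent (sigmaCore M) := fun h => hne (fcore_eq_sigmaCore hG hM h)
  have hP1 : TypeP1 M := by
    by_contra h
    exact hnn (t14_1_nil hG hM h)
  obtain ⟨U, hU⟩ := t14_2_ex hG hM hK
  have hsdp : SDP (sigmaCore M) K M := by
    have := (t14_2a hG hM hU).2.2.1
    rwa [(hU.typeP1_iff hP1.typeP).1 hP1, bot_sup_eq] at this
  have hder : sigmaCore M = ⁅M, M⁆ := le_antisymm (t10_2c hG hM)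
    (hsdp.der_le_left (comm_of_isCyclic (t14_7_cyclic hG hM hK)))
  have hcop := coprime_sigmaCore (M := M) hK.pi.kappa_sigma'
  have hsol : Group.IsSolvable (sigmaCore M) := mmax_sub_sol hG hM (sigmaCore_le M)
  have hF : fittingOf (sigmaCore M) ⊓ 𝐂(K) ≠ ⊥ := fun h => by
    have h1 := t3_8 hsdp (mFT_odd hG M) hsol hcop (t14_2a_prime hG hM hK) h
    rw [(t6_3a hsdp hcop hsol hder.le).1] at h1
    exact hnn (nil_of_le_fit h1)
  obtain ⟨Ms, hMs⟩ := t14_7 hG hP1.typeP hK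
  have hq : (Nat.card (kstar M K)).Prime :=
    (hMs.typeP2.resolve_left fun h => hP1.not_typeP2 h.1).2
  have := Fact.mk hq
  have hKs : IsPGroup (Nat.card (kstar M K)) (kstar M K) := isPGroup_of_card_prime rfl
  have hKF : kstar M K ≤ fittingOf (sigmaCore M) :=
    (le_or_inf_eq_bot_of_prime hq _).resolve_right fun h => hF (eq_bot_iff.2
      (h ▸ le_inf (inf_le_inf_right _ (fit_le _)) inf_le_left))
  have hKQ := le_pcore_of_le_fit (hKF.trans (fit_le_of_normal (sigmaCore_normal M))) hKs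
  have hqσ : Nat.card (kstar M K) ∈ sigma M := (kstar_pi M K).mem ⟨hq, dvd_rfl⟩
  generalize Nat.card (kstar M K) = q at *
  have hQn := piCoreOf_normalIn {q} M
  have hQσ : piCoreOf {q} M ≤ sigmaCore M :=
    le_sigmaCore hG hM hQn.le (piGrp_of_isPGroup hq (isPGroup_piCoreOf hq M) hqσ)
  have hn := (sigmaCore_le M).trans hQn.norm
  have hnil := a15_nil_quot hG hP1.typeP hK hQσ le_rfl hn (hK.le.trans hQn.norm) hsdp.norm
    (inf_le_left.trans hKQ)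
  refine ⟨hP1, hsdp, hder, hq, hKQ, Hall.mk' hQσ (piGrp_piCoreOf _ _) ?_, hnil⟩
  have h1 := nil_hall_core hnil {q}
  have h2 := ((sigmaCore_normal M).quot (piCoreOf {q} M)).piCoreOf_le {q}
  rw [piCoreOf_quot_piCoreOf, le_bot_iff] at h2
  rw [h2, hall_bot_iff] at h1
  exact (piGrp_quot_iff hn).1 h1

/-- the centraliser in `H` of the section `A V / V` -/
def a15_qcent (V H A : Subgroup G) : Subgroup G := H ⊓ coquot V 𝐂(quot V A)

omit [Finite G] in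
theorem a15_le_qcent {V H A X : Subgroup G} (hH : H ≤ 𝐍(V)) (hA : A ≤ 𝐍(V)) :
    X ≤ a15_qcent V H A ↔ X ≤ H ∧ ⁅A, X⁆ ≤ V := by
  rw [a15_qcent, le_inf_iff]
  refine and_congr_right fun hX => ?_
  rw [← quot_le_iff (hX.trans hH), quot_le_centralizer_iff (hX.trans hH) hA, commutator_comm]

omit [Finite G] in
theorem a15_norm_qcent {V H A X : Subgroup G} (hV : X ≤ 𝐍(V)) (hH : X ≤ 𝐍(H)) (hA : X ≤ 𝐍(A)) :
    X ≤ 𝐍(a15_qcent V H A) :=
  norms_inf hH (le_normalizer_coquot hV (norms_cent (quot_normalizer V hA)))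

/-- BG 15.2, second part, existential form with a `K`-invariant `D`. -/
theorem t15_2_ex (hG : IsMinSimpleOddOrder G) {M K : Subgroup G} (hM : IsCoatom M)
    (hK : Hall (kappa M) K M) (hne : fittingHallOf M ≠ sigmaCore M) :
    ∃ D : Subgroup G, Hall {Nat.card (kstar M K)}ᶜ D (sigmaCore M) ∧ K ≤ 𝐍(D) ∧
      FcoreCtx M K (Nat.card (kstar M K)) (piCoreOf {Nat.card (kstar M K)} M) D
        (piCoreOf {Nat.card (kstar M K)} M ⊓ 𝐂(D)) := by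
  have hnn : ¬ Group.IsNilpotent (sigmaCore M) := fun h => hne (fcore_eq_sigmaCore hG hM h)
  obtain ⟨hP1, hsdp, hder, hq, hKQ, hQ, hnil⟩ := a15_2_setup hG hM hK hne
  have hKσ : PiGrp (sigma M)ᶜ K := hK.pi.kappa_sigma'
  have hsolM := mmax_sol hG hM
  have hsol : Group.IsSolvable (sigmaCore M) := mmax_sub_sol hG hM (sigmaCore_le M)
  obtain ⟨D, hD, hKD⟩ := t1_5a {Nat.card (kstar M K)}ᶜ hsdp.norm (coprime_sigmaCore hKσ) hsol
  refine ⟨D, hD, hKD, ?_⟩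
  have hqσ : Nat.card (kstar M K) ∈ sigma M := (kstar_pi M K).mem ⟨hq, dvd_rfl⟩
  obtain ⟨q, hqe⟩ : ∃ q, Nat.card (kstar M K) = q := ⟨_, rfl⟩
  have hKsp : (Nat.card (kstar M K)).Prime := hq
  rw [hqe] at hq hKQ hQ hnil hD hqσ ⊢
  have := Fact.mk hq
  have hQn := piCoreOf_normalIn {q} M
  generalize piCoreOf {q} M = Q at hKQ hQ hnil hQn
  have hσM := sigmaCore_le M
  have hDM := hD.le.trans hσM
  have hQD : SDP Q D (sigmaCore M) := Hall.sdp hQ (hσM.trans hQn.norm) hD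
  have hnilD : Group.IsNilpotent D := by
    obtain ⟨e⟩ := hQD.nonempty_equiv_quot
    exact Group.nilpotent_of_mulEquiv e.symm
  have hnilQ : Group.IsNilpotent Q := nil_of_isPGroup hQ.isPGroup
  have hcopQ : ∀ {W : Subgroup G}, W ≤ Q → (Nat.card W).Coprime (Nat.card D) := fun h =>
    (hQ.hall.pi.of_le h).coprime hD.pi
  have hDQ : ¬ D ≤ 𝐂(Q) := fun h => hnn ((hQD.dp h).nil hnilQ hnilD)
  have hQ₀lt : Q ⊓ 𝐂(D) < Q := inf_lt_left.2 fun h => hDQ (cent_symm h)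
  -- a `D K`-invariant section of `Q` that does not involve `K*` is centralised by `D`
  have lemA : ∀ V W : Subgroup G, V ≤ W → W ≤ Q → W ≤ 𝐍(V) → D ≤ 𝐍(V) → K ≤ 𝐍(V) → D ≤ 𝐍(W) →
      K ≤ 𝐍(W) → kstar M K ⊓ W ≤ V → W ≤ V ⊔ (Q ⊓ 𝐂(D)) := by
    intro V W hVW hWQ hWV hDV hKV hDW hKW h
    have h1 : Group.IsNilpotent (quot V (W ⊔ D)) := by
      refine a15_nil_quot hG hP1.typeP hK ((hVW.trans hWQ).trans hQ.le)
        (sup_le (hWQ.trans hQ.le) hD.le) (sup_le hWV hDV) hKV (norms_sup hKW hKD)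
        (le_trans (le_inf inf_le_left ?_) h)
      have h2 : (W ⊔ D) ⊓ Q = W := by
        rw [sup_inf_modular (Or.inl hDW) hWQ, hQD.disj', sup_bot_eq]
      exact (le_inf inf_le_right (inf_le_left.trans hKQ)).trans h2.le
    have h2 : ⁅W, D⁆ ≤ V := (quot_le_centralizer_iff hWV hDV).1 (nil_cent_of_coprime h1
      (quot_mono V le_sup_left) (quot_mono V le_sup_right) (quot_coprime V (hcopQ hWQ)))
    rw [← t1_6a hDW (hcopQ hWQ) (Or.inr (solvable_of_nil hnilD))]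
    exact sup_le_sup h2 (inf_le_inf_right _ hWQ)
  have hDQ₀ : D ≤ 𝐍(Q ⊓ 𝐂(D)) := norms_inf_cent hQD.norm le_normalizer
  have hKQ₀ : K ≤ 𝐍(Q ⊓ 𝐂(D)) := norms_inf_cent (hK.le.trans hQn.norm) hKD
  have lemB : ∀ W : Subgroup G, Q ⊓ 𝐂(D) < W → W ≤ Q → W ≤ 𝐍(Q ⊓ 𝐂(D)) → D ≤ 𝐍(W) → K ≤ 𝐍(W) →
      W = Q ∧ kstar M K ⊓ (Q ⊓ 𝐂(D)) = ⊥ := by
    intro W hlt hWQ hWn hDW hKW
    have h1 : ¬ kstar M K ⊓ W ≤ Q ⊓ 𝐂(D) := fun h => hlt.not_ge (by
      simpa using lemA _ W hlt.le hWQ hWn hDQ₀ hKQ₀ hDW hKW h)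
    have h2 : kstar M K ≤ W :=
      (le_or_inf_eq_bot_of_prime hKsp W).resolve_right fun h => h1 (h ▸ bot_le)
    refine ⟨nil_eq_of_norm_le hnilQ hWQ ?_,
      (le_or_inf_eq_bot_of_prime hKsp _).resolve_left fun h => h1 (inf_le_left.trans h)⟩
    exact (lemA W (Q ⊓ 𝐍(W)) (le_inf hWQ le_normalizer) inf_le_left inf_le_right hDW hKW
      (norms_inf_norm hQD.norm hDW) (norms_inf_norm (hK.le.trans hQn.norm) hKW)
      (inf_le_left.trans h2)).trans (sup_le le_rfl hlt.le)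
  obtain ⟨hQQ₀, hKs₀⟩ := lemB (Q ⊓ 𝐍(Q ⊓ 𝐂(D))) (nil_lt_norm hnilQ hQ₀lt) inf_le_left
    inf_le_right (norms_inf_norm hQD.norm hDQ₀) (norms_inf_norm (hK.le.trans hQn.norm) hKQ₀)
  replace hQQ₀ : Q ≤ 𝐍(Q ⊓ 𝐂(D)) := inf_eq_left.1 hQQ₀
  have hMQ₀ : M ≤ 𝐍(Q ⊓ 𝐂(D)) := by
    rw [← hsdp.sup, ← hQD.sup]
    exact sup_le (sup_le hQQ₀ hDQ₀) hKQ₀
  have hchief : ChiefFactor M (Q ⊓ 𝐂(D)) Q := ⟨hQ₀lt, hQn, hMQ₀, fun W h1 h2 h3 =>
    h1.eq_or_lt.imp Eq.symm fun h =>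
      (lemB W h h2 (h2.trans hQQ₀) (hDM.trans h3) (hK.le.trans h3)).1⟩
  have hQ₀D : D ≤ 𝐂(Q ⊓ 𝐂(D)) := cent_symm inf_le_right
  have hQ₀e : Q ⊓ 𝐂(D) ≤ Q ⊓ 𝐂(D) := le_rfl
  generalize hQ₀ : Q ⊓ 𝐂(D) = Q₀ at *
  have hQ₀Q : Q₀ ≤ Q := hQ₀lt.le
  -- the Frobenius group `D K` acts on `Q / Q₀`
  have hD1 : D ≠ ⊥ := fun h => hDQ (h ▸ bot_le)
  have hK1 := hP1.typeP.hall_ne_bot hK
  have hpr := t14_2a_prime hG hM hK
  have hcopDK := a13_coprime_sigma hKσ hD.le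
  have hreg : Semiregular D K := fun x hx hx1 => by
    rw [eq_bot_iff, ← hQD.disj]
    exact le_inf (((inf_le_inf_right _ hD.le).trans (hpr x hx hx1).le).trans hKQ) inf_le_left
  have hcardK : Nat.card (quot Q₀ K) = Nat.card K := card_quot_of_disjoint hKQ₀
    (((piGrp_sigmaCore M).of_le (hQ₀Q.trans hQ.le)).inf_eq_bot hKσ)
  have hfrob : Frob (quot Q₀ D) (quot Q₀ K) (quot Q₀ (D ⊔ K)) := by
    refine ⟨(SDP.of_coprime hKD hcopDK).quot_of_coprime (sup_le hDQ₀ hKQ₀) hcopDK, fun h => ?_,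
      fun h => ?_, hreg.quot hDQ₀ hKD (coprime_card_mono hcopDK inf_le_right le_rfl)⟩
    · exact hD1 (eq_bot_iff.2
        (hQD.disj ▸ le_inf (((quot_eq_bot_iff hDQ₀).1 h).trans hQ₀Q) le_rfl))
    · rw [h, card_bot] at hcardK
      exact hK1 (eq_bot_of_card_eq _ hcardK.symm)
  have hcopQK := a13_coprime_sigma hKσ hQ.le
  have hCK : quot Q₀ Q ⊓ 𝐂(quot Q₀ K) = quot Q₀ (kstar M K) := by
    rw [← quot_inf_cent_of_coprime'' hQQ₀ hKQ₀ (hK.le.trans hQn.norm) hcopQK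
      (Or.inl (solvable_of_nil hnilQ))]
    congr 1
    exact le_antisymm (inf_le_inf_right _ hQ.le) (le_inf hKQ inf_le_right)
  have hcardKs : Nat.card (quot Q₀ (kstar M K)) = q := by
    rw [card_quot_of_disjoint (hKQ.trans hQQ₀) (by rw [inf_comm, hKs₀]), hqe]
  obtain ⟨hp, hcard, hD'⟩ := t3_10 (M := quot Q₀ Q) hfrob
    (quot_isSolvable Q₀ (solvable_of_nil hnilD))
    (quot_normalizer Q₀ (sup_le hQD.norm (hK.le.trans hQn.norm)))
    (quot_isSolvable Q₀ (solvable_of_nil hnilQ)) hchief.minNormal.ne_bot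
    (quot_coprime Q₀ (hQ.hall.pi.coprime (PiGrp.sup hD.pi
      (hKσ.mono' fun r _ _ h e => h (by rwa [Set.mem_singleton_iff.1 e])) (Or.inl hKD))))
    ((hpr.mono_left hQ.le).quot hQQ₀ (hK.le.trans hQn.norm)
      (coprime_card_mono hcopQK inf_le_right le_rfl))
    (by rw [← quot_inf_cent_of_coprime'' hQQ₀ hDQ₀ hQD.norm (hcopQ le_rfl)
      (Or.inl (solvable_of_nil hnilQ)), hQ₀, quot_self])
  rw [hCK, hcardKs, hcardK] at hcard
  rw [hcardK] at hp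
  replace hD' : ⁅Q, ⁅D, D⁆⁆ ≤ Q₀ := by
    have h1 := hD' (hCK ▸ isCyclic_of_card_prime (hcardKs ▸ hq))
    rw [← quot_commutator hDQ₀ hDQ₀] at h1
    exact (quot_le_centralizer_iff hQQ₀ ((NormalIn.der D).le.trans hDQ₀)).1 (cent_symm h1)
  have helem : IsElementaryAbelian q (quot Q₀ Q) :=
    hchief.minNormal.elem_of_isPGroup (quot_isPGroup Q₀ hQ.isPGroup)
  have hQ' : ⁅Q, Q⁆ ≤ Q₀ := (quot_isMulCommutative_iff hQQ₀).1 helem.1
  have hQM : SylowOf q Q M := (sylowOf_sigmaCore_iff hG hM hqσ).1 hQ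
  -- `C = C_M(Q / Q₀)` is the Fitting subgroup
  have hC : ∀ {X : Subgroup G}, X ≤ a15_qcent Q₀ M Q ↔ X ≤ M ∧ ⁅Q, X⁆ ≤ Q₀ :=
    a15_le_qcent hMQ₀ hQQ₀
  have hCn : a15_qcent Q₀ M Q ⊴ M :=
    ⟨(hC.1 le_rfl).1, a15_norm_qcent hMQ₀ le_normalizer hQn.norm⟩
  generalize a15_qcent Q₀ M Q = C at hC hCn
  have hCσ : C ≤ sigmaCore M := by
    refine PiGrp.le_of_relIndex (π := {Nat.card K}ᶜ) ?_ (sigmaCore_normal M) hCn.le ?_
    · rw [piGrp_compl_singleton_iff hp]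
      intro hd
      obtain ⟨Y, hY⟩ := exists_elemN_one_of_dvd hp hd
      obtain ⟨g, hg, hgY⟩ := hall_conj_le hsolM hK (hY.le.trans hCn.le)
        (hY.piGrp hp (hK.pi.mem ⟨hp, dvd_rfl⟩))
      have h1 : cj g Y = K := eq_of_le_of_prime hp hgY
        (by rw [Ne, cj_eq_bot_iff]; exact hY.ne_bot hp one_pos)
      have h2 : K ≤ C := h1 ▸ cj_le_of_mem_norm (hCn.norm hg) hY.le
      have h3 := (quot_le_centralizer_iff hQQ₀ hKQ₀).2 (hC.1 h2).2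
      rw [inf_eq_left.2 h3] at hCK
      rw [hCK, hcardKs] at hcard
      exact hp.one_lt.ne (Nat.pow_right_injective hq.two_le (by simpa using hcard))
    · rw [hsdp.relIndex_left, compl_compl, piNat_prime_iff hp]
      rfl
  have hQC : Q ≤ C := hC.2 ⟨hQn.le, hQ'⟩
  have hCeq := (hQD.modl' hQC hCσ).sup
  have hDC : D ⊓ C ≤ 𝐂(Q) := t1_9 hQ₀Q (inf_le_left.trans hQ₀D) (hC.1 inf_le_right).2
    (coprime_card_mono (hcopQ le_rfl) le_rfl inf_le_left)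
  have hCF : C = fittingOf M := by
    refine le_antisymm (le_fit hCn ?_) (hC.2 ⟨fit_le M, hchief.commutator_le_of_nil
      (solvable_of_nil hnilQ) (fit_normal M) (fit_nil M)⟩)
    exact hCeq ▸ nil_sup_of_cent hnilQ (nilpotent_of_le hnilD inf_le_left) hDC
  subst hCF
  have hder2 : ⁅sigmaCore M, sigmaCore M⁆ ≤ fittingOf M :=
    hQD.der_le.trans (sup_le hQC (hC.2 ⟨(NormalIn.der D).le.trans hDM, hD'⟩))
  have hQF : Q ≤ fittingHallOf M := sylow_le_fcore hQM hQn.norm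
  refine ⟨hP1, hsdp, hder, hp, hq, ?_, ?_, hQM, hQn, hQF, hQD, hKQ, hnilD,
    ⟨hQ₀Q.trans hQn.le, hMQ₀⟩, hKs₀, hchief, hchief.minNormal, helem, ?_, hder ▸ hder2, ?_,
    fun X hX => ⟨fun h => (hC.1 h).2, fun h => hC.2 ⟨hX, h⟩⟩,
    fun X hX => ⟨fun h => (commutator_mono hKQ le_rfl).trans (hC.1 h).2, fun h => ?_⟩,
    lt_of_le_of_ne hCσ fun h => hnn (h ▸ fit_nil M)⟩
  · exact hqe ▸ card_dvd_of_le (hKQ.trans hQF)
  · by_contra hβ
    have h1 := (t10_8c hG hM hβ).2.1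
    have h2 := h1.eq_of_normal (le_norm_piCoreOf _ _) hD
    refine hDQ (le_cent_of_norm_of_disj hQD.norm ?_ hQD.disj')
    exact h2 ▸ hQ.le.trans (le_norm_piCoreOf _ _)
  · rw [← hcard, card_mul_card_quot hQQ₀ hQ₀Q]
  · refine le_antisymm (sup_le hQC (hC.2 ⟨inf_le_left, ?_⟩)) (hCeq.ge.trans (sup_le_sup_left
      (le_inf (inf_le_left.trans hDM) hDC) _))
    rw [commutator_eq_bot_iff''.2 inf_le_right]
    exact bot_le
  · have hB : ∀ {X : Subgroup G}, X ≤ a15_qcent Q₀ (sigmaCore M) (kstar M K) ↔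
        X ≤ sigmaCore M ∧ ⁅kstar M K, X⁆ ≤ Q₀ := a15_le_qcent (hσM.trans hMQ₀) (hKQ.trans hQQ₀)
    have hBK : K ≤ 𝐍(a15_qcent Q₀ (sigmaCore M) (kstar M K)) :=
      a15_norm_qcent hKQ₀ hsdp.norm (le_norm_of_le_cent (le_cent_kstar M K))
    generalize a15_qcent Q₀ (sigmaCore M) (kstar M K) = B at hB hBK
    have hBσ := (hB.1 le_rfl).1
    have hBM : M ≤ 𝐍(B) := by
      rw [← hsdp.sup]
      refine sup_le (NormalIn.of_der_le (hder2.trans (hB.2 ⟨hCσ, ?_⟩)) hBσ).norm hBK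
      exact (commutator_mono hKQ le_rfl).trans (hC.1 le_rfl).2
    have hBn := (hBσ.trans hσM).trans hMQ₀
    have h1 := hchief.minNormal.le_of_inf_ne_bot (N := 𝐂(quot Q₀ B))
      (norms_cent (quot_normalizer Q₀ hBM)) (ne_bot_of_le (H := quot Q₀ (kstar M K))
        (ne_bot_of_card_prime (hcardKs ▸ hq)) (le_inf (quot_mono Q₀ hKQ)
        ((quot_le_centralizer_iff (hKQ.trans hQQ₀) hBn).2 (hB.1 le_rfl).2)))
    exact hC.2 ⟨hX.trans hσM, (commutator_mono le_rfl (hB.2 ⟨hX, h⟩)).trans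
      ((quot_le_centralizer_iff hQQ₀ hBn).1 h1)⟩

/-- BG 15.2, second part: `M_F ≠ M_σ`. -/
theorem t15_2 (hG : IsMinSimpleOddOrder G) {M K D : Subgroup G} (hM : IsCoatom M)
    (hK : Hall (kappa M) K M) (hne : fittingHallOf M ≠ sigmaCore M)
    (hD : Hall {Nat.card (kstar M K)}ᶜ D (sigmaCore M)) :
    FcoreCtx M K (Nat.card (kstar M K)) (piCoreOf {Nat.card (kstar M K)} M) D
      (piCoreOf {Nat.card (kstar M K)} M ⊓ 𝐂(D)) := by
  obtain ⟨D', hD', -, h⟩ := t15_2_ex hG hM hK hne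
  obtain ⟨g, hg, rfl⟩ := hall_conj (mmax_sub_sol hG hM (sigmaCore_le M)) hD' hD
  have h1 := h.normalQ₀.cj_eq (sigmaCore_le M hg)
  rw [cj_inf, cj_cent, h.normalQ.cj_eq (sigmaCore_le M hg)] at h1
  rw [h1]
  exact { h with sdpQ := h.sdpQ.cj_right hg, nilD := nilpotent_cj.2 h.nilD }

/-- BG 15.2, first part (Coq `Fcore_structure`). -/
theorem t15_2_chain (hG : IsMinSimpleOddOrder G) {M : Subgroup G} (hM : IsCoatom M) :
    fittingHallOf M ≠ ⊥ ∧ fittingHallOf M ≤ sigmaCore M ∧ sigmaCore M ≤ ⁅M, M⁆ ∧ ⁅M, M⁆ < M := by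
  refine ⟨?_, fcore_le_sigmaCore hG hM, t10_2c hG hM,
    der_lt_of_solvable (mmax_sol hG hM) (mmax_ne_bot hG hM)⟩
  by_cases hne : fittingHallOf M = sigmaCore M
  · exact hne ▸ t10_2e hG hM
  · obtain ⟨K, hK⟩ := hall_exists (kappa M) (mmax_sol hG hM)
    obtain ⟨D, -, -, h⟩ := t15_2_ex hG hM hK hne
    exact ne_bot_of_le (ne_bot_of_card_prime h.prime_q) (h.kstar_le.trans h.Q_le)

end CL.BG
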