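import Cfsg.Agent.BG.T15_4
import Cfsg.Agent.BG.T10_2q

/-! # Bender-Glauberman Corollary 15.5 -/

namespace CL.BG

open Cfsg Subgroup

variable {G : Type*} [Group G] [Finite G]

theorem a15_fcore_isHall_sigma (hG : IsMinSimpleOddOrder G) {M : Subgroup G} (hM : IsCoatom M) :
    IsHall (fittingHallOf M) (sigmaCore M) :=
  (fcore_isHall M).restrict (fcore_le_sigmaCore hG hM) (sigmaCore_le M)

theorem a15_fit_dp (M : Subgroup G) :
    DP (fittingOf (sigmaCore M)) (piCoreOf (sigma M)ᶜ (fittingOf M)) (fittingOf M) := by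
  rw [sigmaCore_def, fit_core]
  exact nil_core_dp (fit_nil M) _

/-- BG 15.5(a) (Coq `Fitting_structure`). -/
theorem t15_5a (hG : IsMinSimpleOddOrder G) {M : Subgroup G} (hM : IsCoatom M) :
    IsCyclic ↥(piCoreOf (sigma M)ᶜ (fittingOf M)) ∧
      PiGrp (tau2 M) (piCoreOf (sigma M)ᶜ (fittingOf M)) :=
  t15_3a' hG hM (a15_fcore_isHall_sigma hG hM) (t15_2_chain hG hM).1
    (le_inf (core_fit_normal _ M).le (PiGrp.le_cent (piGrp_piCoreOf _ _)
      (piGrp_compl_compl.2 (fcore_piGrp_sigma hG hM))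
      ((core_fit_normal _ M).le.trans (fcore_normal M).norm)
      ((fcore_le M).trans (core_fit_normal _ M).norm))) (piGrp_piCoreOf _ _)

/-- BG 15.5(b). -/
theorem t15_5b (hG : IsMinSimpleOddOrder G) {M : Subgroup G} (hM : IsCoatom M) :
    ⁅⁅M, M⁆, ⁅M, M⁆⁆ ≤ fittingOf M ∧
      fittingHallOf M ⊔ (M ⊓ 𝐂(fittingHallOf M)) = fittingOf M ∧
      DP (fittingOf (sigmaCore M)) (piCoreOf (sigma M)ᶜ (fittingOf M)) (fittingOf M) := by
  obtain ⟨K, hK⟩ := hall_exists (kappa M) (mmax_sol hG hM)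
  have key : ⁅⁅M, M⁆, ⁅M, M⁆⁆ ≤ fittingOf M ∧ M ⊓ 𝐂(fittingHallOf M) ≤ fittingOf M := by
    by_cases hne : fittingHallOf M = sigmaCore M
    · obtain ⟨U, hU⟩ := t14_2_ex hG hM hK
      refine ⟨(t15_1a hG hM hU).2.2.2.trans (hne ▸ fcore_le_fittingOf M), ?_⟩
      obtain ⟨X, hc, -, hsdp⟩ :=
        t15_3a hG hM (a15_fcore_isHall_sigma hG hM) (t15_2_chain hG hM).1
      refine le_fit_of_comm (NormalIn.inf_cent (fcore_normal M).norm) ?_
      rw [← hsdp.sup]
      refine comm_sup (hne ▸ comm_center _) (comm_of_isCyclic hc) ?_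
      exact (hsdp.right_le.trans inf_le_right).trans (cent_anti (hne ▸ inf_le_left))
    · obtain ⟨D, -, -, h⟩ := t15_2_ex hG hM hK hne
      exact ⟨h.der2_le, ((inf_le_inf_left _ (cent_anti h.Q_le)).trans le_sup_right).trans
        h.fitting_eq.le⟩
  refine ⟨key.1, le_antisymm (sup_le (fcore_le_fittingOf M) key.2) ?_, a15_fit_dp M⟩
  have h1 := nil_core_dp (fit_nil M) (primesOf (fittingHallOf M))
  rw [← nil_hall_eq_core (fit_nil M)
    ((fcore_hall M).restrict (fcore_le_fittingOf M) (fit_le M))] at h1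
  exact h1.sup.ge.trans (sup_le_sup_left (le_inf (h1.right_le.trans (fit_le M)) h1.cent) _)

/-- BG 15.5(c). -/
theorem t15_5c (hG : IsMinSimpleOddOrder G) {M : Subgroup G} (hM : IsCoatom M) :
    fittingHallOf M ≤ ⁅M, M⁆ ∧ Group.IsNilpotent (quot (fittingHallOf M) ⁅M, M⁆) := by
  refine ⟨(fcore_le_sigmaCore hG hM).trans (t10_2c hG hM), ?_⟩
  by_cases hne : fittingHallOf M = sigmaCore M
  · exact hne ▸ t10_2d_nil_quot_sigma hG hM
  · obtain ⟨K, hK⟩ := hall_exists (kappa M) (mmax_sol hG hM)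
    obtain ⟨D, -, -, h⟩ := t15_2_ex hG hM hK hne
    have hn := (h.sdpQ.right_le.trans (sigmaCore_le M)).trans (fcore_normal M).norm
    refine nilpotent_of_le (quot_isNilpotent (fittingHallOf M) h.nilD) ?_
    rw [← h.sigma_eq, ← h.sdpQ.sup, ← quot_self_sup hn]
    exact quot_mono _ (sup_le_sup_right h.Q_le _)

/-- BG 15.5(d). -/
theorem t15_5d (hG : IsMinSimpleOddOrder G) {M : Subgroup G} (hM : TypeP M) :
    fittingOf M ≤ ⁅M, M⁆ := by
  obtain ⟨K, hK⟩ := hall_exists (kappa M) (mmax_sol hG hM.coatom)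
  obtain ⟨U, hU⟩ := t14_2_ex hG hM.coatom hK
  have h1 := (t15_1b hG hM.coatom hU (hM.hall_ne_bot hK)).1
  rw [← (a15_fit_dp M).sup]
  refine sup_le ((fit_le _).trans h1.left_le) (le_trans ?_ h1.right_le)
  refine hU.hallU.normal_le (core_fit_normal _ M) ((t15_5a hG hM.coatom).2.mono fun p hp h => ?_)
  exact h.elim (not_mem_sigma_of_tau2 hp) (not_mem_kappa_of_tau2 hp)

end CL.BG
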