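import Cfsg.Agent.BG.T15_5
import Cfsg.Agent.BG.PAmb

/-! # Bender-Glauberman Corollary 15.6 -/

namespace CL.BG

open Cfsg Subgroup

variable {G : Type*} [Group G] [Finite G]

/-- BG 15.6 (Coq `Ptype_cyclics`). -/
theorem t15_6 (hG : IsMinSimpleOddOrder G) {M K : Subgroup G} (hM : TypeP M)
    (hK : Hall (kappa M) K M) :
    kstar M K ≠ ⊥ ∧ IsCyclic ↥(kstar M K) ∧ kstar M K ≤ ⁅⁅M, M⁆, ⁅M, M⁆⁆ ∧
      kstar M K ≤ fittingHallOf M ∧ ¬ IsCyclic (fittingHallOf M) := by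
  have hMc := hM.coatom
  obtain ⟨Ms, hMs⟩ := t14_7 hG hM hK
  have h1 := t14_2c_ne hG hMc hK
  have h2 : kstar M K ≤ ⁅⁅M, M⁆, ⁅M, M⁆⁆ := by
    refine le_trans (inf_le_inf_right _ (t10_2c hG hMc)) (t6_3a hMs.sdp ?_
      (mmax_sub_sol hG hMc (NormalIn.der M).le) le_rfl).2
    have := hK.coprime
    rw [hMs.sdp.relIndex_right] at this
    exact this.symm
  refine ⟨h1, isCyclic_of_le hMs.cyclic le_sup_right, h2, ?_, fun hc => h1 (eq_bot_iff.2 ?_)⟩
  · by_cases hne : fittingHallOf M = sigmaCore M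
    · exact hne ▸ inf_le_left
    · obtain ⟨D, -, -, h⟩ := t15_2_ex hG hMc hK hne
      exact h.kstar_le.trans h.Q_le
  · obtain ⟨-, h3, h4⟩ := t15_5b hG hMc
    have h5 : ⁅M, M⁆ ≤ fittingOf M := ((le_inf (NormalIn.der M).le
      (cyc_der_le_cent hc (fcore_normal M).norm)).trans le_sup_right).trans h3.le
    have h6 := fcore_eq_sigmaCore hG hMc (nil_of_le_fit ((t10_2c hG hMc).trans h5))
    have h7 := h4.comm (comm_of_le (comm_of_isCyclic hc) (h6 ▸ fit_le _))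
      (comm_of_isCyclic (t15_5a hG hMc).1)
    rw [← commutator_eq_bot_iff'.2 (le_cent_of_comm h7)]
    exact h2.trans (commutator_mono h5 h5)

end CL.BG
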