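import Cfsg.Agent.Base
import Cfsg.Agent.BG.Defs
import Cfsg.Agent.BG.A2_ExtraAmb
import Cfsg.Agent.BG.Quot

set_option autoImplicit false

namespace CL.BG

open Cfsg Subgroup

variable {G : Type*} [Group G] [Finite G]

/-- BG 2.5 (group-theoretic conclusion), ambient hypotheses: `P` has centre of order `p`
containing `P'`, `|P| = p ^ (2n+1)`, `H` cyclic of order prime to `p` normalises `P` and
`C_P(x) = Z(P)` for `x ∈ H^#`.  Then `|H|` divides `p^n + 1` or `p^n - 1`. -/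
theorem t2_5a {p n : ℕ} (hp : p.Prime) {P H : Subgroup G} (hZ : Nat.card ↥𝐙(P) = p)
    (hder : ⁅P, P⁆ ≤ 𝐙(P)) (hcard : Nat.card P = p ^ (2 * n + 1)) (hHP : H ≤ 𝐍(P))
    (hH : IsCyclic H) (hcop : (Nat.card H).Coprime p)
    (hC : ∀ x ∈ H, x ≠ 1 → P ⊓ 𝐂₁(x) = 𝐙(P)) :
    Nat.card H ∣ p ^ n + 1 ∨ Nat.card H ∣ p ^ n - 1 := by
  obtain ⟨g, -, rfl⟩ := exists_zpowers_of_isCyclic hH
  rw [Nat.card_zpowers] at hcop ⊢
  have hZp : (Nat.card ↥𝐙(P)).Prime := hZ ▸ hp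
  obtain ⟨z, hz, hz1⟩ := exists_ne_one_of_ne_bot (ne_bot_of_card_prime hZp)
  have hZg : 𝐙(P) ≤ 𝐂₁(g) := by
    by_cases hg : g = 1
    · rw [hg, cent1_one]; exact le_top
    · rw [← hC g (mem_zpowers g) hg]; exact inf_le_right
  have hzL : z ∈ P ⊔ zpowers g := mem_sup_left hz.1
  obtain ⟨d, h1, h2, -⟩ := extra_rep_amb (F := ℂ) (K := P) (Z := 𝐙(P)) (g := g) rfl hHP
    (Representation.leftRegular ℂ ↥(P ⊔ zpowers g)) (by exact_mod_cast (card_pos' P).ne')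
    (by exact_mod_cast (orderOf_pos g).ne') (by rw [hcard]; exact (hcop.symm).pow_left _) le_rfl
    hZg hder (fun a ha h1 => (hC a ha h1).le) (z₀ := ⟨z, hzL⟩) hz
    (by
      intro h
      have h1 := Representation.ofMulAction_single (k := ℂ) (⟨z, hzL⟩ : ↥(P ⊔ zpowers g))
        (1 : ↥(P ⊔ zpowers g)) 1
      rw [show Representation.ofMulAction ℂ _ _ (⟨z, hzL⟩ : ↥(P ⊔ zpowers g)) = 1 from h,
        Module.End.one_apply, smul_eq_mul, mul_one,
        MonoidAlgebra.single_left_inj one_ne_zero] at h1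
      exact hz1 (congrArg Subtype.val h1).symm)
    (by
      intro N _ hzN x hx h
      refine ⟨hx, mem_cent.2 fun y hy => ?_⟩
      rcases le_or_inf_eq_bot_of_prime hZp N with h1 | h1
      · exact absurd (h1 hz) hzN
      have h2 : y * x * y⁻¹ * x⁻¹ ∈ 𝐙(P) ⊓ N :=
        ⟨hder (commutator_mem_commutator hy hx), h y hy⟩
      rwa [h1, mem_bot, mul_inv_eq_one, mul_inv_eq_iff_eq_mul] at h2)
  have h3 := card_mul_relIndex (show 𝐙(P) ≤ P from inf_le_left)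
  rw [hZ, hcard, ← h1, pow_succ' p, mul_comm 2 n, pow_mul] at h3
  have h4 : d = p ^ n := Nat.pow_left_injective two_ne_zero (Nat.eq_of_mul_eq_mul_left hp.pos h3)
  rwa [h4] at h2

/-- BG 2.5 (group-theoretic conclusion) for `Cfsg.IsExtraspecial`. -/
theorem t2_5a' {p n : ℕ} (hp : p.Prime) {P H : Subgroup G} (hP : IsExtraspecial p P)
    (hcard : Nat.card P = p ^ (2 * n + 1)) (hHP : H ≤ 𝐍(P))
    (hH : IsCyclic H) (hcop : (Nat.card H).Coprime p)
    (hC : ∀ x ∈ H, x ≠ 1 → P ⊓ 𝐂₁(x) = 𝐙(P)) :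
    Nat.card H ∣ p ^ n + 1 ∨ Nat.card H ∣ p ^ n - 1 := by
  refine t2_5a hp ?_ ?_ hcard hHP hH hcop hC
  · rw [← map_center_subtype, card_map_of_injective P.subtype_injective, hP.2]
  · rw [← map_center_subtype, ← hP.1.2.2, map_subtype_commutator]

end CL.BG
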