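import Cfsg.Agent.BG.T15_6
import Cfsg.Agent.BG.T2_5
import Cfsg.Agent.BG.T5_5
import Cfsg.Agent.BG.T5_7
import Cfsg.Agent.BG.T9_2
import Cfsg.Agent.BG.T9_6
import Cfsg.Agent.BG.T10_1
import Cfsg.Agent.BG.T10_7
import Cfsg.Agent.BG.T10_13
import Cfsg.Agent.BG.T12_13
import Cfsg.Agent.BG.T12_17

/-! # Bender-Glauberman Theorem 15.7 -/

namespace CL.BG

open Cfsg Subgroup

variable {G : Type*} [Group G] [Finite G]

theorem a15_7_setup (hG : IsMinSimpleOddOrder G) {M X : Subgroup G} (hM : IsCoatom M) {g : G}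
    (hg : g ∉ M) {p : ℕ} (hp : p.Prime) (hX : ElemN p 1 (fittingOf M ⊓ cj g (fittingOf M)) X) :
    p ∈ sigma M ∧ ¬ 𝐂(X) ≤ M ∧ ∀ Y : Subgroup G, Y ≤ M → Y ≤ 𝐂(X) → ¬ InUniqueMaximal Y := by
  have := Fact.mk hp
  have hX1 := hX.ne_bot hp one_pos
  have hσ : p ∈ sigma M := by
    by_contra hσ
    have key : ∀ L : Subgroup G, IsCoatom L → X ≤ fittingOf L → p ∉ sigma L → 𝐍(X) = L :=
      fun L hL h1 h2 => mmax_normal hG hL ((core_fit_normal _ L).of_isCyclic (t15_5a hG hL).1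
        (nil_le_core (fit_nil L) h1 (hX.piGrp hp h2))) hX1
    refine hg ((mmax_cj_eq_iff hG hM).1 ?_)
    rw [← key _ (mmax_cj g hM) (cj_fit g M ▸ hX.le.trans inf_le_right) (by rwa [sigma_cj]),
      key M hM (hX.le.trans inf_le_left) hσ]
  have hC : ¬ 𝐂(X) ≤ M := fun h => hg (M.inv_mem_iff.1 (t10_1e hG hM hσ hX.isPGroup
    ((hX.le.trans inf_le_left).trans (fit_le M)) h (le_cj_iff_cj_inv_le.1
      ((hX.le.trans inf_le_right).trans (cj_mono g (fit_le M))))))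
  exact ⟨hσ, hC, fun Y h1 h2 h3 => hC ((inU_uniqMax h3 hM h1).le_of_le h2 (mFT_cent_ne_top hG hX1))⟩

/-- BG 15.7(a)-(c) (Coq `nonTI_Fitting_structure`; in (c) only `M' ≤ F(M)`, as in Coq). -/
theorem t15_7abc (hG : IsMinSimpleOddOrder G) {M : Subgroup G} (hM : IsCoatom M) {g : G}
    (hg : g ∉ M) (hX : fittingOf M ⊓ cj g (fittingOf M) ≠ ⊥) :
    ((TypeF M ∨ TypeP1 M) ∧ fittingHallOf M = sigmaCore M) ∧
      (fittingOf M ⊓ cj g (fittingOf M) ≤ fittingHallOf M ∧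
        IsCyclic ↥(fittingOf M ⊓ cj g (fittingOf M))) ∧
      (⁅M, M⁆ ≤ fittingOf M ∧
        DP (sigmaCore M) (piCoreOf (sigma M)ᶜ (fittingOf M)) (fittingOf M)) := by
  have hπ : PiGrp (sigma M) (fittingOf M ⊓ cj g (fittingOf M)) := fun p hp hd => by
    obtain ⟨X, hX⟩ := exists_elemN_one_of_dvd hp hd
    exact (a15_7_setup hG hM hg hp hX).1
  have hXσ := le_sigmaCore hG hM (inf_le_left.trans (fit_le M)) hπ
  have hXg : fittingOf M ⊓ cj g (fittingOf M) ≤ cj g M := inf_le_right.trans (cj_mono g (fit_le M))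
  obtain ⟨p, hp, X, hX₁⟩ := a13_exists_elem hX
  have := Fact.mk hp
  obtain ⟨-, -, hU⟩ := a15_7_setup hG hM hg hp hX₁
  have hder : ⁅M, M⁆ ≤ fittingOf M := by
    refine t5_7 (mmax_sol hG hM) (mFT_odd hG M) (hX₁.le.trans inf_le_left) hX₁.elem ?_
    by_contra h
    have h1 : fittingOf M ⊓ 𝐂(X) ≤ M := inf_le_left.trans (fit_le M)
    exact hU _ h1 inf_le_right (t9_6a hG (mmax_sub_ne_top hM h1) (by omega))
  have hnil : Group.IsNilpotent (sigmaCore M) := nil_of_le_fit ((t10_2c hG hM).trans hder)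
  have hH := fcore_eq_sigmaCore hG hM hnil
  refine ⟨⟨?_, hH⟩, ⟨hH ▸ hXσ, isCyclic_of_le (t12_17b hG hM hg).1 (le_inf hXσ hXg)⟩, hder, ?_⟩
  · refine (typeF_or_typeP hM).imp_right fun h => h.typeP1_of_not_p2 fun h2 => hX ?_
    obtain ⟨K, hK⟩ := hall_exists (kappa M) (mmax_sol hG hM)
    rw [eq_bot_iff, ← (t14_2g hG h2 hK).2.2.2.inf_cj_eq_bot hg, ← sigmaCore_cj]
    exact le_inf hXσ (le_sigmaCore hG (mmax_cj g hM) hXg (by rwa [sigma_cj]))
  · have := a15_fit_dp M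
    rwa [fit_eq_self hnil] at this

/-- BG 15.7(d). -/
theorem t15_7d (hG : IsMinSimpleOddOrder G) {M E E₁ E₂ E₃ : Subgroup G} (hM : IsCoatom M) {g : G}
    (hg : g ∉ M) (hX : fittingOf M ⊓ cj g (fittingOf M) ≠ ⊥) (hE : SigmaCompl M E E₁ E₂ E₃) :
    E₃ = ⊥ ∧ SDP E₂ E₁ E ∧ IsCyclic E₁ := by
  have h1 : E₃ ≤ fittingOf M := ((t12_1b hG hM hE.hallE hE.hall3).1.trans
    (commutator_mono hE.hallE.le hE.hallE.le)).trans (t15_7abc hG hM hg hX).2.2.1
  have h3 : E₃ = ⊥ := ((t15_5a hG hM).2.of_le (nil_le_core (fit_nil M) h1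
    (hE.hallE.pi.of_le hE.hall3.le))).eq_bot (hE.hall3.pi.mono fun _ h => not_mem_tau2_of_tau3 h)
  refine ⟨h3, ?_, t12_1d1 hG hM (hE.hall1.le.trans hE.hallE.le) hE.hall1.pi⟩
  have := (t12_1e hG hM hE).2.2.2.1
  rwa [h3, bot_sup_eq] at this

omit [Finite G] in
theorem SDP.a15_pow_mem {K H L : Subgroup G} (h : SDP K H L) {n : ℕ} (hn : ∀ u ∈ H, u ^ n = 1)
    {x : G} (hx : x ∈ L) : x ^ n ∈ K := by
  obtain ⟨k, hk, u, hu, rfl⟩ := h.exists_mul hx
  have hk' : k ∈ 𝐍(K) := le_normalizer hk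
  rw [← coset_eq_one_iff (pow_mem (h.le_norm hx) n), coset_pow (h.le_norm hx),
    coset_mul hk' (h.norm hu), (coset_eq_one_iff hk').2 hk, one_mul, ← coset_pow (h.norm hu),
    hn u hu, coset_one]

/-- the nonabelian case of 15.7(e): the structure of `X` and of `O_p(H)` -/
theorem a15_7_nonab (hG : IsMinSimpleOddOrder G) {M : Subgroup G} (hM : IsCoatom M) {g : G}
    (hg : g ∉ M) (hX : fittingOf M ⊓ cj g (fittingOf M) ≠ ⊥)
    (hna : ¬ IsMulCommutative (sigmaCore M)) :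
    ∃ p : ℕ, p = Nat.card ↥(fittingOf M ⊓ cj g (fittingOf M)) ∧ p.Prime ∧ p ∈ sigma M ∧
      p ∉ beta M ∧ ¬ IsMulCommutative (piCoreOf {p} (sigmaCore M)) ∧
      IsCyclic (piCoreOf {p}ᶜ (sigmaCore M)) ∧ Narrow p (piCoreOf {p} (sigmaCore M)) ∧
      Nat.card (omegaOne p 𝐙(piCoreOf {p} (sigmaCore M))) = p := by
  obtain ⟨⟨-, hH⟩, ⟨hXH, hXc⟩, -⟩ := t15_7abc hG hM hg hX
  rw [hH] at hXH
  have hnil := (fcore_eq_sigmaCore_iff hG hM).1 hH
  have hXg : fittingOf M ⊓ cj g (fittingOf M) ≤ cj g M := inf_le_right.trans (cj_mono g (fit_le M))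
  have hset := fun p hp X hX => a15_7_setup hG hM hg (p := p) hp (X := X) hX
  generalize fittingOf M ⊓ cj g (fittingOf M) = X at hX hXH hXc hXg hset
  obtain ⟨p, hp, hP⟩ : ∃ p : ℕ, p.Prime ∧ ¬ IsMulCommutative (piCoreOf {p} (sigmaCore M)) := by
    by_contra hc
    push Not at hc
    exact hna (nil_comm_of_forall_core_comm hnil fun p hp _ => hc p hp)
  have := Fact.mk hp
  have hPp := isPGroup_piCoreOf hp (sigmaCore M)
  have hPσ := piCoreOf_le {p} (sigmaCore M)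
  have hPM := hPσ.trans (sigmaCore_le M)
  have hPU := t12_13 hG hPp hP
  have hXp : IsPGroup p X := (piGrp_singleton_iff hp).1 fun r hr hd => by
    by_contra hrp
    obtain ⟨Y, hY⟩ := exists_elemN_one_of_dvd hr hd
    exact (hset r hr Y hY).2.2 _ hPM (nil_cent_of_pi hnil hPσ (hY.le.trans hXH)
      (piGrp_piCoreOf _ _) (hY.piGrp hr hrp)) hPU
  have hXP : X ≤ piCoreOf {p} (sigmaCore M) := nil_pgroup_le_core hnil hXH hXp
  obtain ⟨X₁, hX₁⟩ := exists_elemN_one_of_isPGroup hp hXp hX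
  obtain ⟨hpσ, -, hU⟩ := hset p hp X₁ hX₁
  have hX₁P := hX₁.le.trans hXP
  have hcyc : IsCyclic (piCoreOf {p}ᶜ (sigmaCore M)) := by
    have h1 := piCoreOf_le {p}ᶜ (sigmaCore M)
    have h2 := core_compl_le_cent_core {p} (sigmaCore M)
    rw [isCyclic_iff_rank_le_one_of_nilpotent (nilpotent_of_le hnil h1) (mFT_odd hG _)]
    by_contra h
    exact hU _ (h1.trans (sigmaCore_le M)) (h2.trans (cent_anti hX₁P)) (t9_2 hG hPU h2 (by omega))
  suffices h : p = Nat.card X ∧ Narrow p (piCoreOf {p} (sigmaCore M)) ∧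
      Nat.card (omegaOne p 𝐙(piCoreOf {p} (sigmaCore M))) = p from ⟨p, h.1, hp, hpσ,
    (t12_17b hG hM hg).2.1.mem_of_isPGroup hp hXp hX (le_inf hXH hXg), hP, hcyc, h.2⟩
  generalize piCoreOf {p} (sigmaCore M) = P at *
  have hP1 : P ≠ ⊥ := ne_bot_of_le hX hXP
  have hX₁Z : ¬ X₁ ≤ 𝐂(P) := fun h => hU P hPM (cent_symm h) hPU
  obtain ⟨Z₁, hZ₁⟩ := exists_elemN_one_of_isPGroup hp (hPp.to_le (inf_le_left : 𝐙(P) ≤ P))
    (center_ne_bot_of_isPGroup hp hPp hP1)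
  have hZ₁P : Z₁ ≤ 𝐂(P) := hZ₁.le.trans inf_le_right
  have hB : ElemN p 2 P (X₁ ⊔ Z₁) := (hX₁.of_le hX₁P).sup_of_ne (hZ₁.mono inf_le_left) hp
    (fun h => hX₁Z (h ▸ hZ₁P)) (hZ₁P.trans (cent_anti hX₁P))
  have hBm : MaxElem p ⊤ (X₁ ⊔ Z₁) := by
    by_contra h
    exact hU _ (hB.le.trans hPM) (hB.le_cent_of_le le_rfl le_sup_left) (t9_6c hG hB.top h)
  obtain ⟨hZ₀, ⟨Z, -, -, hdp⟩, -⟩ := t10_13 hG hB.top hBm hPp hB.le hP
  replace hdp := hdp X₁ (hX₁.of_le le_sup_left)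
    fun h => hX₁Z (h ▸ omegaOne_center_le_cent p P)
  have hXX : X = X₁ := by
    have h1 := hdp.modl' hX₁.le (le_inf hXP (by
      rw [cent_sup]
      exact le_inf (le_cent_of_comm_of_le (comm_of_isCyclic hXc) le_rfl hX₁.le)
        (hXP.trans (cent_symm hZ₁P))))
    rcases le_total_of_isCyclic hp hXc hXp h1.left_le h1.right_le with h | h
    · exact absurd (by rw [← h1.disj, inf_eq_left.2 h]) (hX₁.ne_bot hp one_pos)
    · rw [← h1.sup, sup_eq_left.2 h]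
  exact ⟨by rw [hXX, hX₁.card_one], narrow_of_maxElem hB (hBm.of_top hB.le), hZ₀.card_one⟩

/-- BG 15.7(e); `M / H` has exponent dividing `n` is written `∀ x ∈ M, x ^ n ∈ H`. -/
theorem t15_7e (hG : IsMinSimpleOddOrder G) {M : Subgroup G} (hM : IsCoatom M) {g : G}
    (hg : g ∉ M) (hX : fittingOf M ⊓ cj g (fittingOf M) ≠ ⊥) :
    (TypeF M ∧ IsMulCommutative (fittingHallOf M) ∧ rank (fittingHallOf M) = 2) ∨
      ∃ p : ℕ, p = Nat.card ↥(fittingOf M ⊓ cj g (fittingOf M)) ∧ p.Prime ∧ p ∈ sigma M ∧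
        p ∉ beta M ∧ ¬ IsMulCommutative (piCoreOf {p} (fittingHallOf M)) ∧
        IsCyclic (piCoreOf {p}ᶜ (fittingHallOf M)) ∧
        ((∀ q : ℕ, q.Prime → q ∣ Nat.card (fittingHallOf M) →
            ∀ x ∈ M, x ^ (q - 1) ∈ fittingHallOf M) ∨
          (Nat.card (piCoreOf {p} (fittingHallOf M)) = p ^ 3 ∧ TypeP1 M ∧
            (fittingHallOf M).relIndex M ∣ p + 1)) := by
  obtain ⟨⟨hty, hH⟩, ⟨hXH, -⟩, hder, hdp⟩ := t15_7abc hG hM hg hX
  have hnil := (fcore_eq_sigmaCore_iff hG hM).1 hH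
  obtain ⟨K, hK⟩ := hall_exists (kappa M) (mmax_sol hG hM)
  obtain ⟨U, hU⟩ := t14_2_ex hG hM hK
  rw [hH] at hXH ⊢
  have hσn := sigmaCore_normal M
  by_cases hab : IsMulCommutative (sigmaCore M)
  · obtain ⟨p, hp, X, hX₁⟩ := a13_exists_elem hX
    obtain ⟨-, hC, hu⟩ := a15_7_setup hG hM hg hp hX₁
    refine Or.inl ⟨hty.resolve_right fun h => ?_, hab, le_antisymm ?_ ?_⟩
    · obtain ⟨h1, -, h2, -⟩ := t15_6 hG h.typeP hK
      refine h1 (eq_bot_iff.2 ((h2.trans (commutator_mono hder hder)).trans ?_))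
      exact (commutator_eq_bot_iff'.2 (le_cent_of_comm
        (hdp.comm hab (comm_of_isCyclic (t15_5a hG hM).1)))).le
    · by_contra h
      exact hu _ hσn.le (le_cent_of_comm_of_le hab le_rfl (hX₁.le.trans hXH))
        (t9_6a hG (mmax_sub_ne_top hM hσn.le) (by omega))
    · by_contra h
      have hc := (isCyclic_iff_rank_le_one_of_comm hab).2 (by omega)
      exact hC ((cent_le_norm X).trans (mmax_normal hG hM (hσn.of_isCyclic hc (hX₁.le.trans hXH))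
        (hX₁.ne_bot hp one_pos)).le)
  obtain ⟨p, hpe, hp, hpσ, hpβ, hP, hcyc, hnar, hZ₀⟩ := a15_7_nonab hG hM hg hX hab
  refine Or.inr ⟨p, hpe, hp, hpσ, hpβ, hP, hcyc, ?_⟩
  have := Fact.mk hp
  have hPn : piCoreOf {p} (sigmaCore M) ⊴ M := hσn.piCoreOf_trans _
  have hPs := nil_sylow_core hnil p
  have hcd := nil_core_dp hnil {p}
  have hOn : piCoreOf {p}ᶜ (sigmaCore M) ⊴ M := hσn.piCoreOf_trans _
  have hOπ := piGrp_piCoreOf {p}ᶜ (sigmaCore M)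
  have hOh := nil_hall_core hnil {p}ᶜ
  generalize piCoreOf {p} (sigmaCore M) = P at *
  generalize piCoreOf {p}ᶜ (sigmaCore M) = O at *
  have hZ₀n : omegaOne p 𝐙(P) ⊴ M := hPn.center_trans.omegaOne p
  have hZ₀P := omegaOne_center_le p P
  -- normal subgroups of prime order in `H`
  have hZq : ∀ q : ℕ, q.Prime → q ∣ Nat.card (sigmaCore M) → q ≠ p →
      ∃ Z : Subgroup G, Z ⊴ M ∧ Z ≤ O ∧ Nat.card Z = q := fun q hq hd hqp => by
    obtain ⟨Z, hZ⟩ := exists_elemN_one_of_dvd hq ((hOh.dvd_card_iff hq hqp).2 hd)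
    exact ⟨Z, hOn.of_isCyclic hcyc hZ.le, hZ.le, hZ.card_one⟩
  rcases hty with hF | hP1
  · refine Or.inl fun q hq hd x hx => ?_
    obtain ⟨V, hV, he, hreg⟩ := t15_1e hG hM hU
    have hsdp := (t14_2a hG hM hU).2.2.1
    rw [hF.hall_eq_bot hK, sup_bot_eq] at hsdp
    have hdv : Nat.card V ∣ q - 1 := by
      by_cases hqp : q = p
      · rw [hqp, ← hZ₀]
        exact (hreg.mono_left (hZ₀P.trans hPs.le)).card_dvd_pred ((hV.trans hU.U_le).trans hZ₀n.norm)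
      · obtain ⟨Z, h1, h2, h3⟩ := hZq q hq hd hqp
        rw [← h3]
        exact (hreg.mono_left (h2.trans hOh.le)).card_dvd_pred ((hV.trans hU.U_le).trans h1.norm)
    refine hsdp.a15_pow_mem (fun u hu => ?_) hx
    have h1 : Monoid.exponent U ∣ q - 1 := he ▸ Group.exponent_dvd_nat_card.trans hdv
    exact congrArg Subtype.val (Monoid.exponent_dvd_iff_forall_pow_eq_one.1 h1 ⟨u, hu⟩)
  have hsdp := (t14_2a hG hM hU).2.2.1
  rw [(hU.typeP1_iff hP1.typeP).1 hP1, bot_sup_eq] at hsdp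
  have hpr := t14_2a_prime hG hM hK
  have hK1 := hP1.typeP.hall_ne_bot hK
  have hKc := t14_7_cyclic hG hM hK
  obtain ⟨Ms, hMs⟩ := t14_7 hG hP1.typeP hK
  have hKs : (Nat.card (kstar M K)).Prime := (hMs.typeP2.resolve_left fun h => hP1.not_typeP2 h.1).2
  have hKsP : kstar M K ≤ P := by
    have h1 := hsdp.der_le_left (comm_of_isCyclic hKc)
    refine ((t15_6 hG hP1.typeP hK).2.2.1.trans (commutator_mono h1 h1)).trans ?_
    exact hcd.sdp.der_le_left (comm_of_isCyclic hcyc)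
  have hdvd : ∀ Z : Subgroup G, Z ⊴ M → Z ≤ sigmaCore M → Z ⊓ kstar M K = ⊥ →
      Nat.card K ∣ Nat.card Z - 1 := fun Z h1 h2 h3 =>
    (hpr.semiregular_of_le h2 le_rfl hK1 (eq_bot_iff.2 (h3 ▸ le_inf inf_le_left
      (inf_le_inf_right _ h2)))).card_dvd_pred (hK.le.trans h1.norm)
  by_cases hKp : Nat.card K ∣ p - 1
  · refine Or.inl fun q hq hd x hx => ?_
    have hdv : Nat.card K ∣ q - 1 := by
      by_cases hqp : q = p
      · exact hqp ▸ hKp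
      · obtain ⟨Z, h1, h2, h3⟩ := hZq q hq hd hqp
        exact h3 ▸ hdvd Z h1 (h2.trans hOh.le)
          (eq_bot_iff.2 (hcd.sdp.disj' ▸ inf_le_inf h2 hKsP))
    obtain ⟨c, hc⟩ := hdv
    rw [hc, pow_mul, ← hsdp.relIndex_left]
    exact pow_mem (pow_relIndex_mem hσn.norm hx) c
  right
  have hZK : omegaOne p 𝐙(P) ≤ kstar M K :=
    (le_or_inf_eq_bot_of_prime (hZ₀.symm ▸ hp) _).resolve_right fun h =>
      hKp (hZ₀ ▸ hdvd _ hZ₀n (hZ₀P.trans hPs.le) h)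
  have hKP : K ≤ 𝐍(P) := hK.le.trans hPn.norm
  have hKp' : PiGrp {p}ᶜ K :=
    hK.pi.kappa_sigma'.mono' fun r _ _ h e => h (by rwa [Set.mem_singleton_iff.1 e])
  have hr : pRank p P ≤ 2 := by
    by_contra hr
    obtain ⟨x, hx, hKx⟩ := exists_zpowers_of_isCyclic hKc
    have h1 := t5_5b hPs.isPGroup (mFT_odd hG P) hnar (by omega) (hKP hx) (mFT_odd_orderOf hG x)
      (hKp'.piElt hx)
    refine hKp ?_
    rw [hKx, Nat.card_zpowers, orderOf_dvd_iff_pow_eq_one]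
    by_contra h2
    refine hP (comm_of_le (comm_of_isCyclic (isCyclic_of_card_prime hKs)) ?_)
    exact (le_inf hPs.le (le_cent1_iff.2 h1)).trans (hpr _ (pow_mem hx _) h2).le
  have hcop := a13_coprime_sigma hK.pi.kappa_sigma' ((inf_le_left : 𝐙(P) ≤ P).trans hPs.le)
  have hZ : 𝐙(P) = kstar M K := by
    refine eq_of_le_of_prime hKs (le_inf (inf_le_left.trans hPs.le) (cent_symm ?_))
      (ne_bot_of_le (ne_bot_of_card_prime (hZ₀.symm ▸ hp)) (omegaOne_le p _))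
    exact t1_6e_p (hPs.isPGroup.to_le inf_le_left) (norms_center hKP) hcop (comm_center P)
      (cent_symm (hZK.trans inf_le_right))
  have hKsc : Nat.card (kstar M K) = p := by
    rw [← hZ₀, eq_of_le_of_prime hKs hZK (ne_bot_of_card_prime (hZ₀.symm ▸ hp))]
  obtain ⟨S, C, -, hS, -, hC, hcp, hΩ⟩ := t10_7b hG (sigma_sylow_top hpσ
    ((sylowOf_sigmaCore_iff hG hM hpσ).1 hPs)) hr hP
  have hS1 : S ≠ ⊥ := fun h => by
    rw [h, card_bot] at hS
    exact (Nat.one_lt_pow (by norm_num) hp.one_lt).ne hS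
  have hCZ : C ≤ 𝐙(P) := le_inf hcp.right_le (by
    rw [← hcp.sup, cent_sup]
    exact le_inf hcp.cent (le_cent_of_comm (comm_of_isCyclic hC)))
  have hCS : C ≤ S := by
    have h1 : 𝐙(S) = kstar M K := eq_of_le_of_prime hKs
      (((hΩ ▸ omegaOne_le p C).trans hCZ).trans hZ.le)
      (center_ne_bot_of_isPGroup hp (hPs.isPGroup.to_le hcp.left_le) hS1)
    exact ((hCZ.trans hZ.le).trans h1.ge).trans inf_le_left
  have hPc : Nat.card P = p ^ 3 := by rw [← hcp.sup, sup_eq_left.2 hCS, hS]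
  refine ⟨hPc, hP1, ?_⟩
  rw [hsdp.relIndex_left]
  have hrel : (𝐙(P)).relIndex P = p ^ 2 := by
    have h1 := card_mul_relIndex (inf_le_left : 𝐙(P) ≤ P)
    rw [hZ, hKsc, hPc, ← hZ, pow_succ'] at h1
    exact Nat.eq_of_mul_eq_mul_left hp.pos h1
  have h25 := t2_5a (n := 1) hp (hZ ▸ hKsc)
    (pg_der_le_of_relIndex_le_sq hPs.isPGroup (NormalIn.center P).norm hrel.le) hPc hKP hKc
    ((piGrp_compl_singleton_iff_coprime hp).1 hKp') fun x hx hx1 => by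
      rw [hZ]
      exact le_antisymm ((inf_le_inf_right _ hPs.le).trans (hpr x hx hx1).le)
        (le_inf hKsP (inf_le_right.trans (cent_le_cent1 hx)))
  rw [pow_one] at h25
  exact h25.resolve_right hKp

/-- If `F(M)^#` is not a TI-set with normaliser `M` then some `g ∉ M` has `F(M) ∩ F(M)^g ≠ 1`. -/
theorem t15_7_ex (hG : IsMinSimpleOddOrder G) {M : Subgroup G} (hM : IsCoatom M)
    (h : ¬ NormedTI ((fittingOf M : Set G) \ {1}) M) :
    ∃ g : G, g ∉ M ∧ fittingOf M ⊓ cj g (fittingOf M) ≠ ⊥ := by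
  by_contra hc
  push Not at hc
  exact h (normedTI_sharp_iff.2
    ⟨fit_ne_bot (mmax_sol hG hM) (mmax_ne_bot hG hM), (fit_normal M).norm, hc⟩)

/-- Coq `nonTI_Fitting_facts`. -/
theorem t15_7_facts (hG : IsMinSimpleOddOrder G) {M : Subgroup G} (hM : IsCoatom M)
    (h : ¬ NormedTI ((fittingOf M : Set G) \ {1}) M) :
    (TypeF M ∨ TypeP1 M) ∧ fittingHallOf M = sigmaCore M ∧ ⁅M, M⁆ ≤ fittingOf M := by
  obtain ⟨g, hg, hX⟩ := t15_7_ex hG hM h
  obtain ⟨⟨h1, h2⟩, -, h3, -⟩ := t15_7abc hG hM hg hX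
  exact ⟨h1, h2, h3⟩

end CL.BG
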