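import Cfsg.Agent.BG.T16_A
import Cfsg.Agent.BG.T16_Gen
import Cfsg.Agent.BG.T15_5
import Cfsg.Agent.BG.T15_6
import Cfsg.Agent.BG.T1_5

/-!
# BG Proposition 16.1: the types I - V in terms of `κ(M)`
-/

namespace CL.BG

open Cfsg Subgroup

variable {G : Type*} [Group G] [Finite G] {M U U₀ U₁ K W₁ W₂ : Subgroup G} {x : G}

omit [Finite G] in
theorem t16_isOfTypeF_mk (hs : Group.IsSolvable M) (ho : Odd (Nat.card M))
    (hH : fittingHallOf M ≠ ⊥) (hU : U ≠ ⊥) (h : SDP (fittingHallOf M) U M) (h₁ : U₁ ⊴ U)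
    (hc : IsMulCommutative U₁) (hC : ∀ x ∈ fittingHallOf M, x ≠ 1 → U ⊓ 𝐂₁(x) ≤ U₁)
    (h₀ : U₀ ≤ U) (he : Monoid.exponent U₀ = Monoid.exponent U)
    (hr : Semiregular (fittingHallOf M) U₀) : IsOfTypeF M := by
  have hUM := h.right_le
  refine ⟨hs, ho, fun e => hH (fcore_eq_bot_iff.2 e), fun e => hU ?_, U.subgroupOf M,
    fun e => hU ?_, fcore_subgroupOf M ▸ h.isComplement',
    ⟨U₁.subgroupOf M, comap_mono h₁.le, ?_, ?_, ?_⟩, U₀.subgroupOf M, comap_mono h₀, ?_, ?_⟩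
  · rw [← h.disj, fcore_eq_self_iff'.2 e, inf_eq_right.2 hUM]
  · rw [← map_subgroupOf_eq_of_le hUM, e, Subgroup.map_bot]
  · rw [← map_le_norm_map_iff M.subtype_injective, map_subgroupOf_eq_of_le hUM,
      map_subgroupOf_eq_of_le (h₁.le.trans hUM)]
    exact h₁.norm
  · rw [← comm_map_iff M.subtype_injective, map_subgroupOf_eq_of_le (h₁.le.trans hUM)]
    exact hc
  · rintro x hx hx1 y ⟨hy, hyx⟩
    exact hC x (mem_fcore_iff.2 hx) (fun e => hx1 (Subtype.ext e))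
      (mem_inf.2 ⟨hy, mem_cent1.2 (congrArg Subtype.val (mem_cent1.1 hyx))⟩)
  · rw [Monoid.exponent_eq_of_mulEquiv (subgroupOfEquivOfLe (h₀.trans hUM)),
      Monoid.exponent_eq_of_mulEquiv (subgroupOfEquivOfLe hUM), he]
  · intro u hu hu1 x hx e
    have h1 : (u : G) ≠ 1 := fun e => hu1 (Subtype.ext e)
    have h2 : (u : G) ∈ U₀ := hu
    exact Subtype.ext (hr.eq_one h2 h1 (mem_fcore_iff.2 hx)
      (mem_cent1.2 (congrArg Subtype.val e.symm)))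

omit [Finite G] in
theorem t16_exponent_quot_dvd {n : ℕ} (h : ∀ x ∈ M, x ^ n ∈ fittingHallOf M) :
    Monoid.exponent (M ⧸ fittingHall M) ∣ n := by
  rw [Monoid.exponent_dvd_iff_forall_pow_eq_one]
  intro y
  obtain ⟨x, rfl⟩ := QuotientGroup.mk_surjective y
  rw [← QuotientGroup.mk_pow, QuotientGroup.eq_one_iff, ← mem_fcore_iff]
  exact h x x.2

omit [Finite G] in
theorem t16_isCyclic_pPrimeCore {p : ℕ} (hp : p.Prime) {H : Subgroup G}
    (h : IsCyclic (piCoreOf {p}ᶜ H)) : IsCyclic (pPrimeCore p H) := by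
  rwa [piCoreOf_compl_singleton hp, isCyclic_map_iff H.subtype_injective] at h

theorem t16_dvd_of_not_comm {p : ℕ} (hp : p.Prime) {H : Subgroup G}
    (h : ¬ IsMulCommutative (piCoreOf {p} H)) : p ∣ Nat.card H := by
  refine (dvd_card_of_isPGroup hp (isPGroup_piCoreOf hp H) fun e => h ?_).trans
    (card_dvd_of_le (piCoreOf_le _ H))
  rw [comm_iff_le_cent, e]; exact bot_le

/-- type `P` data with prescribed Hall `κ(M)`-subgroup -/
theorem t16_typeP_data (hG : IsMinSimpleOddOrder G) (hM : TypeP M) (hK : Hall (kappa M) K M) :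
    ∃ U : Subgroup G, IsTypePWith M K U (kstar M K) := by
  have hM' := hM.coatom
  obtain ⟨Ms, hP⟩ := t14_7 hG hM hK
  obtain ⟨h5c, hnil⟩ := t15_5c hG hM'
  obtain ⟨h5b1, h5b2, -⟩ := t15_5b hG hM'
  obtain ⟨h61, -, h63, h64, h65⟩ := t15_6 hG hM hK
  have hder := NormalIn.der M
  have hcop : (Nat.card ↥⁅M, M⁆).Coprime (Nat.card K) := by
    rw [← hP.sdp.relIndex_right]; exact hK.coprime.symm
  obtain ⟨U, hU, hKU⟩ := t1_5a (primesOf (fittingHallOf M))ᶜ hP.sdp.norm hcop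
    (mmax_sub_sol hG hM' hder.le)
  have hsd : SDP (fittingHallOf M) U ⁅M, M⁆ :=
    ((fcore_hall M).restrict h5c hder.le).sdp (hder.le.trans (fcore_normal M).norm) hU
  have hKs : kstar M K ≤ ⁅M, M⁆ := h64.trans h5c
  have hZ := le_cent_of_comm (comm_of_isCyclic hP.cyclic)
  refine ⟨U, hM.hall_ne_bot hK, t14_7_cyclic hG hM' hK, hK.coprime, hP.sdp.isComplIn,
    nil_of_quot_of_disj hU.le hsd.le_norm hsd.disj hnil, hKU, hsd.isComplIn, h65,
    h5b2 ▸ h5b1, h5b2, t15_5d hG hM, le_inf h64 h63, fun x hx hx1 => ?_,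
    hM.hall_ne_bot hK, h61, hP.dp.disj, fun a ha b hb => (hP.dp.cp.commute ha hb).eq,
    hP.cyclic, fun X hX hne => le_antisymm ?_ ?_⟩
  · rw [← inf_eq_left.2 hder.le, inf_assoc, hP.cent_K x hx hx1, inf_comm,
      sup_inf_modular' (Or.inl hP.dp.sdp.norm) hKs, hP.sdp.disj', bot_sup_eq]
  · obtain ⟨z, hz⟩ := hne
    exact fun g hg => hP.ti.mem_of_conj_mem (hX hz) (hX ((mem_set_normalizer_iff.1 hg z).1 hz))
  · intro g hg
    have key : ∀ y ∈ K ⊔ kstar M K, ∀ z ∈ X, y * z * y⁻¹ = z := fun y hy z hz => by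
      rw [← mem_cent.1 (hZ hy) z (hX hz).1, mul_inv_cancel_right]
    rw [mem_set_normalizer_iff]
    refine fun z => ⟨fun hz => by rwa [key g hg z hz], fun hz => ?_⟩
    have := key g⁻¹ (inv_mem hg) _ hz
    rw [← this] at hz
    simpa [mul_assoc] using hz

theorem t16_typeP_facts (hG : IsMinSimpleOddOrder G) (hM : IsCoatom M)
    (hP : IsTypePWith M W₁ U W₂) :
    TypeP M ∧ Hall (kappa M) W₁ M ∧ kstar M W₁ = W₂ ∧ (TypeP1 M ↔ U = ⊥ ∨ 𝐍(U) ≤ M) ∧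
      (TypeP2 M → KappaCompl M U W₁) := by
  have hσ := t10_2c hG hM
  have hW₂ : W₂ ≤ kstar M W₁ :=
    le_inf ((TypeP.W₂_le_H hP).trans (fcore_le_sigmaCore hG hM))
      (SelfNorm.dp hP.selfNormalizing).cent
  have hκ : PiGrp (kappa M) W₁ := by
    rw [piGrp_iff]
    intro p hp hd
    have hnd : ¬ p ∣ Nat.card ↥⁅M, M⁆ := fun h =>
      hp.one_lt.ne' (Nat.eq_one_of_dvd_coprimes (TypeP.coprime_der_W₁ hP) h hd)
    have hs : p ∉ sigma M := fun h => hnd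
      ((mem_primesOf.1 (primesOf_sigmaCore hG hM ▸ h)).2.trans (card_dvd_of_le hσ))
    have hr : pRank p M = 1 := by
      rw [← (TypeP.isHall_W₁ hP).hall.pRank_eq hp (mem_primesOf.2 ⟨hp, hd⟩)]
      exact pRank_eq_one_of_isCyclic hp hP.W₁_cyclic hd
    obtain ⟨X, hX⟩ := exists_elemN_one_of_dvd hp hd
    refine mem_kappa_of_cent hG (Or.inl (mem_tau1_iff.2 ⟨hp, hs, hr, hnd⟩))
      (hX.le.trans (TypeP.W₁_le hP)) hX.card_one fun e => hP.selfNormalizing.2.1 ?_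
    exact le_bot_iff.1 ((hW₂.trans (inf_le_inf_left _ (cent_anti hX.le))).trans e.le)
  have hT : TypeP M := typeP_of_piGrp hM hκ hP.W₁_ne
  obtain ⟨K, hK, hle⟩ := hall_superset (mmax_sol hG hM) (TypeP.W₁_le hP) hκ
  obtain ⟨Ms, hPair⟩ := t14_7 hG hT hK
  have hKW : K = W₁ := (TypeP.sdp_der hP).right_eq_of_le hle hK.le hPair.sdp.disj
  subst hKW
  have hP2 : TypeP2 M → KappaCompl M U K := by
    intro h2
    obtain ⟨U₀, hU₀⟩ := t14_2_ex hG hM hK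
    have h1 := (t15_1b hG hM hU₀ hP.W₁_ne).1
    have h3 := TypeP.sdp_H hP
    rw [fcore_eq_sigmaCore hG hM (t14_1_nil hG hM h2.not_typeP1)] at h3
    exact ⟨hU₀.hallU.of_card_eq (TypeP.U_le hP) (by rw [← h1.relIndex_left, h3.relIndex_left]),
      hK, hP.U_normal⟩
  refine ⟨hT, hK, le_antisymm ?_ hW₂, ⟨fun h1 => ?_, fun h => ?_⟩, hP2⟩
  · rw [← TypeP.der_inf_cent hP]; exact inf_le_inf_right _ hσ
  · refine or_iff_not_imp_left.2 fun hU1 => ?_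
    obtain ⟨p, hp, hpU⟩ := primesOf_nonempty hU1
    have := Fact.mk hp
    obtain ⟨P, hPU⟩ := sylow_exists p U
    have hs := TypeP.sdp_H hP
    rw [t16_der_eq_of_P1 hG h1] at hs
    have hpσ : p ∈ sigma M :=
      (piGrp_sigmaCore M).mem (mem_primesOf.2 ⟨hp, hpU.trans (card_dvd_of_le hs.right_le)⟩)
    have hPM : SylowOf p P M :=
      (hPU.trans_hall (hs.isHall_right (TypeP.coprime_H_U hP)).hall ⟨hp, hpU⟩).trans_hall
        (t10_2b hG hM) hpσ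
    exact (nil_sylow_norm_le hP.U_nilpotent hPU).trans (norm_sigma_sylow hpσ hPM)
  · by_contra h1
    have h2 := hT.typeP2_of_not_p1 h1
    rcases h with h | h
    · exact ((hP2 h2).typeP2_iff hT).1 h2 h
    · exact (t16_C1 hG hT (hP2 h2)).2 h

theorem t16_isOfTypeP_iff (hG : IsMinSimpleOddOrder G) (hM : IsCoatom M) :
    IsOfTypeP M ↔ TypeP M := by
  refine ⟨fun ⟨_, _, _, h⟩ => (t16_typeP_facts hG hM h).1, fun h => ?_⟩
  obtain ⟨K, hK⟩ := hall_exists (kappa M) (mmax_sol hG hM)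
  obtain ⟨U, hU⟩ := t16_typeP_data hG h hK
  exact ⟨K, U, _, hU⟩

/-- for type `ℱ` a `κ`-complement is a complement to `M_σ = M_F` -/
theorem t16_typeF_sdp (hG : IsMinSimpleOddOrder G) (hM : TypeF M) (hU : KappaCompl M U K) :
    K = ⊥ ∧ U ≠ ⊥ ∧ fittingHallOf M = sigmaCore M ∧ SDP (sigmaCore M) U M := by
  have hK := hM.hall_eq_bot hU.hallK
  subst hK
  have h := (t14_2a hG hM.coatom hU).2.2.1
  rw [sup_bot_eq] at h
  refine ⟨rfl, fun e => ?_,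
    fcore_eq_sigmaCore hG hM.coatom (t14_1_nil hG hM.coatom hM.not_typeP1), h⟩
  rw [e] at h
  obtain ⟨-, -, h1, h2⟩ := t15_2_chain hG hM.coatom
  exact (h1.trans_lt h2).ne h.left_eq_of_bot

theorem t16_1a (hG : IsMinSimpleOddOrder G) (hM : IsCoatom M) : TypeI M ↔ TypeF M := by
  constructor
  · intro h
    refine typeF_of_not_typeP hM fun hP => ?_
    obtain ⟨W₁, U, W₂, hd⟩ := (t16_isOfTypeP_iff hG hM).2 hP
    exact not_typeI_of_typeP hd h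
  · intro hF
    obtain ⟨U, K, hU⟩ := t16_ex_kappa hG hM
    obtain ⟨-, hU1, hH, hs⟩ := t16_typeF_sdp hG hF hU
    obtain ⟨U₀, h₀, he, hr⟩ := t15_1e hG hM hU
    refine ⟨t16_isOfTypeF_mk (mmax_sol hG hM) (mFT_odd hG M) (t15_2_chain hG hM).1 hU1
      (hH ▸ hs) (U₁ := closure ((U : Set G) ∩ sigmaHat M)) ⟨?_, ?_⟩ (t15_1d hG hM hU) ?_ h₀ he
      (hH ▸ hr), ?_⟩
    · exact (closure_le _).2 Set.inter_subset_left
    · intro u hu
      refine mem_norm_of_cj_le ?_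
      rw [cj_closure]
      refine closure_mono ?_
      rintro _ ⟨a, ⟨ha, ha'⟩, rfl⟩
      exact ⟨mul_mem (mul_mem hu ha) (inv_mem hu), conj_mem_sigmaHat (hU.U_le hu) ha'⟩
    · rintro x hx hx1 u ⟨hu, hux⟩
      exact subset_closure ⟨hu, hU.U_le hu, x, hH ▸ hx, hx1, mem_cent1.1 hux⟩
    · refine or_iff_not_imp_left.2 fun hTI => ?_
      obtain ⟨g, hg, hX⟩ := t15_7_ex hG hM (t16_not_normedTI hG hM hTI)
      rcases t15_7e hG hM hg hX with ⟨-, h1, h2⟩ | ⟨p, -, hp, -, -, h1, h2, h3 | h3⟩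
      · exact Or.inl ⟨h1, rank_le_iff.1 h2.le, lt_rank_iff.1 (by omega)⟩
      · exact Or.inr ⟨fun q hq hd => t16_exponent_quot_dvd (h3 q hq hd), p, hp,
          t16_dvd_of_not_comm hp h1, t16_isCyclic_pPrimeCore hp h2⟩
      · exact absurd h3.2.1 hF.not_typeP1

theorem t16_1b (hG : IsMinSimpleOddOrder G) (hM : IsCoatom M) : IsOfTypeII M ↔ TypeP2 M := by
  constructor
  · rintro ⟨W₁, U, W₂, hP, hU, -, -, -, hN, -⟩
    obtain ⟨hT, -, -, h1, -⟩ := t16_typeP_facts hG hM hP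
    exact hT.typeP2_of_not_p1 fun h => (h1.1 h).elim hU hN
  · intro h2
    obtain ⟨K, hK⟩ := hall_exists (kappa M) (mmax_sol hG hM)
    obtain ⟨U, hP⟩ := t16_typeP_data hG h2.typeP hK
    have hU := (t16_typeP_facts hG hM hP).2.2.2.2 h2
    have hU1 := (hU.typeP2_iff h2.typeP).1 h2
    obtain ⟨hp, hTI, -⟩ := t16_C10 hG h2 hK
    obtain ⟨hc, hN⟩ := t16_C1 hG h2.typeP hU
    have hH := fcore_eq_fcore_of_normal_hall (NormalIn.der M) (TypeP.isHall_der hP)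
      (TypeP.H_le_der hP)
    obtain ⟨U₀, h₀, he, hr⟩ := t15_1e hG hM hU
    rw [← fcore_eq_sigmaCore hG hM (t14_1_nil hG hM h2.not_typeP1), ← hH] at hr
    exact ⟨K, U, _, hP, hU1, hp, t16_isTI_fit hTI, hc, hN,
      t16_isOfTypeF_mk (mmax_sub_sol hG hM (NormalIn.der M).le) (mFT_odd hG _)
        (hH ▸ TypeP.H_ne_bot hP) hU1 (hH ▸ TypeP.sdp_H hP) (NormalIn.refl U) hc
        (fun _ _ _ => inf_le_left) h₀ he hr, hH⟩

/-- for type `𝒫₁`: `M_F = M_σ` iff `U = 1` -/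
theorem t16_P1_fcore_iff (hG : IsMinSimpleOddOrder G) (h1 : TypeP1 M)
    (hP : IsTypePWith M W₁ U W₂) : fittingHallOf M = sigmaCore M ↔ U = ⊥ := by
  have hs := TypeP.sdp_H hP
  rw [t16_der_eq_of_P1 hG h1] at hs
  refine ⟨fun e => ?_, fun e => (e ▸ hs).left_eq_of_bot⟩
  rw [← hs.disj, e, inf_eq_right.2 hs.right_le]

theorem t16_1c (hG : IsMinSimpleOddOrder G) (hM : IsCoatom M) :
    (IsOfTypeIII M ∨ IsOfTypeIV M) ↔ TypeP1 M ∧ fittingHallOf M ≠ sigmaCore M := by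
  constructor
  · rintro (⟨W₁, U, W₂, hP, hU, -, -, -, hN⟩ | ⟨W₁, U, W₂, hP, hU, -, -, -, hN⟩) <;>
    · have h1 := (t16_typeP_facts hG hM hP).2.2.2.1.2 (Or.inr hN)
      exact ⟨h1, fun e => hU ((t16_P1_fcore_iff hG h1 hP).1 e)⟩
  · rintro ⟨h1, hne⟩
    obtain ⟨U₀, K, hU₀⟩ := t16_ex_kappa hG hM
    obtain ⟨U, hP⟩ := t16_typeP_data hG h1.typeP hU₀.hallK
    have hU : U ≠ ⊥ := fun e => hne ((t16_P1_fcore_iff hG h1 hP).2 e)
    have hN := ((t16_typeP_facts hG hM hP).2.2.2.1.1 h1).resolve_left hU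
    obtain ⟨-, -, hTI, hp⟩ := t16_A8 hG hM hU₀ hne
    by_cases hc : IsMulCommutative U
    · exact Or.inl ⟨K, U, _, hP, hU, hp, t16_isTI_fit hTI, hc, hN⟩
    · exact Or.inr ⟨K, U, _, hP, hU, hp, t16_isTI_fit hTI, hc, hN⟩

theorem t16_1d (hG : IsMinSimpleOddOrder G) (hM : IsCoatom M) :
    IsOfTypeV M ↔ TypeP1 M ∧ fittingHallOf M = sigmaCore M := by
  constructor
  · rintro ⟨W₁, U, W₂, hP, hU, -⟩
    have h1 := (t16_typeP_facts hG hM hP).2.2.2.1.2 (Or.inl hU)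
    exact ⟨h1, (t16_P1_fcore_iff hG h1 hP).2 hU⟩
  · rintro ⟨h1, he⟩
    obtain ⟨K, hK⟩ := hall_exists (kappa M) (mmax_sol hG hM)
    obtain ⟨U, hP⟩ := t16_typeP_data hG h1.typeP hK
    have hU := (t16_P1_fcore_iff hG h1 hP).1 he
    have hs := TypeP.sdp_H_UW hP
    rw [hU, bot_sup_eq] at hs
    refine ⟨K, U, _, hP, hU, or_iff_not_imp_left.2 fun hTI => ?_⟩
    obtain ⟨g, hg, hX⟩ := t15_7_ex hG hM (t16_not_normedTI hG hM hTI)
    rcases t15_7e hG hM hg hX with ⟨hF, -⟩ | ⟨p, -, hp, -, -, h2, h3, h4 | h4⟩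
    · exact absurd h1 hF.not_typeP1
    · have hd := t16_dvd_of_not_comm hp h2
      refine Or.inl ⟨p, hp, hd, ?_, t16_isCyclic_pPrimeCore hp h3⟩
      have := hP.W₁_cyclic
      rw [← IsCyclic.exponent_eq_card, Monoid.exponent_dvd_iff_forall_pow_eq_one]
      intro k
      exact Subtype.ext (mem_bot.1 (hs.disj ▸
        mem_inf.2 ⟨h4 p hp hd k (hK.le k.2), pow_mem k.2 _⟩))
    · refine Or.inr ⟨p, hp, t16_dvd_of_not_comm hp h2, ?_, hs.relIndex_left ▸ h4.2.2,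
        t16_isCyclic_pPrimeCore hp h3⟩
      rw [← h4.1, piCoreOf_singleton hp, card_map_of_injective (subtype_injective _)]

/-- `M_s = M_σ` -/
theorem t16_typeCore (hG : IsMinSimpleOddOrder G) (hM : IsCoatom M) :
    typeCore M = sigmaCore M := by
  unfold typeCore
  split_ifs with h
  · exact t16_der_eq_of_P1 hG ((t16_1c hG hM).1 h).1
  · by_contra hne
    obtain ⟨U, K, hU⟩ := t16_ex_kappa hG hM
    exact h ((t16_1c hG hM).2 ⟨(t16_A8 hG hM hU hne).1, hne⟩)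

theorem t16_typeA1 (hG : IsMinSimpleOddOrder G) (hM : IsCoatom M) :
    typeA1 M = (sigmaCore M : Set G) \ {1} := by
  rw [typeA1, t16_typeCore hG hM]

theorem t16_ftA (hG : IsMinSimpleOddOrder G) (hM : IsCoatom M) (hU : KappaCompl M U K) :
    ftA M = sigmaA M U \ {1} := by
  rcases typeF_or_typeP hM with h | h
  · obtain ⟨-, -, hH, hs⟩ := t16_typeF_sdp hG h hU
    rw [ftA_of_typeI ((t16_1a hG hM).2 h), hH, sigmaA, hs.sup']
    ext a
    exact ⟨fun ⟨h1, h2, h3⟩ => ⟨⟨⟨h1, h3⟩, h1⟩, h2⟩, fun ⟨⟨⟨h1, h3⟩, _⟩, h2⟩ => ⟨h1, h2, h3⟩⟩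
  · have hs := (t15_1b hG hM hU (h.hall_ne_bot hU.hallK)).1
    rw [ftA_of_not_typeI (fun e => h.not_typeF ((t16_1a hG hM).1 e)), t16_typeCore hG hM,
      sigmaA, hs.sup']
    ext a
    exact ⟨fun ⟨h1, h2, h3⟩ => ⟨⟨⟨(NormalIn.der M).le h1, h3⟩, h1⟩, h2⟩,
      fun ⟨⟨⟨_, h3⟩, h1⟩, h2⟩ => ⟨h1, h2, h3⟩⟩

theorem t16_ftA0 (hG : IsMinSimpleOddOrder G) (hM : IsCoatom M) (hK : Hall (kappa M) K M) :
    ftA0 M = sigmaA0 M K \ {1} := by
  obtain ⟨U, hU⟩ := t14_2_ex hG hM hK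
  have hsub := sigmaA_subset_sigmaA0 hG hM hU
  rcases typeF_or_typeP hM with h | h
  · obtain ⟨-, -, -, hs⟩ := t16_typeF_sdp hG h hU
    rw [ftA0_of_typeI ((t16_1a hG hM).2 h), t16_ftA hG hM hU]
    refine Set.Subset.antisymm (Set.sdiff_subset_sdiff_left hsub)
      (Set.sdiff_subset_sdiff_left fun a ha => ⟨ha.1, ?_⟩)
    rw [hs.sup']; exact ha.1.1
  · obtain ⟨V, hP⟩ := t16_typeP_data hG h hK
    rw [t16_ftA0_eq hP, t16_ftA hG hM hU, ← t16_C9_eq hG h hU]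
    ext a
    constructor
    · rintro (ha | ha)
      · exact ⟨hsub ha.1, ha.2⟩
      · exact ⟨ha.1, fun e => ha.2 (sigmaCore_subset_sigmaA hG hM (e ▸ one_mem _))⟩
    · rintro ⟨ha, ha1⟩
      by_cases h' : a ∈ sigmaA M U
      · exact Or.inl ⟨h', ha1⟩
      · exact Or.inr ⟨ha, h'⟩

/-- every maximal subgroup has one of the five types -/
theorem t16_type_cases (hG : IsMinSimpleOddOrder G) (hM : IsCoatom M) :
    TypeI M ∨ IsOfTypeII M ∨ IsOfTypeIII M ∨ IsOfTypeIV M ∨ IsOfTypeV M := by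
  rcases typeF_or_typeP hM with h | h
  · exact Or.inl ((t16_1a hG hM).2 h)
  rcases h.p1_or_p2 with h | h
  · by_cases he : fittingHallOf M = sigmaCore M
    · exact Or.inr (Or.inr (Or.inr (Or.inr ((t16_1d hG hM).2 ⟨h, he⟩))))
    · exact Or.inr (Or.inr (((t16_1c hG hM).2 ⟨h, he⟩).imp_right Or.inl))
  · exact Or.inr (Or.inl ((t16_1b hG hM).2 h))

theorem t16_typeI_or_typeP (hG : IsMinSimpleOddOrder G) (hM : IsCoatom M) :
    TypeI M ∨ IsOfTypeP M :=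
  (typeF_or_typeP hM).imp (t16_1a hG hM).2 (t16_isOfTypeP_iff hG hM).2

end CL.BG
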