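import Cfsg.Agent.BG.A16_Defs
import Cfsg.Agent.BG.Frob
import Cfsg.Agent.BG.T12_10
import Cfsg.Agent.BG.T14_1
import Cfsg.Agent.BG.T14_2
import Cfsg.Agent.BG.T14_7
import Cfsg.Agent.BG.T14_12
import Cfsg.Agent.BG.T15_1
import Cfsg.Agent.BG.T15_2
import Cfsg.Agent.BG.T15_7

/-!
# BG section 16: the parts of Theorems A, B, C that are not literally in sections 14, 15
-/

namespace CL.BG

open Cfsg Subgroup

variable {G : Type*} [Group G] [Finite G] {M U K X : Subgroup G} {a g m x : G}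

theorem t16_ex_kappa (hG : IsMinSimpleOddOrder G) (hM : IsCoatom M) :
    ∃ U K : Subgroup G, KappaCompl M U K := by
  obtain ⟨K, hK⟩ := hall_exists (kappa M) (mmax_sol hG hM)
  obtain ⟨U, hU⟩ := t14_2_ex hG hM hK
  exact ⟨U, K, hU⟩

/-- `U M_σ` is a normal Hall `κ(M)'`-subgroup of `M` -/
theorem t16_hall_UMs (hG : IsMinSimpleOddOrder G) (hM : IsCoatom M) (hU : KappaCompl M U K) :
    Hall (kappa M)ᶜ (U ⊔ sigmaCore M) M ∧ (U ⊔ sigmaCore M) ⊴ M := by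
  obtain ⟨-, h, -⟩ := t15_1a hG hM hU
  rw [sup_comm]
  exact ⟨h.hall_left_of_right hU.hallK, h.normalIn⟩

theorem t16_mem_UMs_iff (hG : IsMinSimpleOddOrder G) (hM : IsCoatom M) (hU : KappaCompl M U K)
    (hx : x ∈ M) : x ∈ U ⊔ sigmaCore M ↔ PiElt (kappa M)ᶜ x :=
  (t16_hall_UMs hG hM hU).1.mem_iff_of_normal (t16_hall_UMs hG hM hU).2.norm hx

theorem t16_mem_Ms_iff (hG : IsMinSimpleOddOrder G) (hM : IsCoatom M) (hx : x ∈ M) :
    x ∈ sigmaCore M ↔ PiElt (sigma M) x :=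
  (t10_2b hG hM).mem_iff_of_normal (sigmaCore_normal M).norm hx

/-- A(8) -/
theorem t16_A8 (hG : IsMinSimpleOddOrder G) (hM : IsCoatom M) (hU : KappaCompl M U K)
    (hne : fittingHallOf M ≠ sigmaCore M) :
    TypeP1 M ∧ U = ⊥ ∧ NormedTI ((fittingOf M : Set G) \ {1}) M ∧ (Nat.card K).Prime := by
  obtain ⟨D, -, -, h⟩ := t15_2_ex hG hM hU.hallK hne
  refine ⟨h.typeP1, (hU.typeP1_iff h.typeP1.typeP).1 h.typeP1, ?_, h.prime_K⟩
  by_contra hn
  exact hne (t15_7_facts hG hM hn).2.1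

/-- B(1) -/
theorem t16_B1 (hG : IsMinSimpleOddOrder G) (hM : IsCoatom M) (hUM : U ≤ M)
    (hU : PiGrp (sigma M)ᶜ U) {p : ℕ} (hp : p.Prime) {P : Subgroup G} (hP : IsPGroup p P)
    (hPU : P ≤ U) : IsMulCommutative P ∧ pRank p P ≤ 2 := by
  have := Fact.mk hp
  exact ⟨t12_10a hG hM (hPU.trans hUM) (hU.of_le hPU) (nil_of_isPGroup hP),
    (pRank_le_rank hp P).trans (rank_sigma_compl_le hG hM (hPU.trans hUM) (hU.of_le hPU))⟩

/-! ### the sets `M̂_σ`, `A(M)`, `A₀(M)` -/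

omit [Finite G] in
theorem mem_sigmaHat_iff : a ∈ sigmaHat M ↔ a ∈ M ∧ sigmaCore M ⊓ 𝐂₁(a) ≠ ⊥ := by
  refine and_congr_right fun _ => ⟨?_, fun h => ?_⟩
  · rintro ⟨y, hy, hy1, h⟩
    exact ne_bot_of_mem_ne_one (mem_inf.2 ⟨hy, mem_cent1.2 h.symm⟩) hy1
  · obtain ⟨y, hy, hy1⟩ := exists_mem_ne_one_of_ne_bot h
    exact ⟨y, hy.1, hy1, (mem_cent1.1 hy.2).symm⟩

omit [Finite G] in
theorem conj_mem_sigmaHat (hm : m ∈ M) (ha : a ∈ sigmaHat M) : m * a * m⁻¹ ∈ sigmaHat M := by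
  obtain ⟨haM, y, hy, hy1, h⟩ := ha
  refine ⟨mul_mem (mul_mem hm haM) (inv_mem hm), m * y * m⁻¹,
    (sigmaCore_normal M).conj_mem hm hy, fun e => hy1 (by simpa using e), ?_⟩
  calc m * a * m⁻¹ * (m * y * m⁻¹) = m * (a * y) * m⁻¹ := by group
    _ = _ := by rw [h]; group

theorem conj_mem_sigmaA (hG : IsMinSimpleOddOrder G) (hM : IsCoatom M) (hU : KappaCompl M U K)
    (hm : m ∈ M) (ha : a ∈ sigmaA M U) : m * a * m⁻¹ ∈ sigmaA M U :=
  ⟨conj_mem_sigmaHat hm ha.1, (t16_hall_UMs hG hM hU).2.conj_mem hm ha.2⟩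

omit [Finite G] in
theorem conj_mem_sigmaA0 (hm : m ∈ M) (ha : a ∈ sigmaA0 M K) : m * a * m⁻¹ ∈ sigmaA0 M K := by
  refine ⟨conj_mem_sigmaHat hm ha.1, ?_⟩
  rintro ⟨k, hk, hk1, n, hn, e⟩
  refine ha.2 ⟨k, hk, hk1, m⁻¹ * n, mul_mem (inv_mem hm) hn, ?_⟩
  calc a = m⁻¹ * (m * a * m⁻¹) * m := by group
    _ = _ := by rw [e]; group

theorem sigmaCore_subset_sigmaA (hG : IsMinSimpleOddOrder G) (hM : IsCoatom M)
    (ha : a ∈ sigmaCore M) : a ∈ sigmaA M U := by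
  refine ⟨mem_sigmaHat_iff.2 ⟨sigmaCore_le M ha, ?_⟩, mem_sup_right ha⟩
  by_cases h1 : a = 1
  · rw [h1, cent1_one, inf_top_eq]; exact t10_2e hG hM
  · exact ne_bot_of_mem_ne_one (mem_inf.2 ⟨ha, mem_cent1_self a⟩) h1

theorem sigmaA_subset_sigmaA0 (hG : IsMinSimpleOddOrder G) (hM : IsCoatom M)
    (hU : KappaCompl M U K) : sigmaA M U ⊆ sigmaA0 M K := by
  rintro a ⟨ha, haU⟩
  refine ⟨ha, ?_⟩
  rintro ⟨k, hk, hk1, n, -, rfl⟩
  exact hk1 ((hU.hallK.pi.piElt hk).eq_one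
    (piElt_conj.1 ((t16_hall_UMs hG hM hU).1.pi.piElt haU)))

/-- the `σ(M)'`-part of an element of `A(M) - M_σ` has its centraliser in `M` only -/
theorem t16_B5_uniq (hG : IsMinSimpleOddOrder G) (hM : IsCoatom M) (hU : KappaCompl M U K)
    (ha : a ∈ sigmaA M U) (haM : a ∉ sigmaCore M) :
    UniqMax 𝐂₁(piPart (sigma M)ᶜ a) M := by
  obtain ⟨h1, -⟩ := t15_1a hG hM hU
  have hle : sigmaCore M ⊔ U ≤ M := sup_le (sigmaCore_le M) hU.U_le
  have hUH : Hall (sigma M)ᶜ U (sigmaCore M ⊔ U) :=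
    h1.hall_right hU.hallU.pi.sigma_kappa'_sigma' (piGrp_compl_compl.2 (piGrp_sigmaCore M))
  set a' := piPart (sigma M)ᶜ a with ha'
  have ha'1 : a' ≠ 1 := fun e => haM ((t16_mem_Ms_iff hG hM ha.1.1).2
    (by simpa only [compl_compl] using piPart_eq_one_iff.1 e))
  have ha'm : a' ∈ sigmaCore M ⊔ U := piPart_mem _ (by rw [sup_comm]; exact ha.2)
  obtain ⟨m, hm, hmU⟩ := hall_conj_le (mmax_sub_sol hG hM hle) hUH (zpowers_le.2 ha'm)
    (piGrp_zpowers.2 (piElt_piPart _ a))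
  have hC : sigmaCore M ⊓ 𝐂(cj m (zpowers a')) ≠ ⊥ := by
    rw [Ne, s12_cent_cj_eq_bot (hle hm), cent_zpowers]
    exact fun e => (mem_sigmaHat_iff.1 ha.1).2
      (le_bot_iff.1 ((inf_le_inf_left _ (cent1_le_cent1_piPart _ a)).trans e.le))
  have h := (t15_1c hG hM hU hmU (fun e => zpowers_ne_bot.2 ha'1 (cj_eq_bot_iff.1 e)) hC).1.cj m⁻¹
  rwa [cj_cent, cj_inv_cj, cent_zpowers, cj_eq_of_mem (inv_mem (hle hm))] at h

/-- B(5) -/
theorem t16_B5 (hG : IsMinSimpleOddOrder G) (hM : IsCoatom M) (hU : KappaCompl M U K)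
    (ha : a ∈ sigmaA M U \ sigmaCore M) (g : G) :
    g * a * g⁻¹ ∈ sigmaA M U \ sigmaCore M ↔ g ∈ M := by
  constructor
  · intro hg
    have h1 := (t16_B5_uniq hG hM hU ha.1 ha.2).cj g
    have h2 := t16_B5_uniq hG hM hU hg.1 hg.2
    rw [piPart_conj, ← cj_cent1] at h2
    exact (mmax_cj_eq_iff hG hM).1 (h1.unique h2)
  · intro hg
    refine ⟨conj_mem_sigmaA hG hM hU hg ha.1, fun h => ha.2 ?_⟩
    simpa [mul_assoc] using (sigmaCore_normal M).conj_mem (inv_mem hg) h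

theorem t16_B5_cent (hG : IsMinSimpleOddOrder G) (hM : IsCoatom M) (hU : KappaCompl M U K)
    (ha : a ∈ sigmaA M U \ sigmaCore M) : 𝐂₁(a) ≤ M := fun g hg =>
  (t16_B5 hG hM hU ha g).1 (by rwa [mem_cent1.1 hg, mul_inv_cancel_right])

/-- C(1) -/
theorem t16_C1 (hG : IsMinSimpleOddOrder G) (hM : TypeP M) (hU : KappaCompl M U K) :
    IsMulCommutative U ∧ ¬ 𝐍(U) ≤ M := by
  have hK := hM.hall_ne_bot hU.hallK
  refine ⟨(t14_2a hG hM.coatom hU).2.2.2.2.2 hK, ?_⟩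
  by_cases hU1 : U = ⊥
  · rw [hU1, norm_bot, top_le_iff]; exact hM.coatom.1
  obtain ⟨r, hr, hrU⟩ := primesOf_nonempty hU1
  have := Fact.mk hr
  obtain ⟨R, hR⟩ := sylow_exists r U
  obtain ⟨Ms, hMs, hC⟩ := mmax_exists (mFT_cent_ne_top hG hK)
  obtain ⟨H, hH, hRH⟩ :=
    mmax_exists (mFT_norm_pgroup_ne_top hG hR.isPGroup (hR.ne_bot_iff.2 hrU))
  exact fun h => (t14_12 hG ((hU.typeP2_iff hM).2 hU1) hU hMs hC hr hR hH hRH).2.2.2.1
    (inf_le_right.trans h)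

/-- C(9), the set equality -/
theorem t16_C9_eq (hG : IsMinSimpleOddOrder G) (hM : TypeP M) (hU : KappaCompl M U K) :
    sigmaA0 M K \ sigmaA M U = {v | ∃ m ∈ M, ∃ w ∈ zhat K (kstar M K), v = m * w * m⁻¹} := by
  obtain ⟨Ms, hP⟩ := t14_7 hG hM hU.hallK
  have hM' := hM.coatom
  ext a
  constructor
  · rintro ⟨⟨ha, haK⟩, haU⟩
    have h1 : piPart (kappa M) a ≠ 1 := fun e =>
      haU ⟨ha, (t16_mem_UMs_iff hG hM' hU ha.1).2 (piPart_eq_one_iff.1 e)⟩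
    obtain ⟨m, hm, hmK⟩ := hall_conj_le (mmax_sol hG hM') hU.hallK
      (zpowers_le.2 (piPart_mem (kappa M) ha.1)) (piGrp_zpowers.2 (piElt_piPart _ a))
    rw [cj_zpowers, zpowers_le, ← piPart_conj] at hmK
    have h2 : m * a * m⁻¹ ∈ K ⊔ kstar M K := by
      rw [← hP.cent_K _ hmK (by rw [piPart_conj]; exact fun e => h1 (by simpa using e))]
      exact mem_inf.2 ⟨mul_mem (mul_mem hm ha.1) (inv_mem hm),
        cent1_le_cent1_piPart _ _ (mem_cent1_self _)⟩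
    refine ⟨m⁻¹, inv_mem hm, m * a * m⁻¹, ⟨h2, ?_⟩, by group⟩
    rintro (h | h)
    · refine haK ⟨_, h, fun e => h1 ?_, m⁻¹, inv_mem hm, by group⟩
      have : a = 1 := by simpa using e
      rw [this]; exact piPart_eq_one (piElt_one _)
    · refine haU ⟨ha, mem_sup_right ?_⟩
      simpa [mul_assoc] using (sigmaCore_normal M).conj_mem (inv_mem hm) h.1
  · rintro ⟨m, hm, w, ⟨hw, hwn⟩, rfl⟩
    obtain ⟨k, hk, y, hy, rfl⟩ := hP.dp.exists_mul hw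
    have hk1 : k ≠ 1 := fun e => hwn (Or.inr (by rw [e, one_mul]; exact hy))
    have hy1 : y ≠ 1 := fun e => hwn (Or.inl (by rw [e, mul_one]; exact hk))
    have hc : Commute k y := hP.dp.cp.commute hk hy
    have hσ : PiElt (sigma M) y := (kstar_pi M K).piElt hy
    have hκ : PiElt (kappa M) k := hU.hallK.pi.piElt hk
    have h0 : k * y ∈ sigmaA0 M K := by
      refine ⟨⟨mul_mem (hU.K_le hk) (kstar_le M K hy), y, hy.1, hy1, ?_⟩, ?_⟩
      · rw [mul_assoc, ← mul_assoc y, ← hc.eq, mul_assoc]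
      · rintro ⟨k', hk', -, n, -, e⟩
        have h3 : PiElt (sigma M)ᶜ (k * y) :=
          e ▸ (hU.hallK.pi.piElt hk').kappa_sigma'.conj n
        have h4 := piPart_mul_eq hσ hκ.kappa_sigma' hc.symm
        rw [← hc.eq, piPart_eq_one h3] at h4
        exact hy1 h4.symm
    refine ⟨conj_mem_sigmaA0 hm h0, fun h => hk1 ?_⟩
    have h5 : k * y ∈ U ⊔ sigmaCore M := by
      simpa [mul_assoc] using (conj_mem_sigmaA hG hM' hU (inv_mem hm) h).2
    have h6 : k ∈ U ⊔ sigmaCore M := by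
      simpa using mul_mem h5 (inv_mem (mem_sup_right hy.1 : y ∈ U ⊔ sigmaCore M))
    exact hκ.eq_one ((t16_hall_UMs hG hM' hU).1.pi.piElt h6)

/-- C(9), the TI property -/
theorem t16_C9 (hG : IsMinSimpleOddOrder G) (hM : IsCoatom M) (hU : KappaCompl M U K)
    (ha : a ∈ sigmaA0 M K \ sigmaA M U) (g : G) :
    g * a * g⁻¹ ∈ sigmaA0 M K \ sigmaA M U ↔ g ∈ M := by
  refine ⟨fun hg => ?_, fun hg => ⟨conj_mem_sigmaA0 hg ha.1, fun h => ha.2 ?_⟩⟩
  · have hP : TypeP M := by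
      refine typeP_of_hall_ne_bot hM hU.hallK fun e => ha.2 ⟨ha.1.1, ?_⟩
      have h := (t15_1a hG hM hU).2.1
      rw [e] at h
      rw [sup_comm, h.left_eq_of_bot]
      exact ha.1.1.1
    obtain ⟨Ms, hP'⟩ := t14_7 hG hP hU.hallK
    rw [t16_C9_eq hG hP hU] at ha hg
    obtain ⟨m, hm, w, hw, rfl⟩ := ha
    obtain ⟨n, hn, z, hz, e⟩ := hg
    have h1 : n⁻¹ * g * m ∈ K ⊔ kstar M K := hP'.ti.mem_of_conj_mem hw (by
      have : n⁻¹ * g * m * w * (n⁻¹ * g * m)⁻¹ = z := by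
        calc _ = n⁻¹ * (g * (m * w * m⁻¹) * g⁻¹) * n := by group
          _ = z := by rw [e]; group
      rwa [this])
    have h2 := mul_mem (mul_mem hn (sup_le hU.K_le (kstar_le M K) h1)) (inv_mem hm)
    simpa [mul_assoc] using h2
  · simpa [mul_assoc] using conj_mem_sigmaA hG hM hU (inv_mem hg) h

theorem t16_C9_cent (hG : IsMinSimpleOddOrder G) (hM : IsCoatom M) (hU : KappaCompl M U K)
    (ha : a ∈ sigmaA0 M K \ sigmaA M U) : 𝐂₁(a) ≤ M := fun g hg =>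
  (t16_C9 hG hM hU ha g).1 (by rwa [mem_cent1.1 hg, mul_inv_cancel_right])

/-- C(10) -/
theorem t16_C10 (hG : IsMinSimpleOddOrder G) (hM : TypeP2 M) (hK : Hall (kappa M) K M) :
    (Nat.card K).Prime ∧ NormedTI ((fittingOf M : Set G) \ {1}) M ∧
      sigmaCore M ≤ fittingOf M := by
  obtain ⟨-, h1, h2, -⟩ := t14_2g hG hM hK
  refine ⟨h1, ?_, le_fit (sigmaCore_normal M) h2⟩
  by_contra hn
  rcases (t15_7_facts hG hM.coatom hn).1 with h | h
  · exact h.not_typeP2 hM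
  · exact h.not_typeP2 hM

/-- C(11) -/
theorem t16_C11 (hG : IsMinSimpleOddOrder G) (hM : TypeP1 M) (hK : Hall (kappa M) K M) :
    (Nat.card (kstar M K)).Prime := by
  obtain ⟨Ms, hP⟩ := t14_7 hG hM.typeP hK
  rcases hP.typeP2 with h | h
  · exact absurd h.1 hM.not_typeP2
  · exact h.2

/-- for type `𝒫₁` the derived group is `M_σ` -/
theorem t16_der_eq_of_P1 (hG : IsMinSimpleOddOrder G) (hM : TypeP1 M) :
    ⁅M, M⁆ = sigmaCore M := by
  obtain ⟨U, K, hU⟩ := t16_ex_kappa hG hM.coatom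
  have h := (t15_1b hG hM.coatom hU (hM.typeP.hall_ne_bot hU.hallK)).1
  rw [(hU.typeP1_iff hM.typeP).1 hM] at h
  exact h.left_eq_of_bot.symm

/-- if `M_F` is not a TI-set then `F(M)^#` is not a TI-set with normaliser `M` -/
theorem t16_not_normedTI (hG : IsMinSimpleOddOrder G) (hM : IsCoatom M)
    (h : ¬ IsTISubset (fittingHallOf M : Set G)) :
    ¬ NormedTI ((fittingOf M : Set G) \ {1}) M := fun h' =>
  have h1 := (t15_2_chain hG hM).1
  h ((normedTI_sharp_iff_isTISubset h1).1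
    (h'.sharp_mono (fcore_le_fittingOf M) h1 (fcore_normal M).norm)).1

omit [Finite G] in
theorem t16_isTI_fit (h : NormedTI ((fittingOf M : Set G) \ {1}) M) :
    IsTISubset (fittingOf M : Set G) :=
  ((normedTI_sharp_iff_isTISubset (normedTI_sharp_iff.1 h).1).1 h).1

end CL.BG
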