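import Cfsg.Agent.BG.T16_1
import Cfsg.Agent.BG.T13_9
import Cfsg.Agent.BG.T14_4
import Cfsg.Agent.BG.T14_5
import Cfsg.Agent.BG.T14_9
import Cfsg.Agent.BG.T14_13
import Cfsg.Agent.BG.T15_3
import Cfsg.Agent.BG.T15_4
import Cfsg.Agent.BG.T15_9

/-!
# BG section 16: the interface to Peterfalvi's section 8

Proposition 16.1 is in `T16_1`, the facts valid in any finite group are in `T16_Gen`.
-/

namespace CL.BG

open Cfsg Subgroup

variable {G : Type*} [Group G] [Finite G] {M L S T U V W₁ W₂ K : Subgroup G} {x : G}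

/-! ### Theorem I, Peterfalvi (8.8) -/

theorem t16_I1 (hG : IsMinSimpleOddOrder G) {H : Subgroup G} (hn : Group.IsNilpotent H)
    (hH : IsHall H ⊤) {g : G} (hx : x ∈ H) (hg : g * x * g⁻¹ ∈ H) :
    ∃ n ∈ 𝐍(H), n * x * n⁻¹ = g * x * g⁻¹ := by
  obtain ⟨M, hM, hle⟩ := t15_4 hG hn hH
  obtain ⟨n, hn, e⟩ := t15_3b hG hM (hH.restrict hle le_top) hx hg
  exact ⟨n, hn.2, e⟩

theorem t16_ptypePair (hG : IsMinSimpleOddOrder G) (hS : IsCoatom S) (hT : IsCoatom T)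
    (hPS : IsTypePWith S W₁ U W₂) (hPT : IsTypePWith T W₂ V W₁) : PtypePair S W₁ T := by
  obtain ⟨h1, h2, h3, -⟩ := t16_typeP_facts hG hS hPS
  obtain ⟨-, h5, h6, -⟩ := t16_typeP_facts hG hT hPT
  exact t14_7_of_kstar hG h1 h2 hT (by rw [h3, h6]) (by rw [h3]; exact h5)

/-- two maximal subgroups with dual type `P` data form the pair of Theorem I -/
theorem t16_pair_of (hG : IsMinSimpleOddOrder G) (hS : IsCoatom S) (hT : IsCoatom T)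
    (hPS : IsTypePWith S W₁ U W₂) (hPT : IsTypePWith T W₂ V W₁) : FtPair S T W₁ W₂ U V := by
  have h := t16_ptypePair hG hS hT hPS hPT
  refine ⟨hS, hT, hPS, hPT, ?_, h.not_conj, ?_, fun M hM => ?_⟩
  · rw [h.inf_eq, (t16_typeP_facts hG hS hPS).2.2.1]
  · exact h.typeP2.imp (fun h => (t16_1b hG hS).2 h.1) (fun h => (t16_1b hG hT).2 h.1)
  · exact (typeF_or_typeP hM).imp (t16_1a hG hM).2 (h.conj M)

theorem t16_pair_ex (hG : IsMinSimpleOddOrder G) (hS : IsCoatom S)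
    (hPS : IsTypePWith S W₁ U W₂) : ∃ T V : Subgroup G, FtPair S T W₁ W₂ U V := by
  obtain ⟨h1, h2, h3, -⟩ := t16_typeP_facts hG hS hPS
  obtain ⟨T, hT⟩ := t14_7 hG h1 h2
  obtain ⟨V, hV⟩ := t16_typeP_data hG hT.typePs hT.hallKs
  rw [hT.kstar_kstar, h3] at hV
  exact ⟨T, V, t16_pair_of hG hS hT.typePs.coatom hPS hV⟩

theorem t16_I2 (hG : IsMinSimpleOddOrder G) :
    (∀ M : Subgroup G, IsCoatom M → TypeI M) ∨
      ∃ S T W₁ W₂ U V : Subgroup G, FtPair S T W₁ W₂ U V := by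
  refine or_iff_not_imp_left.2 fun h => ?_
  push Not at h
  obtain ⟨S, hS, hI⟩ := h
  obtain ⟨W₁, U, W₂, hP⟩ := (t16_typeI_or_typeP hG hS).resolve_left hI
  obtain ⟨T, V, h⟩ := t16_pair_ex hG hS hP
  exact ⟨S, T, W₁, W₂, U, V, h⟩

/-! ### Peterfalvi (8.11), (8.12) -/

theorem t16_core_facts (hG : IsMinSimpleOddOrder G) (hM : IsCoatom M) :
    (∀ (p : ℕ) (P : Subgroup G), p.Prime → SylowOf p P (typeCore M) → P ≠ ⊥ → 𝐍(P) ≤ M) ∧
      IsHall (fittingHallOf M) ⊤ ∧ IsHall (typeCore M) ⊤ := by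
  rw [t16_typeCore hG hM]
  have h := (t10_2b_top hG hM).isHall
  refine ⟨fun p P hp hP hP1 => ?_,
    ((fcore_isHall M).restrict (fcore_le_sigmaCore hG hM) (sigmaCore_le M)).trans h, h⟩
  have := Fact.mk hp
  have hσ : p ∈ sigma M := (piGrp_sigmaCore M).mem_of_isPGroup hp hP.isPGroup hP1 hP.le
  exact norm_sigma_sylow hσ (hP.trans_hall (t10_2b hG hM) hσ)

/-- a complement as in Peterfalvi (8.12) is a `κ`-complement -/
theorem t16_kappaCompl_of_compl (hG : IsMinSimpleOddOrder G) (hM : IsCoatom M)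
    (hU : (TypeI M ∧ SDP (fittingHallOf M) U M) ∨
      (IsOfTypeII M ∧ SDP (fittingHallOf M) U ⁅M, M⁆)) :
    fittingHallOf M = sigmaCore M ∧ ∃ K, KappaCompl M U K := by
  obtain ⟨U₀, K, hU₀⟩ := t16_ex_kappa hG hM
  have key : fittingHallOf M = sigmaCore M ∧ Hall (sigma M ∪ kappa M)ᶜ U M := by
    rcases hU with ⟨h1, h2⟩ | ⟨h1, h2⟩
    · obtain ⟨-, -, h3, h4⟩ := t16_typeF_sdp hG ((t16_1a hG hM).1 h1) hU₀
      rw [h3] at h2
      exact ⟨h3, hU₀.hallU.of_card_eq h2.right_le (by rw [← h2.relIndex_left, h4.relIndex_left])⟩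
    · have hP := (t16_1b hG hM).1 h1
      have h3 := fcore_eq_sigmaCore hG hM (t14_1_nil hG hM hP.not_typeP1)
      have h4 := (t15_1b hG hM hU₀ (hP.typeP.hall_ne_bot hU₀.hallK)).1
      rw [h3] at h2
      exact ⟨h3, hU₀.hallU.of_card_eq (h2.right_le.trans (NormalIn.der M).le)
        (by rw [← h2.relIndex_left, h4.relIndex_left])⟩
  obtain ⟨m, hm, e⟩ := hall_conj (mmax_sol hG hM) hU₀.hallU key.2
  refine ⟨key.1, cj m K, ?_⟩
  simpa only [cj_eq_of_mem hm, e] using hU₀.cj m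

theorem t16_ftA_diff (hG : IsMinSimpleOddOrder G) (hM : IsCoatom M) (hU : KappaCompl M U K) :
    ftA M \ typeA1 M = sigmaA M U \ sigmaCore M := by
  rw [t16_ftA hG hM hU, t16_typeA1 hG hM]
  ext a
  exact ⟨fun ⟨⟨h1, h2⟩, h3⟩ => ⟨h1, fun h => h3 ⟨h, h2⟩⟩,
    fun ⟨h1, h2⟩ => ⟨⟨h1, fun e => h2 (e ▸ one_mem _)⟩, fun h => h2 h.1⟩⟩

theorem t16_ftA0_diff (hG : IsMinSimpleOddOrder G) (hM : IsCoatom M) (hU : KappaCompl M U K) :
    ftA0 M \ ftA M = sigmaA0 M K \ sigmaA M U := by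
  rw [t16_ftA hG hM hU, t16_ftA0 hG hM hU.hallK]
  ext a
  exact ⟨fun ⟨⟨h1, h2⟩, h3⟩ => ⟨h1, fun h => h3 ⟨h, h2⟩⟩, fun ⟨h1, h2⟩ =>
    ⟨⟨h1, fun e => h2 (sigmaCore_subset_sigmaA hG hM (e ▸ one_mem _))⟩, fun h => h2 h.1⟩⟩

/-- `A(M) - A₁(M)` is empty or a TI-set with normaliser `M` (any type) -/
theorem t16_ftA_diff_TI (hG : IsMinSimpleOddOrder G) (hM : IsCoatom M) {a : G}
    (ha : a ∈ ftA M \ typeA1 M) (g : G) : g * a * g⁻¹ ∈ ftA M \ typeA1 M ↔ g ∈ M := by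
  obtain ⟨U, K, hU⟩ := t16_ex_kappa hG hM
  rw [t16_ftA_diff hG hM hU] at ha ⊢
  exact t16_B5 hG hM hU ha g

/-- `A₀(M) - A(M)` is empty or a TI-set with normaliser `M` (any type) -/
theorem t16_ftA0_diff_TI (hG : IsMinSimpleOddOrder G) (hM : IsCoatom M) {a : G}
    (ha : a ∈ ftA0 M \ ftA M) (g : G) : g * a * g⁻¹ ∈ ftA0 M \ ftA M ↔ g ∈ M := by
  obtain ⟨U, K, hU⟩ := t16_ex_kappa hG hM
  rw [t16_ftA0_diff hG hM hU] at ha ⊢
  exact t16_C9 hG hM hU ha g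

theorem t16_typeI_II_facts (hG : IsMinSimpleOddOrder G) (hM : IsCoatom M)
    (hU : (TypeI M ∧ SDP (fittingHallOf M) U M) ∨
      (IsOfTypeII M ∧ SDP (fittingHallOf M) U ⁅M, M⁆)) :
    (∀ (p : ℕ) (P : Subgroup G), p.Prime → SylowOf p P U →
        IsMulCommutative P ∧ pRank p P ≤ 2) ∧
      (∀ X : Set G, X ⊆ (U : Set G) \ {1} → X.Nonempty →
        fittingHallOf M ⊓ centralizer X ≠ ⊥ → UniqMax (centralizer X) M) ∧
      (∀ a ∈ ftA M \ typeA1 M, ∀ g : G, g * a * g⁻¹ ∈ ftA M \ typeA1 M ↔ g ∈ M) := by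
  obtain ⟨hH, K, hK⟩ := t16_kappaCompl_of_compl hG hM hU
  refine ⟨fun p P hp hP => ?_, fun X hX ⟨x, hx⟩ hC => ?_, fun a ha => t16_ftA_diff_TI hG hM ha⟩
  · have := Fact.mk hp
    exact t16_B1 hG hM hK.U_le hK.hallU.pi.sigma_kappa'_sigma' hp hP.isPGroup hP.le
  · rw [← centralizer_closure] at hC ⊢
    exact (t15_1c hG hM hK ((closure_le _).2 fun y hy => (hX hy).1)
      (ne_bot_of_mem_ne_one (subset_closure hx) (hX hx).2) (hH ▸ hC)).1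

/-! ### Theorem II, Peterfalvi (8.13) -/

theorem t16_typeA1_subset (hG : IsMinSimpleOddOrder G) (hM : IsCoatom M) : typeA1 M ⊆ ftA M := by
  obtain ⟨U, K, hU⟩ := t16_ex_kappa hG hM
  rw [t16_ftA hG hM hU, t16_typeA1 hG hM]
  exact Set.sdiff_subset_sdiff_left fun a ha => sigmaCore_subset_sigmaA hG hM ha

theorem t16_ftA0_subset (hG : IsMinSimpleOddOrder G) (hM : IsCoatom M) :
    ftA0 M ⊆ (M : Set G) \ {1} := by
  obtain ⟨U, K, hU⟩ := t16_ex_kappa hG hM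
  rw [t16_ftA0 hG hM hU.hallK]
  exact Set.sdiff_subset_sdiff_left fun a ha => ha.1.1

/-- every element of `A₀(M)` centralises a nonidentity element of `M_σ` -/
theorem t16_ftA0_subset_hat (hG : IsMinSimpleOddOrder G) (hM : IsCoatom M) :
    ftA0 M ⊆ sigmaHat M := by
  obtain ⟨U, K, hU⟩ := t16_ex_kappa hG hM
  rw [t16_ftA0 hG hM hU.hallK]
  exact fun a ha => ha.1.1

theorem t16_II_fusion (hG : IsMinSimpleOddOrder G) (hM : IsCoatom M) {g : G} (hx : x ∈ ftA0 M)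
    (hg : g * x * g⁻¹ ∈ ftA0 M) : ∃ m ∈ M, m * x * m⁻¹ = g * x * g⁻¹ := by
  obtain ⟨U, K, hU⟩ := t16_ex_kappa hG hM
  rw [t16_ftA0 hG hM hU.hallK] at hx hg
  have hxM : x ∈ M := hx.1.1.1
  have hgM : g * x * g⁻¹ ∈ M := hg.1.1.1
  have h1 : g * x * g⁻¹ ∈ sigmaCore M ↔ x ∈ sigmaCore M := by
    rw [t16_mem_Ms_iff hG hM hxM, t16_mem_Ms_iff hG hM hgM, piElt_conj]
  have h2 : g * x * g⁻¹ ∈ U ⊔ sigmaCore M ↔ x ∈ U ⊔ sigmaCore M := by
    rw [t16_mem_UMs_iff hG hM hU hxM, t16_mem_UMs_iff hG hM hU hgM, piElt_conj]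
  by_cases hs : x ∈ sigmaCore M
  · obtain ⟨n, hn, e⟩ := t15_3b hG hM (Hall.self (piGrp_sigmaCore M)).isHall hs (h1.2 hs)
    exact ⟨n, hn.1, e⟩
  by_cases hu : x ∈ U ⊔ sigmaCore M
  · exact ⟨g, (t16_B5 hG hM hU ⟨⟨hx.1.1, hu⟩, hs⟩ g).1 ⟨⟨hg.1.1, h2.2 hu⟩, mt h1.1 hs⟩, rfl⟩
  · exact ⟨g, (t16_C9 hG hM hU ⟨hx.1, fun h => hu h.2⟩ g).1 ⟨hg.1, fun h => hu (h2.1 h.2)⟩, rfl⟩

/-- `D ⊆ A₁(M)` -/
theorem t16_II_memA1 (hG : IsMinSimpleOddOrder G) (hM : IsCoatom M) (hx : x ∈ ftA0 M)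
    (hxM : ¬ 𝐂₁(x) ≤ M) : x ∈ sigmaCore M ∧ x ≠ 1 := by
  obtain ⟨U, K, hU⟩ := t16_ex_kappa hG hM
  rw [t16_ftA0 hG hM hU.hallK] at hx
  refine ⟨?_, hx.2⟩
  by_contra hs
  by_cases hu : x ∈ sigmaA M U
  · exact hxM (t16_B5_cent hG hM hU ⟨hu, hs⟩)
  · exact hxM (t16_C9_cent hG hM hU ⟨hx.1, hu⟩)

/-- part of D(4): `x ∈ A(N) - N_σ` -/
theorem SignalizerCtx.mem_sigmaA (hG : IsMinSimpleOddOrder G) {N : Subgroup G}
    (h : SignalizerCtx M x N) (hx1 : x ≠ 1) (hU : KappaCompl N U K) :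
    x ∈ sigmaA N U \ sigmaCore N := by
  have hxN : x ∈ N := h.uniq.le (mem_cent1_self x)
  refine ⟨⟨mem_sigmaHat_iff.2 ⟨hxN, h.R_ne⟩, (t16_mem_UMs_iff hG h.uniq.coatom hU hxN).2
    (h.tau2_elt.mono fun p hp => not_mem_kappa_of_tau2 hp)⟩, fun hs => hx1 ?_⟩
  exact ((piGrp_sigmaCore N).piElt hs).eq_one (h.tau2_elt.mono (tau2_sub_sigma_compl N))

theorem t16_II (hG : IsMinSimpleOddOrder G) (hM : IsCoatom M) (hx : x ∈ ftA0 M)
    (hxM : ¬ 𝐂₁(x) ≤ M) (hL : IsCoatom L) (hxL : 𝐂₁(x) ≤ L) : FtSupportCtx M x L := by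
  obtain ⟨hs, hx1⟩ := t16_II_memA1 hG hM hx hxM
  have h := t14_4 hG hM hs hx1 hxM hL hxL
  obtain ⟨U, K, hU⟩ := t16_ex_kappa hG hL
  have hA := h.mem_sigmaA hG hx1 hU
  rw [← t16_ftA_diff hG hL hU] at hA
  refine ⟨?_, h.uniq, h.fcore ▸ h.R_eq, h.fcore ▸ sdprod_sigma hG hL h.hall, h.fcore ▸ h.sdp,
    fun y hy => ?_, hA.1, hA.2, ?_, fun hII => ?_, h.not_conj⟩
  · rw [t16_typeA1 hG hM]; exact ⟨hs, hx1⟩
  · rw [h.fcore]
    refine coprime_sigmaCore ?_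
    by_cases hσ : PiGrp (sigma L)ᶜ M
    · exact hσ.inf_left _
    obtain ⟨-, -, hF⟩ := t14_13a hG hM hs hx1 hxM hL hxL hσ
    obtain ⟨E, hE⟩ := hall_exists (sigma M)ᶜ (mmax_sol hG hM)
    have hF := hF E hE
    obtain ⟨hyM, z, hz, hz1, e⟩ := t16_ftA0_subset_hat hG hM hy
    have hys : y ∈ sigmaCore M := hF.inf_cent1_le_ker hz hz1 (mem_inf.2 ⟨hyM, mem_cent1.2 e⟩)
    exact ((piGrp_sigmaCore M).mono fun p hp => t13_9 hG hM hL h.not_conj p hp).of_le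
      (hF.inf_cent1_le_ker hys (t16_ftA0_subset hG hM hy).2)
  · exact ((not_typeP1_iff hL).1 h.not_P1).imp (t16_1a hG hL).2 (t16_1b hG hL).2
  · obtain ⟨hF, -, E, -, hc, hE⟩ :=
      t15_9 hG hM hs hx1 hxM hL hxL fun e => e.not_typeP2 ((t16_1b hG hL).1 hII)
    have hH := fcore_eq_sigmaCore hG hM (t14_1_nil hG hM hF.not_typeP1)
    refine ⟨(t16_1a hG hM).2 hF, fun hTI => hxM ?_, E, hc, hH ▸ hE⟩
    rw [hH] at hTI
    exact ((normedTI_sharp_iff_isTISubset (t10_2e hG hM)).2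
      ⟨hTI, normalizer_sigmaCore hG hM⟩).cent1_le ⟨hs, hx1⟩

theorem t16_II_ex (hG : IsMinSimpleOddOrder G) (hM : IsCoatom M) (hx : x ∈ ftA0 M)
    (hxM : ¬ 𝐂₁(x) ≤ M) : ∃ L : Subgroup G, FtSupportCtx M x L := by
  obtain ⟨L, hL, h⟩ := mmax_exists (mFT_cent1_ne_top hG (t16_ftA0_subset hG hM hx).2)
  exact ⟨L, t16_II hG hM hx hxM hL h⟩

omit [Finite G] in
theorem t16_le_normalizer_of_conj_mem {A : Set G} (h : ∀ m ∈ M, ∀ a ∈ A, m * a * m⁻¹ ∈ A) :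
    M ≤ normalizer A := fun m hm => mem_set_normalizer_iff.2 fun a =>
  ⟨h m hm a, fun ha => by simpa [mul_assoc] using h m⁻¹ (inv_mem hm) _ ha⟩

/-- `A₁(M) ⊆ A(M) ⊆ A₀(M) ⊆ M^#`, and the three sets are normalised by `M` -/
theorem t16_supp_facts (hG : IsMinSimpleOddOrder G) (hM : IsCoatom M) :
    (typeA1 M).Nonempty ∧ typeA1 M ⊆ ftA M ∧ ftA0 M ⊆ (M : Set G) \ {1} ∧
      normalizer (typeA1 M) = M ∧ normalizer (ftA M) = M ∧ normalizer (ftA0 M) = M := by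
  obtain ⟨U, K, hU⟩ := t16_ex_kappa hG hM
  have h1 := t16_typeA1_subset hG hM
  have h2 := ftA_subset_ftA0 M
  have h3 := t16_ftA0_subset hG hM
  obtain ⟨a, ha, ha1⟩ := exists_mem_ne_one_of_ne_bot (t10_2e hG hM)
  have h4 : a ∈ typeA1 M := by rw [t16_typeA1 hG hM]; exact ⟨ha, ha1⟩
  refine ⟨⟨a, h4⟩, h1, h3, ?_, ?_, ?_⟩
  · rw [t16_typeA1 hG hM, normalizer_sdiff_one _ (one_mem _), normalizer_sigmaCore hG hM]
  · refine mmax_normal_set hG hM (fun b hb => (h3 (h2 hb)).1) ?_ ⟨a, h1 h4, ha1⟩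
    rw [t16_ftA hG hM hU]
    exact t16_le_normalizer_of_conj_mem fun m hm b hb =>
      ⟨conj_mem_sigmaA hG hM hU hm hb.1, fun e => hb.2 (by simpa using e)⟩
  · refine mmax_normal_set hG hM (fun b hb => (h3 hb).1) ?_ ⟨a, h2 (h1 h4), ha1⟩
    rw [t16_ftA0 hG hM hU.hallK]
    exact t16_le_normalizer_of_conj_mem fun m hm b hb =>
      ⟨conj_mem_sigmaA0 hm hb.1, fun e => hb.2 (by simpa using e)⟩

/-! ### Theorem E, Peterfalvi (8.17) -/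

theorem t16_exists_mem_sigma (hG : IsMinSimpleOddOrder G) {p : ℕ} (hp : p.Prime)
    (hd : p ∣ Nat.card G) : ∃ M : Subgroup G, IsCoatom M ∧ p ∈ sigma M := by
  have := Fact.mk hp
  obtain ⟨P, hP⟩ := sylow_exists p (⊤ : Subgroup G)
  obtain ⟨M, hM, h⟩ := mmax_exists (mFT_norm_pgroup_ne_top hG hP.isPGroup
    (hP.ne_bot_iff.2 (by rwa [card_top])))
  exact ⟨M, hM, mem_sigma_of_norm_le hM.1 (hP.restrict (le_normalizer.trans h) le_top) h⟩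

/-- the sets `π(M_s)` partition `π(G)` -/
theorem t16_E_primes (hG : IsMinSimpleOddOrder G) :
    (∀ p : ℕ, p.Prime → p ∣ Nat.card G →
        ∃ M : Subgroup G, IsCoatom M ∧ p ∣ Nat.card (typeCore M)) ∧
      ∀ M N : Subgroup G, IsCoatom M → IsCoatom N → (∀ g : G, N ≠ cj g M) →
        (Nat.card (typeCore M)).Coprime (Nat.card (typeCore N)) := by
  refine ⟨fun p hp hd => ?_, fun M N hM hN h => ?_⟩
  · obtain ⟨M, hM, h⟩ := t16_exists_mem_sigma hG hp hd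
    refine ⟨M, hM, ?_⟩
    rw [t16_typeCore hG hM]
    exact (mem_primesOf.1 (primesOf_sigmaCore hG hM ▸ h)).2
  · rw [t16_typeCore hG hM, t16_typeCore hG hN]
    exact (coprime_sigmaCore ((piGrp_sigmaCore M).mono fun p hp => t13_9 hG hM hN h p hp)).symm

theorem t16_E_card (hG : IsMinSimpleOddOrder G) (hM : IsCoatom M) :
    (tildeOf M (typeA1 M)).ncard = (Nat.card (typeCore M) - 1) * M.index := by
  rw [t16_typeA1 hG hM, t16_typeCore hG hM]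
  exact t14_5c hG hM

theorem t16_E_disjoint (hG : IsMinSimpleOddOrder G) (hM : IsCoatom M) (hL : IsCoatom L)
    (h : ∀ g : G, L ≠ cj g M) : Disjoint (tildeOf M (typeA1 M)) (tildeOf L (typeA1 L)) := by
  rw [t16_typeA1 hG hM, t16_typeA1 hG hL]
  exact t14_5b hG hM hL h

theorem t16_E_cover_typeI (hG : IsMinSimpleOddOrder G)
    (h : ∀ M : Subgroup G, IsCoatom M → TypeI M) (hx : x ≠ 1) :
    ∃ M : Subgroup G, IsCoatom M ∧ x ∈ tildeOf M (typeA1 M) := by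
  obtain ⟨M, hM, h'⟩ := t14_9a hG
    (fun M hM => hM.not_typeF ((t16_1a hG hM.coatom).1 (h M hM.coatom))) hx
  exact ⟨M, hM, by rw [t16_typeA1 hG hM]; exact h'⟩

theorem t16_E_cover_typeP (hG : IsMinSimpleOddOrder G) (hM : IsCoatom M)
    (hP : IsTypePWith M W₁ U W₂) (hx : x ≠ 1) :
    (∃ N : Subgroup G, IsCoatom N ∧ x ∈ tildeOf N (typeA1 N)) ∨
      x ∈ classSupport (zhat W₁ W₂) := by
  obtain ⟨h1, h2, h3, -⟩ := t16_typeP_facts hG hM hP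
  rcases t14_9b hG h1 h2 hx with ⟨N, hN, h⟩ | h
  · exact Or.inl ⟨N, hN, by rw [t16_typeA1 hG hN]; exact h⟩
  · exact Or.inr (h3 ▸ h)

theorem t16_E_disjoint_zhat (hG : IsMinSimpleOddOrder G) (hM : IsCoatom M)
    (hP : IsTypePWith M W₁ U W₂) (hL : IsCoatom L) :
    Disjoint (classSupport (zhat W₁ W₂)) (tildeOf L (typeA1 L)) := by
  obtain ⟨h1, h2, h3, -⟩ := t16_typeP_facts hG hM hP
  rw [t16_typeA1 hG hL, ← h3]
  exact t14_9c hG h1 h2 hL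

end CL.BG
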