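import Cfsg.Agent.BG.Fit

set_option autoImplicit false
open Cfsg Subgroup

namespace CL.BG
variable {G : Type*} [Group G] [Finite G]

/-- every nontrivial `H`-invariant subgroup contains a minimal one -/
theorem exists_minNormal {N H : Subgroup G} (hN : N ≠ ⊥) (hH : H ≤ 𝐍(N)) :
    ∃ M : Subgroup G, MinNormal M H ∧ M ≤ N := exists_minNormal_le hN hH

/-- BG 1.1, first part (`minnormal_solvable_abelem`). -/
theorem t1_1a {M H : Subgroup G} (hM : MinNormal M H) (hsol : Group.IsSolvable M) :
    ∃ p : ℕ, p.Prime ∧ IsElementaryAbelian p M := hM.exists_elem hsol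

/-- BG 1.1, second part (`minnormal_solvable_Fitting_center`). -/
theorem t1_1b {M H : Subgroup G} (hM : MinNormal M H) (hMH : M ≤ H) (hsol : Group.IsSolvable M) :
    M ≤ 𝐙(fittingOf H) := hM.le_center_fit hMH hsol

/-- chief factors of solvable groups are elementary abelian (`sol_chief_abelem`). -/
theorem t1_1c {H V U : Subgroup G} (hsol : Group.IsSolvable H) (h : ChiefFactor H V U) :
    ∃ p : ℕ, p.Prime ∧ ⁅U, U⁆ ≤ V ∧ ∀ u ∈ U, u ^ p ∈ V := by
  obtain ⟨p, hp, he⟩ := h.exists_elem (solvable_of_le hsol h.normalU.le)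
  exact ⟨p, hp, (quot_isElementaryAbelian_iff h.norm_U_V).1 he⟩

/-- between two normal subgroups `V < U` of `H` there is a chief factor `W / V` with bottom `V`. -/
theorem exists_chiefFactor_bot {H V U : Subgroup G} (hVU : V < U) (hU : U ⊴ H) (hV : H ≤ 𝐍(V)) :
    ∃ W : Subgroup G, ChiefFactor H V W ∧ W ≤ U := exists_chiefFactor_bot' hVU hU hV

/-- between two normal subgroups `V < U` of `H` there is a chief factor `U / W` with top `U`. -/
theorem exists_chiefFactor_top {H V U : Subgroup G} (hVU : V < U) (hU : U ⊴ H) (hV : H ≤ 𝐍(V)) :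
    ∃ W : Subgroup G, ChiefFactor H W U ∧ V ≤ W := exists_chiefFactor_top' hVU hU hV

end CL.BG
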