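import Cfsg.Agent.BG.Prod
import Cfsg.Agent.Solv.SchurZassenhaus

set_option autoImplicit false
open Cfsg Subgroup

namespace CL.BG
variable {G : Type*} [Group G] [Finite G]

/-- BG 1.14 for normalisers, element form: `N(TM) ∩ N(M) = M (N(T) ∩ N(M))`. -/
theorem t1_14_norm {T M : Subgroup G} (hTM : T ≤ 𝐍(M))
    (hcop : (Nat.card M).Coprime (Nat.card T)) (hsol : Group.IsSolvable M ∨ Group.IsSolvable T)
    {g : G} (hg : cj g T ≤ M ⊔ T) : ∃ m ∈ M, m * g ∈ 𝐍(T) := by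
  have h1 : cj g T ≤ 𝐍(M) := hg.trans (sup_le (le_norm_self M) hTM)
  obtain ⟨m, hm, he⟩ := CL.exists_conj_eq_of_le_sup (A := cj g T) (L := M) (S := T) h1 hTM
    (by rw [card_cj]; exact hcop.symm) (by rw [solvable_cj]; exact hsol.symm) hg (card_cj g T).ge
  refine ⟨m, hm, cj_eq_iff_mem_norm.1 ?_⟩
  rw [cj_mul]
  exact he

/-- BG 1.14 for centralisers, element form. -/
theorem t1_14_cent {T M : Subgroup G} (hTM : T ≤ 𝐍(M))
    (hcop : (Nat.card M).Coprime (Nat.card T)) (hsol : Group.IsSolvable M ∨ Group.IsSolvable T)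
    {g : G} (hg : ∀ t ∈ T, g * t * g⁻¹ * t⁻¹ ∈ M) : ∃ m ∈ M, m * g ∈ 𝐂(T) := by
  refine CL.exists_centralizer_of_coset hTM hcop.symm hsol.symm fun t ht => ?_
  have h1 := M.inv_mem (hg t ht)
  simpa [mul_assoc] using h1

end CL.BG
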