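import Cfsg.Agent.BG.PAmb
import Cfsg.Agent.BG.Prod
import Cfsg.Agent.Solv.MinNormal

set_option autoImplicit false
open Cfsg Subgroup

namespace CL.BG
variable {G : Type*} [Group G] [Finite G]

/-- BG 1.22 (`normal_pgroup`). -/
theorem t1_22 {p : ℕ} [Fact p.Prime] {H N : Subgroup G} (hH : IsPGroup p H) (hN : N ⊴ H) {r : ℕ}
    (hr : p ^ r ∣ Nat.card N) : ∃ Q : Subgroup G, Q ≤ N ∧ Q ⊴ H ∧ Nat.card Q = p ^ r := by
  obtain ⟨Q, h1, h2, h3⟩ := pg_exists_normal_card hH hN r (Nat.le_of_dvd (card_pos' N) hr)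
  exact ⟨Q, h2, h1, h3⟩

/-- the `p`-part of the index of a normal subgroup is seen in a Sylow `p`-subgroup -/
theorem pow_dvd_relIndex_sylow {p : ℕ} [hp : Fact p.Prime] {A C P : Subgroup G}
    (hP : SylowOf p P A) (hC : C ⊴ A) {k : ℕ} (h : p ^ k ∣ C.relIndex A) :
    p ^ k ∣ C.relIndex P := by
  have hle : C ⊔ P ≤ A := sup_le hC.le hP.hall.le
  rw [← relIndex_mul_relIndex C (C ⊔ P) A le_sup_left hle,
    relIndex_sup_of_norm (hP.hall.le.trans hC.norm)] at h
  refine (Nat.Coprime.pow_left k ((Nat.Prime.coprime_iff_not_dvd hp.out).2 fun hd => ?_)).dvd_of_dvd_mul_right h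
  exact hP.not_dvd (hd.trans (relIndex_dvd_of_le_left A le_sup_right))

/-- a `p`-group acting on a group of order dividing `p ^ 2` induces a group of order at most `p` -/
theorem relIndex_cent_dvd_of_card_le_sq {p : ℕ} [hp : Fact p.Prime] {P E : Subgroup G}
    (hP : IsPGroup p P) (hPE : P ≤ 𝐍(E)) (hE : IsPGroup p E) (hc : Nat.card E ≤ p ^ 2) :
    (𝐂(E)).relIndex P ∣ p := by
  obtain ⟨n, hn⟩ := IsPGroup.iff_card.1 hE
  have hn2 : n ≤ 2 := (Nat.pow_le_pow_iff_right hp.out.one_lt).1 (hn ▸ hc)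
  interval_cases n
  · rw [card_eq_one.1 hn, cent_bot, relIndex_top_left]
    exact one_dvd p
  · rw [relIndex_eq_one.2 (pg_le_cent_of_card_prime hP hPE (by simpa using hn))]
    exact one_dvd p
  · exact pg_relIndex_cent_dvd hP hPE hn

/-- `logn_quotient_cent_abelem`: the `p`-part of `|GL₂(p)|` is `p`. -/
theorem not_sq_dvd_relIndex_cent {p : ℕ} [Fact p.Prime] {A E : Subgroup G} (hA : A ≤ 𝐍(E))
    (hE : IsElementaryAbelian p E) (hc : Nat.card E ≤ p ^ 2) :
    ¬ p ^ 2 ∣ (A ⊓ 𝐂(E)).relIndex A := by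
  intro h
  obtain ⟨P, hP⟩ := sylow_exists p A
  have h1 := pow_dvd_relIndex_sylow hP (NormalIn.inf_cent hA) h
  rw [← inf_relIndex_right, inf_comm A, inf_assoc, inf_eq_right.2 hP.hall.le,
    inf_relIndex_right] at h1
  have h2 := h1.trans (relIndex_cent_dvd_of_card_le_sq hP.isPGroup (hP.hall.le.trans hA)
    (CL.isPGroup_of_isElementaryAbelian hE) hc)
  have h3 := Nat.le_of_dvd (Fact.out : p.Prime).pos h2
  have h4 := (Fact.out : p.Prime).one_lt
  nlinarith

end CL.BG
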