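import Cfsg.Agent.BG.Fit

set_option autoImplicit false
open Cfsg Subgroup

namespace CL.BG
variable {G : Type*} [Group G] [Finite G]

/-- BG 1.3 (`cent_sub_Fitting`). -/
theorem t1_3 {H : Subgroup G} (hsol : Group.IsSolvable H) :
    H ⊓ 𝐂(fittingOf H) ≤ fittingOf H := inf_cent_fit_le hsol

end CL.BG
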