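import Cfsg.Agent.BG.Fit

set_option autoImplicit false
open Cfsg Subgroup

namespace CL.BG
variable {G : Type*} [Group G] [Finite G]

/-- BG 1.7(a) (`Phi_nongen`). -/
theorem t1_7a {H X : Subgroup G} (hX : X ≤ H) (h : frattiniOf H ⊔ X = H) : X = H := eq_of_phi_sup_eq h

/-- BG 1.7(b): `H / Φ(H)` is elementary abelian for a `p`-group `H`. -/
theorem t1_7b {p : ℕ} [Fact p.Prime] {H : Subgroup G} (hH : IsPGroup p H) :
    ⁅H, H⁆ ≤ frattiniOf H ∧ ∀ x ∈ H, x ^ p ∈ frattiniOf H := ⟨der_le_phi (nil_of_isPGroup hH), fun _ hx => pow_mem_phi hH hx⟩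

/-- BG 1.7(c) (`trivg_Phi`). -/
theorem t1_7c {p : ℕ} [Fact p.Prime] {H : Subgroup G} (hH : IsPGroup p H) :
    frattiniOf H = ⊥ ↔ IsElementaryAbelian p H := phi_eq_bot_iff hH

/-- BG 1.7(d) (`Phi_joing`). -/
theorem t1_7d {p : ℕ} [Fact p.Prime] {H : Subgroup G} (hH : IsPGroup p H) :
    frattiniOf H = ⁅H, H⁆ ⊔ powerClosure p 1 H := by
  refine le_antisymm (phi_min (p := p) le_sup_left fun x hx => mem_sup_right ?_)
    (sup_le (der_le_phi (nil_of_isPGroup hH)) ?_)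
  · exact subset_closure ⟨x, hx, by simp⟩
  · refine (closure_le _).2 ?_
    rintro _ ⟨x, hx, rfl⟩
    simpa using pow_mem_phi hH hx

/-- `Phi_min`: `Φ(H)` is below every `N` with `H' ≤ N` containing all `p`-th powers. -/
theorem t1_7_min {p : ℕ} [Fact p.Prime] {H N : Subgroup G} (hH : IsPGroup p H)
    (h1 : ⁅H, H⁆ ≤ N) (h2 : ∀ x ∈ H, x ^ p ∈ N) : frattiniOf H ≤ N := phi_min h1 h2

/-- `PhiS`: monotonicity of `Φ` inside a `p`-group. -/
theorem t1_7_mono {p : ℕ} [Fact p.Prime] {H K : Subgroup G} (hH : IsPGroup p H) (hK : K ≤ H) :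
    frattiniOf K ≤ frattiniOf H := phi_mono hH hK

end CL.BG
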