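import Cfsg.Agent.Base
import Cfsg.Agent.BG.Defs
import Cfsg.Agent.BG.PAmb
import Cfsg.Agent.BG.T1_16

set_option autoImplicit false

namespace CL.BG

open Cfsg Subgroup

variable {G : Type*} [Group G] [Finite G]

omit [Finite G] in
theorem t2_7_conj_pow {X : Subgroup G} {a : G} {s : ℕ} (h : ∀ x ∈ X, a * x * a⁻¹ = x ^ s) (m : ℕ) :
    ∀ x ∈ X, a ^ m * x * (a ^ m)⁻¹ = x ^ s ^ m := by
  induction m with
  | zero => simp
  | succ m ih =>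
    intro x hx
    calc a ^ (m + 1) * x * (a ^ (m + 1))⁻¹ = a ^ m * (a * x * a⁻¹) * (a ^ m)⁻¹ := by
          rw [pow_succ]; group
      _ = x ^ s ^ (m + 1) := by rw [h x hx, ih _ (pow_mem hx s), ← pow_mul, pow_succ']

/-- an element of order `q` acting nontrivially on a group of prime order `p` -/
theorem t2_7_power {p q : ℕ} (hp : p.Prime) {X : Subgroup G} (hX : Nat.card X = p) {a : G}
    (ha : a ∈ 𝐍(X)) (haq : a ^ q = 1) (hc : a ∉ 𝐂(X)) :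
    ∃ s : ℕ, (∀ x ∈ X, a * x * a⁻¹ = x ^ s) ∧ s ^ q ≡ 1 [MOD p] ∧ ¬ s ≡ 1 [MOD p] := by
  obtain ⟨y, hy, rfl⟩ := exists_zpowers_of_isCyclic (isCyclic_of_card_prime (hX ▸ hp))
  rw [Nat.card_zpowers] at hX
  obtain ⟨s, hs⟩ := mem_powers_iff_mem_zpowers.2 (conj_mem_of_mem_norm ha hy)
  have h1 : ∀ x ∈ zpowers y, a * x * a⁻¹ = x ^ s := by
    rintro _ ⟨n, rfl⟩
    simp only at hs ⊢
    rw [← conj_zpow, ← hs, ← zpow_natCast, ← zpow_natCast, ← zpow_mul, ← zpow_mul, mul_comm]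
  refine ⟨s, h1, ?_, fun h => hc (mem_cent.2 fun x hx => ?_)⟩
  · have := t2_7_conj_pow h1 q y hy
    rw [haq, one_mul, inv_one, mul_one] at this
    rw [← hX, ← pow_eq_pow_iff_modEq, pow_one, ← this]
  · have h2 : x ^ s = x ^ 1 := pow_eq_pow_iff_modEq.2
      (h.of_dvd (hX ▸ orderOf_dvd_of_mem_zpowers hx))
    have h3 := h1 x hx
    rw [h2, pow_one, mul_inv_eq_iff_eq_mul] at h3
    exact h3.symm

/-- BG 2.7 (Coq `regular_abelem2_on_abelem2`). -/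
theorem t2_7 {p q : ℕ} (hp : p.Prime) (hq : q.Prime) {P Q : Subgroup G}
    (hP : IsElementaryAbelian p P) (hQ : IsElementaryAbelian q Q)
    (hPc : Nat.card P = p ^ 2) (hQc : Nat.card Q = q ^ 2) (hQP : Q ≤ 𝐍(P))
    (hC : Q ⊓ 𝐂(P) = ⊥) :
    q ∣ p - 1 ∧ ∃ a ∈ Q, a ≠ 1 ∧ ∃ r : ℕ, (∀ x ∈ P, a * x * a⁻¹ = x ^ r) ∧
      r ^ q ≡ 1 [MOD p] ∧ ¬ r ≡ 1 [MOD p] := by
  have : Fact p.Prime := ⟨hp⟩
  have hEP : ElemN p 2 P P := ⟨le_rfl, hP, hPc⟩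
  have hEQ : ElemN q 2 Q Q := ⟨le_rfl, hQ, hQc⟩
  have hpq : p ≠ q := by
    rintro rfl
    have h1 := pg_relIndex_cent_dvd hEQ.isPGroup hQP hPc
    have h2 := card_inf_mul_relIndex 𝐂(P) Q
    rw [inf_comm, hC, card_bot, one_mul, hQc] at h2
    rw [h2] at h1
    have := Nat.le_of_dvd hp.pos h1
    have := hp.two_le
    nlinarith
  have hcop := coprime_card_of_isPGroup_of_ne hp hq hpq hEP.isPGroup hEQ.isPGroup
  have hgen := fun L => t1_16a (L := L) hQ.1 (hEQ.not_isCyclic hq le_rfl) hQP hcop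
  have hnc : ∀ a ∈ Q, a ≠ 1 → a ∉ 𝐂(P) := fun a ha h1 h => h1 (mem_bot.1 (hC ▸ ⟨ha, h⟩))
  have hne : ∀ a ∈ Q, a ≠ 1 → P ⊓ 𝐂₁(a) ≠ P := fun a ha h1 h =>
    hnc a ha h1 (le_cent1_iff.1 (inf_eq_left.1 h))
  have hinv : ∀ a ∈ Q, Q ≤ 𝐍(P ⊓ 𝐂₁(a)) := fun a ha =>
    norms_inf hQP (norms_cent1 (hEQ.le_cent1 ha))
  obtain ⟨a, ha, ha1, hab⟩ : ∃ a ∈ Q, a ≠ 1 ∧ ¬ P ⊓ 𝐂₁(a) ≤ ⊥ := by
    by_contra h
    push Not at h
    exact hEP.ne_bot hp two_pos (le_bot_iff.1 (hgen ⊥ h))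
  obtain ⟨b, hb, hb1, hba⟩ : ∃ b ∈ Q, b ≠ 1 ∧ ¬ P ⊓ 𝐂₁(b) ≤ P ⊓ 𝐂₁(a) := by
    by_contra h
    push Not at h
    exact hne a ha ha1 (le_antisymm inf_le_left (hgen _ h))
  have hA := hEP.one_of_two hp inf_le_left (fun h => hab h.le) (hne a ha ha1)
  have hB := hEP.one_of_two hp inf_le_left (fun h => hba (h ▸ bot_le)) (hne b hb hb1)
  have hdp := hEP.dp_of_ne hp hA hB fun h => hba h.ge
  obtain ⟨s, hs, hsq, hs1⟩ := t2_7_power hp hB.card_one (hinv b hb ha) (hQ.2 a ha) fun h =>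
    hnc a ha ha1 (by rw [← hdp.sup, cent_sup]; exact ⟨le_cent1_iff.1 inf_le_right, h⟩)
  obtain ⟨t, ht, htq, ht1⟩ := t2_7_power hp hA.card_one (hinv a ha hb) (hQ.2 b hb) fun h =>
    hnc b hb hb1 (by rw [← hdp.sup, cent_sup]; exact ⟨h, le_cent1_iff.1 inf_le_right⟩)
  have : Fact q.Prime := ⟨hq⟩
  have hsq' : (s : ZMod p) ^ q = 1 := by
    simpa using (ZMod.natCast_eq_natCast_iff _ _ _).2 hsq
  have htq' : (t : ZMod p) ^ q = 1 := by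
    simpa using (ZMod.natCast_eq_natCast_iff _ _ _).2 htq
  have hord : orderOf (s : ZMod p) = q := orderOf_eq_prime hsq' fun h =>
    hs1 ((ZMod.natCast_eq_natCast_iff _ _ _).1 (by simpa using h))
  have : NeZero q := ⟨hq.ne_zero⟩
  obtain ⟨m, -, hm⟩ := (hord ▸ IsPrimitiveRoot.orderOf (s : ZMod p)).eq_pow_of_pow_eq_one htq'
  have hm' : s ^ m ≡ t [MOD p] := (ZMod.natCast_eq_natCast_iff _ _ _).1 (by simpa using hm)
  have k1 : ∀ x ∈ P ⊓ 𝐂₁(a), a ^ m * b * x * (a ^ m * b)⁻¹ = x ^ t := by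
    intro x hx
    have h1 : Commute (x ^ t) (a ^ m) := Commute.pow_pow (mem_cent1.1 hx.2) t m
    calc a ^ m * b * x * (a ^ m * b)⁻¹ = a ^ m * (b * x * b⁻¹) * (a ^ m)⁻¹ := by group
      _ = x ^ t := by rw [ht x hx, ← h1.eq, mul_inv_cancel_right]
  have k2 : ∀ x ∈ P ⊓ 𝐂₁(b), a ^ m * b * x * (a ^ m * b)⁻¹ = x ^ t := by
    intro x hx
    have h1 : x * b = b * x := mem_cent1.1 hx.2
    calc a ^ m * b * x * (a ^ m * b)⁻¹ = a ^ m * (b * x * b⁻¹) * (a ^ m)⁻¹ := by group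
      _ = x ^ t := by
        rw [← h1, mul_inv_cancel_right, t2_7_conj_pow hs m x hx]
        exact pow_eq_pow_iff_modEq.2 (hm'.of_dvd (orderOf_dvd_of_pow_eq_one (hP.2 x hx.1)))
  refine ⟨hord ▸ ZMod.orderOf_dvd_card_sub_one fun h => ?_, a ^ m * b, mul_mem (pow_mem ha m) hb,
    fun h => ?_, t, fun x hx => ?_, htq, ht1⟩
  · rw [h, zero_pow hq.ne_zero] at hsq'
    exact zero_ne_one hsq'
  · obtain ⟨x, hx, hx1, hox, -⟩ := hA.exists_zpowers hp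
    have h1 := k1 x hx
    rw [h, one_mul, inv_one, mul_one] at h1
    exact ht1 (by rw [← hox, ← pow_eq_pow_iff_modEq, pow_one, ← h1])
  · obtain ⟨y, hy, z, hz, rfl⟩ := hdp.exists_mul hx
    rw [(hdp.cp.commute hy hz).mul_pow, ← k1 y hy, ← k2 z hz]
    group

end CL.BG
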