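import Cfsg.Agent.Base
import Cfsg.Agent.BG.Defs
import Cfsg.Agent.BG.Quot
import Cfsg.Agent.BG.QuotPi
import Cfsg.Agent.BG.Prod
import Cfsg.Agent.Solv.Frobenius
set_option autoImplicit false

namespace CL.BG

open Cfsg Subgroup

variable {G : Type*} [Group G] [Finite G]

/-- a semiregular action is coprime -/
theorem t3_semireg_coprime {K R : Subgroup G} (hRK : R ≤ 𝐍(K)) (h : Semiregular K R) :
    (Nat.card K).Coprime (Nat.card R) := (CL.Frob.coprime_of_fpf hRK h).symm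

omit [Finite G] in
/-- in a Frobenius group the kernel contains its centraliser -/
theorem t3_frob_cent_le {K R L : Subgroup G} (hF : Frob K R L) : L ⊓ 𝐂(K) ≤ K := by
  rintro x ⟨hxL, hxC⟩
  obtain ⟨k, hk, r, hr, rfl⟩ := hF.sdp.exists_mul hxL
  by_cases hr1 : r = 1
  · subst hr1; simpa using hk
  exfalso
  have h1 : k * (k * r) = k * r * k := mem_cent.1 hxC k hk
  have h2 : k * r = r * k := by
    have : k * (k * r) = k * (r * k) := by rw [h1, mul_assoc]
    exact mul_left_cancel this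
  have hk1 : k = 1 := by
    have : k ∈ K ⊓ 𝐂₁(r) := ⟨hk, mem_cent1.2 h2⟩
    rwa [hF.reg r hr hr1, mem_bot] at this
  subst hk1
  apply hF.ker_ne
  rw [← hF.reg r hr hr1, eq_comm, inf_eq_left, le_cent1_iff]
  simpa using hxC

/-- BG 3.2(b), special case (Coq `Frobenius_proper_quotient`). -/
theorem t3_2b_lt {K R L N : Subgroup G} (hF : Frob K R L) (hK : Group.IsSolvable K)
    (hN : L ≤ 𝐍(N)) (hNK : N < K) : Frob (quot N K) (quot N R) (quot N L) := by
  have _ := hK
  exact hF.quot hN hNK (t3_semireg_coprime hF.sdp.norm hF.reg)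

/-- BG 3.2(a) (Coq `Frobenius_normal_proper_ker`). -/
theorem t3_2a {K R L N : Subgroup G} (hF : Frob K R L) (hK : Group.IsSolvable K)
    (hN : N ⊴ L) (hKN : ¬ K ≤ N) : N < K := by
  have hM : L ≤ 𝐍(N ⊓ K) := norms_inf hN.norm hF.sdp.le_norm
  have hlt : N ⊓ K < K := lt_of_le_of_ne inf_le_right fun h => hKN (h ▸ inf_le_left)
  have hF' := t3_2b_lt hF hK hM hlt
  have hNM : N ≤ 𝐍(N ⊓ K) := hN.le.trans hM
  have hKM : K ≤ 𝐍(N ⊓ K) := hF.sdp.left_le.trans hM
  have h1 : quot (N ⊓ K) N ≤ 𝐂(quot (N ⊓ K) K) := by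
    rw [quot_le_centralizer_iff hNM hKM]
    exact le_inf (commutator_le_left_of_norm (hF.sdp.left_le.trans hN.norm))
      (commutator_le_right_of_norm (hN.le.trans hF.sdp.le_norm))
  have h2 : quot (N ⊓ K) N ≤ quot (N ⊓ K) K :=
    (le_inf (quot_mono _ hN.le) h1).trans (t3_frob_cent_le hF')
  rw [quot_le_quot_iff_of_le hNM inf_le_right] at h2
  exact lt_of_le_of_ne h2 fun h => hKN h.ge

/-- BG 3.2(b) (Coq `Frobenius_quotient`). -/
theorem t3_2b {K R L N : Subgroup G} (hF : Frob K R L) (hK : Group.IsSolvable K)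
    (hN : N ⊴ L) (hKN : ¬ K ≤ N) : Frob (quot N K) (quot N R) (quot N L) :=
  t3_2b_lt hF hK hN.norm (t3_2a hF hK hN hKN)

end CL.BG
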