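import Cfsg.Agent.Base
import Cfsg.Agent.BG.Defs
import Cfsg.Agent.BG.A3_Red
import Cfsg.Agent.BG.PAmb
import Cfsg.Agent.BG.T1_6
import Cfsg.Agent.BG.T1_16
import Cfsg.Agent.BG.T1_19
import Cfsg.Agent.Solv.UniqueSubgroupP

set_option autoImplicit false

namespace CL.BG

open Cfsg Subgroup

variable {G : Type*} [Group G] [Finite G]

/-- an abelian group acting regularly on a nontrivial group is cyclic -/
theorem t3_9_comm {H R : Subgroup G} (hR : IsMulCommutative R) (hH : H ≠ ⊥) (hRH : R ≤ 𝐍(H))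
    (hreg : Semiregular H R) : IsCyclic R := by
  by_contra hnc
  exact hH (le_bot_iff.1 (t1_16a hR hnc hRH (hreg.coprime hRH) fun a ha h1 => (hreg a ha h1).le))

/-- BG 3.9 (Coq `odd_regular_pgroup_cyclic`). -/
theorem t3_9 {p : ℕ} (hp : p.Prime) {H R : Subgroup G} (hR : IsPGroup p R)
    (hodd : Odd (Nat.card R)) (hH : H ≠ ⊥) (hRH : R ≤ 𝐍(H)) (hreg : Semiregular H R) :
    IsCyclic R := by
  have : Fact p.Prime := ⟨hp⟩
  by_cases hR1 : R = ⊥
  · subst hR1; infer_instance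
  refine CL.isCyclic_of_odd_of_forall_elementary hR (pg_ne_two hR hodd hR1) fun A hA _ => ?_
  rw [← isCyclic_map_subtype_iff]
  exact t3_9_comm (comm_map hA _) hH ((map_subtype_le A).trans hRH)
    (hreg.mono_right (map_subtype_le A))

/-- A group of odd order acting regularly on a nontrivial group is a Z-group. -/
theorem t3_9_zgroup {H R : Subgroup G}
    (hodd : Odd (Nat.card R)) (hH : H ≠ ⊥) (hRH : R ≤ 𝐍(H)) (hreg : Semiregular H R) :
    IsZGroup R := by
  refine ⟨fun p hp P => ?_⟩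
  rw [← isCyclic_map_subtype_iff]
  have hle := map_subtype_le (P : Subgroup R)
  exact t3_9 hp (P.isPGroup'.map _) (odd_card_of_le hodd hle) hH (hle.trans hRH)
    (hreg.mono_right hle)

/-- Coq `odd_regular_nil_cyclic`. -/
theorem t3_9_nil {H R : Subgroup G} (hR : Group.IsNilpotent R)
    (hodd : Odd (Nat.card R)) (hH : H ≠ ⊥) (hRH : R ≤ 𝐍(H)) (hreg : Semiregular H R) :
    IsCyclic R := nil_isCyclic_of_isZGroup hR (t3_9_zgroup hodd hH hRH hreg)

/-- Inside a group acting regularly on a nontrivial group, a subgroup of prime order centralises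
every solvable subgroup of prime order it normalises. -/
theorem t3_9_cent {H R U Q : Subgroup G} (hH : H ≠ ⊥) (hRH : R ≤ 𝐍(H)) (hreg : Semiregular H R)
    (hUR : U ≤ R) (hQR : Q ≤ R) (hU : (Nat.card U).Prime) (hQ : (Nat.card Q).Prime)
    (hUQ : U ≤ 𝐍(Q)) : U ≤ 𝐂(Q) := by
  rcases le_or_inf_eq_bot_of_prime hQ 𝐂(U) with h | h
  · exact cent_symm h
  exfalso
  have hL : Q ⊔ U ≤ R := sup_le hQR hUR
  have hcop := hreg.coprime hRH
  obtain ⟨V, hVH, hV1, hVc, hLV⟩ := red_exists_inv_elem hH (hL.trans hRH)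
    (coprime_card_mono hcop le_rfl hL)
    (Or.inr (solvable_sup hUQ (solvable_of_card_prime hQ) (solvable_of_card_prime hU)))
  have h1 := t3_3_cent hUQ (semiregular_of_card_prime hU h) hVc (le_sup_left.trans hLV)
    (le_sup_right.trans hLV) (coprime_card_mono hcop hVH hQR)
    ((hreg.mono_left hVH).inf_cent_eq_bot hUR (ne_bot_of_card_prime hU))
  exact hV1 (hreg.eq_bot_of_le_cent hQR (ne_bot_of_card_prime hQ) hVH (cent_symm h1))

/-- Coq `regular_pq_group_cyclic` (Aschbacher 40.6(3)). -/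
theorem t3_9_pq {p q : ℕ} (hp : p.Prime) (hq : q.Prime) (hpq : p ≠ q) {H R : Subgroup G}
    (hR : Nat.card R = p * q) (hH : H ≠ ⊥) (hRH : R ≤ 𝐍(H)) (hreg : Semiregular H R) :
    IsCyclic R := by
  have hZ : IsZGroup R := IsZGroup.of_squarefree (by
    rw [hR, Nat.squarefree_mul ((Nat.coprime_primes hp hq).2 hpq)]
    exact ⟨hp.prime.squarefree, hq.prime.squarefree⟩)
  obtain ⟨hc, K, hK, hs⟩ := t1_19d hZ
  by_cases h1 : ⁅R, R⁆ = ⊥
  · rw [h1] at hs
    exact hs.right_eq_of_bot ▸ hK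
  by_cases h2 : K = ⊥
  · rw [h2] at hs
    exact hs.left_eq_of_bot ▸ hc
  have hcard := hs.card
  rw [hR] at hcard
  have a1 := one_lt_card_of_ne_bot h1
  have a2 := one_lt_card_of_ne_bot h2
  have hpr : (Nat.card ↥⁅R, R⁆).Prime ∧ (Nat.card K).Prime := by
    have key : ∀ a b : ℕ, 1 < a → 1 < b → a * b = p * q → p ∣ a → a.Prime ∧ b.Prime := by
      rintro a b ha hb hab ⟨c, rfl⟩
      rw [mul_assoc] at hab
      have h3 := Nat.eq_of_mul_eq_mul_left hp.pos hab
      rcases (Nat.dvd_prime hq).1 (Dvd.intro_left _ h3) with h | h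
      · omega
      · subst h
        have : c = 1 := by
          have := hq.pos
          nlinarith
        subst this
        simpa using ⟨hp, hq⟩
    rcases (Nat.Prime.dvd_mul hp).1 (hcard ▸ Dvd.intro q rfl) with h | h
    · exact key _ _ a1 a2 hcard h
    · exact (key _ _ a2 a1 (by rw [mul_comm, hcard]) h).symm
  have h3 := t3_9_cent hH hRH hreg hs.right_le hs.left_le hpr.2 hpr.1 hs.norm
  exact t3_9_comm ((hs.dp h3).comm (comm_of_isCyclic hc) (comm_of_isCyclic hK)) hH hRH hreg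

/-- Coq `odd_regular_metacyclic`. -/
theorem t3_9_metacyclic {H R : Subgroup G}
    (hodd : Odd (Nat.card R)) (hH : H ≠ ⊥) (hRH : R ≤ 𝐍(H)) (hreg : Semiregular H R) :
    IsMetacyclic R := by
  obtain ⟨hc, K, hK, hs⟩ := t1_19d (t3_9_zgroup hodd hH hRH hreg)
  refine isMetacyclic_iff.2 ⟨⁅R, R⁆, NormalIn.der R, hc, ?_⟩
  rw [hs.quot_eq]
  exact quot_isCyclic _ hK

/-- Coq `prime_odd_regular_normal` (Huppert V.8.18 b). -/
theorem t3_9_normal {H R U : Subgroup G} (hU : (Nat.card U).Prime) (hUR : U ≤ R)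
    (hodd : Odd (Nat.card R)) (hH : H ≠ ⊥) (hRH : R ≤ 𝐍(H)) (hreg : Semiregular H R) :
    U ⊴ R := by
  have hZ := t3_9_zgroup hodd hH hRH hreg
  obtain ⟨hc, -⟩ := t1_19d hZ
  have hD := NormalIn.der R
  by_cases hd : Nat.card U ∣ Nat.card ↥⁅R, R⁆
  · refine cyc_normalIn hc ((t1_19b hZ).hall.le_of_normal hD.norm hUR ?_) hD
    exact (piGrp_iff_of_card_prime hU rfl).2 ⟨hU, hd⟩
  have hcop : (Nat.card ↥⁅R, R⁆).Coprime (Nat.card U) := ((Nat.Prime.coprime_iff_not_dvd hU).2 hd).symm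
  have h1 : U ≤ 𝐂(⁅R, R⁆) := by
    refine t1_6e (hUR.trans hD.norm) hcop (comm_of_isCyclic hc) fun x hx hpx => ?_
    have hx' : zpowers x ≤ ⁅R, R⁆ := zpowers_le.2 hx
    rw [← cent_zpowers]
    exact t3_9_cent hH hRH hreg hUR (hx'.trans hD.le) hU (by rwa [Nat.card_zpowers])
      (hUR.trans (cyc_normalIn hc hx' hD).norm)
  have hdp : DP ⁅R, R⁆ U (⁅R, R⁆ ⊔ U) := DP.mk_sup h1 (disj_of_coprime hcop)
  have hN : ⁅R, R⁆ ⊔ U ⊴ R := NormalIn.of_der_le le_sup_left (sup_le hD.le hUR)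
  have hall : Hall (primesOf U) U (⁅R, R⁆ ⊔ U) := (hdp.sdp.isHall_right hcop).hall
  exact hall.normalIn_trans hdp.right_normalIn.norm hN

end CL.BG
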