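import Cfsg.Agent.BG.PAmb
import Cfsg.Agent.BG.Z2
import Cfsg.Agent.S0096
import Cfsg.Agent.S0123
import Cfsg.Agent.S0124

set_option autoImplicit false

namespace CL.BG

open Cfsg Subgroup

variable {G : Type*} [Group G] [Finite G]

omit [Finite G] in
theorem class_two_coe {R : Subgroup G} (h : ⁅⁅R, R⁆, R⁆ = ⊥) :
    ⁅commutator R, (⊤ : Subgroup R)⁆ = ⊥ := by
  apply map_injective R.subtype_injective
  rw [map_commutator, map_subtype_commutator, map_subtype_top', h, Subgroup.map_bot]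

omit [Finite G] in
theorem class_three_coe {R : Subgroup G} (h : ⁅⁅⁅R, R⁆, R⁆, R⁆ = ⊥) :
    ⁅⁅commutator R, (⊤ : Subgroup R)⁆, (⊤ : Subgroup R)⁆ = ⊥ := by
  apply map_injective R.subtype_injective
  rw [map_commutator, map_commutator, map_subtype_commutator, map_subtype_top', h,
    Subgroup.map_bot]

/-- BG 4.3(a). -/
theorem t4_3a {p : ℕ} [Fact p.Prime] {R : Subgroup G} (hR : IsPGroup p R) (hodd : Odd (Nat.card R))
    (hcl : ⁅⁅R, R⁆, R⁆ = ⊥ ∨ (3 < p ∧ ⁅⁅⁅R, R⁆, R⁆, R⁆ = ⊥)) :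
    ∀ x ∈ omegaOne p R, x ^ p = 1 := by
  intro x hx
  rw [← omegaOne_closure_map_subtype] at hx
  obtain ⟨y, hy, rfl⟩ := hx
  by_cases hne : R = ⊥
  · subst hne; rw [Subsingleton.elim y 1]; simp
  have h : y ^ p = 1 := by
    rcases hcl with h | ⟨h3, h⟩
    · exact Cfsg.Agent.S0096.result (pg_ne_two hR hodd hne) hR (class_two_coe h) y hy
    · exact Cfsg.Agent.S0124.result h3 hR (class_three_coe h) y hy
  simpa using congrArg Subtype.val h

/-- BG 4.3(b). -/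
theorem t4_3b {p : ℕ} [Fact p.Prime] {R : Subgroup G} (hR : IsPGroup p R) (hodd : Odd (Nat.card R))
    (hcl : ⁅⁅R, R⁆, R⁆ = ⊥ ∨ (3 < p ∧ ⁅⁅⁅R, R⁆, R⁆, R⁆ = ⊥)) (hder : ⁅R, R⁆ ≤ omegaOne p R) :
    ∀ x ∈ R, ∀ y ∈ R, (x * y) ^ p = x ^ p * y ^ p := by
  intro x hx y hy
  by_cases hne : R = ⊥
  · subst hne; rw [mem_bot.1 hx, mem_bot.1 hy]; simp
  have h := Cfsg.Agent.S0123.result hR
    (hcl.imp (fun h => ⟨pg_ne_two hR hodd hne, class_two_coe h⟩)
      fun h => ⟨h.1, class_three_coe h.2⟩)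
    (by rw [← map_subtype_le_map_subtype, map_subtype_commutator, omegaOne_closure_map_subtype]
        exact hder) ⟨x, hx⟩ ⟨y, hy⟩
  simpa using congrArg Subtype.val h

end CL.BG
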