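import Cfsg.Agent.BG.PAmb
import Cfsg.Agent.BG.Z2
import Cfsg.Agent.BG.Fit
import Cfsg.Agent.BG.T1_18

set_option autoImplicit false

namespace CL.BG

open Cfsg Subgroup
open scoped commutatorElement

variable {G : Type*} [Group G] [Finite G]

/-- BG 4.4(a): in a nilpotent group a maximal abelian normal subgroup is self-centralising. -/
theorem t4_4a {R A : Subgroup G} (hR : Group.IsNilpotent R) (hA : A ⊴ R) (hab : IsMulCommutative A)
    (hmax : ∀ B : Subgroup G, B ⊴ R → IsMulCommutative B → A ≤ B → B = A) : IsSCN R A := by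
  refine isSCN_iff.2 ⟨hA, le_antisymm ?_ (le_inf hA.le (le_cent_of_comm hab))⟩
  by_contra hC
  have hCn : R ⊓ 𝐂(A) ⊴ R := NormalIn.inf_cent hA.norm
  have h1 := nil_meet_center (quot_isNilpotent A hR) (hCn.quot A)
    (by rwa [Ne, quot_eq_bot_iff (hCn.le.trans hA.norm)])
  obtain ⟨y, ⟨hy1, -, hy2⟩, hy3⟩ := exists_ne_one_of_ne_bot h1
  obtain ⟨x, hx, hxN, rfl⟩ := mem_quot.1 hy1
  have hz : zpowers x ≤ R := zpowers_le.2 hx.1
  have h2 : ⁅zpowers x, R⁆ ≤ A := by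
    rw [← quot_le_centralizer_iff (hz.trans hA.norm) hA.norm, quot_zpowers hxN]
    exact zpowers_le.2 hy2
  have h3 : A ⊔ zpowers x ⊴ R := ⟨sup_le hA.le hz, le_norm_of_commutator_le le_rfl (by
    rw [commutator_le]
    intro g hg r hr
    obtain ⟨a, ha, c, hc, rfl⟩ := (mem_sup_iff_of_norm (hz.trans hA.norm)).1 hg
    have e : ⁅a * c, r⁆ = a * ⁅c, r⁆ * a⁻¹ * ⁅a, r⁆ := by simp only [commutatorElement_def]; group
    rw [e]
    exact mem_sup_left (A.mul_mem (A.mul_mem (A.mul_mem ha (h2 (commutator_mem_commutator hc hr)))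
      (A.inv_mem ha)) (hA.commutator_le (commutator_mem_commutator ha hr))))⟩
  have h4 := hmax _ h3 (comm_sup hab (comm_of_isCyclic inferInstance) (zpowers_le.2 hx.2))
    le_sup_left
  exact hy3 (coset_eq_one (h4 ▸ mem_sup_right (mem_zpowers x)))

/-- BG 4.4(a): every abelian normal subgroup of a nilpotent group lies in a member of `SCN`. -/
theorem t4_4a' {R B : Subgroup G} (hR : Group.IsNilpotent R) (hB : B ⊴ R)
    (hab : IsMulCommutative B) : ∃ A : Subgroup G, IsSCN R A ∧ B ≤ A := by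
  obtain ⟨A, h1, ⟨h2, h3⟩, h4⟩ :=
    exists_maximal_ge (P := fun A : Subgroup G => A ⊴ R ∧ IsMulCommutative A) ⟨hB, hab⟩
  exact ⟨A, t4_4a hR h2 h3 fun B hB hc hle => h4 B ⟨hB, hc⟩ hle, h1⟩

/-- BG 4.4(b). -/
theorem t4_4b {p : ℕ} [Fact p.Prime] {H R A : Subgroup G} (hR : SylowOf p R H) (hA : IsSCN R A) :
    DP A (piCoreOf {p}ᶜ (H ⊓ 𝐂(A))) (H ⊓ 𝐂(A)) := by
  have h1 : SylowOf p R (H ⊓ 𝐍(A)) := hR.restrict (le_inf hR.le (scn_normalIn hA).norm) inf_le_left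
  have h2 : H ⊓ 𝐂(A) ⊴ H ⊓ 𝐍(A) := by
    have := (NormalIn.cent_norm A).inf_inf H
    rwa [inf_comm 𝐂(A), inf_comm 𝐍(A)] at this
  have h3 : SylowOf p A (H ⊓ 𝐂(A)) := by
    have := Hall.inf_normal h1 h2
    rwa [← inf_assoc, inf_eq_left.2 hR.le, scn_cent hA] at this
  exact ((t1_18 h3 (inf_le_left.trans inf_le_right)).dp
    (cent_symm ((piCoreOf_le _ _).trans inf_le_right))).symm

end CL.BG
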