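import Cfsg.Agent.BG.PAmb
import Cfsg.Agent.BG.Z2
import Cfsg.Agent.PGrp.RankTwo

set_option autoImplicit false

namespace CL.BG

open Cfsg Subgroup

variable {G : Type*} [Group G] [Finite G]

/-- BG 4.6. -/
theorem t4_6 {p : ℕ} [Fact p.Prime] {R : Subgroup G} (hR : IsPGroup p R) (hodd : Odd (Nat.card R)) {S : Subgroup G}
    (hS : S ⊴ R) (hnc : ¬ IsCyclic S) : ∃ E : Subgroup G, ElemN p 2 S E ∧ E ⊴ R := by
  have := hS.normal
  obtain ⟨A, h0, hA, h1, h2⟩ := PGrp.RankTwo.exists_normal_elementary_le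
    (pg_ne_two_of_not_isCyclic hR hodd fun h => hnc (isCyclic_of_le h hS.le)) hR (S.subgroupOf R)
    (by rwa [isCyclic_subgroupOf_iff hS.le])
  refine ⟨A.map R.subtype, ⟨?_, EA.map h1 _, by rw [card_map_subtype', h2]⟩,
    NormalIn.map_subtype A⟩
  rw [← map_subgroupOf_eq_of_le hS.le]
  exact map_mono h0

end CL.BG
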