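import Cfsg.Agent.BG.PAmb
import Cfsg.Agent.BG.Z2
import Cfsg.Agent.PGrp.RankTwo

set_option autoImplicit false

namespace CL.BG

open Cfsg Subgroup

variable {G : Type*} [Group G] [Finite G]

/-- BG 4.7, strong form: an odd `p`-group of rank at least 3 has a normal `E_{p^3}`. -/
theorem t4_7_normal {p : ℕ} [Fact p.Prime] {R : Subgroup G} (hR : IsPGroup p R) (hodd : Odd (Nat.card R)) (hr : 2 < pRank p R) :
    ∃ E : Subgroup G, ElemN p 3 R E ∧ E ⊴ R := by
  have hp : p.Prime := Fact.out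
  by_contra hcon
  refine (lt_pRank_iff hp).1 hr (PGrp.RankTwo.card_le_sq_of_no_normal_cube
    (pg_ne_two_of_not_isCyclic hR hodd (not_isCyclic_of_two_le_pRank hp hr.le)) hR
    fun A hA h1 h2 h3 => hcon ⟨A.map R.subtype, ⟨map_subtype_le _, EA.map ⟨h1, h2⟩ _, ?_⟩,
      NormalIn.map_subtype A⟩)
  rw [card_map_subtype', h3]

/-- BG 4.7. -/
theorem t4_7 {p : ℕ} [Fact p.Prime] {R : Subgroup G} (hR : IsPGroup p R) (hodd : Odd (Nat.card R)) :
    pRank p R ≤ 2 ↔ ¬ ∃ A : Subgroup G, SCNn 3 R A := by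
  have hp : p.Prime := Fact.out
  constructor
  · rintro h ⟨A, hA⟩
    have := (hA.le_pRank hp hR).trans (pRank_mono hp (scn_le hA.scn))
    omega
  · intro h
    by_contra hr
    obtain ⟨E, hE, hn⟩ := t4_7_normal hR hodd (not_le.1 hr)
    obtain ⟨A, hA, hEA⟩ := exists_scn_ge hp hR hn hE.comm
    exact h ⟨A, hA, (hE.of_le hEA).le_rank hp⟩

end CL.BG
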