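import Cfsg.Agent.BG.PAmb
import Cfsg.Agent.BG.Z2
import Cfsg.Agent.PGrp.RankTwo

set_option autoImplicit false

namespace CL.BG

open Cfsg Subgroup

variable {G : Type*} [Group G] [Finite G]

/-- BG 4.8(a). -/
theorem t4_8a {p : ℕ} [Fact p.Prime] {R : Subgroup G} (hR : IsPGroup p R) (hr : pRank p R ≤ 2)
    (he : ∀ x ∈ R, x ^ p = 1) : Nat.card R ≤ p ^ 3 := by
  exact PGrp.RankTwo.card_le_cube_of_exponent ((pRank_le_iff Fact.out).1 hr)
    fun x => Subtype.ext (he x x.2)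

/-- BG 4.8(b). -/
theorem t4_8b {p : ℕ} [Fact p.Prime] {R : Subgroup G} (hR : IsPGroup p R) (hr : pRank p R ≤ 2) (hp : 3 < p) :
    ∀ x ∈ omegaOne p R, x ^ p = 1 := by
  intro x hx
  rw [← omegaOne_closure_map_subtype] at hx
  obtain ⟨y, hy, rfl⟩ := hx
  simpa using congrArg Subtype.val
    (PGrp.RankTwo.pow_eq_one_of_rank_two hp hR ((pRank_le_iff Fact.out).1 hr) hy)

end CL.BG
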