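import Cfsg.Agent.BG.PAmb
import Cfsg.Agent.BG.Z2
import Cfsg.Agent.PGrp.RankTwo2

set_option autoImplicit false

namespace CL.BG

open Cfsg Subgroup

variable {G : Type*} [Group G] [Finite G]

/-- BG 4.9. -/
theorem t4_9 {p : ℕ} [Fact p.Prime] {R : Subgroup G} (hR : IsPGroup p R) (hp : 3 < p)
    (hO : Nat.card (omegaOne p R) ≤ p ^ 2) {T : Subgroup G} (hT : T ⊴ R) :
    Nat.card (omegaOne p (quot T R)) ≤ p ^ 2 := by
  have := hT.normal
  have h := PGrp.RankTwo.card_omega_quotient_le hp hR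
    (by rwa [← omegaOne_top_eq, card_omegaOne_top]) (T.subgroupOf R)
  rw [← card_omegaOne_top, omegaOne_top_eq]
  exact (PGrp.RankTwo.card_omega_le_of_injective (quotEquiv hT.norm).symm.toMonoidHom
    (quotEquiv hT.norm).symm.injective).trans h

end CL.BG
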