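import Cfsg.Agent.BG.Quot
import Cfsg.Agent.BG.Z2
import Cfsg.Agent.BG.T4_7
import Cfsg.Agent.BG.T1_22

set_option autoImplicit false

namespace CL.BG

open Cfsg Subgroup

variable {G : Type*} [Group G] [Finite G]

/-- BG 5.1(a). -/
theorem t5_1a {p : ℕ} [Fact p.Prime] {R : Subgroup G} (hR : IsPGroup p R) (hodd : Odd (Nat.card R))
    (hr : 2 < pRank p R) : ∃ B : Subgroup G, SCNn 3 R B := by
  by_contra h
  exact absurd ((t4_7 hR hodd).2 h) (not_le.2 hr)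

/-- BG 5.1(b). -/
theorem t5_1b {p : ℕ} [Fact p.Prime] {R : Subgroup G} (hR : IsPGroup p R) (hodd : Odd (Nat.card R))
    (hr : 2 < pRank p R) {E : Subgroup G} (hE : ElemN p 2 R E) (hn : E ⊴ R) :
    ∃ B : Subgroup G, SCNn 3 R B ∧ E ≤ B := by
  have hp : p.Prime := Fact.out
  obtain ⟨B, hB, hBn⟩ := t4_7_normal hR hodd hr
  have hidx : (𝐂(E)).relIndex B ∣ p :=
    relIndex_cent_dvd_of_card_le_sq hB.isPGroup (hB.le.trans hn.norm) hE.isPGroup hE.card.le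
  obtain ⟨k, hk, hCk⟩ := hB.self.exists_inf_of_relIndex_le hp (K := 𝐂(E)) (k := 1)
    (by rw [pow_one]; exact Nat.le_of_dvd hp.pos hidx)
  have hel : IsElementaryAbelian p (E ⊔ (𝐂(E) ⊓ B)) := elemAb_sup hE.elem hCk.elem inf_le_left
  have hle : E ⊔ (𝐂(E) ⊓ B) ≤ R := sup_le hE.le (inf_le_right.trans hB.le)
  have hnorm : E ⊔ (𝐂(E) ⊓ B) ⊴ R :=
    normalIn_iff.2 ⟨hle, norms_sup hn.norm (norms_inf (norms_cent hn.norm) hBn.norm)⟩
  obtain ⟨n, hn'⟩ := exists_elemN_of_elemAb hp hel hle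
  obtain ⟨D, hD, hsD⟩ := exists_scn_ge hp hR hnorm hn'.comm
  refine ⟨D, ⟨hD, le_trans ?_ ((hn'.of_le hsD).le_rank hp)⟩, le_sup_left.trans hsD⟩
  by_cases hEB : E ≤ B
  · exact hB.le_of_le hn' hp (le_trans (le_inf (hB.le_cent_of_le le_rfl hEB) le_rfl) le_sup_right)
  · have hlt : 𝐂(E) ⊓ B < E ⊔ (𝐂(E) ⊓ B) :=
      lt_of_le_of_ne le_sup_right fun h => hEB ((le_sup_left.trans h.ge).trans inf_le_right)
    have := hCk.lt_of_lt hn' hp hlt
    omega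

end CL.BG
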