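import Cfsg.Agent.BG.T1_12
import Cfsg.Agent.BG.T1_21
import Cfsg.Agent.BG.Fit
import Cfsg.Agent.BG.Elem

set_option autoImplicit false
open Cfsg Subgroup

namespace CL.BG
variable {G : Type*} [Group G] [Finite G]

/-- BG 6.7 (`plength1_norm_pmaxElem`). -/
theorem t6_7 {p : ℕ} [Fact p.Prime] (hp : p ≠ 2) {H E L : Subgroup G} (hE : MaxElem p H E)
    (hsol : Group.IsSolvable H) (h : PLengthLE p 1 H) (hLH : L ≤ H) (hEL : E ≤ 𝐍(L))
    (hL : (Nat.card L).Coprime p) : L ≤ piCoreOf {p}ᶜ H := by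
  have hp' : p.Prime := Fact.out
  set V := piCoreOf {p}ᶜ H with hVdef
  have hV : V ⊴ H := piCoreOf_normalIn _ H
  obtain ⟨S, hS, hES⟩ := sylow_superset hE.isPGroup hE.le
  have hSV : S ≤ 𝐍(V) := hS.hall.le.trans hV.norm
  have hVS : V ⊓ S = ⊥ := (piGrp_piCoreOf _ H).inf_eq_bot' hS.hall.pi
  have hL' : PiGrp {p}ᶜ L := (piGrp_compl_singleton_iff_coprime hp').2 hL
  have h1 : quot V S = piCoreOf {p} (quot V H) := by
    rw [← quot_pPrimePCoreOf, ← core_sup_sylow_of_pLen1 hS h, quot_self_sup hSV]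
  have hn : quot V L ≤ 𝐍(quot V S) := by
    rw [h1]
    exact (quot_mono V hLH).trans (le_norm_piCoreOf _ _)
  have hLE : quot V L ≤ 𝐂(quot V E) := by
    rw [← commutator_eq_bot_iff', ← le_bot_iff, ← (hL'.quot V).inf_eq_bot' (hS.hall.pi.quot V)]
    exact le_inf (commutator_le_left_of_norm (quot_normalizer V hEL))
      ((commutator_mono le_rfl (quot_mono V hES)).trans (commutator_le_right_of_norm hn))
  have h2 : quot V L ≤ 𝐂(quot V S) := by
    refine t1_12 hp (quot_isPGroup V hS.isPGroup) (quot_mono V hES)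
      (quot_isElementaryAbelian V hE.elem) hn ((hS.hall.pi.quot V).coprime (hL'.quot V))
      fun y hy hyp => hLE.trans (cent_le_cent1 ?_)
    obtain ⟨x, hx, hxV, rfl⟩ := mem_quot.1 hy.1
    refine coset_mem_quot (hE.mem (hS.hall.le hx) ?_ ?_)
    · have h3 : quot V (zpowers x) ≤ 𝐂(quot V E) := by
        rw [quot_zpowers hxV]
        exact zpowers_le_of_mem hy.2
      have hxS := zpowers_le_of_mem hx
      rw [quot_le_centralizer_iff (hxS.trans hSV) (hES.trans hSV)] at h3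
      have h4 : ⁅zpowers x, E⁆ = ⊥ := le_bot_iff.1
        ((le_inf h3 ((commutator_mono hxS hES).trans (NormalIn.der S).le)).trans hVS.le)
      exact commutator_eq_bot_iff'.1 h4 (mem_zpowers x)
    · rw [← coset_pow hxV, coset_eq_one_iff (pow_mem hxV p)] at hyp
      exact mem_bot.1 (hVS ▸ ⟨hyp, S.pow_mem hx p⟩)
  rw [h1] at h2
  have h3 := (le_inf (quot_mono V hLH) h2).trans
    (inf_cent_core_le (quot_isSolvable V hsol) (piCoreOf_quot_piCoreOf _ H))
  exact (quot_eq_bot_iff (hLH.trans hV.norm)).1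
    (((piGrp_piCoreOf _ _).of_le h3).eq_bot (hL'.quot V))

end CL.BG
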