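import Cfsg.Agent.BG.T7_1
import Cfsg.Agent.BG.A7_Rank

namespace CL.BG

open Cfsg

variable {G : Type*} [Group G] [Finite G]

/-- BG Theorem 7.2 -/
theorem t7_2 (hG : IsMinSimpleOddOrder G) {π : Set ℕ} {A : Subgroup G}
    (hA : NormedConstrained π A) {q : ℕ} [Fact q.Prime] (hq : q ∉ π) (hZ : 3 ≤ rank 𝐙(A)) :
    TransOn (piCoreOf πᶜ 𝐂(A)) A q := by
  intro Q₁ h₁ Q₂ h₂
  by_cases hb₁ : Q₁ = ⊥
  · subst hb₁
    exact ⟨1, one_mem _, by rw [cj_one]; exact maxInv_bot h₁ (mem_maxInvSubgroups.1 h₂).1⟩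
  have hb₂ : Q₂ ≠ ⊥ := by
    rintro rfl
    exact hb₁ (maxInv_bot h₂ (mem_maxInvSubgroups.1 h₁).1)
  obtain ⟨p, hp, m, hm, B, hB⟩ := a7_exists_elem_of_le_rank hZ
  have hBA : B ≤ A := hB.le.trans inf_le_left
  have hcop : ∀ Q ∈ maxInvSubgroups ⊤ A {q}, ∀ C : Subgroup G, C ≤ B →
      (Nat.card Q).Coprime (Nat.card C) := fun Q hQ C hC =>
    (piGrp_compl_of_isPGroup (maxInv_isPGroup hQ) hq).coprime' (hA.piGrp.of_le (hC.trans hBA))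
  have h3 : p ^ (2 + 1) ∣ Nat.card B := hB.card ▸ pow_dvd_pow p hm
  have : ∃ C : Subgroup G, C ≤ B ∧ p ^ 2 ∣ Nat.card C ∧ Q₁ ⊓ 𝐂(C) ≠ ⊥ := by
    by_contra hcon
    push Not at hcon
    exact hb₁ (le_bot_iff.1 (a7_le_of_hyperplanes hp hB.elem h3 (hBA.trans (maxInv_norm h₁))
      (hcop _ h₁ _ le_rfl) fun C hC hc => (hcon C hC hc).le))
  obtain ⟨C, hCB, hC, hne⟩ := this
  have hCe := CL.EA.mono hB.elem hCB
  obtain ⟨z, hz, hz1, hne₂⟩ := a7_exists_cent1_ne_bot hCe.1 (a7_not_isCyclic hp hCe hC)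
    ((hCB.trans hBA).trans (maxInv_norm h₂)) (hcop _ h₂ _ hCB) hb₂
  refine t7_1 hG hA hq h₁ h₂ (mFT_cent1_ne_top hG hz1)
    (le_cent1_iff.2 (hB.le (hCB hz)).2) ?_ ?_
  · rw [inf_comm]
    exact ne_bot_of_le hne (inf_le_inf_left _ (cent_le_cent1 hz))
  · rwa [inf_comm]

end CL.BG
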