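import Cfsg.Agent.BG.T7_2
import Cfsg.Agent.BG.T7_5

namespace CL.BG

open Cfsg

variable {G : Type*} [Group G] [Finite G]

theorem SCNp.normedConstrained (hG : IsMinSimpleOddOrder G) {n p : ℕ} [Fact p.Prime]
    {A : Subgroup G} (hA : SCNp n p A) (hn : 0 < n) : NormedConstrained {p} A := by
  obtain ⟨P, hP, hA⟩ := hA
  exact t7_5b hG hP hA.scn (rank_pos_iff.1 (hn.trans_le hA.le_rank))

/-- BG Theorem 7.6 (Thompson transitivity theorem) -/
theorem t7_6 (hG : IsMinSimpleOddOrder G) {p q : ℕ} [Fact p.Prime] [Fact q.Prime]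
    {A : Subgroup G} (hA : SCNp 3 p A) (hq : q ≠ p) :
    TransOn (piCoreOf {p}ᶜ 𝐂(A)) A q :=
  t7_2 hG (hA.normedConstrained hG (by norm_num)) hq
    (by rw [center_eq_self_of_comm hA.comm]; exact hA.le_rank)

end CL.BG
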