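import Cfsg.Agent.BG.A8_Puig
import Cfsg.Agent.BG.A8_Bender
import Cfsg.Agent.BG.T7_4
import Cfsg.Agent.BG.T7_6
import Cfsg.Agent.BG.T1_6
import Cfsg.Agent.BG.T1_10
import Cfsg.Agent.BG.T5_1

namespace CL.BG

open Cfsg

variable {G : Type*} [Group G] [Finite G]

theorem le_piCoreOf_compl_of_forall {π : Set ℕ} {X Y : Subgroup G} (hY : Y ≤ X)
    (h : ∀ q ∈ π, q.Prime → Y ≤ piCoreOf {q}ᶜ X) : Y ≤ piCoreOf πᶜ X := by
  have h1 : Y ≤ X ⊓ ⨅ q : {q // q ∈ π ∧ q.Prime}, piCoreOf {q.1}ᶜ X :=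
    le_inf hY (le_iInf fun q => h q.1 q.2.1 q.2.2)
  refine h1.trans (pco_max inf_le_left
    (norms_inf (le_norm_self X) (norms_iInf fun q => (pco_normal _ X).norm)) ?_)
  refine piGrp_iff.2 fun q hq hd hπ => ?_
  refine (pco_pi {q}ᶜ X).not_dvd hq (by simp) (hd.trans (Subgroup.card_dvd_of_le ?_))
  exact inf_le_right.trans (iInf_le (fun q : {q // q ∈ π ∧ q.Prime} => piCoreOf {q.1}ᶜ X) ⟨q, hπ, hq⟩)

/-- an invariant `π'`-subgroup is trivial if `И*(A; q) = {1}` for all `q ∈ π'` -/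
theorem eq_bot_of_maxInv_bot {π : Set ℕ} {A Y : Subgroup G} (hsol : Group.IsSolvable A)
    (hA : PiGrp π A) (hY : PiGrp πᶜ Y) (hn : A ≤ 𝐍(Y))
    (h : ∀ q : ℕ, q.Prime → q ∉ π → ⊥ ∈ maxInvSubgroups ⊤ A {q}) : Y = ⊥ := by
  by_contra h0
  obtain ⟨q, hq, hd⟩ := exists_prime_dvd_card h0
  haveI := Fact.mk hq
  obtain ⟨Q, hQ, hAQ⟩ := t1_5a_sylow q hn (hY.coprime' hA) (Or.inr hsol)
  exact hQ.ne_bot_iff.2 hd (maxInv_bot (h q hq (piGrp_iff.1 hY q hq hd))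
    (mem_invSubgroups_top_p.2 ⟨hQ.isPGroup, hAQ⟩))

/-- If `O_{π'}(C(A)) = 1`, transitivity holds and `A ≤ P ⊴ M` is nilpotent, then the unique
member of `И*(A; q)` is normal in `M`. -/
theorem maxInv_normal_of_trans (hG : IsMinSimpleOddOrder G) {π : Set ℕ} {A P M Q : Subgroup G}
    (hM : IsCoatom M) (hA : NormedConstrained π A) {q : ℕ} [Fact q.Prime] (hq : q ∉ π)
    (hAP : A ≤ P) (hnil : Group.IsNilpotent P) (hP : PiGrp π P) (hn : M ≤ 𝐍(P))
    (hK : piCoreOf πᶜ 𝐂(A) = ⊥) (htr : TransOn (piCoreOf πᶜ 𝐂(A)) A q)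
    (hQ : Q ∈ maxInvSubgroups ⊤ A {q}) : Q ⊴ M := by
  obtain ⟨-, -, hsub, -⟩ := t7_4_nil hG hA hq hAP hnil hP htr
  rw [hK] at htr
  obtain ⟨Q', hQ'⟩ := maxInv_nonempty ⊤ P {q}
  have e : Q' = Q := htr.eq_of_bot hQ (hsub hQ')
  subst e
  have h1 : M ≤ 𝐍(Q') := hn.trans
    (norm_le_norm_of_maxInv_unique hQ' fun R hR => htr.eq_of_bot hQ (hsub hR))
  exact ⟨mmax_le_of_norm hG hM (mFT_pgroup_ne_top hG (maxInv_isPGroup hQ)) h1, h1⟩

/-- BG Theorem 8.1(a), for any `A ≤ F(M)` with `C_{F(M)}(A) ≤ A` and `m(Z(A)) ≥ 3` -/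
theorem t8_1a' (hG : IsMinSimpleOddOrder G) {M A : Subgroup G} (hM : IsCoatom M)
    (h2 : ∀ p, ∃ q ∈ primesOf (fittingOf M), q ≠ p) (hAF : A ≤ fittingOf M)
    (hCA : fittingOf M ⊓ 𝐂(A) ≤ A) (h3 : 3 ≤ rank 𝐙(A)) : UniqMax A M := by
  set F := fittingOf M with hF
  set π := primesOf F with hπ
  have hFπ : PiGrp π F := piGrp_primesOf F
  have hAπ : PiGrp π A := hFπ.of_le hAF
  have hAM : A ≤ M := hAF.trans (fit_le M)
  have hZA : 𝐙(F) ≤ A := (inf_le_inf_left _ (cent_anti hAF)).trans hCA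
  have hCZ : ∀ q ∈ π, 𝐂(piCoreOf {q} 𝐙(F)) ≤ M := fun q hq =>
    haveI := Fact.mk hq.1
    mmax_normal_cent_le hG hM (pcore_center_fit_normal q M) (pcore_center_fit_ne_bot hq)
  have hinvM : ∀ W : Subgroup G, W ≤ M → PiGrp πᶜ W → A ≤ 𝐍(W) → W = ⊥ := by
    intro W hW hWπ hn
    have hWF : W ≤ 𝐍(F) := hW.trans (fit_normal M).norm
    have hAW : A ≤ 𝐂(W) := by
      rw [← commutator_eq_bot_iff', eq_bot_iff, ← hFπ.inf_eq_bot hWπ]
      exact le_inf ((Subgroup.commutator_mono hAF le_rfl).trans (commutator_le_left_of_norm hWF))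
        (commutator_le_right_of_norm hn)
    have h1 : W ≤ 𝐂(F) := t1_10 hWF (hFπ.coprime hWπ) (fit_nil M)
      ((inf_le_inf_left _ (cent_anti (le_inf hAF hAW))).trans (hCA.trans (le_inf hAF hAW)))
    exact hWπ.eq_bot (piGrp_compl_compl.2 (hFπ.of_le (le_fit_of_le_cent (mmax_sol hG hM) hW h1)))
  have hCM : 𝐂(A) ≤ M := by
    obtain ⟨q, hq, -⟩ := h2 0
    exact (cent_anti ((pco_le _ _).trans hZA)).trans (hCZ q hq)
  have hAne : A ≠ ⊥ := ne_bot_of_le (rank_pos_iff.1 (by omega)) (inf_le_left (b := 𝐂(A)))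
  have hNC : NormedConstrained π A := by
    refine ⟨hAne, mmax_sub_ne_top hM hAM, hAπ, fun X Y hAX hX hY hYπ hn => ?_⟩
    refine le_piCoreOf_compl_of_forall hY fun q hq _ => ?_
    obtain ⟨r, hr, hrq⟩ := h2 q
    haveI := Fact.mk hr.1
    have hAr : piCoreOf {r} A ≤ piCoreOf {q}ᶜ X := by
      refine le_trans (le_inf ?_ ((pco_le _ _).trans hAX))
        (bender_core_inf_le' hG hM hX (hZA.trans hAX) hq)
      refine le_core_of_le_fit ((pco_le _ _).trans hAF) ((pco_pi _ _).mono ?_)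
      rintro _ rfl
      exact hrq
    have hZr : piCoreOf {r} 𝐙(F) ≤ piCoreOf {r} A :=
      nil_core_mono (nil_of_le_fit hAF) hZA _
    have hnr : piCoreOf {r} A ≤ 𝐍(Y) := (pco_le _ _).trans hn
    have h1 := t1_6a hnr (hYπ.coprime' (hAπ.of_le (pco_le _ _)))
      (Or.inr (solvable_of_isPGroup (pco_isPGroup r A)))
    have h0 : Y ⊓ 𝐂(piCoreOf {r} A) = ⊥ :=
      hinvM _ (inf_le_right.trans ((cent_anti hZr).trans (hCZ r hr))) (hYπ.inf_left _)
        (norms_inf_cent hn (pco_normal _ A).norm)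
    rw [h0, sup_bot_eq] at h1
    rw [← h1]
    exact (Subgroup.commutator_mono hY hAr).trans (pco_normal _ X).commutator_le'
  have hK : piCoreOf πᶜ 𝐂(A) = ⊥ := hinvM _ ((pco_le _ _).trans hCM) (pco_pi _ _)
    (le_norm_of_le_cent (cent_symm (pco_le _ _)))
  refine bender_uniq hG hM hAM hZA h2 fun Y hY hn =>
    eq_bot_of_maxInv_bot (hNC.sol hG) hAπ hY hn fun q hq hqπ => ?_
  haveI := Fact.mk hq
  obtain ⟨Q, hQ⟩ := maxInv_nonempty ⊤ A {q}
  have hQM := maxInv_normal_of_trans hG hM hNC hqπ hAF (fit_nil M) hFπ (fit_normal M).norm hK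
    (t7_2 hG hNC hqπ h3) hQ
  rwa [hinvM Q hQM.le (piGrp_compl_of_isPGroup (maxInv_isPGroup hQ) hqπ) (maxInv_norm hQ)] at hQ

/-- BG Theorem 8.1(a) -/
theorem t8_1a (hG : IsMinSimpleOddOrder G) {p : ℕ} [Fact p.Prime] {M A₀ : Subgroup G}
    (hM : IsCoatom M) (hF : ¬ IsPGroup p (fittingOf M)) (hA₀ : MaxElem p (fittingOf M) A₀)
    (h3 : 3 ≤ pRank p A₀) : UniqMax (fittingOf M ⊓ 𝐂(A₀)) M := by
  have hp : p.Prime := Fact.out
  have hle : A₀ ≤ fittingOf M ⊓ 𝐂(A₀) := le_inf hA₀.le (le_cent_of_comm hA₀.elem.1)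
  refine t8_1a' hG hM (exists_prime_ne_of_not_isPGroup (p := p) ?_ hF) inf_le_left
    (inf_le_inf_left _ (cent_anti hle)) ?_
  · exact primesOf_mono hA₀.le (mem_primesOf.2 ⟨hp, (pRank_pos_iff hp).1 (by omega)⟩)
  · exact h3.trans ((pRank_le_rank hp _).trans (rank_mono (le_inf hle (cent_symm inf_le_right))))

/-- BG Theorem 8.1(b), first assertion (no rank hypothesis needed) -/
theorem t8_1b_sylow (hG : IsMinSimpleOddOrder G) {p : ℕ} [Fact p.Prime] {M P : Subgroup G}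
    (hM : IsCoatom M) (hF : IsPGroup p (fittingOf M)) (hP : SylowOf p P M) :
    𝐍(P) ≤ M ∧ SylowOf p P ⊤ := by
  have hne : P ≠ ⊥ := ne_bot_of_le (fit_ne_bot (mmax_sol hG hM) (mmax_ne_bot hG hM))
    (hP.normal_le' hF (fit_normal M))
  have h1 : 𝐍(P) ≤ M := by
    rw [← a8_norm_puig hG hM hP (a8_core_eq_bot_of_fit (mmax_sol hG hM) hF) hne]
    exact normalizer_le_normalizer_center_puigOf P
  exact ⟨h1, hP.top_of_norm_le h1⟩

/-- BG Theorem 8.1(b) -/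
theorem t8_1b (hG : IsMinSimpleOddOrder G) {p : ℕ} [Fact p.Prime] {M P A : Subgroup G}
    (hM : IsCoatom M) (hF : IsPGroup p (fittingOf M)) (hP : SylowOf p P M) (hA : SCNn 3 P A) :
    SylowOf p P ⊤ ∧ A ≤ fittingOf M ∧ UniqMax A M := by
  have hp : p.Prime := Fact.out
  have hsol := mmax_sol hG hM
  have hO := a8_core_eq_bot_of_fit hsol hF
  have hPG := (t8_1b_sylow hG hM hF hP).2
  have hAP : A ≤ P := scn_le hA.scn
  have hAM : A ≤ M := hAP.trans hP.hall.le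
  have hAp : IsPGroup p A := hP.isPGroup.to_le hAP
  have hAF : A ≤ fittingOf M := by
    have := t6_1' (mFT_odd hG M) hsol hP (scn_comm hA.scn) (scn_normalIn hA.scn)
    rw [pPrimePCoreOf_eq_of_core_bot hO] at this
    exact this.trans (pcore_le_fit p M)
  refine ⟨hPG, hAF, ?_⟩
  have hA' : SCNp 3 p A := ⟨P, hPG, hA⟩
  have hNC := hA'.normedConstrained hG (by norm_num)
  have hFP : fittingOf M ≤ P := hP.normal_le' hF (fit_normal M)
  have hZA : 𝐙(fittingOf M) ≤ A :=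
    scn_le_of_cent hA.scn (inf_le_left.trans hFP) (inf_le_right.trans (cent_anti hAF))
  have hCM : 𝐂(A) ≤ M := (cent_anti hZA).trans (mmax_normal_cent_le hG hM (fit_normal M).center_trans
    (nil_center_ne_bot (fit_nil M) (fit_ne_bot hsol (mmax_ne_bot hG hM))))
  have hK : piCoreOf {p}ᶜ 𝐂(A) = ⊥ := by
    have := t1_15b hsol hAM hAp
    rwa [inf_eq_right.2 hCM, hO, le_bot_iff] at this
  have hinv : ∀ Y : Subgroup G, PiGrp {p}ᶜ Y → A ≤ 𝐍(Y) → Y = ⊥ := by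
    intro Y hY hn
    refine eq_bot_of_maxInv_bot (hNC.sol hG) hNC.piGrp hY hn fun q hq hqp => ?_
    haveI := Fact.mk hq
    obtain ⟨Q, hQ⟩ := maxInv_nonempty ⊤ A {q}
    have hQM := maxInv_normal_of_trans hG hM hNC hqp hAF (fit_nil M)
      ((piGrp_singleton_iff hp).2 hF) (fit_normal M).norm hK (t7_6 hG hA' hqp) hQ
    have := le_piCoreOf hQM (piGrp_compl_of_isPGroup (maxInv_isPGroup hQ) hqp)
    rw [hO, le_bot_iff] at this
    rwa [this] at hQ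
  refine uniqMax_of_sylow_step hG hM hAM hAp hNC.ne_bot
    (fun S hS _ => (t8_1b_sylow hG hM hF hS).1) fun H R hH hAR hR hNR => ?_
  have hRne := ne_bot_of_le hNC.ne_bot hAR
  have h1 := a8_norm_puig hG hH hR
    (hinv _ (pco_pi _ _) (pco_norms _ (le_norm_of_le (hAR.trans hR.hall.le)))) hRne
  have hRG : SylowOf p R ⊤ :=
    hR.top_of_norm_le (h1 ▸ normalizer_le_normalizer_center_puigOf R)
  rw [← h1, a8_norm_puig hG hM (hRG.hall.restrict ((le_norm_self R).trans hNR) le_top) hO hRne]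

/-- BG Theorem 8.1, the form used in section 9 -/
theorem t8_1c (hG : IsMinSimpleOddOrder G) {M : Subgroup G}
    (hM : IsCoatom M) (h3 : 3 ≤ rank (fittingOf M)) : UniqMax (fittingOf M) M := by
  obtain ⟨p, hp, E, hE⟩ := le_rank_iff.1 h3
  haveI := Fact.mk hp
  by_cases hF : IsPGroup p (fittingOf M)
  · obtain ⟨P, hP⟩ := sylow_exists p M
    have hFP : fittingOf M ≤ P := hP.normal_le' hF (fit_normal M)
    obtain ⟨A, hA⟩ := t5_1a hP.isPGroup (mFT_odd hG P) ((hE.mono hFP).le_pRank hp)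
    obtain ⟨-, h1, h2⟩ := t8_1b hG hM hF hP hA
    exact h2.mono_of_le h1 (fit_le M)
  · obtain ⟨A₀, hA₀, hle⟩ := exists_maxElem_ge hE.elem hE.le
    exact (t8_1a hG hM hF hA₀ ((hE.of_le hle).le_pRank hp)).mono_of_le inf_le_left (fit_le M)

end CL.BG
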