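import Cfsg.Agent.BG.T8_1
import Cfsg.Agent.BG.T4_20

namespace CL.BG

open Cfsg

variable {G : Type*} [Group G] [Finite G]

/-- In a solvable group, a `p'`-subgroup normalised by a Sylow `p`-subgroup lies in `O_{p'}`. -/
theorem le_core_of_sylow_norm {p : ℕ} [hp : Fact p.Prime] {H P K : Subgroup G}
    (hsol : Group.IsSolvable H) (hP : SylowOf p P H) (hK : K ≤ H) (hπ : PiGrp {p}ᶜ K)
    (hn : P ≤ 𝐍(K)) : K ≤ piCoreOf {p}ᶜ H := by
  have hT : SylowOf p (P ⊓ pPrimePCoreOf p H) (pPrimePCoreOf p H) :=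
    hP.hall.inf_normal (pPrimePCoreOf_normalIn p H)
  have hle : ∀ X : Subgroup G, X ≤ K → X ≤ pPrimePCoreOf p H → X ≤ piCoreOf {p}ᶜ H :=
    fun X h1 h2 => (hall_piCoreOf_pPrimePCoreOf H).le_of_normal
      ((pPrimePCoreOf_le p H).trans (pco_normal _ H).norm) h2 (hπ.of_le h1)
  have hn' : P ⊓ pPrimePCoreOf p H ≤ 𝐍(K) := inf_le_left.trans hn
  rw [← t1_6a hn' (hπ.coprime' hT.hall.pi) (Or.inl (solvable_of_le hsol hK))]
  refine sup_le (hle _ (commutator_le_left_of_norm hn') ?_) (hle _ inf_le_left ?_)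
  · exact (Subgroup.commutator_mono hK inf_le_right).trans
      (pPrimePCoreOf_normalIn p H).commutator_le'
  · exact (inf_le_inf_right _ hK).trans (t1_15a hsol hT)

theorem fit_le_core_sup_sylow {p : ℕ} [hp : Fact p.Prime] {H R : Subgroup G}
    (hR : SylowOf p R H) : fittingOf H ≤ piCoreOf {p}ᶜ H ⊔ R := by
  refine (fit_le_core_sup {p} H).trans ?_
  rw [sup_comm]
  exact sup_le_sup_left hR.hall.piCoreOf_le _

/-- If `H' ≤ F(H)` then `H = O_{p'}(F(H)) N_H(R)` for a Sylow `p`-subgroup `R`. -/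
theorem core_fit_sup_norm_of_der_le {p : ℕ} [hp : Fact p.Prime] {H R : Subgroup G}
    (hR : SylowOf p R H) (h : ⁅H, H⁆ ≤ fittingOf H) :
    piCoreOf {p}ᶜ (fittingOf H) ⊔ (H ⊓ 𝐍(R)) = H := by
  have hD := core_fit_normal {p}ᶜ H
  have h1 : fittingOf H ≤ piCoreOf {p}ᶜ (fittingOf H) ⊔ R := by
    conv_lhs => rw [← (nil_core_dp (fit_nil H) {p}).sup, sup_comm, pcore_fit]
    exact sup_le_sup_left hR.hall.piCoreOf_le _
  have hle : piCoreOf {p}ᶜ (fittingOf H) ⊔ R ≤ H := sup_le hD.le hR.hall.le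
  have hR' : SylowOf p R (piCoreOf {p}ᶜ (fittingOf H) ⊔ R) := hR.hall.restrict le_sup_right hle
  have := hR'.frattini (NormalIn.of_der_le (h.trans h1) hle)
  rwa [sup_assoc, sup_eq_right.2 (le_inf hR.hall.le (le_norm_self R))] at this

/-- BG Theorem 9.1(b) -/
theorem t9_1b (hG : IsMinSimpleOddOrder G) {p : ℕ} [Fact p.Prime] {M B : Subgroup G}
    (hM : IsCoatom M) (hBM : B ≤ M) (hB : IsElementaryAbelian p B) (hnc : ¬ IsCyclic B)
    (h : ∀ Y : Subgroup G, PiGrp {p}ᶜ Y → B ≤ 𝐍(Y) → Y ≤ M) : UniqMax B M := by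
  have hne : B ≠ ⊥ := by
    rintro rfl
    exact hnc inferInstance
  refine uniqMax_of_sylow_step hG hM hBM (CL.EA.isPGroup hB) hne (fun P hP hBP => ?_)
    fun H R hH hBR hR hNR => ?_
  · by_cases hO : piCoreOf {p}ᶜ M = ⊥
    · rw [← a8_norm_puig hG hM hP hO (ne_bot_of_le hne hBP)]
      exact normalizer_le_normalizer_center_puigOf P
    · refine le_trans (fun g hg => ?_) (mmax_normal hG hM (pco_normal _ M) hO).le
      have h1 : P ≤ 𝐍(cj g (piCoreOf {p}ᶜ M)) := by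
        rw [← cj_norm, ← cj_eq_of_mem_norm hg]
        exact cj_mono g (hP.hall.le.trans (pco_normal _ M).norm)
      have h2 : PiGrp {p}ᶜ (cj g (piCoreOf {p}ᶜ M)) := (pco_pi _ M).cj g
      exact mem_norm_of_cj_le
        (le_core_of_sylow_norm (mmax_sol hG hM) hP (h _ h2 (hBP.trans h1)) h2 h1)
  · have hRM : R ≤ M := (le_norm_self R).trans hNR
    have hO : piCoreOf {p}ᶜ H ≤ M :=
      h _ (pco_pi _ H) (pco_norms _ (le_norm_of_le (hBR.trans hR.hall.le)))
    have hF : fittingOf H ≤ M := (fit_le_core_sup_sylow hR).trans (sup_le hO hRM)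
    by_cases h3 : 3 ≤ rank (fittingOf H)
    · exact ((t8_1c hG hH h3).uniq M hM hF).symm
    · refine mmax_eq hH hM ?_
      rw [← core_fit_sup_norm_of_der_le hR (t4_20a (mmax_sol hG hH) (mFT_odd hG H) (by omega))]
      exact sup_le ((pco_le _ _).trans hF) (inf_le_right.trans hNR)

/-- BG Theorem 9.1(a) -/
theorem t9_1a (hG : IsMinSimpleOddOrder G) {p : ℕ} [Fact p.Prime] {M B : Subgroup G}
    (hM : IsCoatom M) (hB : IsElementaryAbelian p B) (hnc : ¬ IsCyclic B)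
    (h : ∀ b ∈ B, b ≠ 1 → 𝐂₁(b) ≤ M) : UniqMax B M := by
  refine t9_1b hG hM (fun b hb => ?_) hB hnc fun Y hY hn => ?_
  · by_cases h1 : b = 1
    · rw [h1]; exact one_mem M
    · exact h b hb h1 (mem_cent1_self b)
  · exact a7_le_of_cent1 hB.1 hnc hn
      (hY.coprime' ((piGrp_singleton_iff Fact.out).2 (CL.EA.isPGroup hB)))
      fun z hz h1 => inf_le_right.trans (h z hz h1)

end CL.BG
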