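import Cfsg.Agent.BG.T9_2
import Cfsg.Agent.BG.T4_5
import Cfsg.Agent.BG.PAmb

namespace CL.BG

open Cfsg

variable {G : Type*} [Group G] [Finite G]

theorem ElemN.le_rank_inf_cent {p n : ℕ} [hp : Fact p.Prime] {H E D : Subgroup G}
    (hE : ElemN p (n + 1) H E) (hD : Nat.card D = p ^ 2) (hn : E ≤ 𝐍(D)) :
    n ≤ rank (E ⊓ 𝐂(D)) := by
  obtain ⟨m, hm, h⟩ := hE.self.exists_inf_of_relIndex_le hp.out (K := 𝐂(D)) (k := 1)
    (by rw [pow_one]; exact Nat.le_of_dvd hp.out.pos (pg_relIndex_cent_dvd hE.isPGroup hn hD))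
  rw [inf_comm]
  exact le_trans (by omega) (h.self.le_rank hp.out)

/-- BG Corollary 9.3 -/
theorem t9_3 (hG : IsMinSimpleOddOrder G) {p : ℕ} [Fact p.Prime] {A B : Subgroup G}
    (hAc : IsMulCommutative A) (hAp : IsPGroup p A) (hA3 : 3 ≤ rank A) (hAU : InUniqueMaximal A)
    (hBp : IsPGroup p B) (hnc : ¬ IsCyclic B) (hB3 : 3 ≤ pRank p 𝐂(B)) : InUniqueMaximal B := by
  have hp : p.Prime := Fact.out
  obtain ⟨P, hP, hAP⟩ := sylow_superset hAp le_top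
  obtain ⟨C₀, hC₀⟩ := exists_elemN_of_le_pRank hp hB3
  obtain ⟨g, -, hg⟩ := sylow_conj_le hP hC₀.isPGroup le_top
  rw [← inU_cj_iff g]
  have hC := hC₀.cj g
  rw [cj_cent] at hC
  set C := cj g C₀
  rw [rank_pgroup hp hAp] at hA3
  obtain ⟨E, hE⟩ := exists_elemN_of_le_pRank hp hA3
  obtain ⟨D, hD, hDP⟩ := t4_5a hP.isPGroup (mFT_odd hG P)
    ((hE.mono hAP).not_isCyclic' hp (by norm_num))
  have h1 : InUniqueMaximal (A ⊓ 𝐂(D)) :=
    t9_2 hG hAU (inf_le_left.trans (le_cent_of_comm hAc))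
      ((hE.le_rank_inf_cent hD.card ((hE.le.trans hAP).trans hDP.norm)).trans
        (rank_mono (inf_le_inf_right _ hE.le)))
  have h2 : InUniqueMaximal D := t9_2 hG h1 (cent_symm inf_le_right) (hD.self.le_rank hp)
  have h3 : InUniqueMaximal (C ⊓ 𝐂(D)) :=
    t9_2 hG h2 inf_le_right (hC.le_rank_inf_cent hD.card (hg.trans hDP.norm))
  have h4 : InUniqueMaximal C := t9_2 hG h3 (hC.le_cent_of_le le_rfl inf_le_left)
    (le_trans (by norm_num) (hC.self.le_rank hp))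
  refine t9_2 hG h4 (cent_symm hC.le) ?_
  rw [rank_cj, rank_pgroup hp hBp]
  exact two_le_pRank_of_not_isCyclic hp hBp (mFT_odd hG B) hnc

end CL.BG
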