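import Cfsg.Agent.BG.T9_3

namespace CL.BG

open Cfsg

variable {G : Type*} [Group G] [Finite G]

/-- BG Lemma 9.4 (for any `p`-subgroup `P` of rank at least 3) -/
theorem t9_4 (hG : IsMinSimpleOddOrder G) {p : ℕ} [Fact p.Prime] {M P : Subgroup G}
    (hM : IsCoatom M) (hF : 3 ≤ pRank p (fittingOf M)) (hP : IsPGroup p P) (h3 : 3 ≤ rank P) :
    InUniqueMaximal P := by
  have hp : p.Prime := Fact.out
  rw [rank_pgroup hp hP] at h3
  obtain ⟨B, hB⟩ := exists_elemN_of_le_pRank hp h3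
  refine inU_mono ?_ hB.le (mFT_pgroup_ne_top hG hP)
  suffices h : ∃ A : Subgroup G, IsMulCommutative A ∧ IsPGroup p A ∧ 3 ≤ rank A ∧
      InUniqueMaximal A by
    obtain ⟨A, h1, h2, h3, h4⟩ := h
    exact t9_3 hG h1 h2 h3 h4 hB.isPGroup (hB.not_isCyclic hp (by norm_num))
      ((hB.of_le hB.le_cent).le_pRank hp)
  by_cases hFp : IsPGroup p (fittingOf M)
  · obtain ⟨S, hS⟩ := sylow_exists p M
    have hFS : fittingOf M ≤ S := hS.normal_le' hFp (fit_normal M)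
    obtain ⟨A, hA⟩ := t5_1a hS.isPGroup (mFT_odd hG S) (hF.trans (pRank_mono hp hFS))
    exact ⟨A, scn_comm hA.scn, hS.isPGroup.to_le (scn_le hA.scn), hA.le_rank,
      (t8_1b hG hM hFp hS hA).2.2.inU⟩
  · obtain ⟨E, hE⟩ := exists_elemN_of_le_pRank hp hF
    obtain ⟨A₀, hA₀, hle⟩ := exists_maxElem_ge hE.elem hE.le
    have h1 : 3 ≤ rank A₀ := (hE.of_le hle).le_rank hp
    exact ⟨A₀, hA₀.elem.1, hA₀.isPGroup, h1,
      t9_2 hG (t8_1a hG hM hFp hA₀ ((hE.of_le hle).le_pRank hp)).inU (cent_symm inf_le_right)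
        (le_trans (by norm_num) h1)⟩

end CL.BG
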