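import Cfsg.Agent.BG.T9_4
import Cfsg.Agent.BG.T4_17
import Cfsg.Agent.BG.T1_18

namespace CL.BG

open Cfsg

variable {G : Type*} [Group G] [Finite G]

theorem t9_5_prime (hG : IsMinSimpleOddOrder G) {p : ℕ} [hp : Fact p.Prime] {M : Subgroup G}
    (hM : IsCoatom M) (h3 : 3 ≤ pRank p (⊤ : Subgroup G)) (hF : pRank p (fittingOf M) ≤ 2) :
    ∃ q : ℕ, q.Prime ∧ q ≠ p ∧
      ∀ Q : Subgroup G, IsPGroup q Q → piCoreOf {q} M ≤ Q → 𝐍(Q) ≤ M := by
  by_cases hr : 3 ≤ rank (fittingOf M)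
  · obtain ⟨q, hq, hqr⟩ := le_rank_iff'.1 hr
    haveI := Fact.mk hq
    have h1 : 3 ≤ rank (piCoreOf {q} M) := by
      rwa [(sylow_pcore_fit q M).rank_eq hq]
    have hU := inU_uniqMax (t9_4 hG hM hqr (pco_isPGroup q M) h1) hM (pco_le _ _)
    refine ⟨q, hq, by rintro rfl; omega, fun Q hQ hle => ?_⟩
    exact hU.le_of_le (hle.trans (le_norm_self Q))
      (mFT_norm_pgroup_ne_top hG hQ (ne_bot_of_le (hU.ne_bot hG) hle))
  · have hne : (Nat.card M).primeFactors.Nonempty :=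
      Nat.nonempty_primeFactors.2 (one_lt_card_of_ne_bot (mmax_ne_bot hG hM))
    have hq := Finset.max'_mem _ hne
    set q := (Nat.card M).primeFactors.max' hne
    have hqp := Nat.prime_of_mem_primeFactors hq
    haveI := Fact.mk hqp
    have hS : SylowOf q (piCoreOf {q} M) M :=
      t4_20c_max (mmax_sol hG hM) (mFT_odd hG M) (by omega) fun r hr hd =>
        Finset.le_max' _ r (Nat.mem_primeFactors.2 ⟨hr, hd, (card_pos' M).ne'⟩)
    have hN := mmax_normal hG hM (pco_normal {q} M)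
      (hS.ne_bot_iff.2 (Nat.dvd_of_mem_primeFactors hq))
    have hS' := hS.top_of_norm_le hN.le
    refine ⟨q, hqp, fun h => ?_, fun Q hQ hle => ?_⟩
    · rw [← h, ← hS'.pRank_eq hqp] at h3
      have := (pRank_mono hqp (pcore_le_fit q M)).trans (h ▸ hF)
      omega
    · rw [hS'.eq_of_le' hQ hle le_top, hN]

theorem t9_5_norm (hG : IsMinSimpleOddOrder G) {p : ℕ} [hp : Fact p.Prime] {P A M : Subgroup G}
    (hP : SylowOf p P ⊤) (hA : SCNn 3 P A) (hM : IsCoatom M) (hCM : 𝐂(A) ≤ M)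
    (hF : pRank p (fittingOf M) ≤ 2) : 𝐍(P) ≤ M := by
  have hA' : SCNp 3 p A := ⟨P, hP, hA⟩
  obtain ⟨q, hq, hqp, hQ⟩ := t9_5_prime hG hM
    ((hA.le_pRank hp.out hP.isPGroup).trans (pRank_mono hp.out le_top)) hF
  haveI := Fact.mk hq
  have key : ∀ R : Subgroup G, A ≤ R → R ≤ P → R ≤ M → 𝐍(R) ≤ M := by
    intro R hAR hRP hRM
    have hR : IsPGroup p R := hP.isPGroup.to_le hRP
    obtain ⟨Q, hQm, hle⟩ := maxInv_exists_p (pco_isPGroup q M) (hRM.trans (pco_normal _ M).norm)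
    obtain ⟨-, -, -, h⟩ := t7_4_nil hG (hA'.normedConstrained hG (by norm_num)) hqp hAR
      (nil_of_isPGroup hR) ((piGrp_singleton_iff hp.out).2 hR) (t7_6 hG hA' hqp)
    rw [(h Q hQm).2]
    exact sup_le ((pco_le _ _).trans ((cent_anti hAR).trans hCM))
      (inf_le_right.trans (hQ Q (maxInv_isPGroup hQm) hle))
  have h1 := key A le_rfl (scn_le hA.scn) ((le_cent_of_comm hA'.comm).trans hCM)
  exact key P (scn_le hA.scn) le_rfl ((scn_normalIn hA.scn).norm.trans h1)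

/-- In a minimal simple group of odd order a nontrivial Sylow subgroup is not central in its
normaliser. -/
theorem mFT_sylow_commutator_norm_ne_bot (hG : IsMinSimpleOddOrder G) {p : ℕ} [hp : Fact p.Prime]
    {P : Subgroup G} (hP : SylowOf p P ⊤) (hne : P ≠ ⊥) : ⁅P, 𝐍(P)⁆ ≠ ⊥ := by
  intro h
  have h1 := t1_18 hP (inf_le_right.trans (commutator_eq_bot_iff''.1 h))
  rcases mFT_normal hG (pco_normal {p}ᶜ ⊤).normal_of_top with h2 | h2
  · have := h1.sup
    rw [h2, bot_sup_eq] at this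
    exact mFT_pgroup_ne_top hG hP.isPGroup this
  · have := h1.disj
    rw [h2, top_inf_eq] at this
    exact hne this

/-- a `π`-subgroup of `X'` centralises every nilpotent `π'`-subgroup of rank at most 2 normalised
by the solvable group `X` of odd order -/
theorem le_cent_of_nil_of_rank_le_two {π : Set ℕ} {D X L : Subgroup G} (hD : Group.IsNilpotent D)
    (hodd : Odd (Nat.card D)) (hr : rank D ≤ 2) (hπ : PiGrp πᶜ D) (hn : X ≤ 𝐍(D))
    (hsol : Group.IsSolvable X) (hXodd : Odd (Nat.card X)) (hL : L ≤ ⁅X, X⁆) (hLπ : PiGrp π L) :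
    L ≤ 𝐂(D) := by
  refine cent_symm (nil_le_of_forall_core_le hD fun q hq hd => cent_symm ?_)
  haveI := Fact.mk hq
  refine t4_17' (pco_isPGroup q D) (odd_card_of_le hodd (pco_le _ _))
    (((pRank_le_rank hq _).trans (rank_mono (pco_le _ _))).trans hr) (pco_norms _ hn) hsol hXodd
    hL (hLπ.mono ?_)
  rintro r hr rfl
  exact piGrp_iff.1 hπ r hq hd hr

/-- BG Lemma 9.5 -/
theorem t9_5 (hG : IsMinSimpleOddOrder G) {p : ℕ} [Fact p.Prime] {A : Subgroup G}
    (hA : SCNp 3 p A) : InUniqueMaximal A := by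
  have hp : p.Prime := Fact.out
  by_contra hU
  have hAp := hA.isPGroup hp
  have hAc := hA.comm
  obtain ⟨P, hP, hA⟩ := hA
  have hAP := scn_le hA.scn
  have hAtop := mFT_pgroup_ne_top hG hAp
  have hF : ∀ M : Subgroup G, IsCoatom M → pRank p (fittingOf M) ≤ 2 := fun M hM => by
    by_contra h
    exact hU (t9_4 hG hM (by omega) hAp hA.le_rank)
  have hNP : ∀ M : Subgroup G, IsCoatom M → 𝐂(A) ≤ M → 𝐍(P) ≤ M := fun M hM h =>
    t9_5_norm hG hP hA hM h (hF M hM)
  have hAne : A ≠ ⊥ := rank_pos_iff.1 (lt_of_lt_of_le (by norm_num) hA.le_rank)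
  set P₀ := ⁅P, 𝐍(P)⁆ with hP₀
  have hP₀ne : P₀ ≠ ⊥ := mFT_sylow_commutator_norm_ne_bot hG hP (ne_bot_of_le hAne hAP)
  have hP₀P : P₀ ≤ P := commutator_le_left_of_norm le_rfl
  have hP₀p : IsPGroup p P₀ := hP.isPGroup.to_le hP₀P
  have hNtop := mFT_norm_pgroup_ne_top hG hP₀p hP₀ne
  obtain ⟨E, hE⟩ := exists_elemN_of_le_pRank hp (hA.le_pRank hp hP.isPGroup)
  have hx : ∀ M B : Subgroup G, IsCoatom M → B ≤ E → p ^ 2 ∣ Nat.card B →
      ∃ x ∈ B, ∃ L, IsCoatom L ∧ 𝐂₁(x) ≤ L ∧ 𝐂(A) ≤ L ∧ L ≠ M := by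
    intro M B hM hB hc
    by_contra hcon
    push Not at hcon
    have hBe := CL.EA.mono hE.elem hB
    refine hU ((t9_1a hG hM hBe (a7_not_isCyclic hp hBe hc) fun x hx h1 => ?_).mono
      (hB.trans hE.le) hAtop).inU
    obtain ⟨L, hL, hle⟩ := mmax_exists (mFT_cent1_ne_top hG h1)
    exact hcon x hx L hL hle ((cent_le_cent1 (hE.le (hB hx))).trans hle) ▸ hle
  have hUP : ∀ M : Subgroup G, IsCoatom M → 𝐂(A) ≤ M → UniqMax 𝐍(P₀) M := by
    intro M hM hCM
    have hAM : A ≤ M := (le_cent_of_comm hAc).trans hCM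
    have hD := core_fit_normal {p}ᶜ M
    set D := piCoreOf {p}ᶜ (fittingOf M) with hDdef
    have hDπ : PiGrp {p}ᶜ D := pco_pi _ _
    have hDF : D ≤ fittingOf M := pco_le _ _
    have hcent : D ≤ 𝐂(P₀) := by
      refine a7_le_of_hyperplanes (n := 2) hp hE.elem (by rw [hE.card]) ((hE.le.trans hAM).trans hD.norm)
        (hDπ.coprime' (hE.piGrp hp rfl)) fun B hB hc => ?_
      obtain ⟨x, hx, L, hL, hxL, hAL, hLM⟩ := hx M B hM hB hc
      refine le_trans (inf_le_inf_left _ ((cent_le_cent1 hx).trans hxL)) (cent_symm ?_)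
      have hNLM : 𝐍(P) ≤ L ⊓ M := le_inf (hNP L hL hAL) (hNP M hM hCM)
      refine le_cent_of_nil_of_rank_le_two (π := {p}) (X := L ⊓ M)
        (nil_of_le_fit (inf_le_left.trans hDF)) (mFT_odd hG _) ?_ (hDπ.inf_left _)
        (norms_inf (inf_le_right.trans hD.norm) (le_norm_of_le inf_le_left))
        (mmax_sub_sol hG hL inf_le_left) (mFT_odd hG _)
        (Subgroup.commutator_mono ((le_norm_self P).trans hNLM) hNLM)
        ((piGrp_singleton_iff hp).2 hP₀p)
      by_contra hr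
      obtain ⟨q, hq, E', hE'⟩ := (le_rank_iff (n := 3)).1 (not_le.1 hr)
      haveI := Fact.mk hq
      have hE'F : E' ≤ fittingOf M := (hE'.le.trans inf_le_left).trans hDF
      exact hLM (inU_eq (t9_4 hG hM ((hE'.of_le hE'F).le_pRank hq) hE'.isPGroup
        (hE'.self.le_rank hq)) hL hM (hE'.le.trans inf_le_right) (hE'F.trans (fit_le M)))
    have hDN : D ≤ 𝐍(P₀) := le_norm_of_le_cent hcent
    by_cases hr : 3 ≤ rank (fittingOf M)
    · obtain ⟨q, hq, E', hE'⟩ := le_rank_iff.1 hr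
      haveI := Fact.mk hq
      have hqp : q ≠ p := by
        rintro rfl
        have := (hE'.le_pRank hq).trans (hF M hM)
        omega
      have hE'D : E' ≤ D := nil_le_core (fit_nil M) hE'.le (hE'.piGrp hq hqp)
      exact (inU_uniqMax (t9_4 hG hM (hE'.le_pRank hq) hE'.isPGroup (hE'.self.le_rank hq)) hM
        (hE'.le.trans (fit_le M))).mono (hE'D.trans hDN) hNtop
    · have hPM : P ≤ M := (le_norm_self P).trans (hNP M hM hCM)
      have h1 : M ≤ 𝐍(P₀) := by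
        rw [← core_fit_sup_norm_of_der_le (hP.hall.restrict hPM le_top)
          (t4_20a (mmax_sol hG hM) (mFT_odd hG M) (by omega))]
        exact sup_le hDN (inf_le_right.trans (norms_commutator le_rfl (le_norm_self _)))
      rw [mmax_max hM hNtop h1]
      exact mmax_uniqMax hM
  obtain ⟨M, hM, hCM⟩ := mmax_exists (mFT_cent_ne_top hG hAne)
  obtain ⟨x, -, L, hL, -, hAL, hLM⟩ := hx M E hM le_rfl (hE.card ▸ pow_dvd_pow p (by norm_num))
  exact hLM ((hUP L hL hAL).unique (hUP M hM hCM))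

end CL.BG
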